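import Groth.Agent.Lib.CohFound.PolyBC
import Groth.Agent.Lib.ModM1.Coh
import Groth.Agent.Lib.ModM1.Stalk
import Groth.Prelude.Def_KLin
import Groth.Prelude.Def_W4c1astiltbs12AS

/-!
# Homomorphisms of coherent modules under extension of the base field

Every morphism `π^*F ⟶ π^*G` is a combination `∑ a_s • π^* f_s`, and the class of such a combination in
`Hom(F, G) ⊗ K` is well defined: applying a linear functional `K → k` to the coefficients is well defined.
-/

set_option autoImplicit false
set_option linter.style.haveILetI false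
set_option linter.unusedSectionVars false
set_option backward.isDefEq.respectTransparency false
set_option backward.isDefEq.respectTransparency.types false
set_option maxHeartbeats 400000

universe u

open CategoryTheory CategoryTheory.Limits AlgebraicGeometry TopologicalSpace Opposite

noncomputable section

namespace Groth.Agent.KS29

open Groth.Agent W4c1astiltbs12

section global

variable {X Y : Scheme.{u}}

/-- A morphism out of a quasi-coherent module killing generators on an affine cover is zero. -/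
theorem eq_zero_of_generators {F N : X.Modules} [Coh.IsQCoh F] (d : F ⟶ N)
    (h : ∀ x : X, ∃ (U : X.Opens) (T : Set Γ(F, U)), x ∈ U ∧ IsAffineOpen U ∧
      Submodule.span Γ(X, U) T = ⊤ ∧ ∀ t ∈ T, d.app U t = 0) : d = 0 := by
  refine Scheme.Modules.hom_ext _ _ fun W => ?_
  ext s
  refine M1.section_ext _ _ fun x hx => ?_
  obtain ⟨U, T, hxU, hU, hT, hd⟩ := h x
  have hd' : ∀ t, d.app U t = 0 := by
    intro t
    have ht : t ∈ Submodule.span Γ(X, U) T := by rw [hT]; trivial
    induction ht using Submodule.span_induction with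
    | mem t ht => exact hd t ht
    | zero => exact map_zero _
    | add a b _ _ ha hb => rw [map_add, ha, hb, add_zero]
    | smul r a _ ha => rw [Scheme.Modules.Hom.app_smul, ha, smul_zero]
  obtain ⟨r, m, hr, hm⟩ := M1.exists_germ_smul_eq F hU hxU (F.presheaf.germ W x hx s)
  obtain ⟨g, hgWU, hxg⟩ := hU.exists_basicOpen_le (V := W ⊓ U) ⟨x, ⟨hx, hxU⟩⟩ hxU
  obtain ⟨n, t, ht⟩ := M1.exists_pow_smul_eq_res_affine F hU g (M1.mres F (le_trans hgWU inf_le_left) s)
  have h1 := congrArg (d.app (X.basicOpen g)) ht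
  rw [M1.app_mres, hd', map_zero, Scheme.Modules.Hom.app_smul, M1.app_mres] at h1
  have hu : IsUnit (M1.ores (X.basicOpen_le g) g ^ n) := (RingedSpace.isUnit_res_basicOpen _ g).pow n
  have h2 := hu.smul_eq_zero.1 h1.symm
  have h3 := congrArg (N.presheaf.germ (X.basicOpen g) x hxg) h2
  rw [M1.germ_mres, map_zero] at h3
  refine h3.trans ?_
  exact (map_zero (N.presheaf.germ W x hx).hom).symm

variable {α : Type u}

/-- The projection of a copower onto one copy. -/
def copPr (G : X.Modules) (i : α) : (∐ fun _ : α => G) ⟶ G := by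
  classical exact Sigma.desc fun j => if j = i then 𝟙 G else 0

theorem ι_copPr_self (G : X.Modules) (i : α) : Sigma.ι (fun _ : α => G) i ≫ copPr G i = 𝟙 G := by
  classical simp [copPr]

theorem ι_copPr_ne (G : X.Modules) {i j : α} (h : j ≠ i) :
    Sigma.ι (fun _ : α => G) j ≫ copPr G i = 0 := by
  classical simp [copPr, h]

/-- The idempotent onto a finite set of copies. -/
def copId (G : X.Modules) (J : Finset α) : (∐ fun _ : α => G) ⟶ ∐ fun _ : α => G :=
  ∑ i ∈ J, copPr G i ≫ Sigma.ι (fun _ : α => G) i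

theorem ι_copId (G : X.Modules) (J : Finset α) {j : α} (h : j ∈ J) :
    Sigma.ι (fun _ : α => G) j ≫ copId G J = Sigma.ι (fun _ : α => G) j := by
  rw [copId, Preadditive.comp_sum, Finset.sum_eq_single j]
  · rw [← Category.assoc, ι_copPr_self, Category.id_comp]
  · intro i _ hi
    rw [← Category.assoc, ι_copPr_ne G (Ne.symm hi), zero_comp]
  · exact fun hj => absurd h hj

/-- Morphisms from a module of finite type on a quasi-compact scheme into a copower factor through
finitely many copies. -/
theorem exists_copId [CompactSpace X] {F : X.Modules} (hF : Coh.IsCoh F) (G : X.Modules)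
    (φ : F ⟶ ∐ fun _ : α => G) : ∃ J : Finset α, φ ≫ copId G J = φ := by
  classical
  haveI : Coh.IsQCoh F := hF.1
  haveI : PrespectralSpace (CohFound.sp X) := inferInstanceAs (PrespectralSpace X)
  have hU : ∀ x : X, ∃ (U : X.Opens) (T : Finset Γ(F, U)) (J : Finset α), x ∈ U ∧ IsAffineOpen U ∧
      Submodule.span Γ(X, U) (T : Set Γ(F, U)) = ⊤ ∧
      ∀ J' : Finset α, J ⊆ J' → ∀ t ∈ T, (copId G J').app U (φ.app U t) = φ.app U t := by
    intro x
    obtain ⟨U, hU, hxU, -⟩ := exists_isAffineOpen_mem_and_subset (X := X) (x := x) (U := ⊤) trivial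
    haveI := M1.finite_sections hF.1 hF.2 hU
    obtain ⟨T, hT⟩ := Module.Finite.fg_top (R := Γ(X, U)) (M := Γ(F, U))
    have key : ∀ s : Γ(∐ fun _ : α => G, U), ∃ J : Finset α, ∀ J', J ⊆ J' → (copId G J').app U s = s := by
      intro s
      refine AddSubgroup.closure_induction
        (p := fun s _ => ∃ J : Finset α, ∀ J', J ⊆ J' → (copId G J').app U s = s) ?_ ?_ ?_ ?_
        (CohFound.mem_closure_range_sigma G hU.isCompact hU.isQuasiSeparated s)
      · rintro _ ⟨i, m, rfl⟩
        refine ⟨{i}, fun J' hJ => ?_⟩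
        exact congrArg (fun χ => χ.app U m) (ι_copId G J' (hJ (Finset.mem_singleton_self i)))
      · exact ⟨∅, fun _ _ => map_zero _⟩
      · rintro a b _ _ ⟨J, hJ⟩ ⟨J₂, hJ₂⟩
        exact ⟨J ∪ J₂, fun J' h => by
          rw [map_add, hJ J' (Finset.union_subset_left h), hJ₂ J' (Finset.union_subset_right h)]⟩
      · rintro a _ ⟨J, hJ⟩
        exact ⟨J, fun J' h => by rw [map_neg, hJ J' h]⟩
    choose Jt hJt using key
    exact ⟨U, T, T.biUnion fun t => Jt (φ.app U t), hxU, hU, hT, fun J' h t ht =>
      hJt _ J' ((Finset.subset_biUnion_of_mem (fun t => Jt (φ.app U t)) ht).trans h)⟩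
  choose U T J hxU hUa hT hJ using hU
  obtain ⟨S, hS⟩ := isCompact_univ.elim_finite_subcover (fun x : X => (U x : Set X))
    (fun x => (U x).2) fun x _ => Set.mem_iUnion.2 ⟨x, hxU x⟩
  refine ⟨S.biUnion J, sub_eq_zero.1 (eq_zero_of_generators _ fun y => ?_)⟩
  obtain ⟨x, hxS, hy⟩ := Set.mem_iUnion₂.1 (hS (Set.mem_univ y))
  refine ⟨U x, T x, hy, hUa x, hT x, fun t ht => ?_⟩
  show (copId G (S.biUnion J)).app (U x) (φ.app (U x) t) - φ.app (U x) t = 0
  rw [hJ x _ (Finset.subset_biUnion_of_mem J hxS) t ht, sub_self]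

/-- Pullback carries multiplication by a global function to multiplication by its pullback. -/
theorem pullback_map_smulModΓ (π : Y ⟶ X) (M : X.Modules) (r : Coh.Γtop X) :
    (Scheme.Modules.pullback π).map (Formal.smulModΓ M r) =
      Formal.smulModΓ ((Scheme.Modules.pullback π).obj M) (π.appTop r) := by
  let ad := Scheme.Modules.pullbackPushforwardAdjunction π
  refine (ad.homEquiv _ _).injective ?_
  rw [ad.homEquiv_unit, ad.homEquiv_unit]
  erw [← ad.unit.naturality]
  rw [Functor.id_map]
  refine (KLin.comp_smulModΓ (ad.unit.app M) r).symm.trans ?_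
  congr 1
  refine Scheme.Modules.hom_ext _ _ fun U => ?_
  ext m
  exact congrArg (fun z : Γ(Y, π ⁻¹ᵁ U) => z • (show Γ((Scheme.Modules.pullback π).obj M, π ⁻¹ᵁ U) from m))
    (ConcreteCategory.congr_hom (π.naturality (homOfLE (le_top : U ≤ ⊤)).op) r)

end global

section field

variable {k : Type u} [Field k] {X : Scheme.{u}} (p : X ⟶ Spec (CommRingCat.of k))
  (K : Type u) [Field K] [Algebra k K]

/-- Multiplication by a scalar of `k`. -/
def sck (M : X.Modules) (c : k) : M ⟶ M := Formal.smulModΓ M (Coh.toGlobal p c)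

/-- Multiplication by a scalar of `K`. -/
def sc (M : (W4bk4gw11416.baseChange p K).Modules) (a : K) : M ⟶ M :=
  Formal.smulModΓ M (Coh.toGlobal (W4bk4gw11416.baseChangeTo p K) a)

variable {K}

theorem sck_one (M : X.Modules) : sck p M 1 = 𝟙 M := by rw [sck, map_one, KLin.smulModΓ_one]
theorem sck_zero (M : X.Modules) : sck p M 0 = 0 := by rw [sck, map_zero, KLin.smulModΓ_zero]
theorem sck_add (M : X.Modules) (a b : k) : sck p M (a + b) = sck p M a + sck p M b := by
  rw [sck, map_add, KLin.smulModΓ_add]; rfl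
theorem sck_mul (M : X.Modules) (a b : k) : sck p M (a * b) = sck p M a ≫ sck p M b := by
  rw [sck, map_mul, KLin.smulModΓ_mul]; rfl
theorem comp_sck {M N : X.Modules} (f : M ⟶ N) (a : k) : f ≫ sck p N a = sck p M a ≫ f :=
  KLin.comp_smulModΓ f _
theorem sck_sum (M : X.Modules) {ι : Type*} (s : Finset ι) (a : ι → k) :
    sck p M (∑ i ∈ s, a i) = ∑ i ∈ s, sck p M (a i) :=
  map_sum (AddMonoidHom.mk' (sck p M) (sck_add p M)) a s

theorem sc_one (M : (W4bk4gw11416.baseChange p K).Modules) : sc p K M 1 = 𝟙 M := by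
  rw [sc, map_one, KLin.smulModΓ_one]
theorem sc_add (M : (W4bk4gw11416.baseChange p K).Modules) (a b : K) :
    sc p K M (a + b) = sc p K M a + sc p K M b := by
  rw [sc, map_add, KLin.smulModΓ_add]; rfl
theorem sc_mul (M : (W4bk4gw11416.baseChange p K).Modules) (a b : K) :
    sc p K M (a * b) = sc p K M a ≫ sc p K M b := by
  rw [sc, map_mul, KLin.smulModΓ_mul]; rfl
theorem comp_sc {M N : (W4bk4gw11416.baseChange p K).Modules} (f : M ⟶ N) (a : K) :
    f ≫ sc p K N a = sc p K M a ≫ f :=
  KLin.comp_smulModΓ f _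

theorem pullback_map_sck (M : X.Modules) (c : k) :
    (Scheme.Modules.pullback (proj p K)).map (sck p M c) = sc p K (bcMod p K M) (algebraMap k K c) := by
  rw [sck, pullback_map_smulModΓ, sc]
  congr 1
  show (proj p K).appTop (p.appTop _) = (W4bk4gw11416.baseChangeTo p K).appTop _
  rw [← CommRingCat.comp_apply, ← Scheme.Hom.comp_appTop]
  simp only [pullback.condition]
  rw [Scheme.Hom.comp_appTop, CommRingCat.comp_apply]
  exact congrArg _ (ConcreteCategory.congr_hom
    (Scheme.ΓSpecIso_inv_naturality (CommRingCat.ofHom (algebraMap k K))).symm c)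

/-- The elementary tensor `f ⊗ a` as a morphism of base changes. -/
def bcT {F G : X.Modules} (f : F ⟶ G) (a : K) : bcMod p K F ⟶ bcMod p K G :=
  (Scheme.Modules.pullback (proj p K)).map f ≫ sc p K _ a

theorem bcT_comp {F G H : X.Modules} (f : F ⟶ G) (a : K) (g : G ⟶ H) (b : K) :
    bcT p f a ≫ bcT p g b = bcT p (f ≫ g) (a * b) := by
  simp only [bcT, Functor.map_comp, sc_mul, Category.assoc]
  rw [← Category.assoc (sc p K (bcMod p K G) a), ← comp_sc, Category.assoc]

theorem bcT_id (F : X.Modules) : bcT p (𝟙 F) (1 : K) = 𝟙 (bcMod p K F) := by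
  rw [bcT, CategoryTheory.Functor.map_id, sc_one, Category.id_comp]

theorem bcT_sck {F G : X.Modules} (f : F ⟶ G) (c : k) (a : K) :
    bcT p (f ≫ sck p G c) a = bcT p f (algebraMap k K c * a) := by
  simp only [bcT, Functor.map_comp, sc_mul, pullback_map_sck, Category.assoc]

theorem bcT_add_right {F G : X.Modules} (f : F ⟶ G) (a b : K) :
    bcT p f (a + b) = bcT p f a + bcT p f b := by
  simp only [bcT, sc_add, Preadditive.comp_add]

theorem bcT_zero_right {F G : X.Modules} (f : F ⟶ G) : bcT p f (0 : K) = 0 := by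
  have h := bcT_add_right p f (0 : K) 0
  rw [add_zero] at h
  exact left_eq_add.1 h

theorem bcT_sum_right {F G : X.Modules} (f : F ⟶ G) {ι : Type*} (s : Finset ι) (a : ι → K) :
    bcT p f (∑ i ∈ s, a i) = ∑ i ∈ s, bcT p f (a i) := by
  classical
  induction s using Finset.induction with
  | empty => rw [Finset.sum_empty, Finset.sum_empty, bcT_zero_right]
  | insert x s hx ih => rw [Finset.sum_insert hx, Finset.sum_insert hx, bcT_add_right, ih]

theorem isPullback_bc : IsPullback (W4bk4gw11416.baseChangeTo p K) (proj p K)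
    (Spec.map (CommRingCat.ofHom (algebraMap k K))) p :=
  (IsPullback.of_hasPullback p _).flip

variable {ι : Type u} (b : Module.Basis ι k K)

/-- The scalar of a basis vector as a global function on `Spec K`. -/
abbrev bG (i : ι) : Γ(Spec (CommRingCat.of K), ⊤) := (Scheme.ΓSpecIso (CommRingCat.of K)).inv (b i)

theorem homEquiv_bcT {F G : X.Modules} (f : F ⟶ G) (i : ι) :
    (Scheme.Modules.pullbackPushforwardAdjunction (proj p K)).homEquiv _ _ (bcT p f (b i)) =
      f ≫ CohFound.bcComp (W4bk4gw11416.baseChangeTo p K) (proj p K) G (bG b i) := by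
  let ad := Scheme.Modules.pullbackPushforwardAdjunction (proj p K)
  rw [Adjunction.homEquiv_unit, bcT, Functor.map_comp, ← Category.assoc]
  erw [← ad.unit.naturality]
  rw [Category.assoc]
  rfl

/-- The vector `a` in the coordinates of a copower. -/
def vec (G : X.Modules) (a : K) : G ⟶ ∐ fun _ : ι => G :=
  ∑ i ∈ (b.repr a).support, sck p G (b.repr a i) ≫ Sigma.ι (fun _ : ι => G) i

theorem homEquiv_bcT' {F G : X.Modules} (f : F ⟶ G) (a : K) :
    (Scheme.Modules.pullbackPushforwardAdjunction (proj p K)).homEquiv _ _ (bcT p f a) =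
      f ≫ vec p b G a ≫ CohFound.basisDesc (W4bk4gw11416.baseChangeTo p K) (proj p K) G (bG b) := by
  have ha : a = ∑ i ∈ (b.repr a).support, algebraMap k K (b.repr a i) * b i := by
    conv_lhs => rw [← b.linearCombination_repr a]
    rw [Finsupp.linearCombination_apply]
    exact Finset.sum_congr rfl fun i _ => Algebra.smul_def _ _
  conv_lhs => rw [ha]
  rw [bcT_sum_right, ← Adjunction.homAddEquiv_apply, map_sum, vec, Preadditive.sum_comp,
    Preadditive.comp_sum]
  refine Finset.sum_congr rfl fun i _ => ?_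
  rw [Adjunction.homAddEquiv_apply, ← bcT_sck, homEquiv_bcT, Category.assoc, Category.assoc,
    CohFound.ι_basisDesc]

theorem vec_desc (G : X.Modules) (a : K) (l : K →ₗ[k] k) :
    vec p b G a ≫ Sigma.desc (fun i => sck p G (l (b i))) = sck p G (l a) := by
  have ha : l a = ∑ i ∈ (b.repr a).support, b.repr a i * l (b i) := by
    conv_lhs => rw [← b.linearCombination_repr a]
    rw [Finsupp.linearCombination_apply, Finsupp.sum, map_sum]
    exact Finset.sum_congr rfl fun i _ => by rw [map_smul, smul_eq_mul]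
  rw [ha, sck_sum, vec, Preadditive.sum_comp]
  refine Finset.sum_congr rfl fun i _ => ?_
  rw [Category.assoc, Sigma.ι_desc, sck_mul]

/-- Linear functionals of the coefficients of a combination are well defined. -/
theorem comb_congr {F G : X.Modules} (hG : Coh.IsQCoh G) {σ τ : Type*} (s : Finset σ) (t : Finset τ)
    (f : σ → (F ⟶ G)) (a : σ → K) (g : τ → (F ⟶ G)) (c : τ → K)
    (h : ∑ i ∈ s, bcT p (f i) (a i) = ∑ j ∈ t, bcT p (g j) (c j)) (l : K →ₗ[k] k) :
    ∑ i ∈ s, f i ≫ sck p G (l (a i)) = ∑ j ∈ t, g j ≫ sck p G (l (c j)) := by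
  haveI := hG
  let b := Module.Basis.ofVectorSpace k K
  haveI := CohFound.isIso_basisDesc_spec (W4bk4gw11416.baseChangeTo p K) (proj p K)
    (isPullback_bc p) G b
  have h' := congrArg ((Scheme.Modules.pullbackPushforwardAdjunction (proj p K)).homAddEquiv F (bcMod p K G)) h
  simp only [map_sum, Adjunction.homAddEquiv_apply, homEquiv_bcT' p b, ← Category.assoc,
    ← Preadditive.sum_comp, cancel_mono] at h'
  have h'' := congrArg (fun χ => χ ≫ Sigma.desc fun i => sck p G (l (b i))) h'
  simp only [Preadditive.sum_comp, Category.assoc, vec_desc] at h''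
  exact h''

/-- Every morphism of base changes of coherent modules is a combination of elementary tensors. -/
theorem exists_comb [CompactSpace X] {F G : X.Modules} (hF : Coh.IsCoh F) (hG : Coh.IsQCoh G)
    (ψ : bcMod p K F ⟶ bcMod p K G) :
    ∃ (n : ℕ) (f : Fin n → (F ⟶ G)) (a : Fin n → K), ψ = ∑ i, bcT p (f i) (a i) := by
  classical
  haveI := hG
  let b := Module.Basis.ofVectorSpace k K
  let D := CohFound.basisDesc (W4bk4gw11416.baseChangeTo p K) (proj p K) G (bG b)
  haveI : IsIso D := CohFound.isIso_basisDesc_spec (W4bk4gw11416.baseChangeTo p K) (proj p K)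
    (isPullback_bc p) G b
  let ad := Scheme.Modules.pullbackPushforwardAdjunction (proj p K)
  obtain ⟨J, hJ⟩ := exists_copId hF G (ad.homEquiv _ _ ψ ≫ inv D)
  refine ⟨J.card, fun m => (ad.homEquiv _ _ ψ ≫ inv D) ≫ copPr G (J.equivFin.symm m).1,
    fun m => b (J.equivFin.symm m).1, (ad.homAddEquiv _ _).injective ?_⟩
  rw [map_sum, J.equivFin.symm.sum_comp (fun i : J => ad.homAddEquiv F (bcMod p K G)
    (bcT p ((ad.homEquiv _ _ ψ ≫ inv D) ≫ copPr G i.1) (b i.1))), Finset.sum_coe_sort J fun i =>
    ad.homAddEquiv F (bcMod p K G) (bcT p ((ad.homEquiv _ _ ψ ≫ inv D) ≫ copPr G i) (b i))]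
  simp only [Adjunction.homAddEquiv_apply, ad, homEquiv_bcT]
  have e : ∀ i, CohFound.bcComp (W4bk4gw11416.baseChangeTo p K) (proj p K) G (bG b i) =
      Sigma.ι (fun _ => G) i ≫ D := fun i => (CohFound.ι_basisDesc _ _ _ _ i).symm
  simp only [e, ← Category.assoc, ← Preadditive.sum_comp]
  have : ∑ i ∈ J, (ad.homEquiv _ _ ψ ≫ inv D) ≫ copPr G i ≫ Sigma.ι (fun _ => G) i =
      ad.homEquiv _ _ ψ ≫ inv D := by
    rw [← Preadditive.comp_sum]
    exact hJ
  simp only [← Category.assoc, ad] at this
  rw [this, Category.assoc, IsIso.inv_hom_id, Category.comp_id]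

end field

end Groth.Agent.KS29
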