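import Groth.Agent.Lib.KS29.SBKernel
import Groth.Agent.Lib.Birat12.Basic
import Groth.Agent.Lib.LimH13.Reduced

/-!
# Birational Severi–Brauer varieties
-/

set_option autoImplicit false
set_option linter.style.haveILetI false
set_option linter.unusedSectionVars false
set_option backward.isDefEq.respectTransparency false
set_option backward.isDefEq.respectTransparency.types false

universe u

open CategoryTheory CategoryTheory.Limits AlgebraicGeometry

noncomputable section

namespace Groth.Agent.KS29

open Groth.Agent Brauer25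

variable {k : Type u} [Field k]

/-- A form of projective space is integral. -/
theorem isIntegral_of_splitting {X : Scheme.{u}} {p : X ⟶ Spec (CommRingCat.of k)}
    {K : Type u} [Field K] [Algebra k K] {n : ℕ} (e : BrSev.Splitting p K n) : IsIntegral X := by
  haveI := isIntegral_bc e
  haveI := isProper_of_splitting e
  haveI hs : Surjective (BrSev.proj p K) := surjective_proj p
  haveI : Flat (Spec.map (CommRingCat.ofHom (algebraMap k K))) :=
    (HasRingHomProperty.Spec_iff (P := @Flat)).2 (RingHom.flat_algebraMap_iff.2 inferInstance)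
  haveI : Flat (BrSev.proj p K) := MorphismProperty.pullback_fst (P := @Flat) _ _ ‹_›
  haveI := LimH13.isReduced_of_flat_of_surjective (BrSev.proj p K)
  haveI : IrreducibleSpace X := by
    rw [irreducibleSpace_def]
    have h := (IrreducibleSpace.isIrreducible_univ (BrSev.bc p K)).image _
      (BrSev.proj p K).continuous.continuousOn
    rw [Set.image_univ, Set.range_eq_univ.2 hs.surj] at h
    exact h
  exact isIntegral_of_irreducibleSpace_of_isReduced X

theorem germ_eqToHom {S : Scheme.{u}} {a b : S} (h : a = b) (r : Γ(S, ⊤)) :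
    (eqToHom (congrArg S.presheaf.stalk h)) (S.presheaf.germ ⊤ a trivial r) = S.presheaf.germ ⊤ b trivial r := by
  subst h
  rfl

/-- A map of local rings compatible with the base respects constants. -/
theorem stalk_hom_germ {S X Y : Scheme.{u}} (sX : X ⟶ S) (sY : Y ⟶ S) {x : X} {y : Y} (hs : sX x = sY y)
    (e : X.presheaf.stalk x ⟶ Y.presheaf.stalk y)
    (he : sX.stalkMap x ≫ e = eqToHom (congrArg S.presheaf.stalk hs) ≫ sY.stalkMap y) (r : Γ(S, ⊤)) :
    e (X.presheaf.germ ⊤ x trivial (sX.appTop r)) = Y.presheaf.germ ⊤ y trivial (sY.appTop r) := by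
  have h := ConcreteCategory.congr_hom he (S.presheaf.germ ⊤ (sX x) trivial r)
  rw [CommRingCat.comp_apply, CommRingCat.comp_apply, germ_eqToHom hs, Scheme.Hom.germ_stalkMap_apply,
    Scheme.Hom.germ_stalkMap_apply] at h
  exact h

/-- Classes split by the function field of a birational Severi–Brauer variety. -/
theorem exists_cls_pow_of_birational {A : Type u} [Ring A] [Algebra k A] [Algebra.IsCentral k A] [IsSimpleRing A]
    [FiniteDimensional k A] {B : Type u} [Ring B] [Algebra k B] [Algebra.IsCentral k B] [IsSimpleRing B]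
    [FiniteDimensional k B] {n m : ℕ} (hn : 0 < n) (hm : 0 < m) (hA : Module.finrank k A = n * n)
    (hB : Module.finrank k B = m * m) {X Y : Scheme.{u}} (f : X ⟶ Spec (CommRingCat.of k))
    (g : Y ⟶ Spec (CommRingCat.of k)) (hX : BrSev.IsSBOf k A (n * n - n) f)
    (hY : BrSev.IsSBOf k B (m * m - m) g) (hb : Scheme.BirationalOver f g) :
    ∃ i : ℕ, cls (k := k) B = cls (k := k) A ^ i := by
  let K := AlgebraicClosure k
  obtain ⟨φA⟩ := exists_algEquiv_matrix (k := k) hA K
  obtain ⟨e⟩ := SBSplit25.nonempty_splitting f hX hn φA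
  obtain ⟨φB⟩ := exists_algEquiv_matrix (k := k) hB K
  obtain ⟨e'⟩ := SBSplit25.nonempty_splitting g hY hm φB
  haveI := isIntegral_of_splitting e
  haveI := isIntegral_of_splitting e'
  obtain ⟨hs, θ, hθ⟩ := Birat12.exists_stalk_iso f g hb
  letI : X.Over (Spec (CommRingCat.of k)) := ⟨f⟩
  letI : Y.Over (Spec (CommRingCat.of k)) := ⟨g⟩
  letI : Algebra k X.functionField := Curv2.stalkAlgebra k X (genericPoint X)
  letI : Algebra k Y.functionField := Curv2.stalkAlgebra k Y (genericPoint Y)
  have hc : ∀ c : k, θ.inv (algebraMap k Y.functionField c) = algebraMap k X.functionField c := fun c => by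
    show θ.inv (Y.presheaf.germ ⊤ _ trivial (g.appTop _)) = X.presheaf.germ ⊤ _ trivial (f.appTop _)
    rw [← stalk_hom_germ f g hs θ.hom hθ, Iso.hom_inv_id_apply]
  let σ : Y.functionField →ₐ[k] X.functionField := { θ.inv.hom with commutes' := hc }
  exact (splits_functionField_iff hn hA hX B).1
    (CSAlg.splits_of_algHom σ (splits_functionField hm hB hY))

end Groth.Agent.KS29
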