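import Groth.Agent.Lib.ProjSpace.Basic
import Groth.Agent.Lib.ProjSpace.BaseChange
import Groth.Agent.Lib.FieldExt12.Model
import Groth.Prelude.Def_BrSev

/-!
# Squares of base changes of a scheme over a field, and finite splittings
-/

set_option autoImplicit false
set_option linter.style.haveILetI false
set_option linter.unusedSectionVars false
set_option backward.isDefEq.respectTransparency false
set_option backward.isDefEq.respectTransparency.types false
set_option maxHeartbeats 400000

universe u

open CategoryTheory CategoryTheory.Limits AlgebraicGeometry TensorProduct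

noncomputable section

namespace Groth.Agent.KS29

open Groth.Agent

variable {k : Type u} [Field k] {X : Scheme.{u}} (p : X ⟶ Spec (CommRingCat.of k))

/-- The base change of `X` to a `k`-algebra. -/
abbrev bcR (R : Type u) [CommRing R] [Algebra k R] : Scheme.{u} :=
  pullback p (Spec.map (CommRingCat.ofHom (algebraMap k R)))

variable (L R : Type u) [CommRing L] [CommRing R] [Algebra k L] [Algebra k R] [Algebra L R] [IsScalarTower k L R]

theorem spec_tower :
    Spec.map (CommRingCat.ofHom (algebraMap L R)) ≫ Spec.map (CommRingCat.ofHom (algebraMap k L)) =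
      Spec.map (CommRingCat.ofHom (algebraMap k R)) := by
  rw [← Spec.map_comp, ← CommRingCat.ofHom_comp, ← IsScalarTower.algebraMap_eq]

/-- The map of base changes along `L → R`. -/
def bcW : bcR p R ⟶ bcR p L :=
  pullback.lift (pullback.fst _ _) (pullback.snd _ _ ≫ Spec.map (CommRingCat.ofHom (algebraMap L R)))
    (by rw [Category.assoc, spec_tower]; exact pullback.condition)

@[reassoc (attr := simp)]
theorem bcW_fst : bcW p L R ≫ pullback.fst _ _ = pullback.fst _ _ := pullback.lift_fst _ _ _

@[reassoc (attr := simp)]
theorem bcW_snd : bcW p L R ≫ pullback.snd _ _ =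
    pullback.snd _ _ ≫ Spec.map (CommRingCat.ofHom (algebraMap L R)) := pullback.lift_snd _ _ _

theorem isPullback_bcW :
    IsPullback (bcW p L R) (pullback.snd p (Spec.map (CommRingCat.ofHom (algebraMap k R))))
      (pullback.snd p (Spec.map (CommRingCat.ofHom (algebraMap k L))))
      (Spec.map (CommRingCat.ofHom (algebraMap L R))) := by
  refine IsPullback.of_right ?_ (bcW_snd p L R) (IsPullback.of_hasPullback p _)
  rw [bcW_fst, spec_tower]
  exact IsPullback.of_hasPullback p _

variable {p L}

/-- The isomorphism with projective space over `R` induced by a splitting over `L`. -/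
theorem exists_trivR {n : ℕ} (ε : bcR p L ≅ CohB1.ProjSpace n L)
    (hε : ε.hom ≫ CohB1.ProjSpace.toSpec n L = pullback.snd _ _) :
    ∃ a : bcR p R ≅ CohB1.ProjSpace n R, a.hom ≫ CohB1.ProjSpace.toSpec n R = pullback.snd _ _ ∧
      a.hom ≫ ProjSpace.map n (algebraMap L R) = bcW p L R ≫ ε.hom := by
  have H1 := ProjSpace.isPullback_map n (algebraMap L R)
  have H2 : IsPullback (bcW p L R ≫ ε.hom) (pullback.snd p (Spec.map (CommRingCat.ofHom (algebraMap k R))))
      (CohB1.ProjSpace.toSpec n L) (Spec.map (CommRingCat.ofHom (algebraMap L R))) :=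
    (isPullback_bcW p L R).of_iso (Iso.refl _) ε (Iso.refl _) (Iso.refl _) (by simp) (by simp) (by simp [hε])
      (by simp)
  exact ⟨H2.isoIsPullback _ _ H1, H2.isoIsPullback_hom_snd _ _ _, H2.isoIsPullback_hom_fst _ _ _⟩

variable (p) in
/-- The square of base changes along a tensor product. -/
theorem isPullback_bc_tensor (A B : Type u) [CommRing A] [CommRing B] [Algebra k A] [Algebra k B]
    [Algebra A R] [IsScalarTower k A R] [Algebra B R] [IsScalarTower k B R]
    (hR : IsPushout (CommRingCat.ofHom (algebraMap k A)) (CommRingCat.ofHom (algebraMap k B))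
      (CommRingCat.ofHom (algebraMap A R)) (CommRingCat.ofHom (algebraMap B R))) :
    IsPullback (bcW p B R) (bcW p A R) (pullback.fst p (Spec.map (CommRingCat.ofHom (algebraMap k B))))
      (pullback.fst p (Spec.map (CommRingCat.ofHom (algebraMap k A)))) := by
  refine IsPullback.of_bot ?_ (by simp) (IsPullback.of_hasPullback p (Spec.map (CommRingCat.ofHom (algebraMap k A))))
  have h := (isPullback_bcW p B R).paste_vert (isPullback_SpecMap_of_isPushout _ _ _ _ hR).flip
  rw [← bcW_snd p A R] at h
  rw [show pullback.fst p (Spec.map (CommRingCat.ofHom (algebraMap k B))) ≫ p = _ from pullback.condition]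
  exact h

/-- A splitting over some extension gives a splitting over a finite one. -/
theorem exists_finite_splitting [IsProper p] {n : ℕ} {K : Type u} [Field K] [Algebra k K]
    (e : BrSev.Splitting p K n) :
    ∃ (k' : Type u) (_ : Field k') (_ : Algebra k k') (_ : Module.Finite k k'),
      Nonempty (BrSev.Splitting p k' n) := by
  let q := CohB1.ProjSpace.toSpec n k
  have H := ProjSpace.isPullback_map n (algebraMap k K)
  obtain ⟨k', i₁, i₂, i₃, e', he'⟩ := FieldExt12.exists_iso_finite p q (K := K) (e.iso ≪≫ H.isoPullback) (by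
    simp [H.isoPullback_hom_snd, q, e.comm])
  letI := i₁; letI := i₂
  have H' := ProjSpace.isPullback_map n (algebraMap k k')
  refine ⟨k', i₁, i₂, i₃, ⟨⟨e' ≪≫ H'.isoPullback.symm, ?_⟩⟩⟩
  show (e'.hom ≫ H'.isoPullback.inv) ≫ _ = _
  rw [Category.assoc, IsPullback.isoPullback_inv_snd]
  exact he'

end Groth.Agent.KS29
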