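import Groth.Agent.Lib.KS29.SBEmbed
import Groth.Agent.Lib.KS29.SBBirat
import Groth.Agent.Lib.KS29.Squares
import Groth.Agent.Lib.SmImm2.Compare
import Groth.Agent.Lib.FieldExt12.Model
import Groth.Agent.Lib.Brauer25.Basic
import Groth.Agent.Lib.RegExt.P1
import Groth.Agent.Lib.DPerf.Free
import Mathlib.RingTheory.LittleWedderburn

/-!
# Forms of projective space: split criteria and the finite Galois splitting field
-/

set_option autoImplicit false
set_option linter.style.haveILetI false
set_option linter.unusedSectionVars false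
set_option backward.isDefEq.respectTransparency false
set_option backward.isDefEq.respectTransparency.types false
set_option maxHeartbeats 800000

universe u

open CategoryTheory CategoryTheory.Limits AlgebraicGeometry TensorProduct TopologicalSpace

noncomputable section

namespace Groth.Agent.KS29

open Groth.Agent

attribute [local instance] Abelian.hasFiniteBiproducts

/-- An injective closed continuous self map of a Noetherian space is surjective. -/
theorem surjective_of_injective_closed {T : Type*} [TopologicalSpace T] [NoetherianSpace T] (g : T → T)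
    (hg : IsClosedMap g) (hi : Function.Injective g) : Function.Surjective g := by
  let Z : ℕ → Closeds T := fun i => ⟨Set.range (g^[i]), by
    induction i with
    | zero => simp
    | succ i ih =>
      rw [Function.iterate_succ', Set.range_comp]
      exact hg _ ih⟩
  have hmono : ∀ i, Z (i + 1) ≤ Z i := fun i x hx => by
    obtain ⟨y, rfl⟩ := hx
    exact ⟨g y, (Function.iterate_succ_apply g i y).symm⟩
  obtain ⟨i, hi'⟩ := WellFoundedGT.monotone_chain_condition
    (α := (Closeds T)ᵒᵈ) ⟨fun i => OrderDual.toDual (Z i), monotone_nat_of_le_succ hmono⟩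
  intro x
  have hx : g^[i] x ∈ Z (i + 1) := by
    have h : Z i = Z (i + 1) := hi' (i + 1) i.le_succ
    rw [← h]
    exact ⟨x, rfl⟩
  obtain ⟨y, hy⟩ := hx
  exact ⟨y, hi.iterate i ((Function.iterate_succ_apply g i y).symm.trans hy)⟩

/-- A division algebra which is a matrix algebra is one by one. -/
theorem le_one_of_algEquiv_matrix {k D : Type*} [Field k] [Ring D] [Algebra k D] {r : ℕ}
    (hu : ∀ g : D, IsUnit g ∨ g = 0) (φ : D ≃ₐ[k] Matrix (Fin r) (Fin r) k) : r ≤ 1 := by
  by_contra h
  let a : Fin r := ⟨0, by omega⟩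
  let b : Fin r := ⟨1, by omega⟩
  let E : Matrix (Fin r) (Fin r) k := Matrix.single a b 1
  have hE : E * E = 0 := Matrix.single_mul_single_of_ne _ _ _ _ (by simp [a, b]) _
  have hE0 : E ≠ 0 := fun h0 => by simpa [E] using congrFun (congrFun h0 a) b
  rcases hu (φ.symm E) with hun | h0
  · have h1 : φ.symm E * φ.symm E = 0 := by rw [← map_mul, hE, map_zero]
    exact hE0 (φ.symm.injective ((hun.mul_right_eq_zero.1 h1).trans (map_zero _).symm))
  · exact hE0 (φ.symm.injective (h0.trans (map_zero _).symm))

variable {k : Type u} [Field k] {X : Scheme.{u}} (f : X ⟶ Spec (CommRingCat.of k))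

section closedImm

variable {K : Type u} [Field K] [Algebra k K] {m : ℕ}

/-- A closed embedding of a form of projective space into projective space of the same dimension is bijective. -/
theorem isIso_of_closedImmersion (e : BrSev.Splitting f K m) (ρ : X ⟶ CohB1.ProjSpace m k) [IsClosedImmersion ρ]
    (hρ : ρ ≫ CohB1.ProjSpace.toSpec m k = f) : IsIso ρ := by
  have H := ProjSpace.isPullback_map m (algebraMap k K)
  let π := ProjSpace.map m (algebraMap k K)
  let j : BrSev.bc f K ⟶ CohB1.ProjSpace m K :=
    H.lift (BrSev.proj f K ≫ ρ) (BrSev.bcTo f K) (by rw [Category.assoc, hρ]; exact pullback.condition)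
  have hj1 : j ≫ π = BrSev.proj f K ≫ ρ := H.lift_fst _ _ _
  have hj2 : j ≫ CohB1.ProjSpace.toSpec m K = BrSev.bcTo f K := H.lift_snd _ _ _
  have sq : IsPullback (BrSev.proj f K) j ρ π := by
    refine IsPullback.of_bot ?_ hj1.symm H
    rw [hρ, hj2]
    exact IsPullback.of_hasPullback f _
  haveI : IsClosedImmersion j := MorphismProperty.of_isPullback (P := @IsClosedImmersion) sq ‹_›
  haveI : IsProper (CohB1.ProjSpace.toSpec m K) := ProjSpace.isProper_toSpec m K
  haveI : IsNoetherian (CohB1.ProjSpace m K) := CohFound.isNoetherian_of_isProper (CohB1.ProjSpace.toSpec m K)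
  let g := e.iso.inv ≫ j
  haveI : IsClosedImmersion g := inferInstance
  have hg := surjective_of_injective_closed g g.isClosedEmbedding.isClosedMap g.isClosedEmbedding.injective
  haveI : Surjective π := by
    haveI : Surjective (Spec.map (CommRingCat.ofHom (algebraMap k K))) :=
      ⟨fun x => ⟨⟨⊥, Ideal.isPrime_bot⟩, Subsingleton.elim _ _⟩⟩
    exact MorphismProperty.of_isPullback (P := @Surjective) H.flip ‹_›
  haveI : Surjective ρ := ⟨fun y => by
    obtain ⟨z, rfl⟩ := π.surjective y
    obtain ⟨w, rfl⟩ := hg z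
    refine ⟨BrSev.proj f K (e.iso.inv w), ?_⟩
    rw [← Scheme.Hom.comp_apply, ← hj1]
    rfl⟩
  haveI := RegExt.isIntegral_projSpace m k
  exact isIso_of_isClosedImmersion_of_surjective ρ

/-- An invertible module becoming `O(1)` trivialises the form. -/
theorem exists_iso_of_twPow_one (e : BrSev.Splitting f K m) {L : X.Modules} (hL : PicF.IsInvertible L)
    (hLt : BrSev.IsTwPow e 1 1 L) : ∃ ρ : X ≅ CohB1.ProjSpace m k, ρ.hom ≫ CohB1.ProjSpace.toSpec m k = f := by
  obtain ⟨ψ⟩ := hLt
  obtain ⟨N, ρ, hN, hcl, hρ, -⟩ := exists_embedding f e L hL 1 one_pos (ψ ≪≫ coproductUniqueIso _)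
  rw [Nat.choose_one_right] at hN
  obtain rfl : N = m := by omega
  haveI := hcl
  haveI := isIso_of_closedImmersion f e ρ hρ
  exact ⟨asIso ρ, hρ⟩

/-- An isomorphism with projective space is a splitting over the ground field. -/
theorem nonempty_splitting_of_iso (ρ : X ≅ CohB1.ProjSpace m k) (hρ : ρ.hom ≫ CohB1.ProjSpace.toSpec m k = f) :
    Nonempty (BrSev.Splitting f k m) := by
  have hid : Spec.map (CommRingCat.ofHom (algebraMap k k)) = 𝟙 _ := by
    rw [Algebra.algebraMap_self, CommRingCat.ofHom_id, Spec.map_id]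
  haveI : IsIso (Spec.map (CommRingCat.ofHom (algebraMap k k))) := by rw [hid]; infer_instance
  refine ⟨⟨asIso (pullback.fst f (Spec.map (CommRingCat.ofHom (algebraMap k k)))) ≪≫ ρ, ?_⟩⟩
  rw [Iso.trans_hom, Category.assoc, hρ, asIso_hom]
  exact pullback.condition.trans ((congrArg (BrSev.bcTo f k ≫ ·) hid).trans (Category.comp_id _))

end closedImm

/-- A splitting over some field gives one over the algebraic closure. -/
theorem exists_splitting_algClosure {K : Type u} [Field K] [Algebra k K] {m : ℕ} (e : BrSev.Splitting f K m) :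
    Nonempty (BrSev.Splitting f (AlgebraicClosure k) m) := by
  haveI := isProper_of_splitting e
  obtain ⟨k', _, _, _, ⟨e'⟩⟩ := exists_finite_splitting (p := f) e
  letI : Algebra k' (AlgebraicClosure k) :=
    (IsAlgClosed.lift (M := AlgebraicClosure k) : k' →ₐ[k] AlgebraicClosure k).toRingHom.toAlgebra
  haveI : IsScalarTower k k' (AlgebraicClosure k) :=
    IsScalarTower.of_algebraMap_eq fun x =>
      ((IsAlgClosed.lift (M := AlgebraicClosure k) : k' →ₐ[k] AlgebraicClosure k).commutes x).symm
  obtain ⟨e'', -⟩ := exists_splitting_ext (AlgebraicClosure k) e'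
  exact ⟨e''⟩

section mult

variable {K : Type u} [Field K] [Algebra k K] [Algebra.IsAlgebraic k K] {m : ℕ}

/-- The division algebra attached to a form of projective space: it is one-dimensional iff the form is split. -/
theorem exists_indec_data (e : BrSev.Splitting f K m) :
    ∃ (W : X.Modules) (r : ℕ), FlatMod.IsFinLocFree W ∧ 0 < r ∧ BrSev.IsTwPow e 1 r W ∧
      (∀ g : EndA f W, IsUnit g ∨ g = 0) ∧ Algebra.IsCentral k (EndA f W) ∧ IsSimpleRing (EndA f W) ∧
      FiniteDimensional k (EndA f W) ∧ Module.finrank k (EndA f W) = r ^ 2 ∧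
      (r ≤ 1 → ∃ ρ : X ≅ CohB1.ProjSpace m k, ρ.hom ≫ CohB1.ProjSpace.toSpec m k = f) := by
  haveI := isProper_of_splitting e
  obtain ⟨W, r, hW, hWi, hr, hWt⟩ := exists_indec_twPow e 1
  have hWc := isCoh_of_flf f hW
  obtain ⟨h1, h2, h3⟩ := isCSA_endA f e hr hWc hWt
  haveI : IsSimpleRing (End W) := h2
  have hu : ∀ g : EndA f W, IsUnit g ∨ g = 0 := fun g => by
    refine or_iff_not_imp_right.2 fun hg => ?_
    haveI := isIso_of_ne_zero f hWc hWi (g : W ⟶ W) hg
    exact (isUnit_iff_isIso (g : W ⟶ W)).2 this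
  refine ⟨W, r, hW, hr, hWt, hu, h1, h2, h3, finrank_endA f e hWc hWt, fun hr1 => ?_⟩
  obtain rfl : r = 1 := by omega
  exact exists_iso_of_twPow_one f e (isInvertible_of_twPow_one f e hW hWt) hWt

/-- Forms of projective space over finite fields are split. -/
theorem exists_iso_of_finite [Finite k] (e : BrSev.Splitting f K m) :
    ∃ ρ : X ≅ CohB1.ProjSpace m k, ρ.hom ≫ CohB1.ProjSpace.toSpec m k = f := by
  obtain ⟨W, r, -, hr, -, hu, hc, hs, hf, hd, h⟩ := exists_indec_data f e
  haveI := hf
  haveI := hc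
  haveI := hs
  refine h ?_
  haveI : Finite (EndA f W) := Module.finite_of_finite k
  letI : DivisionRing (EndA f W) := DivisionRing.ofIsUnitOrEqZero hu
  have hcomm : ∀ a b : EndA f W, a * b = b * a := fun a b => by
    letI := littleWedderburn (EndA f W)
    exact mul_comm a b
  have htop : (⊥ : Subalgebra k (EndA f W)) = ⊤ := by
    refine eq_top_iff.2 fun x _ => ?_
    rw [← Algebra.IsCentral.center_eq_bot k (EndA f W), Subalgebra.mem_center_iff]
    exact fun y => hcomm y x
  rw [Subalgebra.bot_eq_top_iff_finrank_eq_one, hd] at htop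
  exact ((Nat.pow_eq_one.1 htop).resolve_right two_ne_zero).le

/-- Forms of projective space over separably closed fields are split. -/
theorem exists_iso_of_isSepClosed [IsSepClosed k] (e : BrSev.Splitting f K m) :
    ∃ ρ : X ≅ CohB1.ProjSpace m k, ρ.hom ≫ CohB1.ProjSpace.toSpec m k = f := by
  obtain ⟨W, r, -, hr, -, hu, hc, hs, hf, hd, h⟩ := exists_indec_data f e
  haveI := hf
  haveI := hc
  haveI := hs
  obtain ⟨n, -, ⟨φ⟩⟩ := Brauer25.exists_algEquiv_matrix_of_isSepClosed (k := k) (EndA f W)
  refine h ?_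
  have hn := φ.toLinearEquiv.finrank_eq
  rw [hd, Module.finrank_matrix, Fintype.card_fin, Module.finrank_self, mul_one, ← sq] at hn
  obtain rfl : r = n := Nat.pow_left_injective two_ne_zero hn
  exact le_one_of_algEquiv_matrix hu φ

/-- A finite locally free module on a one point scheme is free. -/
theorem exists_iso_freeMod_of_point {Y : Scheme.{u}} [Subsingleton Y] [Nonempty Y] {G : Y.Modules}
    (hG : FlatMod.IsFinLocFree G) : ∃ r, Nonempty (G ≅ FlatMod.freeMod Y r) := by
  obtain ⟨U, r, hx, ⟨i⟩⟩ := hG (Classical.arbitrary Y)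
  obtain rfl : U = ⊤ := eq_top_iff.2 fun y _ => (Subsingleton.elim y _) ▸ hx
  refine ⟨r, ⟨((Scheme.Modules.pullbackId _).app G).symm ≪≫
    ((Scheme.Modules.pullbackCongr (show (Scheme.topIso Y).inv ≫ (⊤ : Y.Opens).ι = 𝟙 Y from
      (Scheme.topIso Y).inv_hom_id)).app G).symm ≪≫
    ((Scheme.Modules.pullbackComp (Scheme.topIso Y).inv (⊤ : Y.Opens).ι).app G).symm ≪≫
    (Scheme.Modules.pullback (Scheme.topIso Y).inv).mapIso
      (((Scheme.Modules.restrictFunctorIsoPullback _).app G).symm ≪≫ i) ≪≫
    M2.freeModPullbackIso _ r⟩⟩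

/-- An invertible module on a point is trivial. -/
theorem nonempty_iso_structureModule_of_point {Y : Scheme.{u}} [Subsingleton Y] [Nonempty Y] {L : Y.Modules}
    (hL : PicF.IsInvertible L) : Nonempty (L ≅ Coh.structureModule Y) := by
  obtain ⟨a, ⟨φ⟩⟩ := exists_iso_freeMod_of_point (M2.isFinLocFree_of_isInvertible hL)
  obtain rfl : a = 1 := SmImm2.rank_eq_of_nonempty
    (M2.isFinLocFreeOfRank_of_iso φ.symm (M2.isFinLocFreeOfRank_freeMod Y a))
    ((M2.isInvertible_iff_isFinLocFreeOfRank_one L).1 hL)
  exact ⟨φ ≪≫ coproductUniqueIso _⟩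

/-- The endomorphisms of the structure module of a point. -/
theorem bijective_algebraMap_endA_point :
    Function.Bijective
      (algebraMap k (EndA (𝟙 (Spec (CommRingCat.of k))) (Coh.structureModule (Spec (CommRingCat.of k))))) := by
  let Y := Spec (CommRingCat.of k)
  have hO : PicF.IsInvertible (Coh.structureModule Y) := PicLoc.isInvertible_structureModule Y
  refine ⟨(injective_iff_map_eq_zero _).2 fun a ha => ?_, fun φ => ?_⟩
  · by_contra ha0
    have h10 : (1 : EndA (𝟙 Y) (Coh.structureModule Y)) = 0 := by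
      rw [← map_one (algebraMap k _), ← mul_inv_cancel₀ ha0, map_mul, ha, zero_mul]
    have hz : IsZero (Coh.structureModule Y) := (IsZero.iff_id_eq_zero _).2 h10
    have hz1 : IsZero (FlatMod.freeMod Y 1) := hz.of_iso (coproductUniqueIso _)
    exact one_ne_zero (SmImm2.rank_eq_of_nonempty (M2.isFinLocFreeOfRank_freeMod Y 1)
      (M2.isFinLocFreeOfRank_of_iso (hz1.iso (DPerf.isZero_freeMod_zero Y)).symm
        (M2.isFinLocFreeOfRank_freeMod Y 0)))
  · obtain ⟨c, hc, -⟩ := ThetaGrp19.existsUnique_smulHom hO (φ : Coh.structureModule Y ⟶ Coh.structureModule Y)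
    refine ⟨(Scheme.ΓSpecIso (CommRingCat.of k)).hom c, Eq.trans ?_ hc.symm⟩
    show sck (𝟙 Y) _ _ = _
    have hca : Coh.toGlobal (𝟙 Y) ((Scheme.ΓSpecIso (CommRingCat.of k)).hom c) = c := by
      show (𝟙 Y : Y ⟶ Y).appTop ((Scheme.ΓSpecIso (CommRingCat.of k)).inv _) = c
      rw [Iso.hom_inv_id_apply, Scheme.Hom.id_appTop]
      rfl
    rw [sck, hca]
    refine Scheme.Modules.hom_ext _ _ fun V => ?_
    ext s
    rfl

/-- Restriction of endomorphisms to a rational point. -/
def fibreEnd (s : Spec (CommRingCat.of k) ⟶ X) (hs : s ≫ f = 𝟙 _) (W : X.Modules) :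
    EndA f W →ₐ[k] EndA (𝟙 (Spec (CommRingCat.of k))) ((Scheme.Modules.pullback s).obj W) :=
  haveI : (Scheme.Modules.pullback s).Additive :=
    (Scheme.Modules.pullbackPushforwardAdjunction s).left_adjoint_additive
  { toFun := fun g => (Scheme.Modules.pullback s).map g
    map_one' := CategoryTheory.Functor.map_id _ _
    map_zero' := Functor.map_zero _ _ _
    map_add' := fun _ _ => Functor.map_add _
    map_mul' := fun g h => (Scheme.Modules.pullback s).map_comp h g
    commutes' := fun c => by
      show (Scheme.Modules.pullback s).map (sck f W c) = sck (𝟙 _) _ c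
      rw [sck, pullback_map_smulModΓ, sck]
      congr 1
      show (f.appTop ≫ s.appTop) _ = _
      rw [← Scheme.Hom.comp_appTop, hs]
      rfl }

/-- Forms of projective space with a rational point are split. -/
theorem exists_iso_of_point (e : BrSev.Splitting f K m) (s : Spec (CommRingCat.of k) ⟶ X) (hs : s ≫ f = 𝟙 _) :
    ∃ ρ : X ≅ CohB1.ProjSpace m k, ρ.hom ≫ CohB1.ProjSpace.toSpec m k = f := by
  obtain ⟨W, r, hW, hr, hWt, hu, hc, hsi, hf, hd, h⟩ := exists_indec_data f e
  haveI := hf
  haveI := hc
  haveI := hsi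
  refine h ?_
  let Y := Spec (CommRingCat.of k)
  let YK := Spec (CommRingCat.of K)
  haveI : Subsingleton Y := inferInstanceAs (Subsingleton (PrimeSpectrum k))
  haveI : Nonempty Y := inferInstanceAs (Nonempty (PrimeSpectrum k))
  haveI : Subsingleton YK := inferInstanceAs (Subsingleton (PrimeSpectrum K))
  haveI : Nonempty YK := inferInstanceAs (Nonempty (PrimeSpectrum K))
  obtain ⟨t, ⟨φ⟩⟩ := exists_iso_freeMod_of_point (M2.isFinLocFree_pullback s hW)
  let φS := Spec.map (CommRingCat.ofHom (algebraMap k K))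
  let sK : YK ⟶ BrSev.bc f K := pullback.lift (φS ≫ s) (𝟙 _)
    (by rw [Category.assoc, hs, Category.comp_id, Category.id_comp])
  have hsK : sK ≫ BrSev.proj f K = φS ≫ s := pullback.lift_fst _ _ _
  obtain ⟨ψ⟩ := hWt
  obtain ⟨l⟩ := nonempty_iso_structureModule_of_point (Twist.isInvertible_pullback sK (isInvertible_twist e 1))
  haveI : (Scheme.Modules.pullback sK).Additive :=
    (Scheme.Modules.pullbackPushforwardAdjunction sK).left_adjoint_additive
  let dK : Dec ((Scheme.Modules.pullback sK).obj (BrSev.bcMod f K W))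
      (fun _ : Fin r => Coh.structureModule YK) :=
    ((Dec.ofCoproduct.trans ψ.symm).map (Scheme.Modules.pullback sK)).congr fun _ => l
  let χ : (Scheme.Modules.pullback sK).obj (BrSev.bcMod f K W) ≅ FlatMod.freeMod YK t :=
    (Scheme.Modules.pullbackComp sK (BrSev.proj f K)).app W ≪≫ (Scheme.Modules.pullbackCongr hsK).app W ≪≫
      ((Scheme.Modules.pullbackComp φS s).app W).symm ≪≫ (Scheme.Modules.pullback φS).mapIso φ ≪≫
      M2.freeModPullbackIso _ t
  obtain rfl : t = r := SmImm2.rank_eq_of_nonempty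
    (M2.isFinLocFreeOfRank_of_iso χ.symm (M2.isFinLocFreeOfRank_freeMod YK t))
    (M2.isFinLocFreeOfRank_of_iso dK.isoCoproduct.symm (M2.isFinLocFreeOfRank_freeMod YK r))
  let d : Dec ((Scheme.Modules.pullback s).obj W) (fun _ : Fin t => Coh.structureModule Y) :=
    Dec.ofCoproduct.trans φ.symm
  let E0 : k ≃ₐ[k] EndA (𝟙 Y) (Coh.structureModule Y) :=
    AlgEquiv.ofBijective (Algebra.ofId k _) bijective_algebraMap_endA_point
  let α : EndA f W →ₐ[k] Matrix (Fin t) (Fin t) k :=
    ((decMatEquiv (𝟙 Y) d).trans E0.symm.mapMatrix).toAlgHom.comp (fibreEnd f s hs W)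
  haveI : Nonempty (Fin t) := ⟨⟨0, hr⟩⟩
  have hi : Function.Injective α := RingHom.injective α.toRingHom
  have hd' : Module.finrank k (EndA f W) = Module.finrank k (Matrix (Fin t) (Fin t) k) := by
    rw [hd, Module.finrank_matrix, Fintype.card_fin, Module.finrank_self, mul_one, sq]
  exact le_one_of_algEquiv_matrix hu (AlgEquiv.ofBijective α
    ⟨hi, (LinearMap.injective_iff_surjective_of_finrank_eq_finrank hd' (f := α.toLinearMap)).1 hi⟩)

end mult

/-- A form of projective space is split by a finite Galois extension. -/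
theorem exists_galois_splitting {K : Type u} [Field K] [Algebra k K] {m : ℕ} (e : BrSev.Splitting f K m) :
    ∃ (L : Type u) (_ : Field L) (_ : Algebra k L), FiniteDimensional k L ∧ IsGalois k L ∧
      Nonempty (BrSev.Splitting f L m) := by
  haveI := isProper_of_splitting e
  let ks := SeparableClosure k
  obtain ⟨ea⟩ := exists_splitting_algClosure f e
  let Ω := AlgebraicClosure k
  haveI : Algebra.IsAlgebraic ks Ω := Algebra.IsAlgebraic.tower_top (K := k) ks
  let e1 : BrSev.Splitting (BrSev.bcTo f ks) Ω m :=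
    ⟨(isPullback_bcW f ks Ω).isoPullback.symm ≪≫ ea.iso, by
      rw [Iso.trans_hom, Category.assoc, ea.comm, Iso.symm_hom]
      exact IsPullback.isoPullback_inv_snd _⟩
  obtain ⟨ρ, hρ⟩ := exists_iso_of_isSepClosed (BrSev.bcTo f ks) e1
  let q := CohB1.ProjSpace.toSpec m k
  have H := ProjSpace.isPullback_map m (algebraMap k ks)
  haveI : IsProper q := ProjSpace.isProper_toSpec m k
  haveI : IsLocallyNoetherian X := LocallyOfFiniteType.isLocallyNoetherian f
  haveI : IsLocallyNoetherian (CohB1.ProjSpace m k) := LocallyOfFiniteType.isLocallyNoetherian q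
  haveI : LocallyOfFinitePresentation f := inferInstance
  haveI : LocallyOfFinitePresentation q := inferInstance
  obtain ⟨A, hA, b, hb⟩ := FieldExt12.exists_fg_iso f q (ρ ≪≫ H.isoPullback)
    (by rw [Iso.trans_hom, Category.assoc, H.isoPullback_hom_snd]; exact hρ)
  obtain ⟨S, hS⟩ := hA
  let L₀ : IntermediateField k ks := IntermediateField.adjoin k (S : Set ks)
  haveI : FiniteDimensional k L₀ :=
    IntermediateField.finiteDimensional_adjoin fun x _ => (Algebra.IsIntegral.isIntegral x)
  let L : IntermediateField k ks := IntermediateField.normalClosure k L₀ ks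
  have hle : A ≤ L.toSubalgebra := by
    rw [← hS]
    exact Algebra.adjoin_le fun x hx =>
      IntermediateField.le_normalClosure L₀ (IntermediateField.subset_adjoin k _ hx)
  haveI : Normal k L := inferInstance
  haveI : Algebra.IsSeparable k L := inferInstance
  haveI : IsGalois k L := ⟨⟩
  obtain ⟨c, hc⟩ := FieldExt12.exists_bc_iso f q _ (Spec.map (CommRingCat.ofHom
    (Subalgebra.inclusion hle).toRingHom)) (Spec.map (CommRingCat.ofHom (algebraMap k L))) (by
      rw [← Spec.map_comp, ← CommRingCat.ofHom_comp]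
      exact congrArg (fun g => Spec.map (CommRingCat.ofHom g)) (RingHom.ext fun _ => rfl)) b hb
  have HL := ProjSpace.isPullback_map m (algebraMap k L)
  refine ⟨L, inferInstance, inferInstance, inferInstance, inferInstance, ⟨⟨c ≪≫ HL.isoPullback.symm, ?_⟩⟩⟩
  rw [Iso.trans_hom, Category.assoc, Iso.symm_hom, IsPullback.isoPullback_inv_snd]
  exact hc

end Groth.Agent.KS29

end
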