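import Groth.Agent.Lib.KS29.Isotypical
import Groth.Agent.Lib.ThetaGrp19.Scalar
import Groth.Agent.Lib.AbDual21.Phi

/-!
# The endomorphism ring of a rank-one isotypical module
-/

set_option autoImplicit false
set_option linter.style.haveILetI false
set_option linter.unusedSectionVars false
set_option backward.isDefEq.respectTransparency false
set_option backward.isDefEq.respectTransparency.types false
set_option maxHeartbeats 400000

universe u

open CategoryTheory CategoryTheory.Limits AlgebraicGeometry TopologicalSpace Opposite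

noncomputable section

namespace Groth.Agent.KS29

open Groth.Agent W4c1astiltbs12

attribute [local instance] Abelian.hasFiniteBiproducts

variable {k : Type u} [Field k] {X : Scheme.{u}} (p : X ⟶ Spec (CommRingCat.of k))
variable {K : Type u} [Field K] [Algebra k K]

/-- Endomorphisms of an invertible module on the base change are multiplications by scalars. -/
theorem exists_sc_of_isInvertible [IsProper p] [GeometricallyIntegral p]
    {L : (W4bk4gw11416.baseChange p K).Modules} (hL : PicF.IsInvertible L) (φ : L ⟶ L) :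
    ∃ a : K, φ = sc p K L a := by
  haveI := isProper_bc (K := K) p
  haveI : GeometricallyIntegral (W4bk4gw11416.baseChangeTo p K) :=
    MorphismProperty.pullback_snd p _ ‹GeometricallyIntegral p›
  haveI : GeometricallyConnected (W4bk4gw11416.baseChangeTo p K) :=
    ⟨fun K' _ y Y fst snd h => by
      haveI : IrreducibleSpace Y :=
        GeometricallyIrreducible.geometrically_irreducibleSpace (f := W4bk4gw11416.baseChangeTo p K) y fst snd h
      show ConnectedSpace _
      infer_instance⟩
  obtain ⟨c, hc, -⟩ := ThetaGrp19.existsUnique_smulHom hL φ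
  obtain ⟨c', hc'⟩ := (AbDual21.bijective_appTop (W4bk4gw11416.baseChangeTo p K)).2 c
  obtain ⟨a, ha⟩ := (ConcreteCategory.bijective_of_isIso (Scheme.ΓSpecIso (CommRingCat.of K)).inv).2 c'
  refine ⟨a, hc.trans ?_⟩
  rw [← hc', ← ha]
  refine Scheme.Modules.hom_ext _ _ fun V => ?_
  ext s
  rfl

theorem bcT_add_left {F G : X.Modules} (f g : F ⟶ G) (a : K) :
    bcT p (f + g) a = bcT p f a + bcT p g a := by
  simp only [bcT, Functor.map_add, Preadditive.add_comp]

/-- The endomorphism ring of an isotypical module of rank-one type is simple. -/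
theorem isSimpleRing_end [IsProper p] [GeometricallyIntegral p] {E : X.Modules} (hE : Coh.IsCoh E)
    (hE0 : ¬ IsZero E) {L : (W4bk4gw11416.baseChange p K).Modules} (hL : PicF.IsInvertible L) {r : ℕ}
    (e : bcMod p K E ≅ pow L r) : IsSimpleRing (End E) := by
  classical
  haveI : CompactSpace X := QuasiCompact.compactSpace_of_compactSpace p
  haveI : Nontrivial (End E) := nontrivial_of_ne (1 : End E) 0 fun h => hE0 ((IsZero.iff_id_eq_zero E).2 h)
  refine IsSimpleRing.of_eq_bot_or_eq_top fun I => ?_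
  by_contra! ⟨hbot, htop⟩
  obtain ⟨h, hI, hne⟩ : ∃ h, h ∈ I ∧ h ≠ 0 := by
    by_contra! hall
    exact hbot (eq_bot_iff.2 fun x hx => (TwoSidedIdeal.mem_bot _).2 (hall x hx))
  -- combinations with coefficients in the ideal
  let S : AddSubgroup (bcMod p K E ⟶ bcMod p K E) :=
    AddSubgroup.closure {ψ | ∃ (f : End E) (a : K), f ∈ I ∧ ψ = bcT p f a}
  have hleft : ∀ (g : E ⟶ E) (b : K), ∀ ψ ∈ S, bcT p g b ≫ ψ ∈ S := by
    intro g b ψ hψ
    induction hψ using AddSubgroup.closure_induction with
    | mem x hx =>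
      obtain ⟨f, a, hf, rfl⟩ := hx
      exact AddSubgroup.subset_closure ⟨g ≫ f, b * a, I.mul_mem_right f g hf, bcT_comp p _ _ _ _⟩
    | zero => rw [comp_zero]; exact zero_mem _
    | add x y _ _ hx hy => rw [Preadditive.comp_add]; exact add_mem hx hy
    | neg x _ hx => rw [Preadditive.comp_neg]; exact neg_mem hx
  have hright : ∀ (g : E ⟶ E) (b : K), ∀ ψ ∈ S, ψ ≫ bcT p g b ∈ S := by
    intro g b ψ hψ
    induction hψ using AddSubgroup.closure_induction with
    | mem x hx =>
      obtain ⟨f, a, hf, rfl⟩ := hx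
      exact AddSubgroup.subset_closure ⟨f ≫ g, a * b, I.mul_mem_left g f hf, bcT_comp p _ _ _ _⟩
    | zero => rw [zero_comp]; exact zero_mem _
    | add x y _ _ hx hy => rw [Preadditive.add_comp]; exact add_mem hx hy
    | neg x _ hx => rw [Preadditive.neg_comp]; exact neg_mem hx
  have hleft' : ∀ (φ : bcMod p K E ⟶ bcMod p K E), ∀ ψ ∈ S, φ ≫ ψ ∈ S := by
    intro φ ψ hψ
    obtain ⟨n, f, a, rfl⟩ := exists_comb p hE hE.1 φ
    rw [Preadditive.sum_comp]
    exact sum_mem fun i _ => hleft _ _ _ hψ
  have hright' : ∀ (φ : bcMod p K E ⟶ bcMod p K E), ∀ ψ ∈ S, ψ ≫ φ ∈ S := by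
    intro φ ψ hψ
    obtain ⟨n, f, a, rfl⟩ := exists_comb p hE hE.1 φ
    rw [Preadditive.comp_sum]
    exact sum_mem fun i _ => hright _ _ _ hψ
  set H := (Scheme.Modules.pullback (proj p K)).map h with hH
  have hHS : H ∈ S := AddSubgroup.subset_closure ⟨h, 1, hI, by rw [bcT, sc_one, Category.comp_id]⟩
  let d : Dec (bcMod p K E) (fun _ : Fin r => L) := Dec.ofCoproduct.trans e.symm
  obtain ⟨i, j, hij⟩ : ∃ i j, d.inj i ≫ H ≫ d.prj j ≠ 0 := by
    by_contra! hall
    refine hne (eq_zero_of_map_eq_zero (K := K) p hE.1 h ?_)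
    rw [← hH, ← Category.id_comp H, ← Category.comp_id H, ← d.total]
    simp only [Preadditive.sum_comp, Preadditive.comp_sum, Category.assoc]
    refine Finset.sum_eq_zero fun i _ => Finset.sum_eq_zero fun j _ => ?_
    rw [reassoc_of% (hall j i)]
    simp
  obtain ⟨a, ha⟩ := exists_sc_of_isInvertible p hL (d.inj i ≫ H ≫ d.prj j)
  have ha0 : a ≠ 0 := by
    rintro rfl
    refine hij (ha.trans ?_)
    rw [sc, map_zero, KLin.smulModΓ_zero]
  have hone : 𝟙 (bcMod p K E) ∈ S := by
    rw [← d.total]
    refine sum_mem fun q _ => ?_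
    have : d.prj q ≫ d.inj q = (d.prj q ≫ d.inj i) ≫ H ≫ (d.prj j ≫ d.inj q ≫ sc p K _ a⁻¹) := by
      simp only [Category.assoc]
      rw [reassoc_of% ha, comp_sc, ← Category.assoc (sc p K L a), ← sc_mul, mul_inv_cancel₀ ha0, sc_one,
        Category.id_comp]
    rw [this]
    exact hleft' _ _ (hright' _ _ hHS)
  have hrep : ∀ ψ ∈ S, ∃ (n : ℕ) (f : Fin n → End E) (a : Fin n → K), (∀ s, f s ∈ I) ∧
      ψ = ∑ s, bcT p (f s) (a s) := by
    intro ψ hψ
    induction hψ using AddSubgroup.closure_induction with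
    | mem x hx =>
      obtain ⟨f, a, hf, rfl⟩ := hx
      exact ⟨1, fun _ => f, fun _ => a, fun _ => hf, by rw [Fin.sum_univ_one]⟩
    | zero => exact ⟨0, Fin.elim0, Fin.elim0, fun s => s.elim0, by rw [Fin.sum_univ_zero]⟩
    | add x y _ _ hx hy =>
      obtain ⟨n, f, a, hf, rfl⟩ := hx
      obtain ⟨m, g, b, hg, rfl⟩ := hy
      refine ⟨n + m, Fin.append f g, Fin.append a b, fun s => ?_, ?_⟩
      · induction s using Fin.addCases with
        | left i => rw [Fin.append_left]; exact hf i
        | right i => rw [Fin.append_right]; exact hg i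
      · rw [Fin.sum_univ_add]
        simp only [Fin.append_left, Fin.append_right]
    | neg x _ hx =>
      obtain ⟨n, f, a, hf, rfl⟩ := hx
      refine ⟨n, fun s => -f s, a, fun s => I.neg_mem (hf s), ?_⟩
      rw [← Finset.sum_neg_distrib]
      refine Finset.sum_congr rfl fun s _ => ?_
      exact (map_neg (AddMonoidHom.mk' (fun f : E ⟶ E => bcT p f (a s)) fun f g => bcT_add_left p f g (a s)) (f s)).symm
  obtain ⟨n, f, b, hf, hsum⟩ := hrep _ hone
  obtain ⟨l, hl⟩ := exists_functional_one k K
  have h' : ∑ s ∈ (Finset.univ : Finset (Fin n)), bcT p (f s) (b s) =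
      ∑ _u ∈ (Finset.univ : Finset (Fin 1)), bcT p (𝟙 E) (1 : K) := by
    rw [Fin.sum_univ_one, bcT_id, ← hsum]
  have := comb_congr p hE.1 _ _ _ _ _ _ h' l
  rw [Fin.sum_univ_one, hl, sck_one, Category.id_comp] at this
  refine htop ((TwoSidedIdeal.one_mem_iff I).1 ?_)
  show (𝟙 E : End E) ∈ I
  rw [← this]
  exact sum_mem fun s _ => I.mul_mem_left (sck p E (l (b s))) (f s) (hf s)

/-- A simple ring of endomorphisms of an indecomposable object is a division ring. -/
theorem isIso_of_ne_zero [IsProper p] {E : X.Modules} (hE : Coh.IsCoh E) (hEi : Indec E) [IsSimpleRing (End E)]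
    (f : E ⟶ E) (hf : f ≠ 0) : IsIso f := by
  letI : X.Over (Spec (CommRingCat.of k)) := ⟨p⟩
  haveI : IsProper (X ↘ Spec (CommRingCat.of k)) := ‹IsProper p›
  haveI := finite_hom (k := k) hE hE
  have hd := hEi.isUnit_or_isNilpotent k
  have hmul : ∀ x y : End E, ¬ IsUnit y → ¬ IsUnit (x * y) ∧ ¬ IsUnit (y * x) := by
    intro x y hy
    obtain ⟨N, hN⟩ := (hd y).resolve_left hy
    constructor <;> intro hu <;> obtain ⟨u, hu⟩ := hu
    · obtain ⟨n, hn, hn'⟩ : ∃ n, y ^ (n + 1) = 0 ∧ y ^ n ≠ 0 := by
        classical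
        have hex : ∃ n, y ^ n = 0 := ⟨N, hN⟩
        rcases h0 : Nat.find hex with _ | n
        · have := Nat.find_spec hex; rw [h0, pow_zero] at this; exact absurd this one_ne_zero
        · exact ⟨n, h0 ▸ Nat.find_spec hex, Nat.find_min hex (by omega)⟩
      apply hn'
      have : (u : End E) * y ^ n = 0 := by rw [hu, mul_assoc, ← pow_succ', hn, mul_zero]
      exact (Units.mul_right_eq_zero u).1 this
    · obtain ⟨n, hn, hn'⟩ : ∃ n, y ^ (n + 1) = 0 ∧ y ^ n ≠ 0 := by
        classical
        have hex : ∃ n, y ^ n = 0 := ⟨N, hN⟩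
        rcases h0 : Nat.find hex with _ | n
        · have := Nat.find_spec hex; rw [h0, pow_zero] at this; exact absurd this one_ne_zero
        · exact ⟨n, h0 ▸ Nat.find_spec hex, Nat.find_min hex (by omega)⟩
      apply hn'
      have : y ^ n * (u : End E) = 0 := by rw [hu, ← mul_assoc, ← pow_succ, hn, zero_mul]
      exact (Units.mul_left_eq_zero u).1 this
  let N : TwoSidedIdeal (End E) := TwoSidedIdeal.mk' {x | ¬ IsUnit x}
    (by exact not_isUnit_zero)
    (fun {x y} hx hy hu => by
      obtain ⟨i, -, hi⟩ := hEi.exists_isUnit_of_sum k (Finset.univ : Finset Bool) (fun b => bif b then x else y)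
        (by rw [Fintype.sum_bool]; exact hu)
      cases i
      · exact hy hi
      · exact hx hi)
    (fun {x} hx hu => hx (by simpa using hu.neg))
    (fun {x y} hy => (hmul x y hy).1) (fun {x y} hx => (hmul y x hx).2)
  rcases IsSimpleRing.simple.eq_bot_or_eq_top N with hN | hN
  · rw [← isUnit_iff_isIso]
    by_contra hu
    have : (show End E from f) ∈ N := by rw [TwoSidedIdeal.mem_mk']; exact hu
    rw [hN] at this
    exact hf ((TwoSidedIdeal.mem_bot (End E)).1 this)
  · have : (1 : End E) ∈ N := by rw [hN]; trivial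
    rw [TwoSidedIdeal.mem_mk'] at this
    exact absurd isUnit_one this

end Groth.Agent.KS29
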