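import Groth.Agent.Lib.KS29.AdjLocal
import Groth.Agent.Lib.FunField.Plane

/-! # The adjoint divisor of a plane model -/

namespace Groth.Agent.KS29.AdjLocal

open MvPolynomial FunFld Groth.Agent.FunField

variable {k K : Type*} [Field k] [Field K] [Algebra k K]

theorem main_global [IsAlgClosed k] (hK : IsFunctionField k K) (x y : K)
    (hxy : IntermediateField.adjoin k ({x, y} : Set K) = ⊤)
    (f : MvPolynomial (Fin 2) k) (hf : Irreducible f) (hfxy : aeval ![x, y] f = 0)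
    (Q : Place k K) (Φ : K →ₐ[k] LaurentSeries k) (hΦ : LocRes.IsExpansionAt Q.1 Φ)
    (hne : LocRes.vDiff Φ (aeval ![x, y] (pderiv 1 f))⁻¹ x ≠ 0) :
    0 ≤ ((mapDiv k ![(1 : K), x, y]).deg - 3) * mapDiv k ![(1 : K), x, y] Q -
        LocRes.ordDiff Φ (aeval ![x, y] (pderiv 1 f))⁻¹ x ∧
    (((mapDiv k ![(1 : K), x, y]).deg - 3) * mapDiv k ![(1 : K), x, y] Q -
        LocRes.ordDiff Φ (aeval ![x, y] (pderiv 1 f))⁻¹ x = 0 ↔
      IsNonsingularAt ![(1 : K), x, y] Q) := by
  have hM : PlaneModel hK x y := ⟨hxy⟩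
  have h := ff hK
  obtain ⟨d, t, ht, hdt, hd, hv⟩ := exists_der hK Q
  rw [hv Φ hΦ, Valuation.ne_zero_iff, mul_ne_zero_iff, Ne, inv_eq_zero] at hne
  obtain ⟨hfy, hdx⟩ := hne
  set φ : Fin 3 → K := ![(1 : K), x, y] with hφ
  set e := f.totalDegree with he
  set F := PlaneIdeal.hom e f with hFdef
  have hF : F.IsHomogeneous e := PlaneIdeal.isHomogeneous_hom le_rfl
  have hFphi : aeval φ F = 0 := by
    rw [hφ, ← PlaneIdeal.aeval_deh, hFdef, PlaneIdeal.deh_hom]; exact hfxy
  have hFirr : Irreducible F := by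
    have h0 : F ≠ 0 := fun e0 => hf.ne_zero (by
      rw [← PlaneIdeal.deh_hom e f, ← hFdef, e0, map_zero])
    refine Prime.irreducible ((Ideal.span_singleton_prime h0).1 ?_)
    rw [hFdef, he, ← PlaneIdeal.ker_eq_span hM hf hfxy]
    exact RingHom.ker_isPrime _
  set g := fun l => aeval φ (pderiv l F) with hg
  -- the partial derivatives
  have hsub : ∀ G : MvPolynomial (Fin 3) k, aeval ![x, y] (PlaneIdeal.deh G) = aeval φ G := fun G =>
    PlaneIdeal.aeval_deh x y G
  have hgf : ∀ i : Fin 2, aeval ![x, y] (pderiv i f) = g i.succ := fun i => by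
    rw [← PlaneIdeal.deh_hom e f, ← hFdef, PlaneIdeal.deh, pderiv_subst, map_sum, hg]
    simp only [map_mul, ← PlaneIdeal.deh.eq_def, hsub, Fin.sum_univ_three]
    fin_cases i <;> simp [pderiv_X]
  have hdf : g 1 * d x + g 2 * d y = 0 := by
    have := congrArg d hFphi
    rw [map_zero, PlaneDiff.D_aeval, Fin.sum_univ_three] at this
    simpa [hφ] using this
  set lam := aeval ![x, y] (pderiv 1 f) / d x with hlam
  have hlam0 : lam ≠ 0 := div_ne_zero hfy hdx
  have hg2 : g 2 = lam * d x := by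
    rw [hlam, div_mul_cancel₀ _ hdx, hgf]; rfl
  have hg1 : g 1 = -(lam * d y) := by
    refine mul_right_cancel₀ hdx ?_
    linear_combination hdf - d y * hg2
  have hord : LocRes.ordDiff Φ (aeval ![x, y] (pderiv 1 f))⁻¹ x = -Q.ord lam := by
    rw [LocRes.ordDiff, hv Φ hΦ, ← ord_inv]
    show -WithZero.log (Q.1 _) = -WithZero.log (Q.1 _)
    rw [hlam, inv_div, div_eq_inv_mul]
  rw [hord, sub_neg_eq_add]
  -- the chart
  obtain ⟨j, hj⟩ := Finite.exists_max fun i => Q.1 (φ i)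
  set s := φ j with hsdef
  obtain ⟨i₀, hi₀⟩ := PlaneDiff.exists_val_eq_mapDiv h (w := φ) (i₀ := 0) rfl Q
  have hsv : Q.1 s = WithZero.exp (mapDiv k φ Q) :=
    le_antisymm (Wronskian26.val_le_exp_mapDiv h φ Q j) (hi₀ ▸ hj i₀)
  have hs : s ≠ 0 := ne_zero_of_val hsv
  have hords : Q.ord s = -mapDiv k φ Q := ord_eq_of_val_eq Q hsv
  obtain ⟨c, hc⟩ := PlaneSmooth.exists_pt hK Q hs hj
  have hbir : IntermediateField.adjoin k (Set.range fun i => φ i / φ 0) = ⊤ := by
    rw [← top_le_iff, ← hxy, IntermediateField.adjoin_le_iff]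
    rintro z (rfl | rfl)
    · exact IntermediateField.subset_adjoin k _ ⟨1, by simp [hφ]⟩
    · exact IntermediateField.subset_adjoin k _ ⟨2, by simp [hφ]⟩
  obtain ⟨htop, hfa⟩ := PlaneSmooth.setup hs (show φ 0 ≠ 0 by simp [hφ]) hbir hF hFphi
  set a : Fin 3 → K := fun i => φ i / s with ha
  -- nonsingularity
  have hns : IsNonsingularAt φ Q ↔ ∃ l, eval c (pderiv l F) ≠ 0 := by
    constructor
    · exact fun hns => hc.deriv_of_inR hK htop hFirr hF hfa fun z hz =>
        (hc.inLocRing_iff hs hj (fun _ => rfl) z).1 (hns z hz)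
    · exact fun hder z hz =>
        (hc.inLocRing_iff hs hj (fun _ => rfl) z).2 (hc.inR_of_deriv hK htop hF hfa hder hz)
  let ψ : Fin 3 → MvPolynomial (Fin 2) k := Fin.insertNth j 1 X
  set w : Fin 2 → K := fun i => a (j.succAbove i) with hw
  set c' : Fin 2 → k := fun i => c (j.succAbove i) with hc'
  have haj : a j = 1 := hc.one
  have hev : ∀ G, aeval w (aeval ψ G) = aeval a G := fun G => by
    rw [← AlgHom.comp_apply, comp_aeval]
    congr 1
    congr 1
    funext l
    obtain rfl | ⟨i, rfl⟩ := Fin.eq_self_or_eq_succAbove j l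
    · simp [ψ, haj]
    · simp [ψ, hw]
  have hevc : ∀ G, eval c' (aeval ψ G) = eval c G := fun G => by
    have e1 : eval c' (aeval ψ G) = aeval c' (aeval ψ G) := by simp [aeval_eq_eval]
    rw [e1, ← AlgHom.comp_apply, comp_aeval, ← aeval_eq_eval]
    congr 1
    congr 1
    funext l
    obtain rfl | ⟨i, rfl⟩ := Fin.eq_self_or_eq_succAbove j l
    · simp [ψ, hc.cj]
    · simp [ψ, hc']
  have hpd : ∀ i, pderiv i (aeval ψ F) = aeval ψ (pderiv (j.succAbove i) F) := fun i => by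
    rw [pderiv_subst, Fin.sum_univ_succAbove _ j]
    simp [ψ, pderiv_X, Pi.single_apply]
  have hpart : (∃ l, eval c (pderiv l F) ≠ 0) ↔ ∃ i, eval c' (pderiv i (aeval ψ F)) ≠ 0 := by
    simp only [hpd, hevc]
    refine ⟨fun hex => ?_, fun ⟨i, hi⟩ => ⟨_, hi⟩⟩
    by_contra! hall
    obtain ⟨l, hl⟩ := hex
    have heu := PlaneSmooth.euler hF c ((hc.val_lt_one_iff F).1 (by rw [hfa, map_zero]; exact zero_lt_one))
    rw [Fin.sum_univ_succAbove _ j, hc.cj, one_mul,
      Finset.sum_eq_zero (fun i _ => by rw [hall i, mul_zero]), add_zero] at heu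
    obtain rfl | ⟨i, rfl⟩ := Fin.eq_self_or_eq_succAbove j l
    · exact hl heu
    · exact hl (hall i)
  -- the new multiplier
  set R := s⁻¹ ^ ((e : ℤ) - 3) with hR
  have hR0 : R ≠ 0 := zpow_ne_zero _ (inv_ne_zero hs)
  have he1 : 1 ≤ e := by
    by_contra hlt
    have h0 : f.totalDegree = 0 := by omega
    rw [totalDegree_eq_zero_iff_eq_C.1 h0] at hfy
    simp at hfy
  have hgeu : g 0 + x * g 1 + y * g 2 = 0 := by
    have := congrArg (aeval φ) hF.sum_X_mul_pderiv
    rw [map_nsmul, hFphi, smul_zero, map_sum, Fin.sum_univ_three] at this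
    simpa [hφ] using this
  have hgR : ∀ l, aeval a (pderiv l F) = g l * (s⁻¹ ^ 2 * R) := fun l => by
    have e2 : a = fun i => φ i * s⁻¹ := funext fun i => div_eq_mul_inv _ _
    rw [e2, PlaneIdeal.aeval_mul_homogeneous hF.pderiv, hR, ← zpow_natCast _ 2, ← zpow_add₀ (inv_ne_zero hs),
      ← zpow_natCast]
    congr 2
    omega
  have hchart : ∃ ε : K, (ε = 1 ∨ ε = -1) ∧
      g (j.succAbove 0) * (s⁻¹ ^ 2 * R) = -(ε * (lam * R) * d (w 1)) ∧
      g (j.succAbove 1) * (s⁻¹ ^ 2 * R) = ε * (lam * R) * d (w 0) := by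
    obtain rfl | rfl | rfl : j = 0 ∨ j = 1 ∨ j = 2 := by fin_cases j <;> simp
    · have hs1 : s = 1 := by simp [hsdef, hφ]
      refine ⟨1, Or.inl rfl, ?_, ?_⟩
      · show g 1 * _ = -(_ * d (a 2))
        rw [hg1, show a 2 = y by simp [ha, hφ, hs1], hs1]; ring
      · show g 2 * _ = _ * d (a 1)
        rw [hg2, show a 1 = x by simp [ha, hφ, hs1], hs1]; ring
    · have hs1 : s = x := by simp [hsdef, hφ]
      refine ⟨-1, Or.inr rfl, ?_, ?_⟩
      · show g 0 * _ = -(_ * d (a 2))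
        rw [show a 2 = y / x by simp [ha, hφ, hs1], hs1, Derivation.leibniz_div,
          show g 0 = -(x * g 1) - y * g 2 by linear_combination hgeu, hg1, hg2]
        simp only [smul_eq_mul]
        have hx0 : x ≠ 0 := hs1 ▸ hs
        field_simp
      · show g 2 * _ = _ * d (a 0)
        rw [show a 0 = x⁻¹ by simp [ha, hφ, hs1], hs1, Derivation.leibniz_inv, hg2]
        simp only [smul_eq_mul]
        ring
    · have hs1 : s = y := by simp [hsdef, hφ]
      refine ⟨1, Or.inl rfl, ?_, ?_⟩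
      · show g 0 * _ = -(_ * d (a 1))
        rw [show a 1 = x / y by simp [ha, hφ, hs1], hs1, Derivation.leibniz_div,
          show g 0 = -(x * g 1) - y * g 2 by linear_combination hgeu, hg1, hg2]
        simp only [smul_eq_mul]
        have hy0 : y ≠ 0 := hs1 ▸ hs
        field_simp
        ring
      · show g 1 * _ = _ * d (a 0)
        rw [show a 0 = y⁻¹ by simp [ha, hφ, hs1], hs1, Derivation.leibniz_inv, hg1]
        simp only [smul_eq_mul]
        ring
  obtain ⟨ε, hε, hc0, hc1⟩ := hchart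
  set lam' := ε * (lam * R) with hlam'
  have hvε : Q.1 lam' = Q.1 (lam * R) := by
    rcases hε with rfl | rfl <;> simp [hlam']
  have hlam'0 : lam' ≠ 0 := fun e0 => by
    rw [e0, map_zero] at hvε
    exact mul_ne_zero hlam0 hR0 ((map_eq_zero _).1 hvε.symm)
  have E : Eqn Q d w c' (aeval ψ F) lam' := by
    refine ⟨?_, fun i => hc.near _, by rw [hev, hfa], by rw [hpd, hev, hgR, hc0], by rw [hpd, hev, hgR, hc1]⟩
    rw [← top_le_iff, ← htop, IntermediateField.adjoin_le_iff]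
    rintro _ ⟨l, rfl⟩
    obtain rfl | ⟨i, rfl⟩ := Fin.eq_self_or_eq_succAbove j l
    · show a _ ∈ _
      rw [haj]; exact one_mem _
    · exact IntermediateField.subset_adjoin k _ ⟨i, rfl⟩
  obtain ⟨hle, hiff⟩ := E.main hK hlam'0 ht hdt hd
  rw [hvε] at hle hiff
  have hdeg : (mapDiv k φ).deg = (e : ℤ) := (hM.deg_eq hf hfxy).1
  have hC : ((mapDiv k φ).deg - 3) * mapDiv k φ Q + Q.ord lam = Q.ord (lam * R) := by
    rw [ord_mul Q hlam0 hR0, hR, ord_zpow, ord_inv, hords, hdeg]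
    ring
  rw [hC, hns, hpart, ← hiff, (ord_nonneg_iff Q _)]
  refine ⟨hle, ?_⟩
  constructor
  · intro h0
    rw [val_eq_exp_neg_ord Q (mul_ne_zero hlam0 hR0), h0, neg_zero, WithZero.exp_zero]
  · intro h1
    rw [ord_eq_of_val_eq Q (n := 0) (by rw [h1, WithZero.exp_zero]), neg_zero]

end Groth.Agent.KS29.AdjLocal
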