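import Groth.Agent.Lib.FunField.PlaneSmooth26
import Groth.Agent.Lib.FunField.PlaneAdj26

/-! # Orders of the differential `dx / f_y` at points of an affine plane curve -/

namespace Groth.Agent.KS29.AdjLocal

open MvPolynomial FunFld Groth.Agent.FunField
open scoped Multiplicative
open WithZero (exp)

variable {k K : Type*} [Field k] [Field K] [Algebra k K]

/-- `h(w) = 0` is an affine equation around the point `c`, with `dw₀ / h₁ = 1 / lam`. -/
structure Eqn (P : Place k K) (d : Derivation k K K) (w : Fin 2 → K) (c : Fin 2 → k)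
    (h : MvPolynomial (Fin 2) k) (lam : K) : Prop where
  top : IntermediateField.adjoin k (Set.range w) = ⊤
  near : ∀ i, P.1 (w i - algebraMap k K (c i)) < 1
  rel : aeval w h = 0
  e0 : aeval w (pderiv 0 h) = -(lam * d (w 1))
  e1 : aeval w (pderiv 1 h) = lam * d (w 0)

theorem pderiv_subst {σ τ : Type*} [Fintype σ] (g : σ → MvPolynomial τ k) (f : MvPolynomial σ k) (j : τ) :
    pderiv j (aeval g f) = ∑ i, aeval g (pderiv i f) * pderiv j (g i) := by
  classical
  induction f using MvPolynomial.induction_on with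
  | C a => simp
  | add p q hp hq =>
    rw [map_add, map_add, hp, hq, ← Finset.sum_add_distrib]
    exact Finset.sum_congr rfl fun i _ => by rw [map_add, map_add, add_mul]
  | mul_X p l hp =>
    rw [map_mul, aeval_X, pderiv_mul, hp, Finset.sum_mul]
    simp only [pderiv_mul, map_add, map_mul, aeval_X, add_mul, Finset.sum_add_distrib, pderiv_X]
    congr 1
    · exact Finset.sum_congr rfl fun i _ => by ring
    · simp [Pi.single_apply]

section near

variable {P : Place k K} {σ : Type*} {w : σ → K} {c : σ → k}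
  (hw : ∀ i, P.1 (w i - algebraMap k K (c i)) < 1)

include hw

theorem val_aeval_le (p : MvPolynomial σ k) : P.1 (aeval w p) ≤ 1 := by
  induction p using MvPolynomial.induction_on with
  | C x => rw [aeval_C]; exact P.2.1 x
  | add p q hp hq => rw [map_add]; exact (P.1.map_add _ _).trans (max_le hp hq)
  | mul_X p i hp =>
    rw [map_mul, aeval_X, map_mul]
    refine mul_le_one' hp ?_
    rw [← sub_add_cancel (w i) (algebraMap k K (c i))]
    exact (P.1.map_add _ _).trans (max_le (hw i).le (P.2.1 _))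

theorem near_eval (p : MvPolynomial σ k) :
    P.1 (aeval w p - algebraMap k K (eval c p)) < 1 := by
  induction p using MvPolynomial.induction_on with
  | C x => simp
  | add p q hp hq =>
    rw [map_add, map_add, map_add, add_sub_add_comm]
    exact (P.1.map_add _ _).trans_lt (max_lt hp hq)
  | mul_X p i hp =>
    rw [map_mul, aeval_X, map_mul, eval_X, map_mul,
      show aeval w p * w i - algebraMap k K (eval c p) * algebraMap k K (c i) =
        (aeval w p - algebraMap k K (eval c p)) * w i +
        algebraMap k K (eval c p) * (w i - algebraMap k K (c i)) by ring]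
    refine (P.1.map_add _ _).trans_lt (max_lt ?_ ?_)
    · rw [map_mul]
      refine (mul_le_of_le_one_right' ?_).trans_lt hp
      simpa using val_aeval_le hw (X i)
    · rw [map_mul]; exact (mul_le_of_le_one_left' (P.2.1 _)).trans_lt (hw i)

theorem val_lt_one_of_zero {p : MvPolynomial σ k} (h0 : eval c p = 0) : P.1 (aeval w p) < 1 := by
  have := near_eval hw p
  rwa [h0, map_zero, sub_zero] at this

theorem eval_eq_zero_of_lt {p : MvPolynomial σ k} (hlt : P.1 (aeval w p) < 1) : eval c p = 0 := by
  by_contra h0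
  have h1 := P.1.map_sub (aeval w p) (aeval w p - algebraMap k K (eval c p))
  rw [sub_sub_cancel, val_const P h0] at h1
  exact absurd h1 (not_le.2 (max_lt hlt (near_eval hw p)))

theorem val_eq_one_of_ne {p : MvPolynomial σ k} (h0 : eval c p ≠ 0) : P.1 (aeval w p) = 1 :=
  le_antisymm (val_aeval_le hw p) (not_lt.1 fun hlt => h0 (eval_eq_zero_of_lt hw hlt))

end near

variable {P : Place k K} {d : Derivation k K K} {w : Fin 2 → K} {c : Fin 2 → k}
  {h : MvPolynomial (Fin 2) k} {lam : K}

theorem Eqn.eval_zero (E : Eqn P d w c h lam) : eval c h = 0 :=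
  eval_eq_zero_of_lt E.near (by rw [E.rel, map_zero]; exact zero_lt_one)

theorem Eqn.swap (E : Eqn P d w c h lam) :
    Eqn P d (w ∘ Equiv.swap 0 1) (c ∘ Equiv.swap 0 1) (rename (Equiv.swap 0 1) h) (-lam) := by
  have hss : ((Equiv.swap 0 1 : Fin 2 ≃ Fin 2) : Fin 2 → Fin 2) ∘ Equiv.swap 0 1 = id :=
    funext fun i => Equiv.swap_apply_self _ _ i
  have hp : ∀ i, aeval (w ∘ Equiv.swap 0 1) (pderiv (Equiv.swap 0 1 i) (rename (Equiv.swap 0 1) h)) =
      aeval w (pderiv i h) := fun i => by
    rw [pderiv_rename (Equiv.injective _), aeval_rename, Function.comp_assoc, hss, Function.comp_id]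
  refine ⟨?_, fun i => E.near _, ?_, ?_, ?_⟩
  · rw [(Equiv.swap (0 : Fin 2) 1).surjective.range_comp]; exact E.top
  · rw [aeval_rename, Function.comp_assoc, hss, Function.comp_id]; exact E.rel
  · have := hp 1
    rw [Equiv.swap_apply_right, E.e1] at this
    simp [this]
  · have := hp 0
    rw [Equiv.swap_apply_left, E.e0] at this
    simp [this]

theorem eval_pderiv_swap (c : Fin 2 → k) (h : MvPolynomial (Fin 2) k) (i : Fin 2) :
    eval (c ∘ Equiv.swap 0 1) (pderiv (Equiv.swap 0 1 i) (rename (Equiv.swap 0 1) h)) =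
      eval c (pderiv i h) := by
  rw [pderiv_rename (Equiv.injective _), eval_rename, Function.comp_assoc,
    show ((Equiv.swap 0 1 : Fin 2 ≃ Fin 2) : Fin 2 → Fin 2) ∘ Equiv.swap 0 1 = id from
      funext fun i => Equiv.swap_apply_self _ _ i, Function.comp_id]

section smooth

variable {t : K} (ht : P.1 t = exp (-1)) (hdt : d t = 1) (hd : ∀ z, P.1 z ≤ 1 → P.1 (d z) ≤ 1)

include ht hdt hd

/-- At a smooth point `dw₀` is a generator of the differentials, if `h₁ ≠ 0` there. -/
theorem Eqn.val_one_of_pderiv_one (E : Eqn P d w c h lam) (hne : eval c (pderiv 1 h) ≠ 0) :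
    P.1 lam = 1 := by
  obtain ⟨q, hq⟩ := PlaneSmooth.exists_decomp c h
  rw [PlaneSmooth.pderiv_decomp c h q hq] at hne
  rw [E.eval_zero, map_zero, sub_zero, Fin.sum_univ_two] at hq
  have h0 : (w 0 - algebraMap k K (c 0)) * aeval w (q 0) + (w 1 - algebraMap k K (c 1)) * aeval w (q 1) = 0 := by
    have := congrArg (aeval w) hq
    rw [E.rel] at this
    simpa using this.symm
  set a := w 0 - algebraMap k K (c 0) with ha
  set b := w 1 - algebraMap k K (c 1)
  have hv1 : P.1 (aeval w (pderiv 1 h)) = 1 := val_eq_one_of_ne E.near (by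
    rw [PlaneSmooth.pderiv_decomp c h q (by
      rw [E.eval_zero, map_zero, sub_zero, Fin.sum_univ_two]; exact hq)]
    exact hne)
  have hq1 : aeval w (q 1) ≠ 0 := fun e => by
    have := val_eq_one_of_ne E.near hne
    rw [e, map_zero] at this
    exact zero_ne_one this
  have ha0 : a ≠ 0 := by
    intro e
    have : d (w 0) = 0 := by
      rw [← sub_add_cancel (w 0) (algebraMap k K (c 0)), ← ha, e, zero_add, Derivation.map_algebraMap]
    rw [E.e1, this, mul_zero, map_zero] at hv1
    exact zero_ne_one hv1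
  have hA : 0 < P.ord a := (val_lt_one_iff' P ha0).1 (E.near 0)
  have hu : P.ord (aeval w (q 1)) = 0 := ord_eq_of_val_eq P (n := 0) (by
    rw [WithZero.exp_zero]; exact val_eq_one_of_ne E.near hne)
  have key : ∀ N : ℕ, ∀ p : MvPolynomial (Fin 2) k, aeval w p ≠ 0 → (P.ord (aeval w p)).toNat = N →
      P.ord a ∣ P.ord (aeval w p) := by
    intro N
    induction N using Nat.strong_induction_on with
    | _ N ih =>
      intro p hp hN
      by_cases hpc : eval c p = 0
      · obtain ⟨r, hr⟩ := PlaneSmooth.exists_decomp c p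
        rw [hpc, map_zero, sub_zero, Fin.sum_univ_two] at hr
        have h1 : aeval w p = a * aeval w (r 0) + b * aeval w (r 1) := by
          have := congrArg (aeval w) hr
          simpa using this
        set R := r 0 * q 1 - r 1 * q 0 with hR
        have e : aeval w p * aeval w (q 1) = a * aeval w R := by
          rw [h1, hR, map_sub, map_mul, map_mul]
          linear_combination (aeval w (r 1)) * h0
        have hR0 : aeval w R ≠ 0 := fun e0 => by
          rw [e0, mul_zero] at e
          exact mul_ne_zero hp hq1 e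
        have ho := congrArg P.ord e
        rw [ord_mul P hp hq1, ord_mul P ha0 hR0, hu, add_zero] at ho
        have hR1 : 0 ≤ P.ord (aeval w R) := (ord_nonneg_iff P _).2 (val_aeval_le E.near R)
        rw [ho]
        exact dvd_add (dvd_refl _) (ih _ (by omega) R hR0 rfl)
      · rw [ord_eq_of_val_eq P (x := aeval w p) (n := 0) (by rw [WithZero.exp_zero]; exact val_eq_one_of_ne E.near hpc),
          neg_zero]
        exact dvd_zero _
  obtain ⟨r, s, hrs⟩ := (IntermediateField.mem_adjoin_range_iff k w t).1 (E.top ▸ IntermediateField.mem_top)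
  have ht0 : t ≠ 0 := fun e => by rw [e, map_zero] at ht; exact WithZero.exp_ne_zero ht.symm
  have hr0 : aeval w r ≠ 0 := fun e => ht0 (by rw [hrs, e, zero_div])
  have hs0 : aeval w s ≠ 0 := fun e => ht0 (by rw [hrs, e, div_zero])
  have hA1 : P.ord a = 1 := by
    have h2 : P.ord a ∣ P.ord t := by
      rw [hrs, ord_div P hr0 hs0]
      exact dvd_sub (key _ r hr0 rfl) (key _ s hs0 rfl)
    rw [ord_eq_of_val_eq P ht, neg_neg] at h2
    exact Int.eq_one_of_dvd_one hA.le h2
  have hva : P.1 a = exp (-1) := by rw [val_eq_exp_neg_ord P ha0, hA1]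
  have hda : P.1 (d (w 0)) = 1 := by
    set u := a / t
    have hu1 : P.1 u = 1 := by rw [map_div₀, hva, ht, div_self WithZero.exp_ne_zero]
    have e : d (w 0) = u + t * d u := by
      have : w 0 = t * u + algebraMap k K (c 0) := by
        rw [mul_div_cancel₀ _ ht0, ha, sub_add_cancel]
      rw [this, map_add, Derivation.map_algebraMap, add_zero, Derivation.leibniz, hdt, smul_eq_mul,
        smul_eq_mul, mul_one, add_comm]
    rw [e, Valuation.map_add_eq_of_lt_left, hu1]
    rw [hu1, map_mul]
    exact (mul_le_of_le_one_right' (hd u hu1.le)).trans_lt (by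
      rw [ht, ← WithZero.exp_zero, WithZero.exp_lt_exp]; norm_num)
  rw [E.e1, map_mul, hda, mul_one] at hv1
  exact hv1

theorem Eqn.val_one_of_smooth (E : Eqn P d w c h lam) (hne : ∃ i, eval c (pderiv i h) ≠ 0) :
    P.1 lam = 1 := by
  obtain ⟨i, hi⟩ := hne
  fin_cases i
  · have h1 := eval_pderiv_swap c h 0
    rw [Equiv.swap_apply_left] at h1
    have := E.swap.val_one_of_pderiv_one ht hdt hd (h1.trans_ne hi)
    rwa [Valuation.map_neg] at this
  · exact E.val_one_of_pderiv_one ht hdt hd hi

end smooth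

/-- Blowing up the point `c`. -/
theorem Eqn.blowup [IsAlgClosed k] (hK : IsFunctionField k K) (E : Eqn P d w c h lam)
    (hsing : ∀ i, eval c (pderiv i h) = 0) (ha : w 0 - algebraMap k K (c 0) ≠ 0)
    (hle : P.1 (w 1 - algebraMap k K (c 1)) ≤ P.1 (w 0 - algebraMap k K (c 0))) :
    ∃ (y : K) (c' : Fin 2 → k) (h' : MvPolynomial (Fin 2) k),
      Eqn P d ![w 0, y] c' h' (lam / (w 0 - algebraMap k K (c 0))) ∧ P.1 y ≤ 1 ∧
      aeval ![w 0, y] (pderiv 1 h') = aeval w (pderiv 1 h) / (w 0 - algebraMap k K (c 0)) ∧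
      aeval ![w 0, y] (pderiv 0 h') = (aeval w (pderiv 0 h) + y * aeval w (pderiv 1 h)) /
        (w 0 - algebraMap k K (c 0)) ^ 2 := by
  obtain ⟨q, hq⟩ := PlaneSmooth.exists_decomp c h
  obtain ⟨q0, hq0⟩ := PlaneSmooth.exists_decomp c (q 0)
  obtain ⟨q1, hq1⟩ := PlaneSmooth.exists_decomp c (q 1)
  rw [← PlaneSmooth.pderiv_decomp c h q hq, hsing, map_zero, sub_zero, Fin.sum_univ_two] at hq0 hq1
  rw [E.eval_zero, map_zero, sub_zero, Fin.sum_univ_two] at hq
  set a := w 0 - algebraMap k K (c 0) with ha'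
  set y := (w 1 - algebraMap k K (c 1)) / a with hy
  have hy1 : P.1 y ≤ 1 := by
    rw [map_div₀, div_le_one₀ (zero_lt_iff.2 ((Valuation.ne_zero_iff _).2 ha))]; exact hle
  obtain ⟨c2, hc2⟩ := exists_const_near (ff hK) P hy1
  let g : Fin 2 → MvPolynomial (Fin 2) k := ![X 0, C (c 1) + (X 0 - C (c 0)) * X 1]
  set h' := aeval g (q0 0) + X 1 * aeval g (q0 1 + q1 0) + X 1 ^ 2 * aeval g (q1 1) with hh'
  have hg : aeval g h = (X 0 - C (c 0)) ^ 2 * h' := by
    rw [hh', hq, hq0, hq1]
    simp only [g, map_add, map_mul, map_sub, aeval_X, aeval_C, MvPolynomial.algebraMap_eq,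
      Matrix.cons_val_zero, Matrix.cons_val_one]
    ring
  have hw : ∀ p, aeval ![w 0, y] (aeval g p) = aeval w p := fun p => by
    rw [← AlgHom.comp_apply, comp_aeval]
    congr 1
    congr 1
    funext i
    fin_cases i
    · simp [g]
    · have e : a * y = w 1 - algebraMap k K (c 1) := by rw [hy, mul_div_cancel₀ _ ha]
      simp only [g, Fin.mk_one, Fin.isValue, Matrix.cons_val_one, Matrix.cons_val_fin_one, map_add,
        map_mul, map_sub, aeval_X, aeval_C, Matrix.cons_val_zero, ← ha', e]
      ring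
  have hrel : aeval ![w 0, y] h' = 0 := by
    have := congrArg (aeval ![w 0, y]) hg
    rw [hw, E.rel] at this
    simp only [map_mul, map_pow, map_sub, aeval_X, aeval_C, Matrix.cons_val_zero, ← ha'] at this
    exact (mul_eq_zero.1 this.symm).resolve_left (pow_ne_zero 2 ha)
  have hd1 : aeval ![w 0, y] (pderiv 1 h') = aeval w (pderiv 1 h) / a := by
    have := congrArg (fun p => aeval ![w 0, y] (pderiv 1 p)) hg
    simp only [pderiv_subst, Fin.sum_univ_two, map_add, map_mul, hw, pderiv_mul, pow_two] at this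
    simp [g, pderiv_X, hrel, ← ha'] at this
    field_simp
    refine mul_left_cancel₀ ha ?_
    linear_combination -this
  have hd0 : aeval ![w 0, y] (pderiv 0 h') =
      (aeval w (pderiv 0 h) + y * aeval w (pderiv 1 h)) / a ^ 2 := by
    have := congrArg (fun p => aeval ![w 0, y] (pderiv 0 p)) hg
    simp only [pderiv_subst, Fin.sum_univ_two, map_add, map_mul, hw, pderiv_mul, pow_two] at this
    simp [g, pderiv_X, hrel, ← ha'] at this
    field_simp
    linear_combination -this
  have hdw : d (w 1) = y * d (w 0) + a * d y := by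
    have : w 1 = a * y + algebraMap k K (c 1) := by rw [hy, mul_div_cancel₀ _ ha, sub_add_cancel]
    rw [this, map_add, Derivation.map_algebraMap, add_zero, Derivation.leibniz, ha', map_sub,
      Derivation.map_algebraMap, sub_zero, smul_eq_mul, smul_eq_mul]
    ring
  refine ⟨y, ![c 0, c2], h', ⟨?_, ?_, hrel, ?_, ?_⟩, hy1, hd1, hd0⟩
  · rw [← top_le_iff, ← E.top, IntermediateField.adjoin_le_iff]
    rintro _ ⟨i, rfl⟩
    have h0 : w 0 ∈ IntermediateField.adjoin k (Set.range ![w 0, y]) :=
      IntermediateField.subset_adjoin k _ ⟨0, rfl⟩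
    have h1 : y ∈ IntermediateField.adjoin k (Set.range ![w 0, y]) :=
      IntermediateField.subset_adjoin k _ ⟨1, rfl⟩
    have hc : ∀ r : k, algebraMap k K r ∈ IntermediateField.adjoin k (Set.range ![w 0, y]) :=
      IntermediateField.algebraMap_mem _
    fin_cases i
    · exact h0
    · show w 1 ∈ _
      rw [show w 1 = a * y + algebraMap k K (c 1) by rw [hy, mul_div_cancel₀ _ ha, sub_add_cancel]]
      exact add_mem (mul_mem (sub_mem h0 (hc _)) h1) (hc _)
  · intro i
    fin_cases i
    · exact E.near 0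
    · exact hc2
  · rw [hd0, E.e0, E.e1, hdw]
    simp only [Matrix.cons_val_one, Matrix.cons_val_fin_one]
    field_simp
    ring
  · rw [hd1, E.e1]
    simp only [Matrix.cons_val_zero]
    ring

theorem Eqn.le_aux [IsAlgClosed k] (hK : IsFunctionField k K) {t : K} (ht : P.1 t = exp (-1))
    (hdt : d t = 1) (hd : ∀ z, P.1 z ≤ 1 → P.1 (d z) ≤ 1) (n : ℕ) :
    ∀ {w : Fin 2 → K} {c : Fin 2 → k} {h : MvPolynomial (Fin 2) k} {lam : K}, Eqn P d w c h lam →
      (∃ i, exp (-(n : ℤ)) ≤ P.1 (aeval w (pderiv i h))) →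
      P.1 lam ≤ 1 ∧ ((∀ i, eval c (pderiv i h) = 0) → P.1 lam < 1) := by
  induction n with
  | zero =>
    intro w c h lam E ⟨i, hi⟩
    have hne : eval c (pderiv i h) ≠ 0 := fun h0 => by
      rw [Nat.cast_zero, neg_zero, WithZero.exp_zero] at hi
      exact absurd hi (not_le.2 (val_lt_one_of_zero E.near h0))
    exact ⟨(E.val_one_of_smooth ht hdt hd ⟨i, hne⟩).le, fun hall => absurd (hall i) hne⟩
  | succ n ih =>
    suffices key : ∀ {w : Fin 2 → K} {c : Fin 2 → k} {h : MvPolynomial (Fin 2) k} {lam : K},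
        Eqn P d w c h lam → (∃ i, exp (-((n + 1 : ℕ) : ℤ)) ≤ P.1 (aeval w (pderiv i h))) →
        (∀ i, eval c (pderiv i h) = 0) →
        P.1 (w 1 - algebraMap k K (c 1)) ≤ P.1 (w 0 - algebraMap k K (c 0)) → P.1 lam < 1 by
      intro w c h lam E hb
      have hlt : (∀ i, eval c (pderiv i h) = 0) → P.1 lam < 1 := by
        intro hall
        rcases le_total (P.1 (w 1 - algebraMap k K (c 1))) (P.1 (w 0 - algebraMap k K (c 0))) with hle | hle
        · exact key E hb hall hle
        · obtain ⟨i, hi⟩ := hb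
          have := key E.swap ⟨Equiv.swap 0 1 i, by
            rwa [pderiv_rename (Equiv.injective _), aeval_rename, Function.comp_assoc,
              show ((Equiv.swap 0 1 : Fin 2 ≃ Fin 2) : Fin 2 → Fin 2) ∘ Equiv.swap 0 1 = id from
                funext fun i => Equiv.swap_apply_self _ _ i, Function.comp_id]⟩
            (fun i => by
              rw [← Equiv.swap_apply_self 0 1 i, eval_pderiv_swap]; exact hall _)
            (by simpa using hle)
          rwa [Valuation.map_neg] at this
      refine ⟨?_, hlt⟩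
      by_cases hall : ∀ i, eval c (pderiv i h) = 0
      · exact (hlt hall).le
      · exact (E.val_one_of_smooth ht hdt hd (not_forall.1 hall)).le
    intro w c h lam E hb hall hle
    set a := w 0 - algebraMap k K (c 0) with ha'
    have ha : a ≠ 0 := by
      intro e
      have h0 : d (w 0) = 0 := by
        rw [← sub_add_cancel (w 0) (algebraMap k K (c 0)), ← ha', e, zero_add, Derivation.map_algebraMap]
      have h1 : d (w 1) = 0 := by
        rw [e, map_zero, le_zero_iff, map_eq_zero] at hle
        rw [← sub_add_cancel (w 1) (algebraMap k K (c 1)), hle, zero_add, Derivation.map_algebraMap]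
      obtain ⟨i, hi⟩ := hb
      have : aeval w (pderiv i h) = 0 := by
        fin_cases i
        · show aeval w (pderiv 0 h) = 0
          rw [E.e0, h1, mul_zero, neg_zero]
        · show aeval w (pderiv 1 h) = 0
          rw [E.e1, h0, mul_zero]
      rw [this, map_zero] at hi
      exact absurd hi (not_le.2 WithZero.exp_pos)
    have hva : P.1 a < 1 := E.near 0
    have hva0 : (0 : WithZero (Multiplicative ℤ)) < P.1 a := zero_lt_iff.2 ((Valuation.ne_zero_iff _).2 ha)
    obtain ⟨y, c', h', E', hy, e1, e0⟩ := E.blowup hK hall ha hle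
    have hne : exp (-(n : ℤ)) * P.1 a ≤ exp (-((n + 1 : ℕ) : ℤ)) := by
      refine (mul_le_mul' le_rfl ((lt_one_iff_le _).1 hva)).trans_eq ?_
      rw [← WithZero.exp_add]; push_cast; congr 1; ring
    have hb' : ∃ i, exp (-(n : ℤ)) ≤ P.1 (aeval ![w 0, y] (pderiv i h')) := by
      by_cases h1 : exp (-((n + 1 : ℕ) : ℤ)) ≤ P.1 (aeval w (pderiv 1 h))
      · refine ⟨1, ?_⟩
        rw [e1, map_div₀, le_div_iff₀ hva0]
        exact hne.trans h1
      · obtain ⟨i, hi⟩ := hb
        have hi0 : exp (-((n + 1 : ℕ) : ℤ)) ≤ P.1 (aeval w (pderiv 0 h)) := by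
          fin_cases i
          · exact hi
          · exact absurd hi h1
        refine ⟨0, ?_⟩
        rw [e0, map_div₀, map_pow, le_div_iff₀ (pow_pos hva0 2), Valuation.map_add_eq_of_lt_left _ (by
          rw [map_mul]
          exact (mul_le_of_le_one_left' hy).trans_lt ((not_le.1 h1).trans_le hi0))]
        refine le_trans ?_ (hne.trans hi0)
        rw [pow_two, ← mul_assoc]
        exact mul_le_of_le_one_right' hva.le
    have h2 := (ih E' hb').1
    rw [map_div₀, div_le_one₀ hva0] at h2
    exact h2.trans_lt hva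

theorem Eqn.main [IsAlgClosed k] (hK : IsFunctionField k K) (E : Eqn P d w c h lam) (hlam : lam ≠ 0)
    {t : K} (ht : P.1 t = exp (-1)) (hdt : d t = 1) (hd : ∀ z, P.1 z ≤ 1 → P.1 (d z) ≤ 1) :
    P.1 lam ≤ 1 ∧ (P.1 lam = 1 ↔ ∃ i, eval c (pderiv i h) ≠ 0) := by
  have hne : ∃ i, aeval w (pderiv i h) ≠ 0 := by
    by_contra! hall
    have h0 : d (w 0) = 0 := by simpa [E.e1, hlam] using hall 1
    have h1 : d (w 1) = 0 := by simpa [E.e0, hlam] using hall 0
    have hp : ∀ p, d (aeval w p) = 0 := fun p => by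
      rw [PlaneDiff.D_aeval, Fin.sum_univ_two, h0, h1, smul_zero, smul_zero, add_zero]
    obtain ⟨r, s, hrs⟩ := (IntermediateField.mem_adjoin_range_iff k w t).1 (E.top ▸ IntermediateField.mem_top)
    rw [hrs, Derivation.leibniz_div, hp, hp] at hdt
    simp at hdt
  obtain ⟨i, hi⟩ := hne
  have hb : exp (-((P.ord (aeval w (pderiv i h))).toNat : ℤ)) ≤ P.1 (aeval w (pderiv i h)) := by
    rw [val_eq_exp_neg_ord P hi, WithZero.exp_le_exp]
    omega
  obtain ⟨hle, hlt⟩ := E.le_aux hK ht hdt hd _ ⟨i, hb⟩
  refine ⟨hle, fun h1 => ?_, E.val_one_of_smooth ht hdt hd⟩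
  by_contra! hall
  exact (hlt hall).ne h1

/-- A derivation computing orders of differentials at `P`. -/
theorem exists_der [IsAlgClosed k] (hK : IsFunctionField k K) (P : Place k K) :
    ∃ (d : Derivation k K K) (t : K), P.1 t = exp (-1) ∧ d t = 1 ∧ (∀ z, P.1 z ≤ 1 → P.1 (d z) ≤ 1) ∧
      ∀ Φ : K →ₐ[k] LaurentSeries k, LocRes.IsExpansionAt P.1 Φ →
        ∀ a z, LocRes.vDiff Φ a z = P.1 (a * d z) := by
  have h := ff hK
  obtain ⟨t, -, ht⟩ := exists_uniformizer P
  have hs := Wronskian26.sep_uniformizer h P ht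
  refine ⟨Derivation.mk'
    { toFun := Wronskian26.der h hs
      map_add' := Wronskian26.der_add h hs
      map_smul' := fun c z => by
        rw [Algebra.smul_def, Wronskian26.der_mul, Wronskian26.der_const, mul_zero, add_zero,
          RingHom.id_apply, Algebra.smul_def] }
    (fun z w => Wronskian26.der_mul h hs z w), t, ht, Wronskian26.der_self h hs, fun z hz =>
      Wronskian26.val_hasseD_le h P ht (Wronskian26.exists_hasse h hs).choose_spec hz 1,
    fun Φ hΦ a z => Wronskian26.vDiff_eq h P hΦ ht a z⟩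

end Groth.Agent.KS29.AdjLocal
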