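import Groth.Agent.Lib.PicPn.Family
import Groth.Agent.Lib.PicPn.Aut

/-!
# `O(1)` is fixed by the automorphisms of projective space over an Artinian base
-/

set_option autoImplicit false
set_option linter.style.haveILetI false
set_option linter.unusedSectionVars false
set_option backward.isDefEq.respectTransparency false
set_option maxHeartbeats 400000

universe u

open CategoryTheory CategoryTheory.Limits AlgebraicGeometry TopologicalSpace Opposite

noncomputable section

namespace Groth.Agent.KS29

open Groth.Agent PicPn M1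

/-- `1` generates the structure module. -/
theorem isGen_one {S : Scheme.{u}} (U : S.Opens) : Twist.IsGen (Coh.structureModule S) U (M1.one U) := fun V hV => by
  rw [M1.mres_one hV]
  refine ⟨fun a b h => ?_, fun b => ⟨(show Γ(S, V) from b), mul_one (show Γ(S, V) from b)⟩⟩
  exact (mul_one (show Γ(S, V) from a)).symm.trans (h.trans (mul_one (show Γ(S, V) from b)))

/-- An invertible module on a scheme with discrete topology is trivial. -/
theorem nonempty_iso_structure_of_discrete {S : Scheme.{u}} [DiscreteTopology S] {N : S.Modules}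
    (hN : PicF.IsInvertible N) : Nonempty (N ≅ Coh.structureModule S) := by
  let U : S → S.Opens := fun s => ⟨{s}, isOpen_discrete _⟩
  choose D g hD hgen using fun s : S => ProjUP.exists_isGen_of_invertible hN s
  have hle : ∀ s, U s ≤ D s := fun s x hx => by
    obtain rfl : x = s := hx
    exact hD x
  have hcov : ⨆ s, U s = ⊤ := top_le_iff.1 fun x _ => Opens.mem_iSup.2 ⟨x, rfl⟩
  refine ⟨(Twist.exists_iso_of_gen U hcov (fun s => mres N (hle s) (g s))
    (fun s => M1.one (U s)) (fun s => (hgen s).mres (hle s)) (fun s => isGen_one (U s)) ?_).choose⟩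
  intro i j W hi hj t ht
  by_cases hij : i = j
  · subst hij
    obtain rfl : t = 1 := ((hgen i).mres (hle i) W hi).1 (ht.symm.trans (one_smul _ _).symm).symm.symm
    exact (one_smul Γ(S, W) _).symm
  · obtain rfl : W = ⊥ := le_bot_iff.1 fun x hx =>
      hij ((show x = i from hi hx).symm.trans (show x = j from hj hx))
    exact M1.section_ext _ _ fun x hx => absurd hx (by simp)

/-- An invertible module on `P^r_S`, `S` discrete, of degree `d` on every fibre is `O(d)`. -/
theorem nonempty_iso_twistOver_of_discrete (r : ℕ) {S : Scheme.{u}} [DiscreteTopology S]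
    {L : (CohB1.ProjSpaceOver r S).Modules} (hL : PicF.IsInvertible L) (d : ℤ)
    (h : ∀ s : S, Nonempty ((Scheme.Modules.pullback (pt' r S s)).obj L ≅
      _root_.Twist.twistProjSpace r (S.residueField s) d)) :
    Nonempty (L ≅ _root_.Twist.twistOver r S d) := by
  let L' := CohB1.tensorMod L (_root_.Twist.twistOver r S (-d))
  have hL' : PicF.IsInvertible L' := M2.isInvertible_tensor hL (Twist.isInvertible_twistOver r S (-d))
  have hnear : ∀ s, ∃ (U : S.Opens) (σ : Γ(L', CohB1.ProjSpaceOver.toBase r S ⁻¹ᵁ U)), s ∈ U ∧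
      Twist.IsGen L' (CohB1.ProjSpaceOver.toBase r S ⁻¹ᵁ U) σ := fun s => by
    refine exists_gen_of_fibre r L' hL' s ?_
    obtain ⟨φ⟩ := nonempty_pt_tensor_twist r L (-d) s (h s)
    obtain ⟨z⟩ := Twist.nonempty_twist_zero_iso (CohB1.polyGrading r (S.residueField s))
    exact ⟨φ ≪≫ eqToIso (congrArg (_root_.Twist.twistProjSpace r (S.residueField s)) (add_neg_cancel d)) ≪≫ z⟩
  choose U σ hmem hσ using hnear
  obtain ⟨N, hN, ⟨φ⟩⟩ := exists_descend (CohB1.ProjSpaceOver.toBase r S) (bijective_toBase_app r) U
    (top_le_iff.1 fun x _ => Opens.mem_iSup.2 ⟨x, hmem x⟩) σ hσ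
  obtain ⟨z⟩ := nonempty_iso_structure_of_discrete hN
  obtain ⟨c⟩ := nonempty_tensor_twistOver_cancel r L (neg_add_cancel d)
  exact ⟨c.symm ≪≫ M2.tensorIso (φ ≪≫ (Scheme.Modules.pullback _).mapIso z ≪≫ Twist.pullbackUnitIso _)
    (Iso.refl _) ≪≫ M2.tensorLUnit _⟩

/-- An automorphism of `P^r_S` over a discrete base fixes the class of `O(1)`. -/
theorem nonempty_pullback_twistOver_one (r : ℕ) {S : Scheme.{u}} [DiscreteTopology S]
    (a : CohB1.ProjSpaceOver r S ⟶ CohB1.ProjSpaceOver r S) [IsIso a]
    (ha : a ≫ CohB1.ProjSpaceOver.toBase r S = CohB1.ProjSpaceOver.toBase r S) :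
    Nonempty ((Scheme.Modules.pullback a).obj (_root_.Twist.twistOver r S 1) ≅
      _root_.Twist.twistOver r S 1) := by
  refine nonempty_iso_twistOver_of_discrete r (Twist.isInvertible_pullback a (Twist.isInvertible_twistOver r S 1)) 1
    fun s => ?_
  have H := isPullback_pj r (S.fromSpecResidueField s)
  let b : CohB1.ProjSpace r (S.residueField s) ⟶ CohB1.ProjSpace r (S.residueField s) :=
    H.lift (pt' r S s ≫ a) (CohB1.ProjSpace.toSpec r (S.residueField s)) (by rw [Category.assoc, ha]; exact H.w)
  let b' : CohB1.ProjSpace r (S.residueField s) ⟶ CohB1.ProjSpace r (S.residueField s) :=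
    H.lift (pt' r S s ≫ inv a) (CohB1.ProjSpace.toSpec r (S.residueField s))
      (by rw [Category.assoc, show inv a ≫ CohB1.ProjSpaceOver.toBase r S = CohB1.ProjSpaceOver.toBase r S by
        rw [IsIso.inv_comp_eq, ha]]; exact H.w)
  haveI : IsIso b := ⟨b', by
    apply H.hom_ext
    · simp only [b, b', Category.assoc, IsPullback.lift_fst, IsPullback.lift_fst_assoc, IsIso.hom_inv_id,
        Category.comp_id, Category.id_comp]
    · exact (Category.assoc _ _ _).trans ((congrArg _ (H.lift_snd _ _ _)).trans ((H.lift_snd _ _ _).trans (Category.id_comp _).symm)), by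
    apply H.hom_ext
    · simp only [b, b', Category.assoc, IsPullback.lift_fst, IsPullback.lift_fst_assoc, IsIso.inv_hom_id,
        Category.comp_id, Category.id_comp]
    · exact (Category.assoc _ _ _).trans ((congrArg _ (H.lift_snd _ _ _)).trans ((H.lift_snd _ _ _).trans (Category.id_comp _).symm))⟩
  obtain ⟨φ⟩ := nonempty_pullback_pj_twistOver r (S.fromSpecResidueField s) 1
  obtain ⟨ψ⟩ := nonempty_pullback_twist_one (n := r) (k := S.residueField s) b
  exact ⟨(Scheme.Modules.pullbackComp _ a).app _ ≪≫
    (Scheme.Modules.pullbackCongr (H.lift_fst (pt' r S s ≫ a) _ _).symm).app _ ≪≫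
    ((Scheme.Modules.pullbackComp b (pt' r S s)).app _).symm ≪≫
    (Scheme.Modules.pullback b).mapIso φ ≪≫ ψ⟩

end Groth.Agent.KS29
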