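import Mathlib

/-!
# Krull–Schmidt in abelian linear categories with finite-dimensional endomorphism algebras
-/

set_option autoImplicit false
set_option maxHeartbeats 400000

universe v u u'

open CategoryTheory CategoryTheory.Limits

noncomputable section

namespace Groth.Agent.KS29

variable {C : Type u} [Category.{v} C] [Abelian C]

attribute [local instance] Abelian.hasFiniteBiproducts

/-- Indecomposable objects. -/
def Indec (X : C) : Prop :=
  ¬ IsZero X ∧ ∀ A B : C, Nonempty (X ≅ A ⊞ B) → IsZero A ∨ IsZero B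

/-- Every nonzero idempotent endomorphism of an indecomposable object is the identity. -/
theorem Indec.idem {X : C} (hX : Indec X) (e : X ⟶ X) (he : e ≫ e = e) : e = 0 ∨ e = 𝟙 X := by
  have he' : (𝟙 X - e) ≫ (𝟙 X - e) = 𝟙 X - e := by
    simp [Preadditive.sub_comp, Preadditive.comp_sub, he]
  obtain ⟨A, i, p, hip, hpi⟩ := IsIdempotentComplete.idempotents_split X e he
  obtain ⟨B, j, q, hjq, hqj⟩ := IsIdempotentComplete.idempotents_split X _ he'
  have h1 : i ≫ q = 0 := by
    have : (p ≫ i) ≫ (q ≫ j) = 0 := by rw [hpi, hqj]; simp [Preadditive.comp_sub, he]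
    have := congrArg (fun f => i ≫ f ≫ q) this
    simpa [reassoc_of% hip, hjq] using this
  have h2 : j ≫ p = 0 := by
    have : (q ≫ j) ≫ (p ≫ i) = 0 := by rw [hpi, hqj]; simp [Preadditive.sub_comp, he]
    have := congrArg (fun f => j ≫ f ≫ p) this
    simpa [reassoc_of% hjq, hip] using this
  let ε : X ≅ A ⊞ B :=
    { hom := biprod.lift p q
      inv := biprod.desc i j
      hom_inv_id := by rw [biprod.lift_desc, hpi, hqj]; abel
      inv_hom_id := by
        ext <;> simp [hip, hjq, h1, h2] }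
  rcases hX.2 A B ⟨ε⟩ with hA | hB
  · exact Or.inl (by rw [← hpi, hA.eq_of_src i 0, comp_zero])
  · refine Or.inr ?_
    have h : (𝟙 X - e) = 0 := by rw [← hqj, hB.eq_of_src j 0, comp_zero]
    exact (sub_eq_zero.1 h).symm

section Fitting

variable (k : Type u') [Field k]

/-- In a finite-dimensional algebra some power of an element splits off an idempotent. -/
theorem exists_pow_idem {R : Type*} [Ring R] [Algebra k R] [Module.Finite k R] (a : R) :
    ∃ (n : ℕ) (e g : R), 0 < n ∧ e * e = e ∧ e * a ^ n = a ^ n ∧ a ^ n * g = e ∧ g * a ^ n = e := by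
  obtain ⟨p₀, hp₀, hpa₀⟩ := Algebra.IsAlgebraic.isAlgebraic (R := k) a
  set p := Polynomial.X * p₀ with hpdef
  have hp : p ≠ 0 := mul_ne_zero Polynomial.X_ne_zero hp₀
  have hpa : Polynomial.aeval a p = 0 := by rw [hpdef, map_mul, hpa₀, mul_zero]
  have hn : 0 < p.rootMultiplicity 0 :=
    (Polynomial.rootMultiplicity_pos hp).2 (by simp [hpdef, Polynomial.IsRoot])
  obtain ⟨q, hq, hnd⟩ := p.exists_eq_pow_rootMultiplicity_mul_and_not_dvd hp 0
  rw [map_zero, sub_zero] at hq hnd
  rw [Polynomial.X_dvd_iff] at hnd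
  generalize p.rootMultiplicity 0 = n at hq hn
  set c := q.coeff 0
  let h : Polynomial k := Polynomial.C (-c⁻¹) * q.divX
  have key : Polynomial.X ^ n * (Polynomial.X * h) = Polynomial.X ^ n - Polynomial.C c⁻¹ * p := by
    have hq' := Polynomial.X_mul_divX_add q
    have h1 : Polynomial.C c⁻¹ * Polynomial.C c = (1 : Polynomial k) := by
      rw [← map_mul, inv_mul_cancel₀ hnd, map_one]
    rw [hq]
    simp only [h, map_neg]
    linear_combination -(Polynomial.X ^ n * Polynomial.C c⁻¹) * hq' + Polynomial.X ^ n * h1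
  set A : Polynomial k →ₐ[k] R := Polynomial.aeval a
  have hX : A Polynomial.X = a := Polynomial.aeval_X a
  have hb : a ^ n * A (Polynomial.X * h) = a ^ n := by
    have := congrArg A key
    rw [map_mul, map_sub, map_pow, hX, map_mul A (Polynomial.C c⁻¹) p, show A p = 0 from hpa, mul_zero,
      sub_zero] at this
    exact this
  have hpow : ∀ m, a ^ n * A (Polynomial.X * h) ^ m = a ^ n := by
    intro m
    induction m with
    | zero => rw [pow_zero, mul_one]
    | succ m ih => rw [pow_succ, ← mul_assoc, ih, hb]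
  have hm : a ^ n * (a ^ n * A h ^ n) = a ^ n := by
    have := hpow n
    rwa [← map_pow, mul_pow, map_mul, map_pow, hX, map_pow] at this
  have hc : A h ^ n * a ^ n = a ^ n * A h ^ n := by
    rw [← hX, ← map_pow, ← map_pow, ← map_mul, ← map_mul, mul_comm]
  refine ⟨n, a ^ n * A h ^ n, A h ^ n, hn, ?_, ?_, rfl, hc⟩
  · calc a ^ n * A h ^ n * (a ^ n * A h ^ n) = (a ^ n * (a ^ n * A h ^ n)) * A h ^ n := by
          rw [mul_assoc, ← mul_assoc (A h ^ n), hc, ← mul_assoc, ← mul_assoc]
      _ = _ := by rw [hm]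
  · rw [mul_assoc, hc]
    exact hm

end Fitting

section Linear

variable (k : Type u') [Field k] [Linear k C]

/-- Endomorphisms of indecomposable objects are units or nilpotent. -/
theorem Indec.isUnit_or_isNilpotent {X : C} (hX : Indec X) [Module.Finite k (X ⟶ X)] (f : End X) :
    IsUnit f ∨ IsNilpotent f := by
  haveI : Module.Finite k (End X) := ‹Module.Finite k (X ⟶ X)›
  obtain ⟨n, e, g, hn, he, hen, hag, hga⟩ := exists_pow_idem k f
  rcases hX.idem e he with h | h
  · refine Or.inr ⟨n, ?_⟩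
    rw [← hen, h]
    exact zero_mul _
  · exact Or.inl ((isUnit_pow_iff hn.ne').1 ⟨⟨f ^ n, g, hag.trans h, hga.trans h⟩, rfl⟩)

/-- A sum that is an automorphism of an indecomposable object has an automorphism among its terms. -/
theorem Indec.exists_isUnit_of_sum {X : C} (hX : Indec X) [Module.Finite k (X ⟶ X)] {ι : Type*}
    (s : Finset ι) (f : ι → End X) : IsUnit (∑ i ∈ s, f i) → ∃ i ∈ s, IsUnit (f i) := by
  classical
  induction s using Finset.induction with
  | empty =>
    intro h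
    rw [Finset.sum_empty] at h
    exact absurd ((IsZero.iff_id_eq_zero X).2 (isUnit_zero_iff.1 h).symm) hX.1
  | insert a s ha ih =>
    intro h
    rw [Finset.sum_insert ha] at h
    obtain ⟨u, hu⟩ := h
    rcases hX.isUnit_or_isNilpotent k (f a * ↑u⁻¹) with h' | h'
    · exact ⟨a, Finset.mem_insert_self _ _, (Units.isUnit_mul_units _ _).1 h'⟩
    · have : IsUnit ((∑ i ∈ s, f i) * ↑u⁻¹) := by
        have e : (∑ i ∈ s, f i) * ↑u⁻¹ = 1 - f a * ↑u⁻¹ := by
          rw [eq_sub_iff_add_eq, ← add_mul, add_comm, ← hu, Units.mul_inv]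
        rw [e]
        exact h'.isUnit_one_sub
      obtain ⟨i, hi, hu'⟩ := ih ((Units.isUnit_mul_units _ _).1 this)
      exact ⟨i, Finset.mem_insert_of_mem hi, hu'⟩

/-- Endomorphisms of a retract of an object with finite endomorphism space are finite. -/
theorem finite_of_retract {A X : C} (i : A ⟶ X) (p : X ⟶ A) (hip : i ≫ p = 𝟙 A)
    [Module.Finite k (X ⟶ X)] : Module.Finite k (A ⟶ A) := by
  refine Module.Finite.of_injective ((Linear.rightComp k X i).comp (Linear.leftComp k A p)) fun a b h => ?_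
  have := congrArg (fun φ => i ≫ φ ≫ p) h
  simpa [Linear.rightComp, Linear.leftComp, hip, reassoc_of% hip] using this

end Linear

/-- A decomposition of an object as a finite direct sum. -/
structure Dec (X : C) {ι : Type} [Fintype ι] (F : ι → C) where
  inj : ∀ i, F i ⟶ X
  prj : ∀ i, X ⟶ F i
  inj_prj : ∀ i, inj i ≫ prj i = 𝟙 (F i)
  inj_prj_ne : ∀ {i j}, i ≠ j → inj i ≫ prj j = 0
  total : ∑ i, prj i ≫ inj i = 𝟙 X

namespace Dec

variable {X Y : C} {ι κ : Type} [Fintype ι] [Fintype κ] {F : ι → C} {G : κ → C}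

attribute [reassoc (attr := simp)] inj_prj

/-- Transport along an isomorphism. -/
def trans (d : Dec X F) (e : X ≅ Y) : Dec Y F where
  inj i := d.inj i ≫ e.hom
  prj i := e.inv ≫ d.prj i
  inj_prj i := by simp
  inj_prj_ne h := by simp [d.inj_prj_ne h]
  total := by
    have : ∑ i, (e.inv ≫ d.prj i) ≫ d.inj i ≫ e.hom = e.inv ≫ (∑ i, d.prj i ≫ d.inj i) ≫ e.hom := by
      simp [Preadditive.comp_sum, Preadditive.sum_comp]
    rw [this, d.total]
    simp

/-- The biproduct is a decomposition. -/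
def ofBiproduct [HasBiproduct F] : Dec (⨁ F) F where
  inj i := biproduct.ι F i
  prj i := biproduct.π F i
  inj_prj i := biproduct.ι_π_self F i
  inj_prj_ne h := biproduct.ι_π_ne F h
  total := by exact biproduct.total

/-- The coproduct is a decomposition. -/
def ofCoproduct [HasBiproduct F] : Dec (∐ F) F :=
  ofBiproduct.trans (biproduct.isoCoproduct F)

/-- A decomposition identifies the object with the biproduct. -/
def isoBiproduct (d : Dec X F) [HasBiproduct F] : X ≅ ⨁ F where
  hom := biproduct.lift d.prj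
  inv := biproduct.desc d.inj
  hom_inv_id := by rw [biproduct.lift_desc, d.total]
  inv_hom_id := by
    refine biproduct.hom_ext _ _ fun j => biproduct.hom_ext' _ _ fun i => ?_
    simp only [Category.assoc, biproduct.lift_π, biproduct.ι_desc_assoc, Category.id_comp]
    by_cases h : i = j
    · subst h
      rw [d.inj_prj, biproduct.ι_π_self]
    · rw [d.inj_prj_ne h, biproduct.ι_π_ne _ h]

/-- A decomposition identifies the object with the coproduct. -/
def isoCoproduct (d : Dec X F) [HasBiproduct F] : X ≅ ∐ F :=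
  d.isoBiproduct ≪≫ biproduct.isoCoproduct F

/-- Additive functors preserve decompositions. -/
def map {D : Type*} [Category D] [Abelian D] (d : Dec X F) (T : C ⥤ D)
    [T.Additive] : Dec (T.obj X) (fun i => T.obj (F i)) where
  inj i := T.map (d.inj i)
  prj i := T.map (d.prj i)
  inj_prj i := by rw [← T.map_comp, d.inj_prj, T.map_id]
  inj_prj_ne h := by rw [← T.map_comp, d.inj_prj_ne h, T.map_zero]
  total := by
    simp only [← T.map_comp, ← T.map_sum, d.total, T.map_id]

/-- Reindexing along an equivalence. -/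
def reindex (d : Dec X F) (e : κ ≃ ι) : Dec X (fun j => F (e j)) where
  inj j := d.inj (e j)
  prj j := d.prj (e j)
  inj_prj j := d.inj_prj _
  inj_prj_ne h := d.inj_prj_ne (e.injective.ne h)
  total := (e.sum_comp fun i => d.prj i ≫ d.inj i).trans d.total

/-- Replacing the summands by isomorphic objects. -/
def congr (d : Dec X F) {F' : ι → C} (e : ∀ i, F i ≅ F' i) : Dec X F' where
  inj i := (e i).inv ≫ d.inj i
  prj i := d.prj i ≫ (e i).hom
  inj_prj i := by simp
  inj_prj_ne h := by simp [reassoc_of% d.inj_prj_ne h]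
  total := by simpa using d.total

/-- Decomposing the summands further. -/
def bind (d : Dec X F) {β : ι → Type} [∀ i, Fintype (β i)] {H : ∀ i, β i → C}
    (c : ∀ i, Dec (F i) (H i)) : Dec X (fun x : Σ i, β i => H x.1 x.2) where
  inj x := (c x.1).inj x.2 ≫ d.inj x.1
  prj x := d.prj x.1 ≫ (c x.1).prj x.2
  inj_prj x := by simp
  inj_prj_ne {x y} h := by
    obtain ⟨i, a⟩ := x
    obtain ⟨j, b⟩ := y
    by_cases hij : i = j
    · subst hij
      have hab : a ≠ b := fun e => h (by rw [e])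
      simp [(c i).inj_prj_ne hab]
    · simp [reassoc_of% d.inj_prj_ne hij]
  total := by
    rw [Fintype.sum_sigma]
    refine (Finset.sum_congr rfl fun i _ => ?_).trans d.total
    have : ∑ a, (d.prj i ≫ (c i).prj a) ≫ (c i).inj a ≫ d.inj i =
        d.prj i ≫ (∑ a, (c i).prj a ≫ (c i).inj a) ≫ d.inj i := by
      simp [Preadditive.comp_sum, Preadditive.sum_comp]
    rw [this, (c i).total, Category.id_comp]

/-- The two summands of a binary biproduct. -/
def ofBiprod {A B : C} (dA : Dec A F) (dB : Dec B G) : Dec (A ⊞ B) (Sum.elim F G) where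
  inj
    | .inl i => dA.inj i ≫ biprod.inl
    | .inr j => dB.inj j ≫ biprod.inr
  prj
    | .inl i => biprod.fst ≫ dA.prj i
    | .inr j => biprod.snd ≫ dB.prj j
  inj_prj
    | .inl i => by simp
    | .inr j => by simp
  inj_prj_ne {x y} h := by
    rcases x with i | i <;> rcases y with j | j
    · simp [dA.inj_prj_ne fun e => h (congrArg Sum.inl e)]; rfl
    · simp; rfl
    · simp; rfl
    · simp [dB.inj_prj_ne fun e => h (congrArg Sum.inr e)]; rfl
  total := by
    have h1 : ∑ i, (biprod.fst ≫ dA.prj i) ≫ dA.inj i ≫ biprod.inl =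
        (biprod.fst : A ⊞ B ⟶ A) ≫ (∑ i, dA.prj i ≫ dA.inj i) ≫ (biprod.inl : A ⟶ A ⊞ B) := by
      simp [Preadditive.comp_sum, Preadditive.sum_comp]
    have h2 : ∑ i, (biprod.snd ≫ dB.prj i) ≫ dB.inj i ≫ biprod.inr =
        (biprod.snd : A ⊞ B ⟶ B) ≫ (∑ i, dB.prj i ≫ dB.inj i) ≫ (biprod.inr : B ⟶ A ⊞ B) := by
      simp [Preadditive.comp_sum, Preadditive.sum_comp]
    rw [Fintype.sum_sum_type]
    refine (congrArg₂ (· + ·) h1 h2).trans ?_
    rw [dA.total, dB.total, Category.id_comp, Category.id_comp, biprod.total]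

theorem isZero [IsEmpty ι] (d : Dec X F) : IsZero X := by
  rw [IsZero.iff_id_eq_zero, ← d.total, Finset.univ_eq_empty, Finset.sum_empty]

theorem isZero_summand (d : Dec X F) (h : IsZero X) (i : ι) : IsZero (F i) := by
  rw [IsZero.iff_id_eq_zero, ← d.inj_prj i, h.eq_of_tgt (d.inj i) 0, zero_comp]

/-- Split off one summand. -/
def splitIso (d : Dec X F) (i₀ : ι) [DecidableEq ι] :
    X ≅ F i₀ ⊞ ⨁ fun i : {i // i ≠ i₀} => F i.1 where
  hom := biprod.lift (d.prj i₀) (biproduct.lift fun i => d.prj i.1)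
  inv := biprod.desc (d.inj i₀) (biproduct.desc fun i => d.inj i.1)
  hom_inv_id := by
    rw [biprod.lift_desc, biproduct.lift_desc, ← d.total,
      ← Finset.add_sum_erase _ _ (Finset.mem_univ i₀)]
    congr 1
    exact (Finset.sum_subtype _ (fun i => by simp) fun i => d.prj i ≫ d.inj i).symm
  inv_hom_id := by
    refine biprod.hom_ext' _ _ ?_ ?_ <;> refine biprod.hom_ext _ _ ?_ ?_
    · simp
    · refine biproduct.hom_ext _ _ fun j => ?_
      simp [d.inj_prj_ne (Ne.symm j.2)]
    · refine biproduct.hom_ext' _ _ fun i => ?_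
      simp [d.inj_prj_ne i.2]
    · refine biproduct.hom_ext' _ _ fun i => biproduct.hom_ext _ _ fun j => ?_
      by_cases h : i = j
      · subst h
        simp [biproduct.ι_π_self]
      · simp [biproduct.ι_π_ne _ h, d.inj_prj_ne fun e => h (Subtype.ext e)]

end Dec

section KS

variable (k : Type u') [Field k] [Linear k C]

/-- Existence of a decomposition into indecomposables. -/
theorem exists_dec (X : C) [Module.Finite k (X ⟶ X)] :
    ∃ (n : ℕ) (F : Fin n → C), (∀ i, Indec (F i)) ∧ Nonempty (Dec X F) := by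
  suffices ∀ (m : ℕ) (X : C) [Module.Finite k (X ⟶ X)], Module.finrank k (X ⟶ X) ≤ m →
      ∃ (n : ℕ) (F : Fin n → C), (∀ i, Indec (F i)) ∧ Nonempty (Dec X F) from this _ X le_rfl
  intro m
  induction m using Nat.strong_induction_on with
  | _ m ih =>
  intro X _ hm
  by_cases h0 : IsZero X
  · exact ⟨0, Fin.elim0, fun i => i.elim0, ⟨⟨fun i => i.elim0, fun i => i.elim0, fun i => i.elim0,
      fun {i} => i.elim0, h0.eq_of_src _ _⟩⟩⟩
  by_cases hX : ∀ A B : C, Nonempty (X ≅ A ⊞ B) → IsZero A ∨ IsZero B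
  · exact ⟨1, fun _ => X, fun _ => ⟨h0, hX⟩, ⟨⟨fun _ => 𝟙 X, fun _ => 𝟙 X, fun _ => Category.id_comp _,
      fun {i j} h => absurd (Subsingleton.elim i j) h, by simp⟩⟩⟩
  push Not at hX
  obtain ⟨A, B, ⟨e⟩, hA, hB⟩ := hX
  haveI hfA : Module.Finite k (A ⟶ A) :=
    finite_of_retract k (biprod.inl ≫ e.inv) (e.hom ≫ biprod.fst) (by simp)
  haveI hfB : Module.Finite k (B ⟶ B) :=
    finite_of_retract k (biprod.inr ≫ e.inv) (e.hom ≫ biprod.snd) (by simp)
  let φ : ((A ⟶ A) × (B ⟶ B)) →ₗ[k] (X ⟶ X) :=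
    { toFun := fun x => e.hom ≫ biprod.map x.1 x.2 ≫ e.inv
      map_add' := fun x y => by
        rw [← Preadditive.comp_add, ← Preadditive.add_comp]
        congr 2
        refine biprod.hom_ext' _ _ ?_ ?_ <;> refine biprod.hom_ext _ _ ?_ ?_ <;> simp
      map_smul' := fun c x => by
        rw [RingHom.id_apply, ← Linear.comp_smul, ← Linear.smul_comp]
        congr 2
        refine biprod.hom_ext' _ _ ?_ ?_ <;> refine biprod.hom_ext _ _ ?_ ?_ <;> simp }
  have hφ : Function.Injective φ := fun x y h => by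
    have h' : biprod.map x.1 x.2 = biprod.map y.1 y.2 := by
      simpa [φ] using congrArg (fun f => e.inv ≫ f ≫ e.hom) h
    refine Prod.ext ?_ ?_
    · simpa using congrArg (fun f => biprod.inl ≫ f ≫ biprod.fst) h'
    · simpa using congrArg (fun f => biprod.inr ≫ f ≫ biprod.snd) h'
  have hle := LinearMap.finrank_le_finrank_of_injective hφ
  rw [Module.finrank_prod] at hle
  have pos : ∀ (Z : C) [Module.Finite k (Z ⟶ Z)], ¬ IsZero Z → 0 < Module.finrank k (Z ⟶ Z) := by
    intro Z _ hZ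
    haveI : Nontrivial (Z ⟶ Z) := nontrivial_of_ne (𝟙 Z) 0 fun h => hZ ((IsZero.iff_id_eq_zero Z).2 h)
    exact Module.finrank_pos
  have pA := pos A hA
  have pB := pos B hB
  obtain ⟨a, FA, hFA, ⟨dA⟩⟩ := ih _ (by omega) A le_rfl
  obtain ⟨b, FB, hFB, ⟨dB⟩⟩ := ih _ (by omega) B le_rfl
  refine ⟨a + b, fun i => Sum.elim FA FB (finSumFinEquiv.symm i), fun i => ?_,
    ⟨((dA.ofBiprod dB).trans e.symm).reindex finSumFinEquiv.symm⟩⟩
  show Indec (Sum.elim FA FB (finSumFinEquiv.symm i))
  cases finSumFinEquiv.symm i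
  · exact hFA _
  · exact hFB _

/-- Uniqueness of decompositions into indecomposables. -/
theorem dec_unique {X : C} [Module.Finite k (X ⟶ X)] {ι κ : Type} [Fintype ι] [Fintype κ]
    {F : ι → C} {G : κ → C} (dF : Dec X F) (dG : Dec X G) (hF : ∀ i, Indec (F i))
    (hG : ∀ j, Indec (G j)) : ∃ e : ι ≃ κ, ∀ i, Nonempty (F i ≅ G (e i)) := by
  classical
  suffices ∀ (m : ℕ) (X : C) [Module.Finite k (X ⟶ X)] (ι κ : Type) [Fintype ι] [Fintype κ]
      (F : ι → C) (G : κ → C), Fintype.card ι = m → Dec X F → Dec X G → (∀ i, Indec (F i)) →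
      (∀ j, Indec (G j)) → ∃ e : ι ≃ κ, ∀ i, Nonempty (F i ≅ G (e i)) from
    this _ X ι κ F G rfl dF dG hF hG
  intro m
  induction m with
  | zero =>
    intro X _ ι κ _ _ F G hm dF dG hF hG
    haveI := Fintype.card_eq_zero_iff.1 hm
    haveI : IsEmpty κ := ⟨fun j => (hG j).1 (dG.isZero_summand dF.isZero j)⟩
    exact ⟨Equiv.equivOfIsEmpty ι κ, fun i => isEmptyElim i⟩
  | succ m ih =>
    intro X _ ι κ _ _ F G hm dF dG hF hG
    obtain ⟨i₀⟩ := Fintype.card_pos_iff.1 (by omega : 0 < Fintype.card ι)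
    haveI hfi : Module.Finite k (F i₀ ⟶ F i₀) :=
      finite_of_retract k (dF.inj i₀) (dF.prj i₀) (dF.inj_prj i₀)
    let t : κ → End (F i₀) := fun j => (dF.inj i₀ ≫ dG.prj j) ≫ (dG.inj j ≫ dF.prj i₀)
    have ht : ∑ j, t j = 1 := by
      show ∑ j, (dF.inj i₀ ≫ dG.prj j) ≫ (dG.inj j ≫ dF.prj i₀) = 𝟙 (F i₀)
      rw [show ∑ j, (dF.inj i₀ ≫ dG.prj j) ≫ (dG.inj j ≫ dF.prj i₀) =
        dF.inj i₀ ≫ (∑ j, dG.prj j ≫ dG.inj j) ≫ dF.prj i₀ by
          simp [Preadditive.comp_sum, Preadditive.sum_comp], dG.total, Category.id_comp, dF.inj_prj]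
    obtain ⟨j₀, -, hj₀⟩ := (hF i₀).exists_isUnit_of_sum k Finset.univ t (ht ▸ isUnit_one)
    let a : F i₀ ⟶ G j₀ := dF.inj i₀ ≫ dG.prj j₀
    let b : G j₀ ⟶ F i₀ := dG.inj j₀ ≫ dF.prj i₀
    haveI : IsIso (a ≫ b) := (isUnit_iff_isIso (t j₀)).1 hj₀
    haveI hmono : Mono a := mono_of_mono a b
    have hne : b ≫ inv (a ≫ b) ≫ a ≠ 0 := fun h => (hF i₀).1 ((IsZero.iff_id_eq_zero _).2 (by
      have h' := congrArg (fun φ => a ≫ φ) h
      simp only [comp_zero] at h'
      rw [← Category.assoc a b, IsIso.hom_inv_id_assoc] at h'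
      rw [← cancel_mono a, Category.id_comp, zero_comp, h']))
    have hb : b ≫ inv (a ≫ b) ≫ a = 𝟙 (G j₀) :=
      ((hG j₀).idem _ (by
        simp only [Category.assoc]
        rw [← Category.assoc a b, IsIso.inv_hom_id_assoc])).resolve_left hne
    haveI : IsIso a := ⟨b ≫ inv (a ≫ b), by rw [← Category.assoc, IsIso.hom_inv_id], by
      rw [Category.assoc]; exact hb⟩
    let eF := dF.splitIso i₀
    let eG := dG.splitIso j₀
    let f := eF.symm ≪≫ eG
    haveI : IsIso (biprod.inl ≫ f.hom ≫ biprod.fst) := by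
      have : biprod.inl ≫ f.hom ≫ biprod.fst = a := by
        simp [f, eF, eG, Dec.splitIso, a]
      rw [this]
      infer_instance
    let r := Biprod.isoElim f
    haveI : Module.Finite k ((⨁ fun i : {i // i ≠ i₀} => F i.1) ⟶ (⨁ fun i : {i // i ≠ i₀} => F i.1)) :=
      finite_of_retract k (biprod.inr ≫ eF.inv) (eF.hom ≫ biprod.snd) (by simp)
    obtain ⟨e, he⟩ := ih _ {i // i ≠ i₀} {j // j ≠ j₀} _ _
      (by simp [Fintype.card_subtype_compl, hm]) Dec.ofBiproduct (Dec.ofBiproduct.trans r.symm)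
      (fun i => hF i.1) (fun j => hG j.1)
    let E : ι ≃ κ :=
      (Equiv.optionSubtypeNe i₀).symm.trans ((Equiv.optionCongr e).trans (Equiv.optionSubtypeNe j₀))
    refine ⟨E, fun i => ?_⟩
    by_cases hi : i = i₀
    · subst hi
      rw [show E i = j₀ by simp [E]]
      exact ⟨asIso a⟩
    · rw [show E i = (e ⟨i, hi⟩).1 by simp [E, hi]]
      exact he ⟨i, hi⟩

/-- Isomorphic powers with positive exponents and indecomposable decompositions: the bases agree. -/
theorem iso_of_pow_iso {F G : C} [Module.Finite k (F ⟶ F)] [Module.Finite k (G ⟶ G)] {d : ℕ} (hd : 0 < d)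
    {P : C} [Module.Finite k (P ⟶ P)] (dF : Dec P (fun _ : Fin d => F))
    (dG : Dec P (fun _ : Fin d => G)) : Nonempty (F ≅ G) := by
  classical
  obtain ⟨n, Fs, hFs, ⟨cF⟩⟩ := exists_dec k F
  obtain ⟨m, Gs, hGs, ⟨cG⟩⟩ := exists_dec k G
  obtain ⟨e, he⟩ := dec_unique k ((dF.bind fun _ => cF)) ((dG.bind fun _ => cG)) (fun x => hFs x.2)
    (fun x => hGs x.2)
  let cls : C → Quotient (isIsomorphicSetoid C) := Quotient.mk _
  have hcls : ∀ x, cls (Gs (e x).2) = cls (Fs x.2) := fun x => Quotient.sound ⟨(he x).some.symm⟩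
  have hcard : ∀ q, Fintype.card {i // cls (Fs i) = q} = Fintype.card {j // cls (Gs j) = q} := by
    intro q
    have h1 : ∀ {N : ℕ} (H : Fin N → C),
        Fintype.card {x : Σ _ : Fin d, Fin N // cls (H x.2) = q} = d * Fintype.card {i // cls (H i) = q} := by
      intro N H
      rw [Fintype.card_congr (β := Fin d × {i // cls (H i) = q})
        ⟨fun x => (x.1.1, ⟨x.1.2, x.2⟩), fun x => ⟨⟨x.1, x.2.1⟩, x.2.2⟩, fun x => rfl, fun x => rfl⟩,
        Fintype.card_prod, Fintype.card_fin]
    refine Nat.eq_of_mul_eq_mul_left hd ((h1 Fs).symm.trans (Eq.trans ?_ (h1 Gs)))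
    exact Fintype.card_congr (e.subtypeEquiv fun x => by rw [hcls x])
  let ε : Fin n ≃ Fin m := Equiv.ofFiberEquiv (f := fun i => cls (Fs i)) (g := fun j => cls (Gs j))
    fun q => Fintype.equivOfCardEq (hcard q)
  have hε : ∀ i, Nonempty (Gs (ε i) ≅ Fs i) := fun i =>
    Quotient.exact (Equiv.ofFiberEquiv_map (f := fun i => cls (Fs i)) (g := fun j => cls (Gs j)) _ i)
  exact ⟨cF.isoBiproduct ≪≫ ((cG.reindex ε).congr fun i => (hε i).some).isoBiproduct.symm⟩

end KS

end Groth.Agent.KS29
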