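import Mathlib.AlgebraicGeometry.Noetherian
import Mathlib.AlgebraicGeometry.Artinian
import Mathlib.Topology.Connected.Clopen
import Mathlib.Topology.NoetherianSpace
import Mathlib.AlgebraicGeometry.Morphisms.Etale
import Mathlib.AlgebraicGeometry.Morphisms.QuasiFinite
import Mathlib.AlgebraicGeometry.Morphisms.Flat
import Mathlib.RingTheory.Etale.Field
import Mathlib.RingTheory.Unramified.Field
import Mathlib.RingTheory.Jacobson.Ring
import Mathlib.RingTheory.Unramified.LocalStructure
import Mathlib.RingTheory.RingHom.QuasiFinite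
/-!
The scheme of connected components of a scheme locally of finite type over a field.
-/
noncomputable section
universe u
open CategoryTheory CategoryTheory.Limits AlgebraicGeometry TopologicalSpace
open scoped TensorProduct

namespace Groth.Agent.KS29.CompScheme

/-- The connected components of a Noetherian space are open. -/
theorem isOpen_cc_noeth {α : Type u} [TopologicalSpace α] [NoetherianSpace α] (a : α) :
    IsOpen (connectedComponent a) := by
  rw [← isClosed_compl_iff]
  let I := {T : Set α | T ∈ irreducibleComponents α ∧ Disjoint T (connectedComponent a)}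
  have hI : I.Finite := NoetherianSpace.finite_irreducibleComponents.subset fun T h => h.1
  convert hI.isClosed_biUnion fun T hT => isClosed_of_mem_irreducibleComponents T hT.1
  ext b
  simp only [Set.mem_compl_iff, Set.mem_iUnion, exists_prop]
  constructor
  · intro hb
    refine ⟨irreducibleComponent b, ⟨irreducibleComponent_mem_irreducibleComponents b,
      Set.disjoint_left.2 fun c hc hca => hb ?_⟩, mem_irreducibleComponent⟩
    rw [connectedComponent_eq hca]
    exact isIrreducible_irreducibleComponent.isPreirreducible.isPreconnected.subset_connectedComponent hc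
      mem_irreducibleComponent
  · rintro ⟨T, ⟨-, hT⟩, hbT⟩ hb
    exact Set.disjoint_left.1 hT hbT hb

theorem isField_of_finite {k B : Type u} [Field k] [CommRing B] [Algebra k B] [Nontrivial B] [Module.Finite k B]
    [IsReduced B] (hid : ∀ e : B, IsIdempotentElem e → e = 0 ∨ e = 1) : IsField B := by
  haveI : IsArtinianRing B := IsArtinianRing.of_finite k B
  refine ⟨⟨0, 1, zero_ne_one⟩, mul_comm, fun {a} ha => ?_⟩
  obtain ⟨n, y, hy⟩ := IsArtinian.exists_pow_succ_smul_dvd a (1 : B)
  simp only [smul_eq_mul, mul_one] at hy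
  have h1 : ∀ j, a ^ n = a ^ (n + j) * y ^ j := by
    intro j
    induction j with
    | zero => simp
    | succ j ih =>
      calc a ^ n = a ^ (n + j) * y ^ j := ih
        _ = a ^ j * (a ^ n.succ * y) * y ^ j := by rw [hy, pow_add]; ring
        _ = a ^ (n + (j + 1)) * y ^ (j + 1) := by rw [Nat.succ_eq_add_one]; ring
  have he : IsIdempotentElem (a ^ n * y ^ n) := by
    change a ^ n * y ^ n * (a ^ n * y ^ n) = a ^ n * y ^ n
    calc a ^ n * y ^ n * (a ^ n * y ^ n) = (a ^ (n + n) * y ^ n) * y ^ n := by ring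
      _ = a ^ n * y ^ n := by rw [← h1 n]
  have h2 : a ^ n = a ^ n * (a ^ n * y ^ n) := by
    calc a ^ n = a ^ (n + n) * y ^ n := h1 n
      _ = _ := by ring
  rcases hid _ he with h | h
  · rw [h, mul_zero] at h2
    exact absurd (IsNilpotent.eq_zero ⟨n, h2⟩) ha
  · rcases Nat.eq_zero_or_pos n with hn | hn
    · subst hn
      exact ⟨y, by simpa using hy⟩
    · exact ⟨a ^ (n - 1) * y ^ n, by rw [← mul_assoc, ← pow_succ', Nat.sub_add_cancel hn, h]⟩

theorem isUnit_of_basicOpen_top {C : Scheme.{u}} {f : Γ(C, ⊤)} (h : C.basicOpen f = ⊤) : IsUnit f := by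
  refine RingedSpace.isUnit_of_isUnit_germ C.toRingedSpace ⊤ f fun x hx => ?_
  exact (Scheme.mem_basicOpen C f x hx).1 (h.ge (by trivial))

theorem idem_of_connected {C : Scheme.{u}} [ConnectedSpace C] {e : Γ(C, ⊤)} (he : IsIdempotentElem e) :
    e = 0 ∨ e = 1 := by
  have hmul : e * (1 - e) = 0 := by rw [mul_sub, mul_one, he.eq, sub_self]
  have hinter : C.basicOpen e ⊓ C.basicOpen (1 - e) = ⊥ := by
    rw [← Scheme.basicOpen_mul, hmul, Scheme.basicOpen_zero]
  have hunion : ∀ x : C, x ∈ C.basicOpen e ∨ x ∈ C.basicOpen (1 - e) := by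
    intro x
    rw [Scheme.mem_basicOpen C e x (by trivial), Scheme.mem_basicOpen C (1 - e) x (by trivial), map_sub, map_one]
    exact IsLocalRing.isUnit_or_isUnit_one_sub_self _
  have hcl : IsClopen (C.basicOpen e : Set C) := by
    refine ⟨⟨?_⟩, (C.basicOpen e).2⟩
    convert (C.basicOpen (1 - e)).2 using 1
    ext x
    refine ⟨fun hx => (hunion x).resolve_left hx, fun hx hx' => ?_⟩
    exact (hinter.le (show x ∈ C.basicOpen e ⊓ C.basicOpen (1 - e) from ⟨hx', hx⟩) : x ∈ (⊥ : C.Opens))
  rcases isClopen_iff.1 hcl with h | h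
  · left
    have htop : C.basicOpen (1 - e) = ⊤ :=
      eq_top_iff.2 fun x _ => (hunion x).resolve_left fun hx => by
        have : x ∈ (C.basicOpen e : Set C) := hx
        rw [h] at this
        exact this
    exact (isUnit_of_basicOpen_top htop).mul_left_eq_zero.1 hmul
  · right
    have htop : C.basicOpen e = ⊤ := TopologicalSpace.Opens.ext h
    have := (isUnit_of_basicOpen_top htop).mul_right_eq_zero.1 hmul
    exact (sub_eq_zero.1 this).symm

section Alg

variable {k S : Type u} [Field k] [CommRing S] [Algebra k S]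

/-- finite unramified subalgebras -/
def IsFU (B : Subalgebra k S) : Prop := Module.Finite k B ∧ Algebra.FormallyUnramified k B

theorem isFU_range {A : Type u} [CommRing A] [Algebra k A] [Module.Finite k A] [Algebra.FormallyUnramified k A]
    (φ : A →ₐ[k] S) : IsFU φ.range :=
  ⟨Module.Finite.of_surjective φ.rangeRestrict.toLinearMap φ.rangeRestrict_surjective,
    Algebra.FormallyUnramified.of_surjective φ.rangeRestrict φ.rangeRestrict_surjective⟩

theorem isFU_sup {B B' : Subalgebra k S} (hB : IsFU B) (hB' : IsFU B') : IsFU (B ⊔ B') := by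
  haveI := hB.1
  haveI := hB.2
  haveI := hB'.1
  haveI := hB'.2
  haveI : Module.Finite k (↥B ⊗[k] ↥B') := Module.Finite.trans ↥B _
  haveI : Algebra.FormallyUnramified k (↥B ⊗[k] ↥B') := Algebra.FormallyUnramified.comp k ↥B _
  have h := isFU_range (Algebra.TensorProduct.productMap B.val B'.val)
  rwa [Algebra.TensorProduct.productMap_range, Subalgebra.range_val, Subalgebra.range_val] at h

variable (hid : ∀ e : S, IsIdempotentElem e → e = 0 ∨ e = 1) [Nontrivial S]
include hid

theorem isField_of_isFU {B : Subalgebra k S} (hB : IsFU B) : IsField B := by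
  haveI := hB.1
  haveI := hB.2
  haveI : IsReduced B := Algebra.FormallyUnramified.isReduced_of_field k B
  refine isField_of_finite (k := k) fun e he => ?_
  rcases hid (e : S) (by simpa [IsIdempotentElem] using congrArg (Subtype.val : B → S) he) with h | h
  · exact Or.inl (Subtype.ext h)
  · exact Or.inr (Subtype.ext h)

theorem exists_max_isFU {L : Type u} [Field L] [Algebra k L] [Module.Finite k L] (ev : S →ₐ[k] L) :
    ∃ B : Subalgebra k S, IsFU B ∧ ∀ B', IsFU B' → B' ≤ B := by
  have hbd : ∀ B : Subalgebra k S, IsFU B → Module.finrank k B ≤ Module.finrank k L := fun B hB => by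
    letI := (isField_of_isFU hid hB).toField
    exact LinearMap.finrank_le_finrank_of_injective (f := (ev.comp B.val).toLinearMap)
      (ev.comp B.val).toRingHom.injective
  let T : Set ℕ := {n | ∃ B : Subalgebra k S, IsFU B ∧ Module.finrank k B = n}
  have hT : T.Nonempty := ⟨_, _, isFU_range (Algebra.ofId k S), rfl⟩
  have hTb : BddAbove T := ⟨Module.finrank k L, fun n ⟨B, hB, h⟩ => h ▸ hbd B hB⟩
  obtain ⟨B, hB, hBn⟩ := Nat.sSup_mem hT hTb
  refine ⟨B, hB, fun B' hB' => ?_⟩
  have hs := isFU_sup hB hB'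
  have hle : Module.finrank k ↥(B ⊔ B') ≤ Module.finrank k B := hBn ▸ le_csSup hTb ⟨_, hs, rfl⟩
  haveI : FiniteDimensional k (Subalgebra.toSubmodule (B ⊔ B')) := hs.1
  have heq : Subalgebra.toSubmodule B = Subalgebra.toSubmodule (B ⊔ B') :=
    Submodule.eq_of_le_of_finrank_le (OrderEmbedding.le_iff_le _ |>.2 le_sup_left) hle
  exact le_sup_right.trans (Subalgebra.toSubmodule_injective heq).ge

theorem etale_of_isFU {B : Subalgebra k S} (hB : IsFU B) : Algebra.Etale k B := by
  haveI := hB.1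
  haveI := hB.2
  letI := (isField_of_isFU hid hB).toField
  haveI : Algebra.IsSeparable k B := Algebra.FormallyUnramified.isSeparable k B
  haveI : Algebra.FormallyEtale k B := Algebra.FormallyEtale.of_isSeparable k B
  haveI : Algebra.FinitePresentation k B := Algebra.FinitePresentation.of_finiteType.1 inferInstance
  exact { formallyEtale := ‹_›, finitePresentation := ‹_› }

end Alg

section Comp

variable {k : Type u} [Field k]

theorem exists_point_field {C : Scheme.{u}} [Nonempty C] (f : C ⟶ Spec (CommRingCat.of k)) [LocallyOfFiniteType f] :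
    ∃ (L : Type u) (_ : Field L) (φ : k →+* L) (ev : Γ(C, ⊤) →+* L), φ.Finite ∧
      ev.comp ((Scheme.ΓSpecIso (CommRingCat.of k)).inv ≫ f.appTop).hom = φ := by
  obtain ⟨x⟩ := ‹Nonempty C›
  obtain ⟨V, hV, hxV, -⟩ := exists_isAffineOpen_mem_and_subset (Opens.mem_top x)
  haveI : IsAffine (V : Scheme.{u}) := hV
  haveI : Nonempty (V : Scheme.{u}) := ⟨⟨x, hxV⟩⟩
  have hft : (((Scheme.ΓSpecIso (CommRingCat.of k)).inv ≫ (V.ι ≫ f).appTop).hom).FiniteType := by
    refine RingHom.FiniteType.comp (HasRingHomProperty.appTop (P := @LocallyOfFiniteType) _ inferInstance) ?_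
    exact RingHom.FiniteType.of_surjective _
      (Scheme.ΓSpecIso (CommRingCat.of k)).symm.commRingCatIsoToRingEquiv.surjective
  haveI : Nontrivial Γ((V : Scheme.{u}), ⊤) := PrimeSpectrum.nonempty_iff_nontrivial.1
    ⟨(V : Scheme.{u}).isoSpec.hom ⟨x, hxV⟩⟩
  obtain ⟨m, hm⟩ := Ideal.exists_maximal Γ((V : Scheme.{u}), ⊤)
  letI := Ideal.Quotient.field m
  refine ⟨_, Ideal.Quotient.field m,
    (Ideal.Quotient.mk m).comp (((Scheme.ΓSpecIso (CommRingCat.of k)).inv ≫ (V.ι ≫ f).appTop).hom),
    (Ideal.Quotient.mk m).comp V.ι.appTop.hom, ?_, rfl⟩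
  exact RingHom.finite_iff_finiteType_of_isJacobsonRing.2 (hft.comp_surjective Ideal.Quotient.mk_surjective)

/-- Components scheme of a connected scheme. -/
theorem exists_univ {C : Scheme.{u}} [ConnectedSpace C] (f : C ⟶ Spec (CommRingCat.of k)) [LocallyOfFiniteType f] :
    ∃ (K : CommRingCat.{u}) (φ : CommRingCat.of k ⟶ K) (q : C ⟶ Spec K),
      Etale (Spec.map φ) ∧ IsField K ∧ Flat q ∧ q ≫ Spec.map φ = f ∧
      ∀ (Y : Scheme.{u}) (gY : Y ⟶ Spec (CommRingCat.of k)) (h : C ⟶ Y), Etale gY → h ≫ gY = f →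
        (∃ t : Spec K ⟶ Y, t ≫ gY = Spec.map φ ∧ q ≫ t = h) ∧
        ∀ t t' : Spec K ⟶ Y, q ≫ t = h → q ≫ t' = h → t = t' := by
  obtain ⟨L, _, φL, ev, hφL, hev⟩ := exists_point_field f
  letI : Algebra k Γ(C, ⊤) := (((Scheme.ΓSpecIso (CommRingCat.of k)).inv ≫ f.appTop).hom).toAlgebra
  letI : Algebra k L := φL.toAlgebra
  haveI : Module.Finite k L := hφL
  haveI : Nontrivial Γ(C, ⊤) := ev.domain_nontrivial
  have hid : ∀ e : Γ(C, ⊤), IsIdempotentElem e → e = 0 ∨ e = 1 := fun e he => idem_of_connected he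
  obtain ⟨B, hB, hmax⟩ := exists_max_isFU hid
    ({ toRingHom := ev, commutes' := fun r => RingHom.congr_fun hev r } : Γ(C, ⊤) →ₐ[k] L)
  let φ : CommRingCat.of k ⟶ CommRingCat.of B := CommRingCat.ofHom (algebraMap k B)
  let q : C ⟶ Spec (CommRingCat.of B) := C.toSpecΓ ≫ Spec.map (CommRingCat.ofHom B.val.toRingHom)
  have hBf := isField_of_isFU hid hB
  haveI : Subsingleton (Spec (CommRingCat.of B)) := by
    letI := hBf.toField
    exact inferInstanceAs (Subsingleton (PrimeSpectrum B))
  have hqf : q ≫ Spec.map φ = f := by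
    have : φ ≫ CommRingCat.ofHom B.val.toRingHom = (Scheme.ΓSpecIso (CommRingCat.of k)).inv ≫ f.appTop := rfl
    rw [Category.assoc, ← Spec.map_comp, this, Spec.map_comp, ← Scheme.toSpecΓ_naturality_assoc,
      toSpecΓ_SpecMap_ΓSpecIso_inv, Category.comp_id]
  have hqinj : Function.Injective q.appTop.hom := by
    have h2 : (Scheme.ΓSpecIso (CommRingCat.of B)).inv ≫ q.appTop = CommRingCat.ofHom B.val.toRingHom := by
      rw [Scheme.Hom.comp_appTop, Scheme.toSpecΓ_appTop, ← Category.assoc,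
        ← Scheme.ΓSpecIso_inv_naturality, Category.assoc, Iso.inv_hom_id, Category.comp_id]
    rw [show q.appTop = (Scheme.ΓSpecIso (CommRingCat.of B)).hom ≫ CommRingCat.ofHom B.val.toRingHom by
      rw [← h2, Iso.hom_inv_id_assoc]]
    exact Subtype.val_injective.comp (Scheme.ΓSpecIso (CommRingCat.of B)).commRingCatIsoToRingEquiv.injective
  refine ⟨CommRingCat.of B, φ, q, ?_, hBf, ?_, hqf, ?_⟩
  · rw [HasRingHomProperty.Spec_iff (P := @Etale)]
    exact (RingHom.etale_algebraMap (R := k) (S := B)).2 (etale_of_isFU hid hB)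
  · letI := hBf.toField
    infer_instance
  intro Y gY h hY hh
  haveI := hY
  haveI : LocallyQuasiFinite gY := by
    exact (HasRingHomProperty.iff_appLE (P := @LocallyQuasiFinite)).2 fun U V e => by
      have h' := HasRingHomProperty.appLE (P := @Etale) gY inferInstance U V e
      algebraize [(gY.appLE U V e).hom]
      exact RingHom.quasiFinite_algebraMap.2 (inferInstance : Algebra.QuasiFinite _ _)
  haveI : IsLocallyArtinian Y := IsLocallyArtinian.of_locallyQuasiFinite gY
  obtain ⟨x₀⟩ : Nonempty C := inferInstance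
  obtain ⟨V, hV, hxV, -⟩ := exists_isAffineOpen_mem_and_subset (Opens.mem_top (h x₀))
  haveI : IsAffine (V : Scheme.{u}) := hV
  have hconst : ∀ c, h c = h x₀ := fun c =>
    (isPreconnected_range h.continuous).subsingleton ⟨c, rfl⟩ ⟨x₀, rfl⟩
  let a : C ⟶ V := IsOpenImmersion.lift V.ι h (by
    rw [Scheme.Opens.range_ι]
    rintro _ ⟨c, rfl⟩
    rw [hconst c]
    exact hxV)
  have ha : a ≫ V.ι = h := IsOpenImmersion.lift_fac _ _ _
  refine ⟨?_, ?_⟩
  · let α : CommRingCat.of k ⟶ Γ((V : Scheme.{u}), ⊤) :=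
      (Scheme.ΓSpecIso (CommRingCat.of k)).inv ≫ (V.ι ≫ gY).appTop
    letI : Algebra k Γ((V : Scheme.{u}), ⊤) := α.hom.toAlgebra
    haveI : Algebra.Etale k Γ((V : Scheme.{u}), ⊤) := by
      refine RingHom.etale_algebraMap.1 ?_
      exact RingHom.Etale.respectsIso.2 (V.ι ≫ gY).appTop.hom
        (Scheme.ΓSpecIso (CommRingCat.of k)).symm.commRingCatIsoToRingEquiv
        (HasRingHomProperty.appTop (P := @Etale) _ inferInstance)
    haveI : Module.Finite k Γ((V : Scheme.{u}), ⊤) := Algebra.FormallyUnramified.finite_of_free k _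
    have hcomm : α ≫ a.appTop = (Scheme.ΓSpecIso (CommRingCat.of k)).inv ≫ f.appTop := by
      rw [Category.assoc, ← Scheme.Hom.comp_appTop, ← Category.assoc a, ha, hh]
    let ψ : Γ((V : Scheme.{u}), ⊤) →ₐ[k] Γ(C, ⊤) :=
      { toRingHom := a.appTop.hom, commutes' := fun r => congrArg (fun m => m.hom r) hcomm }
    have hle := hmax _ (isFU_range ψ)
    let β : Γ((V : Scheme.{u}), ⊤) →ₐ[k] B := ψ.codRestrict B fun v => hle ⟨v, rfl⟩
    have hβ : CommRingCat.ofHom β.toRingHom ≫ CommRingCat.ofHom B.val.toRingHom = a.appTop := rfl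
    have hαβ : α ≫ CommRingCat.ofHom β.toRingHom = φ := CommRingCat.hom_ext (RingHom.ext fun r => β.commutes r)
    refine ⟨Spec.map (CommRingCat.ofHom β.toRingHom) ≫ (V : Scheme.{u}).isoSpec.inv ≫ V.ι, ?_, ?_⟩
    · have : (V : Scheme.{u}).isoSpec.inv ≫ V.ι ≫ gY = Spec.map α := by
        rw [Iso.inv_comp_eq, Scheme.isoSpec_hom, Spec.map_comp, ← Scheme.toSpecΓ_naturality_assoc,
          toSpecΓ_SpecMap_ΓSpecIso_inv, Category.comp_id]
      rw [Category.assoc, Category.assoc, this, ← Spec.map_comp]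
      exact congrArg Spec.map hαβ
    · rw [Category.assoc, ← Spec.map_comp_assoc, hβ, ← Scheme.toSpecΓ_naturality_assoc,
        Scheme.toSpecΓ_isoSpec_inv_assoc, ha]
  · intro t t' ht ht'
    have hr : ∀ s : Spec (CommRingCat.of B) ⟶ Y, q ≫ s = h → Set.range s ⊆ Set.range V.ι := by
      intro s hs
      rw [Scheme.Opens.range_ι]
      rintro _ ⟨z, rfl⟩
      rw [Subsingleton.elim z (q x₀), ← Scheme.Hom.comp_apply, hs]
      exact hxV
    obtain ⟨b, hb⟩ : ∃ b, b ≫ V.ι = t := ⟨_, IsOpenImmersion.lift_fac V.ι t (hr t ht)⟩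
    obtain ⟨b', hb'⟩ : ∃ b, b ≫ V.ι = t' := ⟨_, IsOpenImmersion.lift_fac V.ι t' (hr t' ht')⟩
    have : q ≫ b = q ≫ b' := by
      rw [← cancel_mono V.ι, Category.assoc (f := q), Category.assoc (f := q), hb, hb', ht, ht']
    have hbb : b = b' := by
      refine ext_of_isAffine (CommRingCat.hom_ext (RingHom.ext fun v => hqinj ?_))
      have h3 := congrArg Scheme.Hom.appTop this
      rw [Scheme.Hom.comp_appTop, Scheme.Hom.comp_appTop] at h3
      exact congrArg (fun m : _ ⟶ _ => (CommRingCat.Hom.hom m) v) h3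
    rw [← hb, ← hb', hbb]

end Comp

section Glue

variable {k : Type u} [Field k]

theorem isOpen_cc {X : Scheme.{u}} [IsLocallyNoetherian X] (x : X) : IsOpen (connectedComponent x) := by
  rw [isOpen_iff_mem_nhds]
  intro y hy
  obtain ⟨V, hV, hyV, -⟩ := exists_isAffineOpen_mem_and_subset (Opens.mem_top y)
  haveI : IsAffine (V : Scheme.{u}) := hV
  haveI : CompactSpace (V : Scheme.{u}) := inferInstance
  haveI : IsNoetherian (V : Scheme.{u}) := {}
  haveI : NoetherianSpace (V : Scheme.{u}) := inferInstance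
  refine Filter.mem_of_superset ((V.ι.isOpenEmbedding.isOpenMap _
    (isOpen_cc_noeth (α := (V : Scheme.{u})) ⟨y, hyV⟩)).mem_nhds
      ⟨⟨y, hyV⟩, mem_connectedComponent, rfl⟩) ?_
  rw [connectedComponent_eq hy]
  exact V.ι.continuous.image_connectedComponent_subset _

theorem main {X : Scheme.{u}} (f : X ⟶ Spec (CommRingCat.of k)) [LocallyOfFiniteType f] :
    ∃ (P : Scheme.{u}) (g : P ⟶ Spec (CommRingCat.of k)) (q : X ⟶ P), Etale g ∧ q ≫ g = f ∧
      (∀ (Y : Scheme.{u}) (gY : Y ⟶ Spec (CommRingCat.of k)) (h : X ⟶ Y), Etale gY → h ≫ gY = f →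
        ∃! t : P ⟶ Y, t ≫ gY = g ∧ q ≫ t = h) ∧
      Flat q ∧ Surjective q ∧
      ∀ x : ↥X, (fun x' : ↥X => q x') ⁻¹' {q x} = connectedComponent x := by
  haveI : IsLocallyNoetherian X := LocallyOfFiniteType.isLocallyNoetherian f
  let ι := _root_.ConnectedComponents X
  let U : ι → X.Opens := fun c => ⟨(ConnectedComponents.mk : X → ι) ⁻¹' {c}, by
    obtain ⟨x, rfl⟩ := ConnectedComponents.surjective_coe c
    rw [connectedComponents_preimage_singleton]
    exact isOpen_cc x⟩
  haveI : ∀ c, ConnectedSpace (U c : Scheme.{u}) := fun c => isConnected_iff_connectedSpace.1 (by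
    obtain ⟨x, rfl⟩ := ConnectedComponents.surjective_coe c
    show _root_.IsConnected ((ConnectedComponents.mk : X → ι) ⁻¹' {ConnectedComponents.mk x})
    rw [connectedComponents_preimage_singleton]
    exact isConnected_connectedComponent)
  choose K φ qc hφ hK hqflat hqf huniv using fun c => exists_univ ((U c).ι ≫ f)
  obtain ⟨hcol⟩ : Nonempty (IsColimit (Cofan.mk X fun c => (U c).ι)) := by
    refine nonempty_isColimit_cofanMk_of _ ?_ ?_
    · refine eq_top_iff.2 fun x _ => Opens.mem_iSup.2 ⟨ConnectedComponents.mk x, ?_⟩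
      rw [Scheme.Opens.opensRange_ι]
      exact rfl
    · intro c c' hcc
      simp only [Function.onFun, Scheme.Opens.opensRange_ι, disjoint_iff]
      refine eq_bot_iff.2 fun x hx => ?_
      exact (hcc (hx.1.symm.trans hx.2)).elim
  let g : (∐ fun c => Spec (K c)) ⟶ Spec (CommRingCat.of k) := Sigma.desc fun c => Spec.map (φ c)
  let q : X ⟶ ∐ fun c => Spec (K c) :=
    Cofan.IsColimit.desc hcol fun c => qc c ≫ Sigma.ι (fun c => Spec (K c)) c
  have hq : ∀ c, (U c).ι ≫ q = qc c ≫ Sigma.ι (fun c => Spec (K c)) c := fun c =>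
    Cofan.IsColimit.fac hcol _ c
  have hsub : ∀ c, Subsingleton (Spec (K c)) := fun c => by
    letI := (hK c).toField
    exact inferInstanceAs (Subsingleton (PrimeSpectrum (K c)))
  have hpt : ∀ c (u : (U c : Scheme.{u})), q ((U c).ι u) = Sigma.ι (fun c => Spec (K c)) c (qc c u) := fun c u => by
    rw [← Scheme.Hom.comp_apply, hq, Scheme.Hom.comp_apply]
  refine ⟨_, g, q, ?_, ?_, ?_, ?_, ?_, ?_⟩
  · refine (IsZariskiLocalAtSource.iff_of_openCover (P := @Etale) (sigmaOpenCover fun c => Spec (K c))).2 fun c => ?_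
    show Etale (Sigma.ι (fun c => Spec (K c)) c ≫ g)
    rw [Sigma.ι_desc]
    exact hφ c
  · refine Cofan.IsColimit.hom_ext hcol _ _ fun c => ?_
    show (U c).ι ≫ q ≫ g = (U c).ι ≫ f
    rw [← Category.assoc, hq, Category.assoc, Sigma.ι_desc, hqf]
  · intro Y gY h hY hh
    choose t ht using fun c => (huniv c Y gY ((U c).ι ≫ h) hY (by rw [Category.assoc, hh])).1
    refine ⟨Sigma.desc t, ⟨Sigma.hom_ext _ _ fun c => ?_, Cofan.IsColimit.hom_ext hcol _ _ fun c => ?_⟩, ?_⟩
    · rw [Sigma.ι_desc_assoc, Sigma.ι_desc]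
      exact (ht c).1
    · show (U c).ι ≫ q ≫ Sigma.desc t = (U c).ι ≫ h
      rw [← Category.assoc, hq, Category.assoc, Sigma.ι_desc, (ht c).2]
    · rintro s ⟨-, hs⟩
      refine Sigma.hom_ext _ _ fun c => ?_
      rw [Sigma.ι_desc]
      refine (huniv c Y gY ((U c).ι ≫ h) hY (by rw [Category.assoc, hh])).2 _ _ ?_ (ht c).2
      rw [← Category.assoc, ← hq, Category.assoc, hs]
  · let 𝒰 : X.OpenCover := X.openCoverOfIsOpenCover U (.mk (eq_top_iff.2 fun x _ =>
      Opens.mem_iSup.2 ⟨ConnectedComponents.mk x, rfl⟩))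
    refine (IsZariskiLocalAtSource.iff_of_openCover (P := @Flat) 𝒰).2 fun c => ?_
    show Flat ((U c).ι ≫ q)
    rw [hq]
    haveI := hqflat c
    infer_instance
  · refine ⟨fun p => ?_⟩
    obtain ⟨c, z, rfl⟩ := (sigmaOpenCover fun c => Spec (K c)).exists_eq p
    obtain ⟨u⟩ : Nonempty (U c : Scheme.{u}) := inferInstance
    refine ⟨(U c).ι u, ?_⟩
    rw [hpt, (hsub c).elim (qc c u) z]
    rfl
  · intro x
    rw [← connectedComponents_preimage_singleton]
    have hx : ∀ z : X, q z = Sigma.ι (fun c => Spec (K c)) (ConnectedComponents.mk z)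
        (qc _ (⟨z, rfl⟩ : (U (ConnectedComponents.mk z) : Scheme.{u}))) := fun z => hpt _ ⟨z, rfl⟩
    ext z
    simp only [Set.mem_preimage, Set.mem_singleton_iff]
    constructor
    · intro hzx
      rw [hx, hx] at hzx
      exact congrArg Sigma.fst ((sigmaι_eq_iff _ _ _ _ _).1 hzx)
    · intro hzx
      rw [hx, hx]
      refine (sigmaι_eq_iff _ _ _ _ _).2 ?_
      have key : ∀ (c c' : ι), c = c' → ∀ (a : Spec (K c)) (b : Spec (K c')),
          (Sigma.mk c a : Σ i, Spec (K i)) = Sigma.mk c' b := by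
        rintro c _ rfl a b
        rw [(hsub c).elim a b]
      exact key _ _ hzx _ _

end Glue

end Groth.Agent.KS29.CompScheme
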