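import Groth.Prelude.Def_HTop2
import Groth.Prelude.Def_Pi1
import Groth.Agent.Lib.Seminormal26.Ring
import Groth.Agent.Lib.Pinch4.Props
import Groth.Agent.Lib.RelMin32.Factor
import Groth.Agent.Lib.MinPoint13.Basic
import Groth.Agent.Lib.GrpNeutral20.FlatHom
import Groth.Agent.S7420

/-!
The conductor square of a seminormal curve.
-/

universe u

set_option autoImplicit false
set_option backward.isDefEq.respectTransparency false
set_option backward.isDefEq.respectTransparency.types false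
set_option maxHeartbeats 1600000

open CategoryTheory CategoryTheory.Limits AlgebraicGeometry TopologicalSpace

namespace Groth.Agent.KS29.Cond

section ring

variable {A B : Type u} [CommRing A] [CommRing B] [IsReduced B] (φ : A →+* B)

/-- The conductor. -/
def cond : Ideal A where
  carrier := {a | ∀ β : B, φ a * β ∈ φ.range}
  add_mem' := by
    intro a b ha hb β
    rw [map_add, add_mul]
    exact φ.range.add_mem (ha β) (hb β)
  zero_mem' := fun β => by rw [map_zero, zero_mul]; exact φ.range.zero_mem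
  smul_mem' := by
    intro c a ha β
    rw [smul_eq_mul, map_mul, mul_assoc]
    exact φ.range.mul_mem ⟨c, rfl⟩ (ha β)

variable {φ}

theorem root_of_sn (hinj : Function.Injective φ) (hA : HTop.IsSeminormalRing A) {b : B}
    (h2 : b ^ 2 ∈ φ.range) (h3 : b ^ 3 ∈ φ.range) : ∃ a, φ a = b := by
  obtain ⟨x, hx⟩ := h2
  obtain ⟨y, hy⟩ := h3
  obtain ⟨a, ⟨ha, ha'⟩, -⟩ := hA x y (hinj (by rw [map_pow, map_pow, hx, hy]; ring))
  exact ⟨a, SN26.ext_sq_cube (by rw [← map_pow, ← ha, hx]) (by rw [← map_pow, ← ha', hy])⟩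

theorem cond_isRadical (hinj : Function.Injective φ) (hA : HTop.IsSeminormalRing A) :
    (cond φ).IsRadical := by
  rw [Ideal.isRadical_iff_pow_one_lt 2 one_lt_two]
  intro x hx β
  have hx' : ∀ γ : B, φ x ^ 2 * γ ∈ φ.range := fun γ => by rw [← map_pow]; exact hx γ
  refine RingHom.mem_range.2 (root_of_sn hinj hA ?_ ?_)
  · rw [mul_pow]; exact hx' _
  · rw [show (φ x * β) ^ 3 = φ x ^ 2 * (φ x * β ^ 3) by ring]; exact hx' _

/-- Over a normal localisation the extension is trivial. -/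
theorem exists_notMem_mul (hinj : Function.Injective φ) (hint : φ.IsIntegral) {t : A}
    (ht : ∀ z : B, φ t * z = 0 → z = 0) (p : Ideal A) [p.IsPrime]
    [IsDomain (Localization.AtPrime p)] [IsIntegrallyClosed (Localization.AtPrime p)]
    (β : B) (hβ : ∃ n : ℕ, φ t ^ n * β ∈ φ.range) : ∃ s ∉ p, φ s * β ∈ φ.range := by
  obtain ⟨n, a, ha⟩ := hβ
  let L := Localization.AtPrime p
  let K := FractionRing L
  let ι : A →+* K := (algebraMap L K).comp (algebraMap A L)
  have hT : ι (t ^ n) ≠ 0 := by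
    intro h0
    obtain ⟨⟨m, hm⟩, hmt⟩ := (IsLocalization.map_eq_zero_iff p.primeCompl L (t ^ n)).1
      (IsFractionRing.injective L K (h0.trans (map_zero _).symm))
    refine hm ?_
    have hk : ∀ (k : ℕ) (z : B), φ t ^ k * z = 0 → z = 0 := by
      intro k
      induction k with
      | zero => intro z hz; simpa using hz
      | succ k ih => intro z hz; exact ht z (ih _ (by rw [← mul_assoc, ← pow_succ]; exact hz))
    have h1 : φ m = 0 := hk n _ (by rw [← map_pow, ← map_mul, mul_comm, show m * t ^ n = 0 from hmt, map_zero])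
    rw [hinj (h1.trans (map_zero φ).symm)]
    exact p.zero_mem
  obtain ⟨P, hP, hPβ⟩ := hint β
  have h0 : (P.scaleRoots (t ^ n)).eval a = 0 := hinj (by
    rw [map_zero, ← Polynomial.eval₂_at_apply, show φ a = φ (t ^ n) * β by rw [map_pow]; exact ha]
    exact Polynomial.scaleRoots_eval₂_eq_zero _ hPβ)
  let y : K := ι a / ι (t ^ n)
  have hy : ι (t ^ n) * y = ι a := mul_div_cancel₀ _ hT
  have hyP : P.eval₂ ι y = 0 := by
    have h1 := Polynomial.scaleRoots_eval₂_mul (p := P) ι y (t ^ n)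
    rw [hy, Polynomial.eval₂_at_apply, h0, map_zero] at h1
    exact (mul_eq_zero.1 h1.symm).resolve_left (pow_ne_zero _ hT)
  have hyint : IsIntegral L y :=
    ⟨P.map (algebraMap A L), hP.map _, by rw [Polynomial.eval₂_map]; exact hyP⟩
  obtain ⟨l, hl⟩ := IsIntegrallyClosed.algebraMap_eq_of_integral hyint
  obtain ⟨r, ⟨s, hs⟩, rfl⟩ := IsLocalization.exists_mk'_eq p.primeCompl l
  have h2 : algebraMap A L (a * s) = algebraMap A L (t ^ n * r) := by
    apply IsFractionRing.injective L K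
    have h3 := congrArg (algebraMap L K) (IsLocalization.mk'_spec L r ⟨s, hs⟩)
    rw [map_mul, hl] at h3
    show ι (a * s) = ι (t ^ n * r)
    rw [map_mul, map_mul, ← hy, mul_assoc]
    exact congrArg (ι (t ^ n) * ·) h3
  obtain ⟨⟨m, hm⟩, hmeq⟩ := (IsLocalization.eq_iff_exists p.primeCompl L).1 h2
  refine ⟨m * s, fun h => (Ideal.IsPrime.mem_or_mem inferInstance h).elim hm hs, ⟨m * r, ?_⟩⟩
  have h4 : φ m * (φ a * φ s) = φ m * (φ (t ^ n) * φ r) := by
    rw [← map_mul φ a, ← map_mul φ (t ^ n), ← map_mul, ← map_mul]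
    exact congrArg φ hmeq
  have hk : ∀ (k : ℕ) (z : B), φ t ^ k * z = 0 → z = 0 := by
    intro k
    induction k with
    | zero => intro z hz; simpa using hz
    | succ k ih => intro z hz; exact ht z (ih _ (by rw [← mul_assoc, ← pow_succ]; exact hz))
  refine sub_eq_zero.1 (hk n _ ?_)
  rw [map_mul, map_mul]
  rw [map_pow, ha] at h4
  linear_combination -h4

theorem le_cond (hinj : Function.Injective φ) (hA : HTop.IsSeminormalRing A) (hfin : φ.Finite) {t : A}
    (ht : ∀ z : B, φ t * z = 0 → z = 0) (hB : ∀ β : B, ∃ n : ℕ, φ t ^ n * β ∈ φ.range) (I : Ideal A)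
    (hI : ∀ (p : Ideal A) [p.IsPrime], ¬ I ≤ p →
      IsDomain (Localization.AtPrime p) ∧ IsIntegrallyClosed (Localization.AtPrime p)) :
    I ≤ cond φ := by
  intro x hx
  rw [← (cond_isRadical hinj hA).radical, Ideal.radical_eq_sInf, Submodule.mem_sInf]
  rintro p ⟨hle, hp⟩
  by_contra hxp
  haveI := hp
  obtain ⟨h1, h2⟩ := hI p fun h => hxp (h hx)
  haveI := h1
  haveI := h2
  letI := φ.toAlgebra
  haveI : Module.Finite A B := hfin
  obtain ⟨S, hS⟩ := Module.Finite.fg_top (R := A) (M := B)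
  have hone : ∀ β : B, ∃ s ∉ p, φ s * β ∈ φ.range := fun β =>
    exists_notMem_mul hinj hfin.to_isIntegral ht p β (hB β)
  choose s hs hsβ using hone
  let σ : A := ∏ β ∈ S, s β
  have hσ : σ ∉ p := by
    intro h
    obtain ⟨β, -, hβ⟩ := Ideal.IsPrime.prod_mem_iff.1 h
    exact hs β hβ
  refine hσ (hle fun β => ?_)
  induction (hS.ge (Submodule.mem_top : β ∈ ⊤) : β ∈ Submodule.span A (S : Set B)) using Submodule.span_induction with
  | mem z hz =>
    obtain ⟨c, hc⟩ := Finset.dvd_prod_of_mem s hz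
    rw [show σ = s z * c from hc, map_mul, mul_comm (φ (s z)), mul_assoc]
    exact φ.range.mul_mem ⟨c, rfl⟩ (hsβ z)
  | zero => rw [mul_zero]; exact φ.range.zero_mem
  | add y z _ _ hy hz => rw [mul_add]; exact φ.range.add_mem hy hz
  | smul a z _ hz =>
    rw [show a • z = φ a * z from rfl, mul_left_comm]
    exact φ.range.mul_mem ⟨a, rfl⟩ hz

theorem exists_mem_eq (hinj : Function.Injective φ) (hint : φ.IsIntegral) {I : Ideal A} (hrad : I.IsRadical)
    (hIc : I ≤ cond φ) {z : B} (hz : z ∈ I.map φ) : ∃ x ∈ I, φ x = z := by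
  have hr : z ∈ φ.range := by
    have h : ∀ β : B, z * β ∈ φ.range := by
      induction hz using Submodule.span_induction with
      | mem y hy => obtain ⟨x, hx, rfl⟩ := hy; exact hIc hx
      | zero => intro β; rw [zero_mul]; exact φ.range.zero_mem
      | add y y' _ _ hy hy' => intro β; rw [add_mul]; exact φ.range.add_mem (hy β) (hy' β)
      | smul c y _ hy =>
        intro β
        rw [smul_eq_mul, mul_comm c, mul_assoc]
        exact hy _
    simpa using h 1
  obtain ⟨x, rfl⟩ := hr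
  refine ⟨x, ?_, rfl⟩
  rw [← hrad.radical, Ideal.radical_eq_sInf, Submodule.mem_sInf]
  rintro p ⟨hle, hp⟩
  haveI := hp
  letI := φ.toAlgebra
  haveI : Algebra.IsIntegral A B := ⟨hint⟩
  obtain ⟨P, -, hP, hPp⟩ := Ideal.exists_ideal_over_prime_of_isIntegral (S := B) p ⊥
    (show RingHom.ker φ ≤ p by rw [(RingHom.injective_iff_ker_eq_bot φ).1 hinj]; exact bot_le)
  have hcm : P.comap φ = p := hPp
  rw [← hcm]
  exact Ideal.mem_comap.2 ((Ideal.map_le_iff_le_comap.2 (hle.trans hcm.ge)) hz)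

theorem map_isRadical (hinj : Function.Injective φ) (hA : HTop.IsSeminormalRing A) (hint : φ.IsIntegral)
    {I : Ideal A} (hrad : I.IsRadical) (hIc : I ≤ cond φ) : (I.map φ).IsRadical := by
  rw [Ideal.isRadical_iff_pow_one_lt 2 one_lt_two]
  intro b hb
  have hb3 : b ^ 3 ∈ I.map φ := by rw [pow_succ]; exact Ideal.mul_mem_right _ _ hb
  obtain ⟨x, hx, hxb⟩ := exists_mem_eq hinj hint hrad hIc hb
  obtain ⟨y, -, hyb⟩ := exists_mem_eq hinj hint hrad hIc hb3
  obtain ⟨a, rfl⟩ := root_of_sn hinj hA ⟨x, hxb⟩ ⟨y, hyb⟩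
  refine Ideal.mem_map_of_mem _ (hrad ⟨2, ?_⟩)
  rw [show a ^ 2 = x from hinj (by rw [map_pow, hxb])]
  exact hx

end ring

variable {C Cn D : Scheme.{u}} (ν : Cn ⟶ C) (d : D ⟶ C)

/-- The data of a seminormal curve. -/
structure Data : Prop where
  fin : IsFinite ν
  sn : ∀ U : C.affineOpens, HTop.IsSeminormalRing Γ(C, U)
  noeth : IsLocallyNoetherian C
  red : IsReduced C
  redn : IsReduced Cn
  bir : ∃ U : C.Opens, Dense (U : Set C) ∧ Dense ((ν ⁻¹ᵁ U : Cn.Opens) : Set Cn) ∧ IsIso (ν ∣_ U)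
  closed : IsClosedImmersion d
  redD : IsReduced D
  normal : ∀ x : C, x ∉ Set.range d → IsDomain (C.presheaf.stalk x) ∧ IsIntegrallyClosed (C.presheaf.stalk x)
  disc : ∀ δ δ' : D, δ' ⤳ δ → δ' = δ

variable {ν d}

theorem Data.exists_denom (h : Data ν d) {U : C.Opens} (hU : IsAffineOpen U) :
    ∃ t : Γ(C, U), Function.Injective (ν.app U).hom ∧
      (∀ z, (ν.app U).hom t * z = 0 → z = 0) ∧
      ∀ β, ∃ n : ℕ, (ν.app U).hom t ^ n * β ∈ (ν.app U).hom.range := by
  classical
  haveI := h.red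
  haveI := h.redn
  haveI := h.noeth
  haveI := h.fin
  haveI : IsNoetherianRing Γ(C, U) := IsLocallyNoetherian.component_noetherian ⟨U, hU⟩
  obtain ⟨U₀, hd₀, hdn, hiso⟩ := h.bir
  let A := Γ(C, U)
  let O₀ : Opens (PrimeSpectrum A) := hU.fromSpec ⁻¹ᵁ U₀
  have hfinmin := minimalPrimes.finite_of_isNoetherianRing A
  have hdense : Dense (hU.fromSpec ⁻¹' (U₀ : Set C)) := hd₀.preimage hU.fromSpec.isOpenEmbedding.isOpenMap
  have hmin : ∀ P : PrimeSpectrum A, P.asIdeal ∈ minimalPrimes A → P ∈ O₀ := by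
    intro P hP
    obtain ⟨f, hf, hfP⟩ : ∃ f : A, (∀ Q ∈ minimalPrimes A, Q ≠ P.asIdeal → f ∈ Q) ∧ f ∉ P.asIdeal := by
      let T := hfinmin.toFinset.erase P.asIdeal
      have hex : ∀ Q ∈ T, ∃ f : A, f ∈ Q ∧ f ∉ P.asIdeal := by
        intro Q hQ
        obtain ⟨hne, hQm⟩ := Finset.mem_erase.1 hQ
        rw [Set.Finite.mem_toFinset] at hQm
        exact SetLike.not_le_iff_exists.1 fun hle => hne (le_antisymm hle (hP.2 hQm.1 hle))
      choose! f hf1 hf2 using hex
      refine ⟨∏ Q ∈ T, f Q, fun Q hQ hne => ?_, fun hm => ?_⟩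
      · have hQT : Q ∈ T := Finset.mem_erase.2 ⟨hne, hfinmin.mem_toFinset.2 hQ⟩
        exact Ideal.mem_of_dvd _ (Finset.dvd_prod_of_mem f hQT) (hf1 Q hQT)
      · obtain ⟨Q, hQ, hQm⟩ := Ideal.IsPrime.prod_mem_iff.1 hm
        exact hf2 Q hQ hQm
    obtain ⟨Q, hQ1, hQ2⟩ := hdense.exists_mem_open (PrimeSpectrum.basicOpen f).2 ⟨P, hfP⟩
    obtain ⟨M, hM, hMQ⟩ := Ideal.exists_minimalPrimes_le (I := (⊥ : Ideal A)) (J := Q.asIdeal) bot_le
    haveI := hM.1.1
    have hMP : M = P.asIdeal := by_contra fun hne => hQ2 (hMQ (hf M hM hne))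
    exact ((PrimeSpectrum.le_iff_specializes P Q).1 (show P.asIdeal ≤ Q.asIdeal from hMP ▸ hMQ)).mem_open O₀.2 hQ1
  obtain ⟨J, hJ⟩ := (PrimeSpectrum.isClosed_iff_zeroLocus_ideal _).1 O₀.2.isClosed_compl
  obtain ⟨t, htJ, htP⟩ : ∃ t ∈ J, ∀ Q ∈ minimalPrimes A, t ∉ Q := by
    by_contra hc
    simp only [not_exists, not_and, not_forall, not_not] at hc
    have hsub : (J : Set A) ⊆ ⋃ Q ∈ minimalPrimes A, (Q : Set A) := fun x hx => by
      obtain ⟨Q, hQ, hxQ⟩ := hc x hx
      exact Set.mem_iUnion₂.2 ⟨Q, hQ, hxQ⟩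
    obtain ⟨Q, hQ, hJQ⟩ := (Ideal.subset_union_prime_finite hfinmin (f := fun Q => Q) ⊥ ⊥
      (fun Q hQ _ _ => hQ.1.1)).1 hsub
    have h1 : (⟨Q, hQ.1.1⟩ : PrimeSpectrum A) ∉ O₀ := (Set.ext_iff.1 hJ ⟨Q, hQ.1.1⟩).2 hJQ
    exact h1 (hmin ⟨Q, hQ.1.1⟩ hQ)
  have htU : C.basicOpen t ≤ U₀ := by
    intro x hx
    have hxU := C.basicOpen_le t hx
    obtain ⟨p, rfl⟩ : x ∈ Set.range hU.fromSpec := by rw [hU.range_fromSpec]; exact hxU
    have hp : p ∈ PrimeSpectrum.basicOpen t := by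
      rw [← hU.fromSpec_preimage_basicOpen t]; exact hx
    by_contra hn
    exact hp ((Set.ext_iff.1 hJ p).1 hn htJ)
  have hnzd : ∀ z, (ν.app U).hom t * z = 0 → z = 0 := by
    intro z hz
    rw [← basicOpen_eq_bot_iff]
    by_contra hne
    obtain ⟨w, hw⟩ : ((Cn.basicOpen z : Cn.Opens) : Set Cn).Nonempty :=
      Set.nonempty_iff_ne_empty.2 fun he => hne (Opens.ext he)
    obtain ⟨w', hw'₀, hw'⟩ := hdn.exists_mem_open (Cn.basicOpen z).2 ⟨w, hw⟩
    haveI := hiso
    haveI : IsOpenImmersion ((ν ⁻¹ᵁ U₀).ι ≫ ν) := by rw [← morphismRestrict_ι]; infer_instance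
    let im : C.Opens := ((ν ⁻¹ᵁ U₀).ι ≫ ν) ''ᵁ ((ν ⁻¹ᵁ U₀).ι ⁻¹ᵁ Cn.basicOpen z)
    have hx₀ : ν w' ∈ im := ⟨⟨w', hw'₀⟩, hw', rfl⟩
    have hxU : ν w' ∈ U := Cn.basicOpen_le z hw'
    obtain ⟨p, hp⟩ : ν w' ∈ Set.range hU.fromSpec := by rw [hU.range_fromSpec]; exact hxU
    obtain ⟨M, hM, hMp⟩ := Ideal.exists_minimalPrimes_le (I := (⊥ : Ideal A)) (J := p.asIdeal) bot_le
    let P : PrimeSpectrum A := ⟨M, hM.1.1⟩
    have hsp : hU.fromSpec P ⤳ ν w' := hp ▸ ((PrimeSpectrum.le_iff_specializes P p).1 hMp).map hU.fromSpec.continuous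
    obtain ⟨v, hv, hvP⟩ := hsp.mem_open im.2 hx₀
    have hPt : hU.fromSpec P ∈ C.basicOpen t := by
      show P ∈ hU.fromSpec ⁻¹ᵁ C.basicOpen t
      rw [hU.fromSpec_preimage_basicOpen t]
      exact htP M hM
    have hvt : v.1 ∈ Cn.basicOpen ((ν.app U).hom t) := by
      rw [← Scheme.preimage_basicOpen]
      show ν v.1 ∈ C.basicOpen t
      have hvP' : ν v.1 = hU.fromSpec P := hvP
      rw [hvP']
      exact hPt
    have hboth : v.1 ∈ Cn.basicOpen ((ν.app U).hom t * z) := by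
      rw [Cn.basicOpen_mul]; exact ⟨hvt, hv⟩
    rw [hz, Scheme.basicOpen_zero] at hboth
    exact hboth
  have hinjt : ∀ a, t * a = 0 → a = 0 := by
    intro a ha
    refine IsNilpotent.eq_zero (nilpotent_iff_mem_prime.2 fun Q hQ => ?_)
    haveI := hQ
    obtain ⟨M, hM, hMQ⟩ := Ideal.exists_minimalPrimes_le (I := (⊥ : Ideal A)) (J := Q) bot_le
    haveI := hM.1.1
    exact hMQ ((hM.1.1.mem_or_mem (show t * a ∈ M by rw [ha]; exact M.zero_mem)).resolve_left (htP M hM))
  haveI := hiso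
  haveI : IsIso (ν.app (C.basicOpen t)) := by
    haveI : IsIso (ν ∣_ C.basicOpen t) :=
      IsZariskiLocalAtTarget.restrict (P := MorphismProperty.isomorphisms Scheme) (f := ν ∣_ U₀) ‹_› (U₀.ι ⁻¹ᵁ C.basicOpen t) |>
        fun hh => (MorphismProperty.arrow_mk_iso_iff (MorphismProperty.isomorphisms Scheme)
          (morphismRestrictRestrict ν U₀ (U₀.ι ⁻¹ᵁ C.basicOpen t) ≪≫ morphismRestrictEq ν (by
            rw [Scheme.Hom.image_preimage_eq_opensRange_inf, Scheme.Opens.opensRange_ι]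
            exact inf_eq_right.2 htU))).1 hh
    exact (isIso_morphismRestrict_iff_isIso_app ν (hU.basicOpen t)).1 inferInstance
  haveI : IsLocalization.Away t Γ(C, C.basicOpen t) := hU.isLocalization_basicOpen t
  letI : Algebra Γ(Cn, ν ⁻¹ᵁ U) Γ(Cn, ν ⁻¹ᵁ C.basicOpen t) :=
    (Cn.presheaf.map (homOfLE (ν.preimage_mono (C.basicOpen_le t))).op).hom.toAlgebra
  have hnat : ∀ a : A, Cn.presheaf.map (homOfLE (ν.preimage_mono (C.basicOpen_le t))).op ((ν.app U).hom a) =
      ν.app (C.basicOpen t) (algebraMap A Γ(C, C.basicOpen t) a) := fun a =>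
    (ConcreteCategory.congr_hom (ν.naturality (homOfLE (C.basicOpen_le t)).op) a).symm
  have hres0 : ∀ z : Γ(Cn, ν ⁻¹ᵁ U),
      Cn.presheaf.map (homOfLE (ν.preimage_mono (C.basicOpen_le t))).op z = 0 → z = 0 := by
    intro z hz
    haveI : IsLocalization.Away ((ν.app U).hom t) Γ(Cn, ν ⁻¹ᵁ C.basicOpen t) :=
      (hU.preimage ν).isLocalization_of_eq_basicOpen _ (homOfLE (ν.preimage_mono (C.basicOpen_le t)))
        (Scheme.preimage_basicOpen ν t)
    obtain ⟨⟨_, k, rfl⟩, hk⟩ := (IsLocalization.map_eq_zero_iff (Submonoid.powers ((ν.app U).hom t))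
      Γ(Cn, ν ⁻¹ᵁ C.basicOpen t) z).1 hz
    induction k generalizing z with
    | zero => simpa using hk
    | succ k ih =>
      refine hnzd z (ih _ ?_ ?_)
      · rw [map_mul, hz, mul_zero]
      · rw [← mul_assoc, ← pow_succ]; exact hk
  refine ⟨t, (injective_iff_map_eq_zero _).2 fun a ha => ?_, hnzd, fun β => ?_⟩
  · have h1 : algebraMap A Γ(C, C.basicOpen t) a = 0 := by
      apply (ConcreteCategory.bijective_of_isIso (ν.app (C.basicOpen t))).1
      rw [← hnat, ha, map_zero, map_zero]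
    obtain ⟨⟨_, k, rfl⟩, hk⟩ := (IsLocalization.map_eq_zero_iff (Submonoid.powers t) Γ(C, C.basicOpen t) a).1 h1
    clear ha h1
    induction k generalizing a with
    | zero => simpa using hk
    | succ k ih => exact hinjt a (ih _ (by rw [← mul_assoc, ← pow_succ]; exact hk))
  · obtain ⟨c, hc⟩ := (ConcreteCategory.bijective_of_isIso (ν.app (C.basicOpen t))).2
      (Cn.presheaf.map (homOfLE (ν.preimage_mono (C.basicOpen_le t))).op β)
    obtain ⟨⟨a, ⟨_, k, rfl⟩⟩, hak⟩ := IsLocalization.surj (Submonoid.powers t) c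
    refine ⟨k, a, sub_eq_zero.1 (hres0 _ ?_)⟩
    rw [map_sub, map_mul, hnat, ← hak, map_mul, hc, ← map_pow, hnat, sub_eq_zero, mul_comm]

theorem Data.le_cond (h : Data ν d) {U : C.Opens} (hU : IsAffineOpen U) :
    Function.Injective (ν.app U).hom ∧ (RingHom.ker (d.app U).hom).IsRadical ∧ (ν.app U).hom.IsIntegral ∧
      RingHom.ker (d.app U).hom ≤ cond (ν.app U).hom := by
  haveI := h.fin
  haveI := h.redn
  haveI := h.redD
  obtain ⟨t, hinj, ht, hB⟩ := h.exists_denom hU
  have hfin : (ν.app U).hom.Finite := IsFinite.finite_app ν U hU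
  refine ⟨hinj, fun a ⟨n, hn⟩ => ?_, hfin.to_isIntegral,
    Cond.le_cond hinj (h.sn ⟨U, hU⟩) hfin ht hB _ fun p _ hp => ?_⟩
  · rw [RingHom.mem_ker, map_pow] at hn
    exact RingHom.mem_ker.2 (IsNilpotent.eq_zero ⟨n, hn⟩)
  · obtain ⟨f, hf, hfp⟩ := SetLike.not_le_iff_exists.1 hp
    let q : PrimeSpectrum Γ(C, U) := ⟨p, inferInstance⟩
    have hqU : hU.fromSpec q ∈ U := by
      show hU.fromSpec q ∈ (U : Set C)
      rw [← hU.range_fromSpec]; exact ⟨q, rfl⟩
    have hx : hU.fromSpec q ∉ Set.range d := by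
      rintro ⟨δ, hδ⟩
      have h1 : δ ∈ d ⁻¹ᵁ C.basicOpen f := by
        show d δ ∈ C.basicOpen f
        rw [hδ]
        show q ∈ hU.fromSpec ⁻¹ᵁ C.basicOpen f
        rw [hU.fromSpec_preimage_basicOpen f]
        exact hfp
      rw [Scheme.preimage_basicOpen, show d.app U f = 0 from hf, Scheme.basicOpen_zero] at h1
      exact h1
    obtain ⟨hd1, hd2⟩ := h.normal _ hx
    letI : Algebra Γ(C, U) (C.presheaf.stalk (hU.fromSpec q)) :=
      (C.presheaf.germ U (hU.fromSpec q) hqU).hom.toAlgebra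
    haveI : IsLocalization.AtPrime (C.presheaf.stalk (hU.fromSpec q)) p := hU.isLocalization_stalk' q hqU
    let e := (IsLocalization.algEquiv p.primeCompl (C.presheaf.stalk (hU.fromSpec q)) (Localization.AtPrime p)).toRingEquiv
    exact ⟨e.symm.toMulEquiv.isDomain, IsIntegrallyClosed.of_equiv e⟩

theorem Data.chart (h : Data ν d) {U : C.Opens} (hU : IsAffineOpen U) :
    Pinch4.Chart (pullback.fst ν d) (pullback.snd ν d) ν d U ∧
      _root_.IsReduced Γ(pullback ν d, pullback.fst ν d ⁻¹ᵁ ν ⁻¹ᵁ U) := by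
  haveI := h.fin
  haveI := h.redn
  haveI := h.closed
  obtain ⟨hinj, hrad, hint, hle⟩ := h.le_cond hU
  let i := pullback.fst ν d
  let j := pullback.snd ν d
  haveI : IsClosedImmersion (d ∣_ U) := IsZariskiLocalAtTarget.restrict (P := @IsClosedImmersion) inferInstance _
  haveI : IsClosedImmersion i := MorphismProperty.pullback_fst _ _ inferInstance
  have hV : IsAffineOpen (ν ⁻¹ᵁ U) := hU.preimage ν
  have hle' : i ⁻¹ᵁ ν ⁻¹ᵁ U ≤ j ⁻¹ᵁ d ⁻¹ᵁ U := by
    rw [← Scheme.Hom.comp_preimage, pullback.condition, Scheme.Hom.comp_preimage]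
  have hker : RingHom.ker (i.app (ν ⁻¹ᵁ U)).hom = (RingHom.ker (d.app U).hom).map (ν.app U).hom := by
    rw [CI2.ker_app_of_isPullback (i := d) (g := ν) (i' := i) (g' := j) (IsPullback.of_hasPullback ν d).flip hU hV le_rfl,
      ← Scheme.Hom.app_eq_appLE]
  have hsurj : Function.Surjective (i.app (ν ⁻¹ᵁ U)).hom := i.app_surjective _ hV
  have hcomm : ∀ x, (j.appLE (d ⁻¹ᵁ U) (i ⁻¹ᵁ ν ⁻¹ᵁ U) hle').hom ((d.app U).hom x) =
      (i.app (ν ⁻¹ᵁ U)).hom ((ν.app U).hom x) := by
    intro x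
    have hc : ν.app U ≫ i.app (ν ⁻¹ᵁ U) = d.app U ≫ j.appLE (d ⁻¹ᵁ U) (i ⁻¹ᵁ ν ⁻¹ᵁ U) hle' := by
      rw [i.app_eq_appLE, ν.app_eq_appLE, d.app_eq_appLE, Scheme.Hom.appLE_comp_appLE,
        Scheme.Hom.appLE_comp_appLE]
      simp only [show i ≫ ν = j ≫ d from pullback.condition]
    exact (ConcreteCategory.congr_hom hc x).symm
  refine ⟨⟨hU, hV, hU.preimage d, hV.preimage i, hle', ⟨hsurj, hcomm, fun b a' hba => ?_, fun x y hd hn => hinj hn⟩⟩, ?_⟩
  · obtain ⟨a, rfl⟩ := d.app_surjective _ hU b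
    have hmem : a' - (ν.app U).hom a ∈ (RingHom.ker (d.app U).hom).map (ν.app U).hom := by
      rw [← hker, RingHom.mem_ker, map_sub, sub_eq_zero, ← hcomm, ← hba]
    obtain ⟨x, hx, hxe⟩ := exists_mem_eq hinj hint hrad hle hmem
    refine ⟨a + x, ?_, ?_⟩
    · rw [map_add, RingHom.mem_ker.1 hx, add_zero]
    · rw [map_add, hxe]; ring
  · let e := RingHom.quotientKerEquivOfSurjective hsurj
    haveI : _root_.IsReduced (Γ(Cn, ν ⁻¹ᵁ U) ⧸ RingHom.ker (i.app (ν ⁻¹ᵁ U)).hom) :=
      (Ideal.isRadical_iff_quotient_reduced _).1 (hker ▸ map_isRadical hinj (h.sn ⟨U, hU⟩) hint hrad hle)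
    exact isReduced_of_injective e.symm.toRingHom e.symm.injective

theorem reduced_stalk_of_affine {Z : Scheme.{u}} {W : Z.Opens} (hW : IsAffineOpen W)
    [_root_.IsReduced Γ(Z, W)] (z : Z) (hz : z ∈ W) : _root_.IsReduced (Z.presheaf.stalk z) := by
  letI : Algebra Γ(Z, W) (Z.presheaf.stalk z) := (Z.presheaf.germ W z hz).hom.toAlgebra
  haveI : IsLocalization.AtPrime (Z.presheaf.stalk z) (hW.primeIdealOf ⟨z, hz⟩).asIdeal :=
    hW.isLocalization_stalk ⟨z, hz⟩
  exact isReduced_localizationPreserves (hW.primeIdealOf ⟨z, hz⟩).asIdeal.primeCompl _ inferInstance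

theorem Data.isPinch (h : Data ν d) :
    Pinch4.IsPinch (pullback.fst ν d) (pullback.snd ν d) ν d ∧ IsReduced (pullback ν d) := by
  haveI := h.fin
  haveI := h.closed
  refine ⟨⟨pullback.condition, fun x => ?_⟩, ?_⟩
  · obtain ⟨U, hU, hxU, -⟩ := exists_isAffineOpen_mem_and_subset (X := C) (x := x) (U := ⊤) trivial
    exact ⟨U, hxU, (h.chart hU).1⟩
  · haveI : ∀ z : ↥(pullback ν d), _root_.IsReduced ((pullback ν d).presheaf.stalk z) := by
      intro z
      obtain ⟨U, hU, hxU, -⟩ := exists_isAffineOpen_mem_and_subset (X := C) (x := ν (pullback.fst ν d z)) (U := ⊤) trivial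
      obtain ⟨hc, hr⟩ := h.chart hU
      haveI := hr
      exact reduced_stalk_of_affine hc.affZ z hxU
    exact isReduced_of_isReduced_stalk _

theorem Data.isReduced_fiber (h : Data ν d) (x : C) : IsReduced (ν.fiber x) := by
  haveI := h.fin
  haveI := h.closed
  haveI := h.redD
  by_cases hx : x ∈ Set.range d
  · obtain ⟨δ, rfl⟩ := hx
    haveI := h.isPinch.2
    let t := D.fromSpecResidueField δ
    haveI : Flat t := (Flat.iff_flat_stalkMap _).2 fun q => GrpNeutral20.flat_stalkMap_of_isField t (by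
      rw [show t q = δ from Scheme.fromSpecResidueField_apply _ _]
      exact MinPoint13.isField_stalk_of_specializes δ (h.disc δ))
    let r := Spec.map (d.residueFieldMap δ)
    haveI : IsIso (d.residueFieldMap δ) := by
      rw [ConcreteCategory.isIso_iff_bijective]
      refine ⟨RingHom.injective _, fun y => ?_⟩
      obtain ⟨y', rfl⟩ := Scheme.residue_surjective D δ y
      obtain ⟨y'', rfl⟩ := d.stalkMap_surjective δ y'
      exact ⟨C.residue _ y'', ConcreteCategory.congr_hom (Scheme.residue_residueFieldMap d δ) y''⟩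
    let Q := pullback (pullback.snd ν d) t
    haveI : Flat (pullback.fst (pullback.snd ν d) t) := MorphismProperty.pullback_fst _ _ ‹_›
    haveI : IsPreimmersion (pullback.fst (pullback.snd ν d) t) := MorphismProperty.pullback_fst _ _ inferInstance
    haveI : IsReduced Q := by
      haveI : ∀ q : Q, _root_.IsReduced (Q.presheaf.stalk q) := by
        intro q
        let π := pullback.fst (pullback.snd ν d) t
        letI := (π.stalkMap q).hom.toAlgebra
        haveI : Module.Flat ((pullback ν d).presheaf.stalk (π q)) (Q.presheaf.stalk q) := Flat.stalkMap π q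
        haveI : IsLocalHom (algebraMap ((pullback ν d).presheaf.stalk (π q)) (Q.presheaf.stalk q)) :=
          inferInstanceAs (IsLocalHom (π.stalkMap q).hom)
        haveI := Module.FaithfullyFlat.of_flat_of_isLocalHom
          (A := (pullback ν d).presheaf.stalk (π q)) (B := Q.presheaf.stalk q)
        let e := RingEquiv.ofBijective (π.stalkMap q).hom
          ⟨FaithfulSMul.algebraMap_injective _ _, π.stalkMap_surjective q⟩
        exact isReduced_of_injective e.symm.toRingHom e.symm.injective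
      exact isReduced_of_isReduced_stalk _
    have hr : r ≫ C.fromSpecResidueField (d δ) = t ≫ d := Scheme.Hom.SpecMap_residueFieldMap_fromSpecResidueField d δ
    have sq : IsPullback (pullback.fst (pullback.snd ν d) t ≫ pullback.fst ν d)
        (pullback.snd (pullback.snd ν d) t ≫ r) ν (C.fromSpecResidueField (d δ)) := by
      refine ((IsPullback.of_hasPullback (pullback.snd ν d) t).paste_horiz (IsPullback.of_hasPullback ν d)).of_iso
        (Iso.refl _) (Iso.refl _) (asIso r) (Iso.refl _) ?_ ?_ ?_ ?_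
      · simp
      · simp
      · simp
      · simp [hr]
    exact isReduced_of_isOpenImmersion sq.isoPullback.inv
  · obtain ⟨U, hU, hxU, hUd⟩ := exists_isAffineOpen_mem_and_subset (X := C) (x := x)
      (U := ⟨(Set.range d)ᶜ, d.isClosedEmbedding.isClosed_range.isOpen_compl⟩) hx
    obtain ⟨hinj, -, -, hle⟩ := h.le_cond hU
    have h1 : (1 : Γ(C, U)) ∈ RingHom.ker (d.app U).hom := by
      haveI : Subsingleton Γ(D, d ⁻¹ᵁ U) := by
        have : d ⁻¹ᵁ U = ⊥ := by
          ext z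
          simp only [Opens.coe_bot, Set.mem_empty_iff_false, iff_false]
          exact fun hz => hUd hz ⟨z, rfl⟩
        rw [this]; infer_instance
      exact RingHom.mem_ker.2 (Subsingleton.elim _ _)
    haveI : IsIso (ν.app U) := (ConcreteCategory.isIso_iff_bijective _).2 ⟨hinj, fun β => by
      obtain ⟨a, ha⟩ := hle h1 β
      exact ⟨a, by rw [map_one, one_mul] at ha; exact ha⟩⟩
    haveI : IsIso (ν ∣_ U) := (isIso_morphismRestrict_iff_isIso_app ν hU).2 inferInstance
    have hrange : Set.range (C.fromSpecResidueField x) ⊆ Set.range U.ι := by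
      rw [Scheme.range_fromSpecResidueField, Scheme.Opens.range_ι, Set.singleton_subset_iff]; exact hxU
    let r := IsOpenImmersion.lift U.ι (C.fromSpecResidueField x) hrange
    have hr : r ≫ U.ι = C.fromSpecResidueField x := IsOpenImmersion.lift_fac _ _ _
    have sq : IsPullback (pullback.fst (ν ∣_ U) r ≫ (ν ⁻¹ᵁ U).ι) (pullback.snd (ν ∣_ U) r) ν
        (C.fromSpecResidueField x) := by
      rw [← hr]
      exact (IsPullback.of_hasPullback (ν ∣_ U) r).paste_horiz (isPullback_morphismRestrict ν U).flip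
    haveI : IsReduced (pullback (ν ∣_ U) r) := isReduced_of_isOpenImmersion (pullback.snd (ν ∣_ U) r)
    exact isReduced_of_isOpenImmersion sq.isoPullback.inv

end Groth.Agent.KS29.Cond
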