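import Groth.Agent.Lib.KS29.FactorGen
import Groth.Agent.Lib.Grauert11.Main
import Groth.Prelude.Def_AffAlg

/-!
The morphism to the relative spectrum of the functions on a line bundle, and its factorisation.
-/

set_option autoImplicit false
set_option backward.isDefEq.respectTransparency false
set_option backward.isDefEq.respectTransparency.types false
universe u

open CategoryTheory CategoryTheory.Limits AlgebraicGeometry TopologicalSpace Opposite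

noncomputable section

namespace Groth.Agent.KS29.Factor

theorem algHom_app {Z V Y : Scheme.{u}} (g : Z ⟶ Y) (f : V ⟶ Y) (h : V ⟶ Z) (w : h ≫ g = f) (U : Y.Opens)
    (e : f ⁻¹ᵁ U ≤ h ⁻¹ᵁ (g ⁻¹ᵁ U)) :
    (AffAlg.algHom g f h w).app (op U) = h.appLE (g ⁻¹ᵁ U) (f ⁻¹ᵁ U) e := by
  subst w
  simp [AffAlg.algHom, Scheme.Hom.appLE]

theorem chart_eq {S : Scheme.{u}} (A : RelSpec.QCAlg S) (U : S.Opens) (hU : IsAffineOpen U) :
    A.ι U hU = Spec.map (A.gammaAff U hU) ≫ (hU.preimage A.π).fromSpec := by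
  unfold RelSpec.QCAlg.gammaAff
  rw [Spec.map_comp_assoc,
    (hU.preimage A.π).SpecMap_appLE_fromSpec (A.ι U hU) (isAffineOpen_top _) (A.top_le_preimage U hU),
    IsAffineOpen.fromSpec_top, ← Scheme.isoSpec_Spec_hom, Iso.hom_inv_id_assoc]

variable {S : Scheme.{u}}

theorem specMap_comp' {A B D : RelSpec.QCAlg S} (a : A ⟶ B) (b : B ⟶ D) :
    RelSpec.QCAlg.specMap b ≫ RelSpec.QCAlg.specMap a = RelSpec.QCAlg.specMap (a ≫ b) := by
  apply colimit.hom_ext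
  intro U
  change D.ι U.1 U.2 ≫ RelSpec.QCAlg.specMap b ≫ RelSpec.QCAlg.specMap a =
    D.ι U.1 U.2 ≫ RelSpec.QCAlg.specMap (a ≫ b)
  rw [reassoc_of% (RelSpec.QCAlg.ι_specMap U.1 U.2 b), RelSpec.QCAlg.ι_specMap U.1 U.2 a,
    RelSpec.QCAlg.ι_specMap U.1 U.2 (a ≫ b), RelSpec.QCAlg.comp_hom, NatTrans.comp_app, Spec.map_comp,
    Category.assoc]

theorem specMap_id' (A : RelSpec.QCAlg S) : RelSpec.QCAlg.specMap (𝟙 A) = 𝟙 A.spec := by
  apply colimit.hom_ext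
  intro U
  change A.ι U.1 U.2 ≫ RelSpec.QCAlg.specMap (𝟙 A) = A.ι U.1 U.2 ≫ 𝟙 _
  rw [RelSpec.QCAlg.ι_specMap U.1 U.2 (𝟙 A), RelSpec.QCAlg.id_hom, NatTrans.id_app]
  erw [Spec.map_id, Category.id_comp]

theorem isIso_specMap {A B : RelSpec.QCAlg S} (a : A ⟶ B) [IsIso a] : IsIso (RelSpec.QCAlg.specMap a) :=
  ⟨RelSpec.QCAlg.specMap (inv a),
    by rw [specMap_comp', IsIso.inv_hom_id, specMap_id'],
    by rw [specMap_comp', IsIso.hom_inv_id, specMap_id']⟩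

theorem isIso_of_hom {A B : RelSpec.QCAlg S} (a : A ⟶ B) [IsIso a.hom] : IsIso a :=
  ⟨⟨inv a.hom, (IsIso.comp_inv_eq _).2 a.comm.symm⟩,
    RelSpec.QCAlg.hom_ext (IsIso.hom_inv_id a.hom), RelSpec.QCAlg.hom_ext (IsIso.inv_hom_id a.hom)⟩

section Cone

variable {X Y : Scheme.{u}} {L : X.Modules} {𝒜 : RelProj.QCGrAlg X} {jL : L ⟶ 𝒜.toModule}
  {aug : 𝒜.toQCAlg ⟶ RelSpec.QCAlg.unit X} {j0 : X ⟶ 𝒜.toQCAlg.spec}
  {p : X ⟶ Y} [IsProper p]

/-- What we need of the canonical morphism to the cone. -/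
structure Cone (𝒜 : RelProj.QCGrAlg X) (j0 : X ⟶ 𝒜.toQCAlg.spec) (p : X ⟶ Y) (V0 : 𝒜.toQCAlg.spec.Opens)
    {C' : Scheme.{u}} (π' : C' ⟶ Y) (q' : 𝒜.toQCAlg.spec ⟶ C') (ε' : Y ⟶ C') : Prop where
  good : Good q'
  proper : IsProper q'
  goodp : Good p
  sec : ε' ≫ π' = 𝟙 Y
  vtx : j0 ≫ q' = p ≫ ε'
  vcompl : (V0 : Set 𝒜.toQCAlg.spec) = (Set.range j0.base)ᶜ
  opn : IsOpenImmersion (V0.ι ≫ q')
  rng : Set.range (V0.ι ≫ q').base = (Set.range ε'.base)ᶜ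

theorem good_of_isIso_c (p : X ⟶ Y) [IsProper p] (hθ : IsIso p.c) : Good p := by
  haveI := hθ
  have h : ∀ D : Y.Opens, IsIso (p.app D) := fun D => (inferInstance : IsIso (p.c.app (op D)))
  exact ⟨app_surjective_of_surjective p h p.isClosedMap,
    fun D => (ConcreteCategory.isIso_iff_bijective _).1 (h D)⟩

theorem exists_cone (hθ : IsIso p.c) (hL : PicF.IsInvertible L) (hLq : Coh.IsQCoh L)
    (hamp : RelAmple.IsRelAmple p L) (hA : RelProj.IsGrSymAlg L 𝒜 jL) (h0 : RelCone.StrZeroBij 𝒜)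
    (haug : RelCone.IsAugmentation 𝒜 aug) (hj0 : RelCone.IsVertex 𝒜 aug j0)
    (q' : 𝒜.toQCAlg.spec ⟶ (RelSpec.QCAlg.directImage (𝒜.toQCAlg.π ≫ p)).spec)
    (hq'π : q' ≫ (RelSpec.QCAlg.directImage (𝒜.toQCAlg.π ≫ p)).π = 𝒜.toQCAlg.π ≫ p)
    (hq' : AffAlg.algHom (RelSpec.QCAlg.directImage (𝒜.toQCAlg.π ≫ p)).π (𝒜.toQCAlg.π ≫ p) q' hq'π =
      (RelSpec.QCAlg.directImage (𝒜.toQCAlg.π ≫ p)).gammaMap)
    (V0 : 𝒜.toQCAlg.spec.Opens) (hV0 : (V0 : Set 𝒜.toQCAlg.spec) = (Set.range j0.base)ᶜ) :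
    ∃ ε' : Y ⟶ (RelSpec.QCAlg.directImage (𝒜.toQCAlg.π ≫ p)).spec,
      Cone 𝒜 j0 p V0 (RelSpec.QCAlg.directImage (𝒜.toQCAlg.π ≫ p)).π q' ε' := by
  let f := 𝒜.toQCAlg.π ≫ p
  let A := RelSpec.QCAlg.directImage f
  have hgp := good_of_isIso_c p hθ
  have hjf := Grauert11.vertex_comp (p := p) hj0
  have hle : ∀ U : Y.Opens, f ⁻¹ᵁ U ≤ q' ⁻¹ᵁ (A.π ⁻¹ᵁ U) := fun U => by
    rw [← Scheme.Hom.comp_preimage, hq'π]
  have happ : ∀ (U : Y.Opens) (hU : IsAffineOpen U),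
      q'.appLE (A.π ⁻¹ᵁ U) (f ⁻¹ᵁ U) (hle U) = A.gammaAff U hU := by
    intro U hU
    rw [← algHom_app A.π f q' hq'π U (hle U), hq', A.gammaMap_app U hU]
  have happiso : ∀ (U : Y.Opens), IsAffineOpen U → IsIso (q'.app (A.π ⁻¹ᵁ U)) := by
    intro U hU
    haveI := QCGen12.isIso_gammaAff A U hU
    have h1 : IsIso (q'.appLE (A.π ⁻¹ᵁ U) (f ⁻¹ᵁ U) (hle U)) := by rw [happ U hU]; infer_instance
    have heq : f ⁻¹ᵁ U = q' ⁻¹ᵁ (A.π ⁻¹ᵁ U) := by rw [← Scheme.Hom.comp_preimage, hq'π]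
    have h2 : q'.appLE (A.π ⁻¹ᵁ U) (f ⁻¹ᵁ U) (hle U) =
        q'.app (A.π ⁻¹ᵁ U) ≫ 𝒜.toQCAlg.spec.presheaf.map (homOfLE (hle U)).op := rfl
    haveI : IsIso (𝒜.toQCAlg.spec.presheaf.map (homOfLE (hle U)).op) := by
      rw [show homOfLE (hle U) = eqToHom heq from Subsingleton.elim _ _]
      infer_instance
    rw [h2] at h1
    exact IsIso.of_isIso_comp_right (q'.app (A.π ⁻¹ᵁ U)) (𝒜.toQCAlg.spec.presheaf.map (homOfLE (hle U)).op)
  have happAll : ∀ D : A.spec.Opens, IsIso (q'.app D) := app_bijective A.π q' f hq'π happiso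
  let φ : Grauert11.contrAlg hjf ⟶ A := Grauert11.fibSnd (Grauert11.unitTo p) (Grauert11.restr hjf)
  haveI : IsIso φ.hom := by
    rw [NatTrans.isIso_iff_isIso_app]
    intro U
    refine (ConcreteCategory.isIso_iff_bijective _).2 ⟨fun x y hxy => ?_, fun b => ?_⟩
    · refine Grauert11.fib_ext _ _ ((hgp.app U.unop).1 ?_) hxy
      exact (x.2).trans ((congrArg ((Grauert11.restr hjf).hom.app U).hom hxy).trans y.2.symm)
    · obtain ⟨a, ha⟩ := (hgp.app U.unop).2 (((Grauert11.restr hjf).hom.app U).hom b)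
      exact ⟨Grauert11.fibMk _ _ a b ha, rfl⟩
  haveI := isIso_of_hom φ
  let κ : A.spec ⟶ (Grauert11.contrAlg hjf).spec := RelSpec.QCAlg.specMap φ
  haveI : IsIso κ := isIso_specMap φ
  have hκ : q' ≫ κ = Grauert11.contrMap hjf := by
    refine Scheme.Cover.hom_ext (𝒜.toQCAlg.spec.openCoverOfIsOpenCover (fun U : Y.affineOpens => f ⁻¹ᵁ U.1)
      (.comap (iSup_affineOpens_eq_top Y) f.base.1)) _ _ fun U => ?_
    change (f ⁻¹ᵁ U.1).ι ≫ q' ≫ κ = (f ⁻¹ᵁ U.1).ι ≫ Grauert11.contrMap hjf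
    rw [reassoc_of% (ι_comp_eq q' (U.2.preimage A.π) (hle U.1)), happ U.1 U.2, ← reassoc_of% (chart_eq A U.1 U.2),
      RelSpec.QCAlg.ι_specMap U.1 U.2 φ]
    exact (QCGen12.ι_lift _ _ _ U.1 U.2).symm
  let ε' := Grauert11.contrSec hjf ≫ inv κ
  have hq'eq : q' = Grauert11.contrMap hjf ≫ inv κ := by rw [← hκ, Category.assoc, IsIso.hom_inv_id, Category.comp_id]
  have hκπ : κ ≫ (Grauert11.contrAlg hjf).π = A.π := RelSpec.QCAlg.specMap_π φ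
  have hpc : ∀ z, z ∈ RelCone.pointedCone 𝒜 ↔ z ∈ V0 := fun z => by
    rw [← SetLike.mem_coe, RelCone11.pointedCone_eq_compl 𝒜 aug h0 haug hj0, ← hV0, SetLike.mem_coe]
  have H := Grauert11.hasLoci hj0 hL hLq hA hjf haug hpc hamp
  haveI hq : IsProper (Grauert11.contrMap hjf) := Grauert11.isProper_contrMap hj0 hL hLq hA hjf haug hamp
  have hvtx : j0 ≫ q' = p ≫ ε' := by
    rw [hq'eq, ← Category.assoc, Grauert11.comp_contrMap hjf, Category.assoc]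
  have hrng : Set.range (V0.ι ≫ q').base = (Set.range ε'.base)ᶜ := by
    have h := Grauert11.range_contr_of_isClosed hjf H (Grauert11.contrMap hjf).isClosedMap.isClosed_range hV0
    have hb : Function.Bijective (inv κ).base := (inv κ).homeomorph.bijective
    rw [hq'eq, ← Category.assoc]
    simp only [ε', Scheme.Hom.comp_base, TopCat.coe_comp, Set.range_comp]
    simp only [Scheme.Hom.comp_base, TopCat.coe_comp, Set.range_comp] at h
    rw [h, Set.image_compl_eq hb]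
  have hproper : IsProper q' := by rw [hq'eq]; infer_instance
  refine ⟨ε', ⟨?_, fun D => (ConcreteCategory.isIso_iff_bijective _).1 (happAll D)⟩, hproper, hgp, ?_, hvtx, hV0, ?_,
    hrng⟩
  · intro c
    by_cases hc : c ∈ Set.range ε'.base
    · obtain ⟨y, rfl⟩ := hc
      obtain ⟨x, rfl⟩ := hgp.surj y
      exact ⟨j0 x, congr($hvtx x)⟩
    · obtain ⟨v, hv⟩ := (hrng ▸ hc : c ∈ Set.range (V0.ι ≫ q').base)
      exact ⟨V0.ι v, hv⟩
  · show (Grauert11.contrSec hjf ≫ inv κ) ≫ A.π = 𝟙 Y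
    rw [Category.assoc, ← hκπ, IsIso.inv_hom_id_assoc]
    exact Grauert11.contrSec_π hjf
  · haveI := Grauert11.isOpenImmersion_contr hjf H
    rw [hq'eq, ← Category.assoc]
    infer_instance

variable {C C' : Scheme.{u}} {π' : C' ⟶ Y} {V0 : 𝒜.toQCAlg.spec.Opens}
  {q' : 𝒜.toQCAlg.spec ⟶ C'} {ε' : Y ⟶ C'} {g : C ⟶ Y} {ε : Y ⟶ C} {q : 𝒜.toQCAlg.spec ⟶ C}

theorem Cone.mem_or (h : Cone 𝒜 j0 p V0 π' q' ε') (v : 𝒜.toQCAlg.spec) :
    (v ∈ V0 ∧ q' v ∉ Set.range ε'.base) ∨ ∃ x, j0 x = v ∧ q' v = ε' (p x) := by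
  by_cases hv : v ∈ V0
  · left
    refine ⟨hv, ?_⟩
    have : q' v ∈ Set.range (V0.ι ≫ q').base := ⟨⟨v, hv⟩, rfl⟩
    rw [h.rng] at this
    exact this
  · right
    rw [← SetLike.mem_coe, h.vcompl, Set.notMem_compl_iff] at hv
    obtain ⟨x, rfl⟩ := hv
    exact ⟨x, rfl, congr($(h.vtx) x)⟩

theorem Cone.const (h : Cone 𝒜 j0 p V0 π' q' ε') (hjq : j0 ≫ q = p ≫ ε) (v w : 𝒜.toQCAlg.spec)
    (hvw : q' v = q' w) : q v = q w := by
  rcases h.mem_or v with ⟨hv, hv'⟩ | ⟨x, rfl, hx⟩ <;> rcases h.mem_or w with ⟨hw, hw'⟩ | ⟨y, rfl, hy⟩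
  · have := h.opn.base_open.injective (a₁ := ⟨v, hv⟩) (a₂ := ⟨w, hw⟩) hvw
    exact congrArg (fun z : V0.toScheme => q z.1) this
  · exact absurd ⟨p y, hy ▸ hvw.symm⟩ hv'
  · exact absurd ⟨p x, hx ▸ hvw⟩ hw'
  · have hpp : p x = p y := by
      have hs : ∀ y, π' (ε' y) = y := fun y => congr($(h.sec) y)
      have := congrArg (fun z => π' z) (hx.symm.trans (hvw.trans hy))
      simpa only [hs] using this
    have e : ∀ x, q (j0 x) = ε (p x) := fun x => congr($hjq x)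
    rw [e, e, hpp]

theorem Cone.existsUnique_factor (h : Cone 𝒜 j0 p V0 π' q' ε') (hjq : j0 ≫ q = p ≫ ε) (f : 𝒜.toQCAlg.spec ⟶ Y)
    (hqg : q ≫ g = f) (hq'π : q' ≫ π' = f) :
    ∃! u : C' ⟶ C, u ≫ g = π' ∧ q' ≫ u = q := by
  haveI := h.proper
  obtain ⟨u, hu⟩ := h.good.exists_factor q'.isClosedMap q (h.const hjq)
  refine ⟨u, ⟨h.good.hom_ext _ _ ?_, hu⟩, fun u' hu' => h.good.hom_ext _ _ (hu'.2.trans hu.symm)⟩
  rw [← Category.assoc, hu, hqg, hq'π]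

end Cone

end Groth.Agent.KS29.Factor
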