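import Groth.Agent.Lib.SymAlg11.Sheaf
import Groth.Agent.Lib.Ample18.Gen
import Groth.Prelude.Def_RelSpec2
import Groth.Prelude.Def_Pi1
import Mathlib.RingTheory.Polynomial.IsIntegral

/-!
Rings of sections of normal locally integral schemes have normal localisations at primes; the
relative spectrum of a direct image from an integral or normal scheme is integral, resp. normal.
-/

set_option autoImplicit false
set_option backward.isDefEq.respectTransparency false
set_option backward.isDefEq.respectTransparency.types false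
universe u

open CategoryTheory CategoryTheory.Limits AlgebraicGeometry TopologicalSpace Opposite Polynomial

noncomputable section

namespace Groth.Agent.KS29.ConeNormal

variable (W : Scheme.{u})

/-- Every point has an affine neighbourhood whose ring is a domain. -/
def LocDom : Prop :=
  ∀ x : W, ∃ U : W.Opens, IsAffineOpen U ∧ x ∈ U ∧ IsDomain Γ(W, U)

variable {W}

theorem germ_injective {U : W.Opens} (hU : IsAffineOpen U) [IsDomain Γ(W, U)] {x : W} (hx : x ∈ U) :
    Function.Injective (W.presheaf.germ U x hx).hom := by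
  letI := W.presheaf.algebra_section_stalk ⟨x, hx⟩
  haveI := hU.isLocalization_stalk ⟨x, hx⟩
  exact IsLocalization.injective (W.presheaf.stalk x)
    (hU.primeIdealOf ⟨x, hx⟩).asIdeal.primeCompl_le_nonZeroDivisors

/-- The vanishing of a germ is locally constant. -/
theorem germ_zero_locally_constant (hW : LocDom W) {O : W.Opens} (b : Γ(W, O)) {x : W} (hx : x ∈ O) :
    ∃ U : W.Opens, x ∈ U ∧ ∃ hU : U ≤ O, ∀ z (hz : z ∈ U),
      (W.presheaf.germ O z (hU hz) b = 0 ↔ W.presheaf.germ O x hx b = 0) := by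
  obtain ⟨U₀, hU₀, hxU₀, hdom⟩ := hW x
  obtain ⟨r, hrO, hxr⟩ := hU₀.exists_basicOpen_le (V := O) ⟨x, hx⟩ hxU₀
  haveI : Nontrivial Γ(W, W.basicOpen r) :=
    (W.presheaf.germ (W.basicOpen r) x hxr).hom.domain_nontrivial
  haveI : IsLocalization.Away r Γ(W, W.basicOpen r) := hU₀.isLocalization_basicOpen r
  haveI : IsDomain Γ(W, W.basicOpen r) := by
    by_cases h0 : r = 0
    · subst h0
      simp [W.basicOpen_zero] at hxr
    · exact IsLocalization.isDomain_of_le_nonZeroDivisors _
        (powers_le_nonZeroDivisors_of_noZeroDivisors h0)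
  refine ⟨W.basicOpen r, hxr, hrO, fun z hz => ?_⟩
  have key : ∀ w (hw : w ∈ W.basicOpen r), W.presheaf.germ O w (hrO hw) b = 0 ↔
      W.presheaf.map (homOfLE hrO).op b = 0 := fun w hw => by
    rw [← TopCat.Presheaf.germ_res_apply W.presheaf (homOfLE hrO) w hw b]
    exact (germ_injective (hU₀.basicOpen r) hw).eq_iff' (map_zero _)
  rw [key z hz, key x hxr]

/-- Sections with prescribed germs. -/
theorem exists_section_of_germs {O : W.Opens} (g : ∀ x : W, x ∈ O → W.presheaf.stalk x)
    (h : ∀ x, x ∈ O → ∃ U : W.Opens, x ∈ U ∧ ∃ hU : U ≤ O, ∃ s : Γ(W, U),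
      ∀ z (hz : z ∈ U), W.presheaf.germ U z hz s = g z (hU hz)) :
    ∃ s : Γ(W, O), ∀ x (hx : x ∈ O), W.presheaf.germ O x hx s = g x hx := by
  choose U hxU hUO s hs using h
  let T : {x : W // x ∈ O} → W.Opens := fun x => U x.1 x.2
  obtain ⟨t, ht, -⟩ := TopCat.Sheaf.existsUnique_gluing' W.sheaf T O (fun x => homOfLE (hUO x.1 x.2))
    (fun x hx => Opens.mem_iSup.2 ⟨⟨x, hx⟩, hxU x hx⟩) (fun x => s x.1 x.2) (fun x y => by
      refine TopCat.Presheaf.section_ext W.sheaf _ _ _ fun z hz => ?_
      erw [TopCat.Presheaf.germ_res_apply, TopCat.Presheaf.germ_res_apply]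
      erw [hs x.1 x.2 z hz.1, hs y.1 y.2 z hz.2])
  refine ⟨t, fun x hx => ?_⟩
  rw [← hs x hx x (hxU x hx)]
  have h2 : W.presheaf.map (homOfLE (hUO x hx)).op t = s x hx := ht ⟨x, hx⟩
  rw [← h2]
  exact (TopCat.Presheaf.germ_res_apply W.presheaf (homOfLE (hUO x hx)) x (hxU x hx) t).symm

/-- The idempotent of the support of a section. -/
theorem exists_idem (hW : LocDom W) {O : W.Opens} (b : Γ(W, O)) :
    ∃ e : Γ(W, O), ∀ x (hx : x ∈ O),
      (W.presheaf.germ O x hx b = 0 → W.presheaf.germ O x hx e = 0) ∧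
      (W.presheaf.germ O x hx b ≠ 0 → W.presheaf.germ O x hx e = 1) := by
  classical
  obtain ⟨e, he⟩ := exists_section_of_germs (O := O)
    (fun x hx => if W.presheaf.germ O x hx b = 0 then 0 else 1) (fun x hx => by
      obtain ⟨U, hxU, hUO, hU⟩ := germ_zero_locally_constant hW b hx
      refine ⟨U, hxU, hUO, if W.presheaf.germ O x hx b = 0 then 0 else 1, fun z hz => ?_⟩
      by_cases h : W.presheaf.germ O x hx b = 0
      · rw [if_pos h, if_pos ((hU z hz).2 h), map_zero]
      · rw [if_neg h, if_neg (fun h' => h ((hU z hz).1 h')), map_one])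
  exact ⟨e, fun x hx => ⟨fun h => by rw [he x hx, if_pos h], fun h => by rw [he x hx, if_neg h]⟩⟩

/-- A quotient of sections which is integral everywhere is a section. -/
theorem exists_div (hW : LocDom W) (hdom : ∀ x : W, IsDomain (W.presheaf.stalk x))
    (hic : ∀ x : W, IsIntegrallyClosed (W.presheaf.stalk x))
    {O : W.Opens} {a b : Γ(W, O)} {P : Polynomial Γ(W, O)} (hP : P.Monic)
    (h0 : (P.scaleRoots b).eval a = 0) :
    ∃ y e : Γ(W, O), y * b = e * a ∧ e * b = b := by
  classical
  obtain ⟨e, he⟩ := exists_idem hW b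
  have hdiv : ∀ x (hx : x ∈ O), W.presheaf.germ O x hx b ≠ 0 →
      ∃ q, q * W.presheaf.germ O x hx b = W.presheaf.germ O x hx a := by
    intro x hx hb
    haveI := hdom x
    haveI := hic x
    let D := W.presheaf.stalk x
    let K := FractionRing D
    let φ : Γ(W, O) →+* K := (algebraMap D K).comp (W.presheaf.germ O x hx).hom
    have hb' : φ b ≠ 0 := fun h => hb (IsFractionRing.injective D K (by simpa [φ] using h))
    have h1 : (P.scaleRoots b).eval₂ φ (φ b * (φ a / φ b)) = 0 := by
      rw [mul_div_cancel₀ _ hb', eval₂_at_apply, h0, map_zero]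
    rw [scaleRoots_eval₂_mul] at h1
    have h2 : P.eval₂ φ (φ a / φ b) = 0 := (mul_eq_zero.1 h1).resolve_left (pow_ne_zero _ hb')
    have h3 : IsIntegral D (φ a / φ b) :=
      ⟨P.map (W.presheaf.germ O x hx).hom, hP.map _, by rw [eval₂_map]; exact h2⟩
    obtain ⟨q, hq⟩ := IsIntegrallyClosed.isIntegral_iff.1 h3
    refine ⟨q, IsFractionRing.injective D K ?_⟩
    rw [map_mul, hq]
    exact div_mul_cancel₀ _ hb'
  let g : ∀ x : W, x ∈ O → W.presheaf.stalk x := fun x hx =>
    if h : W.presheaf.germ O x hx b = 0 then 0 else (hdiv x hx h).choose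
  obtain ⟨y, hy⟩ := exists_section_of_germs g (fun x hx => by
    obtain ⟨U, hxU, hUO, hU⟩ := germ_zero_locally_constant hW b hx
    by_cases h : W.presheaf.germ O x hx b = 0
    · exact ⟨U, hxU, hUO, 0, fun z hz => by rw [map_zero]; simp [g, (hU z hz).2 h]⟩
    · obtain ⟨q, hq⟩ := hdiv x hx h
      obtain ⟨V, hxV, s, hs⟩ := W.presheaf.exists_germ_eq q
      let U' := U ⊓ V
      have hxU' : x ∈ U' := ⟨hxU, hxV⟩
      have hU'O : U' ≤ O := inf_le_left.trans hUO
      let s' : Γ(W, U') := W.presheaf.map (homOfLE (inf_le_right : U' ≤ V)).op s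
      let a' : Γ(W, U') := W.presheaf.map (homOfLE hU'O).op a
      let b' : Γ(W, U') := W.presheaf.map (homOfLE hU'O).op b
      have h1 : W.presheaf.germ U' x hxU' (s' * b') = W.presheaf.germ U' x hxU' a' := by
        simp only [s', a', b', map_mul, TopCat.Presheaf.germ_res_apply]
        erw [TopCat.Presheaf.germ_res_apply, hs]
        exact hq
      obtain ⟨U'', hxU'', iU, iU', heq⟩ := W.presheaf.germ_eq x hxU' hxU' _ _ h1
      have hle : U'' ≤ U' := iU.le
      refine ⟨U'', hxU'', hle.trans hU'O, W.presheaf.map iU.op s', fun z hz => ?_⟩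
      have hbz : W.presheaf.germ O z (hU'O (hle hz)) b ≠ 0 :=
        fun h' => h ((hU z (hle hz).1).1 h')
      have e2 : W.presheaf.germ U'' z hz (W.presheaf.map iU.op s') *
          W.presheaf.germ O z (hU'O (hle hz)) b = W.presheaf.germ O z (hU'O (hle hz)) a := by
        have := congrArg (W.presheaf.germ U'' z hz) heq
        simp only [map_mul, TopCat.Presheaf.germ_res_apply, a', b'] at this ⊢
        exact this
      simp only [g, dif_neg hbz]
      haveI := hdom z
      exact mul_right_cancel₀ hbz (e2.trans (hdiv z _ hbz).choose_spec.symm))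
  refine ⟨y, e, TopCat.Presheaf.section_ext W.sheaf _ _ _ fun x hx => ?_,
    TopCat.Presheaf.section_ext W.sheaf _ _ _ fun x hx => ?_⟩
  · show W.presheaf.germ O x hx (y * b) = W.presheaf.germ O x hx (e * a)
    rw [map_mul, map_mul, hy x hx]
    by_cases h : W.presheaf.germ O x hx b = 0
    · rw [(he x hx).1 h, h, mul_zero, zero_mul]
    · rw [(he x hx).2 h, one_mul]
      simp only [g, dif_neg h]
      exact (hdiv x hx h).choose_spec
  · show W.presheaf.germ O x hx (e * b) = W.presheaf.germ O x hx b
    rw [map_mul]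
    by_cases h : W.presheaf.germ O x hx b = 0
    · rw [h, mul_zero]
    · rw [(he x hx).2 h, one_mul]

/-- Localisations at primes of rings of sections are domains. -/
theorem isDomain_atPrime (hW : LocDom W) (hdom : ∀ x : W, IsDomain (W.presheaf.stalk x))
    {O : W.Opens} (p : Ideal Γ(W, O)) [p.IsPrime]
    (L : Type u) [CommRing L] [Algebra Γ(W, O) L] [IsLocalization.AtPrime L p] : IsDomain L := by
  haveI : IsLocalRing L := IsLocalization.AtPrime.isLocalRing L p
  suffices hz : ∀ a b : Γ(W, O), a * b = 0 →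
      algebraMap Γ(W, O) L a = 0 ∨ algebraMap Γ(W, O) L b = 0 by
    haveI : NoZeroDivisors L := ⟨fun {x y} hxy => by
      obtain ⟨⟨a, s⟩, rfl⟩ := IsLocalization.mk'_surjective p.primeCompl x
      obtain ⟨⟨b, t⟩, rfl⟩ := IsLocalization.mk'_surjective p.primeCompl y
      rw [← IsLocalization.mk'_mul, IsLocalization.mk'_eq_zero_iff] at hxy
      obtain ⟨v, hv⟩ := hxy
      have hunit := IsLocalization.map_units L v
      rcases hz ((v : Γ(W, O)) * a) b (by rw [mul_assoc]; exact hv) with h | h
      · left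
        rw [map_mul, hunit.mul_right_eq_zero] at h
        rw [IsLocalization.mk'_eq_zero_iff]
        exact (IsLocalization.map_eq_zero_iff p.primeCompl L a).1 h
      · right
        rw [IsLocalization.mk'_eq_zero_iff]
        exact (IsLocalization.map_eq_zero_iff p.primeCompl L b).1 h⟩
    exact NoZeroDivisors.to_isDomain L
  intro a b hab
  obtain ⟨e, he⟩ := exists_idem hW a
  have h1 : e * b = 0 := TopCat.Presheaf.section_ext W.sheaf _ _ _ fun x hx => by
    show W.presheaf.germ O x hx (e * b) = W.presheaf.germ O x hx 0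
    rw [map_mul, map_zero]
    haveI := hdom x
    by_cases h : W.presheaf.germ O x hx a = 0
    · rw [(he x hx).1 h, zero_mul]
    · have := congrArg (W.presheaf.germ O x hx) hab
      rw [map_mul, map_zero] at this
      rw [(mul_eq_zero.1 this).resolve_left h, mul_zero]
  have h2 : (1 - e) * a = 0 := TopCat.Presheaf.section_ext W.sheaf _ _ _ fun x hx => by
    show W.presheaf.germ O x hx ((1 - e) * a) = W.presheaf.germ O x hx 0
    rw [map_mul, map_sub, map_one, map_zero]
    by_cases h : W.presheaf.germ O x hx a = 0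
    · rw [h, mul_zero]
    · rw [(he x hx).2 h, sub_self, zero_mul]
  by_cases hep : e ∈ p
  · left
    have : 1 - e ∈ p.primeCompl := fun h => p.ne_top_iff_one.1 Ideal.IsPrime.ne_top'
      (by simpa using add_mem h hep)
    exact (IsLocalization.map_eq_zero_iff p.primeCompl L a).2 ⟨⟨_, this⟩, h2⟩
  · right
    exact (IsLocalization.map_eq_zero_iff p.primeCompl L b).2 ⟨⟨e, hep⟩, h1⟩

/-- Localisations at primes of rings of sections are integrally closed. -/
theorem isIntegrallyClosed_atPrime (hW : LocDom W) (hdom : ∀ x : W, IsDomain (W.presheaf.stalk x))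
    (hic : ∀ x : W, IsIntegrallyClosed (W.presheaf.stalk x))
    {O : W.Opens} (p : Ideal Γ(W, O)) [p.IsPrime]
    (L : Type u) [CommRing L] [Algebra Γ(W, O) L] [IsLocalization.AtPrime L p] :
    IsIntegrallyClosed L := by
  haveI := isDomain_atPrime hW hdom p L
  obtain ⟨K, _, _, _⟩ : ∃ (K : Type u) (_ : Field K) (_ : Algebra L K), IsFractionRing L K :=
    ⟨FractionRing L, inferInstance, inferInstance, inferInstance⟩
  refine (isIntegrallyClosed_iff K).2 fun {x} hx => ?_
  letI : Algebra Γ(W, O) K := ((algebraMap L K).comp (algebraMap Γ(W, O) L)).toAlgebra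
  haveI : IsScalarTower Γ(W, O) L K := IsScalarTower.of_algebraMap_eq fun r => rfl
  obtain ⟨t, P, hP, hPx⟩ := IsIntegral.exists_multiple_integral_of_isLocalization p.primeCompl x hx
  have htx : t • x = algebraMap L K (algebraMap Γ(W, O) L (t : Γ(W, O))) * x := by
    rw [Submonoid.smul_def, Algebra.smul_def]
    rfl
  obtain ⟨a0, b0, hb0, hxab⟩ := IsFractionRing.div_surjective (A := L) (t • x)
  obtain ⟨⟨a, s⟩, ha⟩ := IsLocalization.surj p.primeCompl a0
  obtain ⟨⟨b, r⟩, hb⟩ := IsLocalization.surj p.primeCompl b0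
  simp only at ha hb
  let φ : Γ(W, O) →+* L := algebraMap Γ(W, O) L
  have hb0' : algebraMap L K b0 ≠ 0 :=
    IsFractionRing.to_map_ne_zero_of_mem_nonZeroDivisors hb0
  -- clear denominators
  have hrel : algebraMap Γ(W, O) K (a * r) = algebraMap Γ(W, O) K (b * s) * (t • x) := by
    show algebraMap L K (φ (a * r)) = algebraMap L K (φ (b * s)) * (t • x)
    rw [map_mul φ, map_mul φ]
    simp only [φ]
    rw [← ha, ← hb, ← hxab]
    simp only [map_mul]
    field_simp
  have hbs : φ (b * s) ≠ 0 := by
    rw [map_mul]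
    refine mul_ne_zero ?_ (IsLocalization.map_units L s).ne_zero
    intro h
    simp only [φ] at h
    rw [← hb] at h
    exact (mul_ne_zero (nonZeroDivisors.ne_zero hb0) (IsLocalization.map_units L r).ne_zero) h
  have hQ : φ ((P.scaleRoots (b * s)).eval (a * r)) = 0 := by
    refine IsFractionRing.injective L K ?_
    have h1 : (P.scaleRoots (b * s)).eval₂ (algebraMap Γ(W, O) K)
        (algebraMap Γ(W, O) K (b * s) * (t • x)) = 0 := by
      rw [scaleRoots_eval₂_mul, hPx, mul_zero]
    rw [← hrel, eval₂_at_apply] at h1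
    rw [map_zero]
    exact h1
  obtain ⟨v, hv⟩ := (IsLocalization.map_eq_zero_iff p.primeCompl L _).1 hQ
  have hdeg : 0 < P.natDegree := by
    by_contra h
    have h1 : P = 1 := hP.natDegree_eq_zero.1 (by omega)
    rw [h1, eval₂_one] at hPx
    exact one_ne_zero hPx
  have h0 : (P.scaleRoots ((b * s) * v)).eval ((v : Γ(W, O)) * (a * r)) = 0 := by
    rw [scaleRoots_mul, scaleRoots_eval_mul, natDegree_scaleRoots]
    obtain ⟨n, hn⟩ := Nat.exists_eq_add_of_le hdeg
    rw [hn, show Nat.succ 0 + n = n + 1 by omega, pow_succ, mul_assoc, hv, mul_zero]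
  obtain ⟨y, e, hy, he⟩ := exists_div hW hdom hic hP h0
  have hv0 : φ (v : Γ(W, O)) ≠ 0 := (IsLocalization.map_units L v).ne_zero
  have he1 : φ e = 1 := by
    have := congrArg φ he
    rw [map_mul] at this
    exact (mul_eq_right₀ (by rw [map_mul]; exact mul_ne_zero hbs hv0)).1 this
  have hy' : φ y * φ (b * s) = φ (a * r) := by
    have := congrArg φ hy
    simp only [map_mul, he1, one_mul] at this ⊢
    refine mul_right_cancel₀ hv0 ?_
    linear_combination this
  obtain ⟨ti, hti⟩ := (IsLocalization.map_units L t).exists_left_inv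
  refine ⟨ti * φ y, ?_⟩
  have htx' : t • x = algebraMap L K (φ y) := by
    refine mul_left_cancel₀
      (a := algebraMap Γ(W, O) K (b * s)) (fun h => hbs (IsFractionRing.injective L K (by
        rw [map_zero]; exact h))) ?_
    rw [← hrel]
    show algebraMap L K (φ (a * r)) = algebraMap L K (φ (b * s)) * algebraMap L K (φ y)
    rw [← map_mul, ← hy', mul_comm]
  rw [map_mul, ← htx', htx, ← mul_assoc, ← map_mul]
  rw [hti, map_one, one_mul]

end Groth.Agent.KS29.ConeNormal
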