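import Groth.Agent.Lib.KS29.ConeNormal

/-!
The relative spectrum of the symmetric algebra of an invertible module over an integral, resp. a normal
locally integral, scheme; relative spectra of direct images.
-/

set_option autoImplicit false
set_option backward.isDefEq.respectTransparency false
set_option backward.isDefEq.respectTransparency.types false
universe u

open CategoryTheory CategoryTheory.Limits AlgebraicGeometry TopologicalSpace Opposite Polynomial

noncomputable section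

namespace Groth.Agent.KS29.ConeNormal

variable {S : Scheme.{u}} (B : RelSpec.QCAlg S)

theorem exists_chart (c : B.spec) : ∃ (U : S.Opens) (hU : IsAffineOpen U), c ∈ Set.range (B.ι U hU) := by
  obtain ⟨U, hU, hcU, -⟩ := exists_isAffineOpen_mem_and_subset (U := (⊤ : S.Opens))
    (show B.π c ∈ (⊤ : S.Opens) from trivial)
  refine ⟨U, hU, ?_⟩
  have : c ∈ B.π ⁻¹ᵁ U := hcU
  rw [B.π_preimage U hU] at this
  exact this

theorem range_ι_mono {U U' : S.Opens} (hU : IsAffineOpen U) (hU' : IsAffineOpen U') (h : U ≤ U') :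
    Set.range (B.ι U hU) ⊆ Set.range (B.ι U' hU') := by
  intro c hc
  have h1 : c ∈ B.π ⁻¹ᵁ U := by rw [B.π_preimage U hU]; exact hc
  have h2 : c ∈ B.π ⁻¹ᵁ U' := h h1
  rw [B.π_preimage U' hU'] at h2
  exact h2

theorem stalk_spec_atPrime (R : CommRingCat.{u}) (x : Spec R) :
    ∃ (_ : Algebra R ((Spec R).presheaf.stalk x)),
      IsLocalization.AtPrime ((Spec R).presheaf.stalk x) x.asIdeal :=
  ⟨(inferInstance : Algebra R ((Spec.structureSheaf R).presheaf.stalk x)),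
    (inferInstance : IsLocalization.AtPrime ((Spec.structureSheaf R).presheaf.stalk x) x.asIdeal)⟩

theorem stalk_normal_of_charts
    (h : ∀ (U : S.Opens) (hU : IsAffineOpen U) (p : Ideal (B.presheaf.obj (op U))) [p.IsPrime]
      (L : Type u) [CommRing L] [Algebra (B.presheaf.obj (op U)) L] [IsLocalization.AtPrime L p],
      IsDomain L ∧ IsIntegrallyClosed L) :
    Pi1.IsNormalScheme B.spec := by
  intro c
  obtain ⟨U, hU, x, rfl⟩ := exists_chart B c
  obtain ⟨_, hloc⟩ := stalk_spec_atPrime _ x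
  haveI := hloc
  obtain ⟨hd, hi⟩ := h U hU x.asIdeal ((Spec (B.presheaf.obj (op U))).presheaf.stalk x)
  let e := (asIso ((B.ι U hU).stalkMap x)).commRingCatIsoToRingEquiv
  haveI := hd
  haveI := hi
  exact ⟨e.toMulEquiv.isDomain _, IsIntegrallyClosed.of_equiv e.symm⟩

theorem isIntegral_spec
    (hdom : ∀ U : S.Opens, IsAffineOpen U → Nontrivial (B.presheaf.obj (op U)) →
      IsDomain (B.presheaf.obj (op U)))
    (hmeet : ∀ U U' : S.Opens, IsAffineOpen U → IsAffineOpen U' → Nontrivial (B.presheaf.obj (op U)) →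
      Nontrivial (B.presheaf.obj (op U')) →
      ∃ U'' : S.Opens, IsAffineOpen U'' ∧ U'' ≤ U ∧ U'' ≤ U' ∧ Nontrivial (B.presheaf.obj (op U'')))
    (hne : ∃ U : S.Opens, IsAffineOpen U ∧ Nontrivial (B.presheaf.obj (op U))) :
    IsIntegral B.spec := by
  have hnt : ∀ (U : S.Opens) (x : Spec (B.presheaf.obj (op U))), Nontrivial (B.presheaf.obj (op U)) :=
    fun U x => ⟨⟨0, 1, fun h => x.isPrime.ne_top (Ideal.eq_top_of_isUnit_mem _ (h ▸ x.asIdeal.zero_mem)
      isUnit_one)⟩⟩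
  haveI : IsReduced B.spec := by
    haveI : ∀ c : B.spec, _root_.IsReduced (B.spec.presheaf.stalk c) := fun c => by
      obtain ⟨U, hU, x, rfl⟩ := exists_chart B c
      haveI := hdom U hU (hnt U x)
      haveI : IsReduced (Spec (B.presheaf.obj (op U))) := inferInstance
      exact isReduced_of_injective ((B.ι U hU).stalkMap x).hom
        (ConcreteCategory.bijective_of_isIso ((B.ι U hU).stalkMap x)).1
    exact isReduced_of_isReduced_stalk _
  haveI : IrreducibleSpace B.spec := by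
    have hirr : ∀ (U : S.Opens) (hU : IsAffineOpen U), Nontrivial (B.presheaf.obj (op U)) →
        IsIrreducible (Set.range (B.ι U hU)) := fun U hU hn => by
      haveI := hdom U hU hn
      haveI : IrreducibleSpace (Spec (B.presheaf.obj (op U))) := inferInstance
      rw [← Set.image_univ]
      exact (IrreducibleSpace.isIrreducible_univ _).image _ (B.ι U hU).continuous.continuousOn
    obtain ⟨U₀, hU₀, hn₀⟩ := hne
    haveI : Nonempty B.spec :=
      ⟨((hirr U₀ hU₀ hn₀).nonempty).choose⟩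
    haveI : PreirreducibleSpace B.spec := ⟨fun O O' hO hO' ⟨c, _, hc⟩ ⟨c', _, hc'⟩ => by
      obtain ⟨U, hU, x, rfl⟩ := exists_chart B c
      obtain ⟨U', hU', x', rfl⟩ := exists_chart B c'
      obtain ⟨U'', hU'', h1, h2, hn''⟩ := hmeet U U' hU hU' (hnt U x) (hnt U' x')
      have hop := (B.ι U'' hU'').isOpenEmbedding.isOpen_range
      obtain ⟨d, hd⟩ := (hirr U'' hU'' hn'').nonempty
      obtain ⟨a, -, haO, haR⟩ := (hirr U hU (hnt U x)).2 O _ hO hop ⟨_, ⟨x, rfl⟩, hc⟩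
        ⟨d, range_ι_mono B hU'' hU h1 hd, hd⟩
      obtain ⟨b, -, hbO, hbR⟩ := (hirr U' hU' (hnt U' x')).2 O' _ hO' hop ⟨_, ⟨x', rfl⟩, hc'⟩
        ⟨d, range_ι_mono B hU'' hU' h2 hd, hd⟩
      obtain ⟨z, -, hz⟩ := (hirr U'' hU'' hn'').2 O O' hO hO' ⟨a, haR, haO⟩ ⟨b, hbR, hbO⟩
      exact ⟨z, trivial, hz⟩⟩
    exact ⟨inferInstance⟩
  exact isIntegral_of_irreducibleSpace_of_isReduced _

/-! ### The line bundle -/

variable {X : Scheme.{u}} {L : X.Modules} {𝒜 : RelSpec.QCAlg X} {jL : L ⟶ 𝒜.toModule}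

theorem bijective_poly_sym {R M : Type u} [CommRing R] [AddCommGroup M] [Module R M]
    (e : M) (he : Function.Bijective fun r : R => r • e) :
    Function.Bijective (Polynomial.eval₂RingHom (algebraMap R (SymmetricAlgebra R M))
      (SymmetricAlgebra.ι R M e)) := by
  let φ : R ≃ₗ[R] M := LinearEquiv.ofBijective (LinearMap.toSpanSingleton R M e) he
  let g : SymmetricAlgebra R M →+* Polynomial R :=
    SymAlg11.symLift Polynomial.C
      { toFun := fun m => Polynomial.C (φ.symm m) * Polynomial.X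
        map_zero' := by rw [map_zero, map_zero, zero_mul]
        map_add' := fun a b => by rw [map_add, map_add, add_mul] }
      fun r m => by
        change Polynomial.C (φ.symm (r • m)) * Polynomial.X = _
        rw [map_smul, smul_eq_mul, map_mul, mul_assoc]
        rfl
  have h1 : g.comp (Polynomial.eval₂RingHom (algebraMap R (SymmetricAlgebra R M))
      (SymmetricAlgebra.ι R M e)) = RingHom.id _ := by
    refine Polynomial.ringHom_ext (fun a => ?_) ?_
    · rw [RingHom.comp_apply, Polynomial.coe_eval₂RingHom, Polynomial.eval₂_C]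
      exact SymAlg11.symLift_algebraMap _ _ _ a
    · rw [RingHom.comp_apply, Polynomial.coe_eval₂RingHom, Polynomial.eval₂_X]
      refine (SymAlg11.symLift_ι _ _ _ e).trans ?_
      change Polynomial.C (φ.symm e) * Polynomial.X = Polynomial.X
      rw [show φ.symm e = 1 from φ.symm_apply_eq.2 (one_smul R e).symm, map_one, one_mul]
  have h2 : (Polynomial.eval₂RingHom (algebraMap R (SymmetricAlgebra R M))
      (SymmetricAlgebra.ι R M e)).comp g = RingHom.id _ := by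
    refine SymAlg11.symHom_ext (fun r => ?_) (fun m => ?_)
    · rw [RingHom.comp_apply, SymAlg11.symLift_algebraMap, Polynomial.coe_eval₂RingHom, Polynomial.eval₂_C]
      rfl
    · rw [RingHom.comp_apply, SymAlg11.symLift_ι]
      change Polynomial.eval₂RingHom _ _ (Polynomial.C (φ.symm m) * Polynomial.X) = _
      rw [map_mul, Polynomial.coe_eval₂RingHom, Polynomial.eval₂_C, Polynomial.eval₂_X,
        ← Algebra.smul_def, ← map_smul]
      exact congrArg _ (φ.apply_symm_apply m)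
  exact Function.bijective_iff_has_inverse.2
    ⟨g, RingHom.congr_fun h1, RingHom.congr_fun h2⟩

/-- Over a small affine open the algebra is a polynomial ring. -/
theorem exists_poly (hL : PicF.IsInvertible L) (hLq : Coh.IsQCoh L)
    (hA : RelSpec.IsSymAlg L 𝒜 jL) {x : X} {O : X.Opens} (hx : x ∈ O) :
    ∃ U : X.Opens, IsAffineOpen U ∧ x ∈ U ∧ U ≤ O ∧
      Nonempty (Γ(X, U)[X] ≃+* 𝒜.presheaf.obj (op U)) := by
  obtain ⟨U, e, hxU, hUO, hU, he⟩ := Amp.exists_isGenerator hL hx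
  have h0 : Function.Bijective fun r : Γ(X, U) => r • e := by
    have := he U le_rfl
    simp only [Amp.res_self] at this
    exact this
  exact ⟨U, hU, hxU, hUO,
    ⟨(RingEquiv.ofBijective _ (bijective_poly_sym e h0)).trans
      (RingEquiv.ofBijective _ (SymAlg11.bijective_liftOn hLq hA U hU))⟩⟩

/-- The sections of the chart are those of the preimage. -/
def chartSections (A : RelSpec.QCAlg S) (U : S.Opens) (hU : IsAffineOpen U) :
    A.presheaf.obj (op U) ≃+* Γ(A.spec, (A.ι U hU).opensRange) :=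
  ((Scheme.ΓSpecIso _).symm ≪≫ ((A.ι U hU).appIso ⊤).symm ≪≫
    A.spec.presheaf.mapIso (eqToIso ((A.ι U hU).image_top_eq_opensRange).symm).op).commRingCatIsoToRingEquiv

theorem isDomain_of_integral_open {U₀ U : X.Opens} [IsIntegral (U₀ : Scheme.{u})] (hle : U ≤ U₀)
    {x : X} (hx : x ∈ U) : IsDomain Γ(X, U) := by
  haveI : Nonempty (U : Scheme.{u}) := ⟨⟨x, hx⟩⟩
  haveI : IsIntegral (U : Scheme.{u}) := isIntegral_of_isOpenImmersion (X.homOfLE hle)
  haveI : IsDomain Γ((U : Scheme.{u}), ⊤) := inferInstance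
  exact U.topIso.symm.commRingCatIsoToRingEquiv.toMulEquiv.isDomain _

/-- Locally integral schemes, as in the statement. -/
def LocInt (X : Scheme.{u}) : Prop := ∀ x : X, ∃ U : X.Opens, x ∈ U ∧ IsIntegral (U : Scheme.{u})

theorem exists_domain_poly (hL : PicF.IsInvertible L) (hLq : Coh.IsQCoh L) (hA : RelSpec.IsSymAlg L 𝒜 jL)
    (hX : LocInt X) (x : X) :
    ∃ U : X.Opens, IsAffineOpen U ∧ x ∈ U ∧ IsDomain Γ(X, U) ∧
      Nonempty (Γ(X, U)[X] ≃+* 𝒜.presheaf.obj (op U)) := by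
  obtain ⟨U₀, hxU₀, hint⟩ := hX x
  obtain ⟨U, hU, hxU, hle, he⟩ := exists_poly hL hLq hA hxU₀
  haveI := hint
  exact ⟨U, hU, hxU, isDomain_of_integral_open hle hxU, he⟩

theorem locDom_spec (hL : PicF.IsInvertible L) (hLq : Coh.IsQCoh L) (hA : RelSpec.IsSymAlg L 𝒜 jL)
    (hX : LocInt X) : LocDom 𝒜.spec := by
  intro v
  obtain ⟨U, hU, hxU, hdom, ⟨e⟩⟩ := exists_domain_poly hL hLq hA hX (𝒜.π v)
  haveI := hdom
  refine ⟨(𝒜.ι U hU).opensRange, isAffineOpen_opensRange _, ?_, ?_⟩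
  · rw [← 𝒜.π_preimage U hU]; exact hxU
  · exact (e.trans (chartSections 𝒜 U hU)).toMulEquiv.symm.isDomain _

theorem isIntegrallyClosed_sections (hn : Pi1.IsNormalScheme X) {U : X.Opens} (hU : IsAffineOpen U)
    [IsDomain Γ(X, U)] : IsIntegrallyClosed Γ(X, U) := by
  refine IsIntegrallyClosed.of_localization_maximal fun p _ hp => ?_
  have hy : hU.fromSpec ⟨p, hp.isPrime⟩ ∈ U := by
    have : hU.fromSpec ⟨p, hp.isPrime⟩ ∈ Set.range hU.fromSpec := ⟨_, rfl⟩
    rwa [hU.range_fromSpec] at this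
  letI := TopCat.Presheaf.algebra_section_stalk X.presheaf ⟨_, hy⟩
  haveI := hU.isLocalization_stalk' ⟨p, hp.isPrime⟩ hy
  haveI := (hn (hU.fromSpec ⟨p, hp.isPrime⟩)).1
  haveI := (hn (hU.fromSpec ⟨p, hp.isPrime⟩)).2
  exact IsIntegrallyClosed.of_equiv
    (IsLocalization.algEquiv p.primeCompl (X.presheaf.stalk (hU.fromSpec ⟨p, hp.isPrime⟩))
      (Localization.AtPrime p)).toRingEquiv

theorem isNormal_spec (hL : PicF.IsInvertible L) (hLq : Coh.IsQCoh L) (hA : RelSpec.IsSymAlg L 𝒜 jL)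
    (hX : LocInt X) (hn : Pi1.IsNormalScheme X) : Pi1.IsNormalScheme 𝒜.spec := by
  intro v
  obtain ⟨U, hU, hxU, hdom, ⟨e⟩⟩ := exists_domain_poly hL hLq hA hX (𝒜.π v)
  have hv : v ∈ 𝒜.π ⁻¹ᵁ U := hxU
  rw [𝒜.π_preimage U hU] at hv
  obtain ⟨x, rfl⟩ := hv
  haveI := hdom
  haveI := isIntegrallyClosed_sections hn hU
  haveI : IsDomain (𝒜.presheaf.obj (op U)) := e.symm.toMulEquiv.isDomain _
  haveI : IsIntegrallyClosed (𝒜.presheaf.obj (op U)) := IsIntegrallyClosed.of_equiv e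
  obtain ⟨_, hloc⟩ := stalk_spec_atPrime _ x
  haveI := hloc
  haveI : IsDomain ((Spec (𝒜.presheaf.obj (op U))).presheaf.stalk x) :=
    IsLocalization.isDomain_of_le_nonZeroDivisors _ x.asIdeal.primeCompl_le_nonZeroDivisors
  haveI : IsIntegrallyClosed ((Spec (𝒜.presheaf.obj (op U))).presheaf.stalk x) :=
    isIntegrallyClosed_of_isLocalization (R := 𝒜.presheaf.obj (op U)) _ x.asIdeal.primeCompl
      x.asIdeal.primeCompl_le_nonZeroDivisors
  let f := (asIso ((𝒜.ι U hU).stalkMap x)).commRingCatIsoToRingEquiv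
  exact ⟨f.toMulEquiv.isDomain _, IsIntegrallyClosed.of_equiv f.symm⟩

theorem isIntegral_symSpec (hL : PicF.IsInvertible L) (hLq : Coh.IsQCoh L) (hA : RelSpec.IsSymAlg L 𝒜 jL)
    [IsIntegral X] : IsIntegral 𝒜.spec := by
  have hX : LocInt X := fun x => ⟨⊤, trivial, by
    haveI : Nonempty ((⊤ : X.Opens) : Scheme.{u}) := ⟨⟨x, trivial⟩⟩
    exact isIntegral_of_isOpenImmersion X.topIso.hom⟩
  have hV := locDom_spec hL hLq hA hX
  haveI : IsReduced 𝒜.spec := by
    haveI : ∀ v : 𝒜.spec, _root_.IsReduced (𝒜.spec.presheaf.stalk v) := fun v => by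
      obtain ⟨U, hU, hvU, hd⟩ := hV v
      haveI := hd
      letI := 𝒜.spec.presheaf.algebra_section_stalk ⟨v, hvU⟩
      haveI := hU.isLocalization_stalk ⟨v, hvU⟩
      haveI : IsDomain (𝒜.spec.presheaf.stalk v) := IsLocalization.isDomain_of_le_nonZeroDivisors _
        (hU.primeIdealOf ⟨v, hvU⟩).asIdeal.primeCompl_le_nonZeroDivisors
      infer_instance
    exact isReduced_of_isReduced_stalk _
  have hirr : ∀ x : X, ∃ U : X.Opens, x ∈ U ∧ IsIrreducible ((𝒜.π ⁻¹ᵁ U : 𝒜.spec.Opens) : Set 𝒜.spec) := by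
    intro x
    obtain ⟨U, hU, hxU, hdom, ⟨e⟩⟩ := exists_domain_poly hL hLq hA hX x
    haveI := hdom
    haveI : IsDomain (𝒜.presheaf.obj (op U)) := e.symm.toMulEquiv.isDomain _
    haveI : IrreducibleSpace (Spec (𝒜.presheaf.obj (op U))) := inferInstance
    refine ⟨U, hxU, ?_⟩
    rw [𝒜.π_preimage U hU, Scheme.Hom.coe_opensRange, ← Set.image_univ]
    exact (IrreducibleSpace.isIrreducible_univ _).image _ (𝒜.ι U hU).continuous.continuousOn
  haveI : Nonempty 𝒜.spec := ⟨(hirr (Classical.arbitrary X)).choose_spec.2.nonempty.choose⟩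
  haveI : PreirreducibleSpace 𝒜.spec := ⟨fun O O' hO hO' ⟨c, _, hc⟩ ⟨c', _, hc'⟩ => by
    obtain ⟨U, hxU, h1⟩ := hirr (𝒜.π c)
    obtain ⟨U', hxU', h2⟩ := hirr (𝒜.π c')
    obtain ⟨y, hy⟩ := nonempty_preirreducible_inter (U : X.Opens).2 (U' : X.Opens).2 ⟨_, hxU⟩ ⟨_, hxU'⟩
    obtain ⟨U'', hyU'', h3⟩ := hirr y
    obtain ⟨W, hyW, hW1, hW2⟩ : ∃ W : X.Opens, y ∈ W ∧ W ≤ U ⊓ U' ⊓ U'' ∧ True :=
      ⟨U ⊓ U' ⊓ U'', ⟨⟨hy.1, hy.2⟩, hyU''⟩, le_rfl, trivial⟩
    obtain ⟨Z, hyZ, hZle, hZ⟩ : ∃ Z : X.Opens, y ∈ Z ∧ Z ≤ W ∧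
        IsIrreducible ((𝒜.π ⁻¹ᵁ Z : 𝒜.spec.Opens) : Set 𝒜.spec) := by
      obtain ⟨d, hd⟩ := h3.nonempty
      obtain ⟨Z, hZa, hyZ, hZle, ⟨e⟩⟩ := exists_poly hL hLq hA (show y ∈ W from hyW)
      haveI : IsDomain Γ(X, Z) := by
        haveI : Nonempty (Z : Scheme.{u}) := ⟨⟨y, hyZ⟩⟩
        exact @IsIntegral.component_integral X _ Z this
      haveI : IsDomain (𝒜.presheaf.obj (op Z)) := e.symm.toMulEquiv.isDomain _
      haveI : IrreducibleSpace (Spec (𝒜.presheaf.obj (op Z))) := inferInstance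
      refine ⟨Z, hyZ, hZle, ?_⟩
      rw [𝒜.π_preimage Z hZa, Scheme.Hom.coe_opensRange, ← Set.image_univ]
      exact (IrreducibleSpace.isIrreducible_univ _).image _ (𝒜.ι Z hZa).continuous.continuousOn
    obtain ⟨d, hd⟩ := hZ.nonempty
    obtain ⟨a, -, haO, haR⟩ := h1.2 O _ hO (𝒜.π ⁻¹ᵁ Z).2 ⟨c, hxU, hc⟩
      ⟨d, (hW1 (hZle hd)).1.1, hd⟩
    obtain ⟨b, -, hbO, hbR⟩ := h2.2 O' _ hO' (𝒜.π ⁻¹ᵁ Z).2 ⟨c', hxU', hc'⟩
      ⟨d, (hW1 (hZle hd)).1.2, hd⟩
    obtain ⟨z, -, hz⟩ := hZ.2 O O' hO hO' ⟨a, haR, haO⟩ ⟨b, hbR, hbO⟩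
    exact ⟨z, trivial, hz⟩⟩
  haveI : IrreducibleSpace 𝒜.spec := ⟨inferInstance⟩
  exact isIntegral_of_irreducibleSpace_of_isReduced _

/-! ### Direct images -/

variable {V Y : Scheme.{u}} (g : V ⟶ Y) [QuasiCompact g] [QuasiSeparated g]

theorem isNormal_directImage (hV : LocDom V) (hn : Pi1.IsNormalScheme V) :
    Pi1.IsNormalScheme (RelSpec.QCAlg.directImage g).spec := by
  refine stalk_normal_of_charts _ fun U hU p hp L iC iA iL => ?_
  exact ⟨@isDomain_atPrime V hV (fun x => (hn x).1) (g ⁻¹ᵁ U) p hp L iC iA iL,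
    @isIntegrallyClosed_atPrime V hV (fun x => (hn x).1) (fun x => (hn x).2) (g ⁻¹ᵁ U) p hp L iC iA iL⟩

theorem isIntegral_directImage [IsIntegral V] :
    IsIntegral (RelSpec.QCAlg.directImage g).spec := by
  have hne : ∀ O : V.Opens, Nontrivial Γ(V, O) ↔ Nonempty O := fun O => by
    constructor
    · intro h
      by_contra h0
      have : O = ⊥ := by
        ext x
        simp only [Opens.coe_bot, Set.mem_empty_iff_false, iff_false]
        exact fun hx => h0 ⟨⟨x, hx⟩⟩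
      subst this
      exact not_subsingleton Γ(V, ⊥) inferInstance
    · rintro ⟨⟨x, hx⟩⟩
      exact (V.presheaf.germ O x hx).hom.domain_nontrivial
  refine isIntegral_spec _ (fun U hU h => ?_) (fun U U' hU hU' h h' => ?_) ?_
  · haveI := (hne (g ⁻¹ᵁ U)).1 h
    exact IsIntegral.component_integral (g ⁻¹ᵁ U)
  · obtain ⟨⟨a, ha⟩⟩ := (hne (g ⁻¹ᵁ U)).1 h
    obtain ⟨⟨b, hb⟩⟩ := (hne (g ⁻¹ᵁ U')).1 h'
    obtain ⟨z, hz⟩ := nonempty_preirreducible_inter (g ⁻¹ᵁ U).2 (g ⁻¹ᵁ U').2 ⟨a, ha⟩ ⟨b, hb⟩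
    obtain ⟨U'', hU'', hzU'', hle⟩ :=
      exists_isAffineOpen_mem_and_subset (U := U ⊓ U') (show g z ∈ U ⊓ U' from ⟨hz.1, hz.2⟩)
    exact ⟨U'', hU'', fun w hw => (hle hw).1, fun w hw => (hle hw).2, (hne (g ⁻¹ᵁ U'')).2 ⟨⟨z, hzU''⟩⟩⟩
  · obtain ⟨U, hU, hvU, -⟩ := exists_isAffineOpen_mem_and_subset (U := (⊤ : Y.Opens))
      (show g (Classical.arbitrary V) ∈ (⊤ : Y.Opens) from trivial)
    exact ⟨U, hU, (hne (g ⁻¹ᵁ U)).2 ⟨⟨_, hvU⟩⟩⟩

end Groth.Agent.KS29.ConeNormal
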