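import Groth.Agent.Lib.KS29.ConeFactor
import Groth.Agent.Lib.KS29.ConeSpec
import Mathlib.AlgebraicGeometry.FunctionField

/-!
The factor to a contraction is radicial, and an isomorphism onto a normal contraction.
-/

set_option autoImplicit false
set_option backward.isDefEq.respectTransparency false
set_option backward.isDefEq.respectTransparency.types false
universe u

open CategoryTheory CategoryTheory.Limits AlgebraicGeometry TopologicalSpace Opposite

noncomputable section

namespace Groth.Agent.KS29.Factor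

theorem factor_closedImmersion_of_field {Y C' : Scheme.{u}} (ε' : Y ⟶ C') [IsClosedImmersion ε']
    {K : Type u} [Field K] (a : Spec (CommRingCat.of K) ⟶ C') (x : Spec (CommRingCat.of K))
    (hx : a x ∈ Set.range ε'.base) : ∃ a₀, a₀ ≫ ε' = a := by
  haveI : Surjective (pullback.snd ε' a) := ⟨fun x' => by
    obtain ⟨y, hy⟩ := hx
    obtain ⟨w, -, hw⟩ := Scheme.Pullback.exists_preimage_pullback (f := ε') (g := a) y x hy
    exact ⟨w, hw.trans (Subsingleton.elim (α := PrimeSpectrum K) _ _)⟩⟩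
  haveI := isIso_of_isClosedImmersion_of_surjective (pullback.snd ε' a)
  exact ⟨inv (pullback.snd ε' a) ≫ pullback.fst ε' a, by
    rw [Category.assoc, pullback.condition, IsIso.inv_hom_id_assoc]⟩

section Cone

variable {X Y : Scheme.{u}} {𝒜 : RelProj.QCGrAlg X} {j0 : X ⟶ 𝒜.toQCAlg.spec} {p : X ⟶ Y} [IsProper p]
  {C C' : Scheme.{u}} {π' : C' ⟶ Y} {V0 : 𝒜.toQCAlg.spec.Opens}
  {q' : 𝒜.toQCAlg.spec ⟶ C'} {ε' : Y ⟶ C'} {g : C ⟶ Y} {ε : Y ⟶ C} {q : 𝒜.toQCAlg.spec ⟶ C}

theorem Cone.comp_sec (h : Cone 𝒜 j0 p V0 π' q' ε') (hjq : j0 ≫ q = p ≫ ε) {u : C' ⟶ C} (hu : q' ≫ u = q) :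
    ε' ≫ u = ε := by
  refine h.goodp.hom_ext _ _ ?_
  rw [← Category.assoc, ← h.vtx, Category.assoc, hu, hjq]

theorem Cone.mem_range_iff (h : Cone 𝒜 j0 p V0 π' q' ε') (hjq : j0 ≫ q = p ≫ ε) {u : C' ⟶ C}
    (hu : q' ≫ u = q) (hqr : Set.range (V0.ι ≫ q).base = (Set.range ε.base)ᶜ) (c : C') :
    u c ∈ Set.range ε.base ↔ c ∈ Set.range ε'.base := by
  constructor
  · intro huc
    obtain ⟨v, rfl⟩ := h.good.surj c
    rcases h.mem_or v with ⟨hv, -⟩ | ⟨x, -, hx⟩
    · have h1 : q v ∈ Set.range (V0.ι ≫ q).base := ⟨⟨v, hv⟩, rfl⟩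
      rw [hqr] at h1
      exact absurd (congr($hu v) ▸ huc) h1
    · exact ⟨p x, hx.symm⟩
  · rintro ⟨y, rfl⟩
    exact ⟨y, (congr($(h.comp_sec hjq hu) y)).symm⟩

theorem Cone.range_vertex (h : Cone 𝒜 j0 p V0 π' q' ε') :
    q'.base '' Set.range j0.base = Set.range ε'.base := by
  ext c
  constructor
  · rintro ⟨_, ⟨x, rfl⟩, rfl⟩
    exact ⟨p x, (congr($(h.vtx) x)).symm⟩
  · rintro ⟨y, rfl⟩
    obtain ⟨x, rfl⟩ := h.goodp.surj y
    exact ⟨_, ⟨x, rfl⟩, congr($(h.vtx) x)⟩

theorem Cone.openPart (h : Cone 𝒜 j0 p V0 π' q' ε') {u : C' ⟶ C} (hu : q' ≫ u = q)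
    (hqo : IsOpenImmersion (V0.ι ≫ q)) (hqr : Set.range (V0.ι ≫ q).base = (Set.range ε.base)ᶜ)
    (W : C'.Opens) (hW : (W : Set C') = (Set.range ε'.base)ᶜ) :
    IsOpenImmersion (W.ι ≫ u) ∧ Set.range (W.ι ≫ u).base = (Set.range ε.base)ᶜ := by
  haveI := h.opn
  haveI := hqo
  have hr : Set.range W.ι.base = Set.range (V0.ι ≫ q').base := by
    rw [h.rng, ← hW, Scheme.Opens.range_ι]
  let e := IsOpenImmersion.isoOfRangeEq W.ι (V0.ι ≫ q') hr
  have he : W.ι ≫ u = e.hom ≫ (V0.ι ≫ q) := by
    rw [← IsOpenImmersion.isoOfRangeEq_hom_fac W.ι (V0.ι ≫ q') hr, Category.assoc, Category.assoc, hu]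
  refine ⟨by rw [he]; infer_instance, ?_⟩
  rw [he, ← hqr]
  simp only [Scheme.Hom.comp_base, TopCat.coe_comp, Set.range_comp]
  rw [Set.range_eq_univ.mpr e.hom.surjective, Set.image_univ, Set.range_comp]

theorem Cone.univClosed_surjective (h : Cone 𝒜 j0 p V0 π' q' ε') (hjq : j0 ≫ q = p ≫ ε) {u : C' ⟶ C}
    (hu : q' ≫ u = q) [IsProper q] (hqr : Set.range (V0.ι ≫ q).base = (Set.range ε.base)ᶜ) :
    UniversallyClosed u ∧ Function.Surjective u.base := by
  haveI : Surjective q' := ⟨h.good.surj⟩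
  haveI : UniversallyClosed (q' ≫ u) := by rw [hu]; infer_instance
  refine ⟨UniversallyClosed.of_comp_surjective q' u, fun c => ?_⟩
  by_cases hc : c ∈ Set.range ε.base
  · obtain ⟨y, rfl⟩ := hc
    exact ⟨ε' y, congr($(h.comp_sec hjq hu) y)⟩
  · obtain ⟨v, hv⟩ := (hqr ▸ hc : c ∈ Set.range (V0.ι ≫ q).base)
    exact ⟨q' (V0.ι v), (congr($hu (V0.ι v))).trans hv⟩

theorem Cone.univInj (h : Cone 𝒜 j0 p V0 π' q' ε') (hjq : j0 ≫ q = p ≫ ε) [IsSeparated π'] {u : C' ⟶ C}
    (hu : q' ≫ u = q) (hug : u ≫ g = π') (hqo : IsOpenImmersion (V0.ι ≫ q))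
    (hqr : Set.range (V0.ι ≫ q).base = (Set.range ε.base)ᶜ) : UniversallyInjective u := by
  haveI : IsClosedImmersion ε' := by
    haveI : IsClosedImmersion (ε' ≫ π') := by rw [h.sec]; infer_instance
    exact IsClosedImmersion.of_comp ε' π'
  let W : C'.Opens := ⟨(Set.range ε'.base)ᶜ, ε'.isClosedEmbedding.isClosed_range.isOpen_compl⟩
  haveI := (h.openPart hu hqo hqr W rfl).1
  rw [UniversallyInjective.iff_diagonal]
  refine ⟨fun z => ?_⟩
  let P := pullback u u
  let K := P.residueField z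
  let a := P.fromSpecResidueField z ≫ pullback.fst u u
  let b := P.fromSpecResidueField z ≫ pullback.snd u u
  have hab : a ≫ u = b ≫ u := by simp only [a, b, Category.assoc, pullback.condition]
  suffices hkey : a = b by
    obtain ⟨t⟩ : Nonempty (Spec K) := inferInstance
    refine ⟨a t, ?_⟩
    have : a ≫ pullback.diagonal u = P.fromSpecResidueField z := by
      apply pullback.hom_ext
      · rw [Category.assoc, pullback.diagonal_fst, Category.comp_id]
      · rw [Category.assoc, pullback.diagonal_snd, Category.comp_id, hkey]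
    exact (congr($this t)).trans (Scheme.fromSpecResidueField_apply z t)
  obtain ⟨t⟩ : Nonempty (Spec K) := inferInstance
  have hiff : a t ∈ Set.range ε'.base ↔ b t ∈ Set.range ε'.base := by
    rw [← h.mem_range_iff hjq hu hqr, ← h.mem_range_iff hjq hu hqr]
    have : u (a t) = u (b t) := congr($hab t)
    rw [this]
  by_cases ha : a t ∈ Set.range ε'.base
  · obtain ⟨a₀, ha₀⟩ := factor_closedImmersion_of_field (K := K) ε' a t ha
    obtain ⟨b₀, hb₀⟩ := factor_closedImmersion_of_field (K := K) ε' b t (hiff.1 ha)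
    have h1 : a ≫ π' = b ≫ π' := by rw [← hug, ← Category.assoc, hab, Category.assoc]
    rw [← ha₀, ← hb₀, Category.assoc, Category.assoc, h.sec, Category.comp_id, Category.comp_id] at h1
    rw [← ha₀, ← hb₀, h1]
  · have hb : b t ∉ Set.range ε'.base := fun hb => ha (hiff.2 hb)
    have hsub : ∀ (d : Spec K ⟶ C'), d t ∉ Set.range ε'.base → Set.range d.base ⊆ Set.range W.ι.base := by
      intro d hd
      rw [Scheme.Opens.range_ι]
      rintro _ ⟨s, rfl⟩
      rw [Subsingleton.elim (α := PrimeSpectrum K) s t]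
      exact hd
    have hla := IsOpenImmersion.lift_fac W.ι a (hsub a ha)
    have hlb := IsOpenImmersion.lift_fac W.ι b (hsub b hb)
    rw [← hla, ← hlb] at hab ⊢
    rw [Category.assoc, Category.assoc, cancel_mono] at hab
    rw [hab]

theorem Cone.isIso_of_normal (h : Cone 𝒜 j0 p V0 π' q' ε') (hjq : j0 ≫ q = p ≫ ε) [IsSeparated π']
    {u : C' ⟶ C} (hu : q' ≫ u = q) (hug : u ≫ g = π') [IsProper q] (hqo : IsOpenImmersion (V0.ι ≫ q))
    (hqr : Set.range (V0.ι ≫ q).base = (Set.range ε.base)ᶜ) (hC : Pi1.IsNormalScheme C)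
    [IsIntegral C'] (hne : (V0 : Set 𝒜.toQCAlg.spec).Nonempty) : IsIso u := by
  obtain ⟨huc, hus⟩ := h.univClosed_surjective hjq hu hqr
  haveI := huc
  haveI := h.univInj hjq hu hug hqo hqr
  haveI : IsClosedImmersion ε' := by
    haveI : IsClosedImmersion (ε' ≫ π') := by rw [h.sec]; infer_instance
    exact IsClosedImmersion.of_comp ε' π'
  haveI : IsReduced C := by
    haveI : ∀ c : C, _root_.IsReduced (C.presheaf.stalk c) := fun c => by
      haveI := (hC c).1
      infer_instance
    exact isReduced_of_isReduced_stalk _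
  haveI : IrreducibleSpace C := by
    have hi := (IrreducibleSpace.isIrreducible_univ C').image _ u.continuous.continuousOn
    rw [Set.image_univ, Set.range_eq_univ.mpr hus] at hi
    haveI : Nonempty C := ⟨hi.nonempty.choose⟩
    exact { isPreirreducible_univ := hi.2, toNonempty := inferInstance }
  haveI : IsIntegral C := isIntegral_of_irreducibleSpace_of_isReduced _
  let W₁ : C'.Opens := ⟨(Set.range ε'.base)ᶜ, ε'.isClosedEmbedding.isClosed_range.isOpen_compl⟩
  obtain ⟨hF, hFr⟩ := h.openPart hu hqo hqr W₁ rfl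
  haveI := hF
  let W₀ : C.Opens := ⟨(Set.range ε.base)ᶜ, hFr ▸ (W₁.ι ≫ u).isOpenEmbedding.isOpen_range⟩
  have hW₀ : (W₀ : Set C).Nonempty := by
    obtain ⟨v, hv⟩ := hne
    refine ⟨q v, ?_⟩
    show q v ∈ (Set.range ε.base)ᶜ
    rw [← hqr]
    exact ⟨⟨v, hv⟩, rfl⟩
  have hsmall : ∀ W' : C.Opens, W' ≤ W₀ → IsIso (u.app W') := by
    intro W' hW'
    haveI : IsIso ((W₁.ι ≫ u).app W') := Scheme.Hom.isIso_app _ _ (fun c hc => by
      show c ∈ Set.range (W₁.ι ≫ u).base
      rw [hFr]; exact hW' hc)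
    haveI : IsIso (W₁.ι.app (u ⁻¹ᵁ W')) := Scheme.Hom.isIso_app _ _ (fun c hc => by
      rw [Scheme.Opens.opensRange_ι]
      show c ∈ (Set.range ε'.base)ᶜ
      exact fun hc' => hW' hc ((h.mem_range_iff hjq hu hqr c).2 hc'))
    have h1 : IsIso (u.app W' ≫ W₁.ι.app (u ⁻¹ᵁ W')) := by
      rw [← Scheme.Hom.comp_app]; infer_instance
    exact IsIso.of_isIso_comp_right (u.app W') (W₁.ι.app (u ⁻¹ᵁ W'))
  have haff : ∀ W : C.Opens, IsAffineOpen W → IsIso (u.app W) := by
    intro W hW
    refine (ConcreteCategory.isIso_iff_bijective _).2 ?_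
    by_cases hWne : (W : Set C).Nonempty
    swap
    · have hW0 : W = ⊥ := by
        ext c
        simp only [Opens.coe_bot, Set.mem_empty_iff_false, iff_false]
        exact fun hc => hWne ⟨c, hc⟩
      subst hW0
      haveI : Subsingleton Γ(C, ⊥) := inferInstance
      haveI : Subsingleton Γ(C', u ⁻¹ᵁ ⊥) := by
        rw [show u ⁻¹ᵁ (⊥ : C.Opens) = ⊥ from rfl]; infer_instance
      exact ⟨Function.injective_of_subsingleton _, fun b => ⟨0, Subsingleton.elim _ _⟩⟩
    let W' := W ⊓ W₀
    have hW'ne : (W' : Set C).Nonempty :=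
      nonempty_preirreducible_inter W.2 W₀.2 hWne hW₀
    haveI := hsmall W' inf_le_right
    haveI : Nonempty W := hWne.to_subtype
    haveI : Nonempty W' := hW'ne.to_subtype
    let θ : Γ(C', u ⁻¹ᵁ W) ⟶ C.functionField :=
      C'.presheaf.map (homOfLE (u.preimage_mono inf_le_left)).op ≫ inv (u.app W') ≫ C.germToFunctionField W'
    have hθ : ∀ a, θ (u.app W a) = C.germToFunctionField W a := by
      intro a
      have h1 : u.app W ≫ θ = C.germToFunctionField W := by
        have := u.naturality (homOfLE (inf_le_left : W' ≤ W)).op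
        simp only [θ]
        rw [← Category.assoc]
        erw [← this]
        rw [Category.assoc, IsIso.hom_inv_id_assoc]
        exact TopCat.Presheaf.germ_res _ _ _ _
      exact ConcreteCategory.congr_hom h1 a
    have hθi : Function.Injective θ := by
      have hne' : ((u ⁻¹ᵁ W' : C'.Opens) : Set C').Nonempty := by
        obtain ⟨c, hc⟩ := hW'ne
        obtain ⟨c', rfl⟩ := hus c
        exact ⟨c', hc⟩
      haveI : Nonempty (u ⁻¹ᵁ W' : C'.Opens) := hne'.to_subtype
      have i1 : Function.Injective (C'.presheaf.map (homOfLE (u.preimage_mono (inf_le_left : W' ≤ W))).op) :=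
        map_injective_of_isIntegral _ _
      have i2 : Function.Injective (inv (u.app W')) := (ConcreteCategory.bijective_of_isIso _).1
      have i3 : Function.Injective (C.germToFunctionField W') := Scheme.germToFunctionField_injective _ _
      exact i3.comp (i2.comp i1)
    refine ⟨fun a a' e => ?_, fun s => ?_⟩
    · exact Scheme.germToFunctionField_injective C W (by rw [← hθ, ← hθ, e])
    · haveI : IsDomain Γ(C, W) := inferInstance
      haveI := ConeNormal.isIntegrallyClosed_sections hC hW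
      haveI := functionField_isFractionRing_of_isAffineOpen C W hW
      haveI : IsAffine W := hW
      have hint : (u.app W).hom.IsIntegralElem s := by
        have h1 := isIntegral_appTop_of_universallyClosed (u ∣_ W)
        rw [morphismRestrict_appTop] at h1
        have hW2 : W.ι ''ᵁ ⊤ = W := W.ι_image_top
        have key : ∀ {A : C.Opens} (hA : A = W) (e : C'.presheaf.obj (op (u ⁻¹ᵁ A)) ⟶
            C'.presheaf.obj (op ((u ⁻¹ᵁ W).ι ''ᵁ ⊤))) [IsIso e],
            (u.app A ≫ e).hom.IsIntegral → (u.app W).hom.IsIntegralElem s := by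
          intro A hA e _ h2
          subst hA
          have h3 : ((inv e).hom.comp ((u.app A ≫ e).hom)).IsIntegralElem ((inv e).hom (e.hom s)) :=
            (h2 (e.hom s)).map (inv e).hom
          rwa [← CommRingCat.hom_comp, Category.assoc, IsIso.hom_inv_id, Category.comp_id,
            ← CommRingCat.comp_apply, IsIso.hom_inv_id, CommRingCat.id_apply] at h3
        exact key hW2 _ h1
      obtain ⟨P, hPm, hPs⟩ := hint
      have hxint : _root_.IsIntegral Γ(C, W) (θ s) := by
        refine ⟨P, hPm, ?_⟩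
        have h2 := congrArg θ.hom hPs
        rw [map_zero, Polynomial.hom_eval₂] at h2
        have h3 : θ.hom.comp (u.app W).hom = algebraMap Γ(C, W) C.functionField :=
          RingHom.ext fun a => hθ a
        rwa [h3] at h2
      obtain ⟨t, ht⟩ := IsIntegrallyClosed.isIntegral_iff.1 hxint
      exact ⟨t, hθi ((hθ t).trans ht)⟩
  have happ : ∀ D : C.Opens, IsIso (u.app D) := by
    intro D
    let F : TopCat.Sheaf CommRingCat.{u} C.carrier := C.sheaf
    let G : TopCat.Sheaf CommRingCat.{u} C.carrier :=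
      ⟨u.base _* C'.presheaf, TopCat.Sheaf.pushforward_sheaf_of_sheaf _ C'.sheaf.property⟩
    let α : F ⟶ G := ⟨u.c⟩
    have hα : IsIso α := by
      refine Functor.IsCoverDense.iso_of_restrict_iso (G := Scheme.AffineZariskiSite.toOpensFunctor C) α ?_
      rw [NatTrans.isIso_iff_isIso_app]
      intro W
      exact haff W.unop.1 W.unop.2
    have : IsIso u.c := Functor.map_isIso (TopCat.Sheaf.forget CommRingCat.{u} C.carrier) α
    exact (inferInstance : IsIso (u.c.app (op D)))
  have hgood : Good u := ⟨hus, fun D => (ConcreteCategory.isIso_iff_bijective _).1 (happ D)⟩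
  obtain ⟨v, hv⟩ := hgood.exists_factor u.isClosedMap (𝟙 C') (fun a b e => u.injective e)
  exact ⟨v, hv, hgood.hom_ext _ _ (by rw [← Category.assoc, hv, Category.id_comp, Category.comp_id])⟩

end Cone

end Groth.Agent.KS29.Factor
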