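import Groth.Agent.Lib.KS29.ConeRadicial

/-!
The complement of the zero section of a line bundle is non-empty.
-/

set_option autoImplicit false
set_option backward.isDefEq.respectTransparency false
set_option backward.isDefEq.respectTransparency.types false
universe u

open CategoryTheory CategoryTheory.Limits AlgebraicGeometry TopologicalSpace Opposite Polynomial

noncomputable section

namespace Groth.Agent.KS29.ConeNormal

variable {X : Scheme.{u}} {L : X.Modules} {𝒜 : RelSpec.QCAlg X} {jL : L ⟶ 𝒜.toModule}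

theorem range_section_ne_univ [IsIntegral X] (hL : PicF.IsInvertible L) (hLq : Coh.IsQCoh L)
    (hA : RelSpec.IsSymAlg L 𝒜 jL) (j0 : X ⟶ 𝒜.spec) (hj : j0 ≫ 𝒜.π = 𝟙 X) :
    ((Set.range j0.base)ᶜ : Set 𝒜.spec).Nonempty := by
  rw [Set.nonempty_compl]
  intro hsurj
  haveI := isIntegral_symSpec hL hLq hA
  haveI : IsClosedImmersion j0 := by
    haveI : IsClosedImmersion (j0 ≫ 𝒜.π) := by rw [hj]; infer_instance
    exact IsClosedImmersion.of_comp j0 𝒜.π
  haveI : Surjective j0 := ⟨Set.range_eq_univ.1 hsurj⟩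
  haveI := isIso_of_isClosedImmersion_of_surjective j0
  haveI : IsIso 𝒜.π := by
    have : 𝒜.π = inv j0 := (IsIso.inv_eq_of_hom_inv_id hj).symm
    rw [this]; infer_instance
  obtain ⟨U, e, hxU, -, hU, he⟩ := Amp.exists_isGenerator hL (x := Classical.arbitrary X) (V := ⊤) trivial
  haveI : Nonempty U := ⟨⟨_, hxU⟩⟩
  have h0 : Function.Bijective fun r : Γ(X, U) => r • e := by
    have := he U le_rfl
    simp only [Amp.res_self] at this
    exact this
  let ψ : Γ(X, U)[X] →+* 𝒜.presheaf.obj (op U) :=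
    (SymAlg11.liftOn 𝒜 jL U).comp (Polynomial.eval₂RingHom (algebraMap Γ(X, U) _)
      (SymmetricAlgebra.ι Γ(X, U) Γ(L, U) e))
  have hψ : Function.Bijective ψ :=
    (SymAlg11.bijective_liftOn hLq hA U hU).comp (bijective_poly_sym e h0)
  have hC : ∀ a, ψ (Polynomial.C a) = (𝒜.str.app (op U)).hom a := fun a => by simp [ψ]
  haveI := QCGen12.isIso_gammaAff 𝒜 U hU
  haveI : IsIso (𝒜.str.app (op U)) := by
    rw [← 𝒜.π_app_gammaAff U hU]; infer_instance
  obtain ⟨a, ha⟩ := (ConcreteCategory.bijective_of_isIso (𝒜.str.app (op U))).2 (ψ Polynomial.X)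
  have h1 : Polynomial.C a = (Polynomial.X : Γ(X, U)[X]) := hψ.1 ((hC a).trans ha)
  have := congrArg Polynomial.natDegree h1
  simp at this

end Groth.Agent.KS29.ConeNormal
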