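import Groth.Prelude.Def_StrictSS
import Groth.Agent.Lib.WeilExt.Apply
import Groth.Agent.Lib.LocInteg12.Basic
import Groth.Agent.Lib.SchImage.ReducedKer
import Groth.Agent.Lib.RedSep.Basic
import Groth.Agent.Lib.NeronGlue19.Basic

/-!
# Irreducible components of strictly semistable curves over a field are smooth
-/

set_option autoImplicit false
set_option linter.style.haveILetI false
set_option backward.isDefEq.respectTransparency false
set_option backward.isDefEq.respectTransparency.types false
set_option maxHeartbeats 1000000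

universe u

open CategoryTheory CategoryTheory.Limits AlgebraicGeometry TopologicalSpace

namespace Groth.Agent.KS29.StrictComp

variable {k : Type u} [Field k]

/-- On a smooth scheme over a field the irreducible components are open. -/
theorem isOpen_component {Y : Scheme.{u}} (p : Y ⟶ Spec (CommRingCat.of k)) [Smooth p]
    {T : Set Y} (hT : T ∈ irreducibleComponents (Y : Type u)) : IsOpen T := by
  haveI : IsLocallyNoetherian Y := LocallyOfFiniteType.isLocallyNoetherian p
  rw [isOpen_iff_forall_mem_open]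
  intro y hy
  obtain ⟨V, hyV, hV⟩ := LocInteg12.exists_isIntegral_nhd (Y := Y) (fun z => by
    obtain ⟨V, hV, hzV, -⟩ := exists_isAffineOpen_mem_and_subset (X := Y) (x := z) (U := ⊤) trivial
    haveI : IsNoetherianRing Γ(Y, V) := IsLocallyNoetherian.component_noetherian ⟨V, hV⟩
    haveI : IsAffine (V : Scheme.{u}) := hV
    exact ⟨V, hzV, hV.isoSpec.hom.homeomorph.isInducing.noetherianSpace⟩)
    (fun z => WeilExt.isDomain_stalk_of_smooth (A := k) p z) y
  haveI := hV
  refine ⟨V, ?_, V.isOpen, hyV⟩
  have hVirr : IsIrreducible (V : Set Y) := by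
    rw [← V.range_ι, ← Set.image_univ]
    exact (IrreducibleSpace.isIrreducible_univ _).image _ V.ι.continuous.continuousOn
  have hTV : T ⊆ closure (V : Set Y) :=
    (subset_closure_inter_of_isPreirreducible_of_isOpen hT.1.isPreirreducible V.isOpen ⟨y, hy, hyV⟩).trans
      (closure_mono Set.inter_subset_right)
  exact subset_closure.trans (hT.2 hVirr.closure hTV)

/-- A component contained in a smooth closed subscheme is, with its reduced structure, smooth. -/
theorem smooth_of_subset_range {U Y W : Scheme.{u}} (p : U ⟶ Spec (CommRingCat.of k)) (e : Y ⟶ U)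
    [IsClosedImmersion e] [Smooth (e ≫ p)] (w : W ⟶ U) [IsClosedImmersion w] [IsReduced W] {T : Set U}
    (hT : T ∈ irreducibleComponents (U : Type u)) (hTe : T ⊆ Set.range e) (hw : Set.range w = T) :
    Smooth (w ≫ p) := by
  have hT' : e ⁻¹' T ∈ irreducibleComponents (Y : Type u) := by
    have hirr : IsIrreducible (e ⁻¹' T) := by
      obtain ⟨t, ht⟩ := hT.1.nonempty
      obtain ⟨z, rfl⟩ := hTe ht
      refine ⟨⟨z, ht⟩, fun U V hU hV hu hv => ?_⟩
      obtain ⟨U', hU', rfl⟩ := e.isClosedEmbedding.isInducing.isOpen_iff.1 hU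
      obtain ⟨V', hV', rfl⟩ := e.isClosedEmbedding.isInducing.isOpen_iff.1 hV
      obtain ⟨a, haT, ha⟩ := hu
      obtain ⟨b, hbT, hb⟩ := hv
      obtain ⟨c, hcT, hc⟩ := hT.1.2 U' V' hU' hV' ⟨e a, haT, ha⟩ ⟨e b, hbT, hb⟩
      obtain ⟨d, rfl⟩ := hTe hcT
      exact ⟨d, hcT, hc⟩
    refine ⟨hirr, fun S hS hle z hz => ?_⟩
    have h1 : T ⊆ e '' S := fun t ht => by
      obtain ⟨z', rfl⟩ := hTe ht
      exact ⟨z', hle ht, rfl⟩
    exact hT.2 (hS.image e e.continuous.continuousOn) h1 ⟨z, hz, rfl⟩
  let O : Y.Opens := ⟨e ⁻¹' T, isOpen_component (e ≫ p) hT'⟩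
  let v := O.ι ≫ e
  have hv : Set.range v = T := by
    rw [Scheme.Hom.comp_base, TopCat.coe_comp, Set.range_comp, Scheme.Opens.range_ι]
    exact Set.image_preimage_eq_of_subset hTe
  have hTc : IsClosed T := isClosed_of_mem_irreducibleComponents T hT
  haveI : IsClosedImmersion O.ι := by
    refine IsClosedImmersion.of_isPreimmersion _ ?_
    rw [Scheme.Opens.range_ι]
    exact hTc.preimage e.continuous
  haveI : IsReduced (O : Scheme.{u}) :=
    NeronGlue19.isReduced_of_isDomain fun y => WeilExt.isDomain_stalk_of_smooth (A := k) (O.ι ≫ e ≫ p) y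
  have hker : w.ker = v.ker := by
    rw [SchImage.ker_eq_vanishingIdeal w, SchImage.ker_eq_vanishingIdeal v]
    congr 1
    exact Closeds.ext (by show closure _ = closure _; rw [hw, hv])
  let i := IsClosedImmersion.lift v w hker.ge
  have hi : i ≫ v = w := IsClosedImmersion.lift_fac _ _ _
  haveI : IsIso i := IsClosedImmersion.isIso_of_ker_eq w v i hi hker
  have : w ≫ p = i ≫ O.ι ≫ e ≫ p := by rw [← hi]; simp [v]
  rw [this]
  infer_instance

section Node

variable (A : Type u) [CommRing A]

/-- The node model with unit parameter is smooth. -/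
theorem smooth_nodeToBase (a : A) (ha : IsUnit a) : Smooth (StrictSS.nodeToBase A a) := by
  let M := StrictSS.NodeAlg A a
  let L := Localization.Away (Polynomial.X : Polynomial A)
  let φ : MvPolynomial (Fin 2) A →ₐ[A] L :=
    MvPolynomial.aeval ![algebraMap (Polynomial A) L Polynomial.X,
      algebraMap A L a * IsLocalization.Away.invSelf (Polynomial.X : Polynomial A)]
  let F : M →ₐ[A] L := Ideal.Quotient.liftₐ _ φ fun x hx => by
    obtain ⟨c, rfl⟩ := Ideal.mem_span_singleton'.1 hx
    have h1 : algebraMap (Polynomial A) L Polynomial.X * IsLocalization.Away.invSelf (Polynomial.X : Polynomial A) = 1 :=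
      IsLocalization.Away.mul_invSelf _
    rw [map_mul, map_sub, map_mul, MvPolynomial.aeval_X, MvPolynomial.aeval_X, MvPolynomial.aeval_C]
    simp only [Matrix.cons_val_zero, Matrix.cons_val_one, Matrix.cons_val_fin_one]
    rw [mul_left_comm (algebraMap (Polynomial A) L Polynomial.X), h1, mul_one, sub_self, mul_zero]
  let x₀ : M := Ideal.Quotient.mk _ (MvPolynomial.X 0)
  let x₁ : M := Ideal.Quotient.mk _ (MvPolynomial.X 1)
  have h01 : x₀ * x₁ = algebraMap A M a := by
    rw [← map_mul, ← sub_eq_zero, ← Ideal.Quotient.algebraMap_eq, IsScalarTower.algebraMap_apply A (MvPolynomial (Fin 2) A) M,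
      Ideal.Quotient.algebraMap_eq, ← map_sub, Ideal.Quotient.eq_zero_iff_mem]
    exact Ideal.mem_span_singleton_self _
  have hx₀ : IsUnit x₀ := isUnit_of_mul_isUnit_left (h01 ▸ ha.map (algebraMap A M))
  let G : L →ₐ[A] M := IsLocalization.liftAlgHom (M := Submonoid.powers (Polynomial.X : Polynomial A))
    (f := Polynomial.aeval x₀) fun y => by
      obtain ⟨n, hn⟩ := y.2
      simp only [← hn, map_pow, Polynomial.aeval_X]
      exact hx₀.pow n
  have hG : ∀ q : Polynomial A, G (algebraMap (Polynomial A) L q) = Polynomial.aeval x₀ q := fun q =>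
    IsLocalization.lift_eq _ q
  have hF : ∀ i : Fin 2, F (Ideal.Quotient.mk _ (MvPolynomial.X i)) =
      ![algebraMap (Polynomial A) L Polynomial.X,
        algebraMap A L a * IsLocalization.Away.invSelf (Polynomial.X : Polynomial A)] i :=
    fun i => MvPolynomial.aeval_X _ i
  have hGF : G.comp F = AlgHom.id A M := by
    refine Ideal.Quotient.algHom_ext _ (MvPolynomial.algHom_ext fun i => ?_)
    show G (F (Ideal.Quotient.mk _ (MvPolynomial.X i))) = Ideal.Quotient.mk _ (MvPolynomial.X i)
    rw [hF]
    fin_cases i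
    · exact (hG _).trans (Polynomial.aeval_X _)
    · show G (algebraMap A L a * IsLocalization.Away.invSelf (Polynomial.X : Polynomial A)) = x₁
      apply hx₀.mul_left_cancel
      rw [map_mul, G.commutes, mul_left_comm, h01]
      have : x₀ * G (IsLocalization.Away.invSelf (Polynomial.X : Polynomial A)) = 1 := by
        conv_lhs => arg 1; rw [show x₀ = G (algebraMap (Polynomial A) L Polynomial.X) from
          ((hG _).trans (Polynomial.aeval_X _)).symm]
        rw [← map_mul, IsLocalization.Away.mul_invSelf, map_one]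
      rw [this, mul_one]
  have hFG : F.comp G = AlgHom.id A L := by
    refine AlgHom.coe_ringHom_injective (IsLocalization.ringHom_ext (Submonoid.powers (Polynomial.X : Polynomial A)) ?_)
    refine Polynomial.ringHom_ext (fun c => ?_) ?_
    · show F (G (algebraMap (Polynomial A) L (Polynomial.C c))) = algebraMap (Polynomial A) L (Polynomial.C c)
      rw [← Polynomial.algebraMap_eq, ← IsScalarTower.algebraMap_apply, G.commutes, F.commutes]
    · show F (G (algebraMap (Polynomial A) L Polynomial.X)) = algebraMap (Polynomial A) L Polynomial.X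
      rw [hG, Polynomial.aeval_X, hF]
      rfl
  haveI : Algebra.Smooth (Polynomial A) L :=
    ⟨Algebra.FormallySmooth.of_isLocalization (Submonoid.powers (Polynomial.X : Polynomial A)),
      IsLocalization.Away.finitePresentation (Polynomial.X : Polynomial A)⟩
  haveI : Algebra.Smooth A (Polynomial A) :=
    ⟨inferInstanceAs (Algebra.FormallySmooth A (Polynomial A)), inferInstanceAs (Algebra.FinitePresentation A (Polynomial A))⟩
  haveI : Algebra.Smooth A L := Algebra.Smooth.comp A (Polynomial A) L
  haveI : Algebra.Smooth A M := Algebra.Smooth.of_equiv (AlgEquiv.ofAlgHom G F hGF hFG)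
  rw [StrictSS.nodeToBase, HasRingHomProperty.Spec_iff (P := @Smooth), CommRingCat.hom_ofHom, RingHom.smooth_algebraMap]
  infer_instance

theorem smooth_lineToBase : Smooth (StrictSS.lineToBase A) := by
  rw [StrictSS.lineToBase, HasRingHomProperty.Spec_iff (P := @Smooth), CommRingCat.hom_ofHom,
    ← Polynomial.algebraMap_eq, RingHom.smooth_algebraMap]
  exact ⟨inferInstanceAs (Algebra.FormallySmooth A (Polynomial A)), inferInstanceAs (Algebra.FinitePresentation A (Polynomial A))⟩

/-- The projection to an axis. -/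
noncomputable def axisHom (i : Fin 2) : StrictSS.NodeAlg A 0 →ₐ[A] Polynomial A :=
  Ideal.Quotient.liftₐ _ (MvPolynomial.aeval fun j => if j = i then 0 else Polynomial.X) fun x hx => by
    obtain ⟨c, rfl⟩ := Ideal.mem_span_singleton'.1 hx
    simp only [map_mul, map_sub, MvPolynomial.aeval_X, map_zero]
    fin_cases i <;> simp

theorem axisHom_X (i j : Fin 2) :
    axisHom A i (Ideal.Quotient.mk _ (MvPolynomial.X j)) = if j = i then 0 else Polynomial.X :=
  MvPolynomial.aeval_X _ j

theorem axisHom_surjective (i : Fin 2) : Function.Surjective (axisHom A i) := by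
  intro q
  let j : Fin 2 := 1 - i
  have hji : j ≠ i := by fin_cases i <;> decide
  refine ⟨Polynomial.aeval (Ideal.Quotient.mk _ (MvPolynomial.X j) : StrictSS.NodeAlg A 0) q, ?_⟩
  rw [← Polynomial.aeval_algHom_apply, axisHom_X, if_neg hji, Polynomial.aeval_X_left_apply]

theorem ker_axisHom_le (i : Fin 2) : RingHom.ker (axisHom A i) ≤
    Ideal.span {(Ideal.Quotient.mk _ (MvPolynomial.X i) : StrictSS.NodeAlg A 0)} := by
  let j : Fin 2 := 1 - i
  have hji : j ≠ i := by fin_cases i <;> decide
  have hij : ∀ l, l ≠ i → l = j := fun l hl => by fin_cases i <;> fin_cases l <;> simp_all [j]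
  let M := StrictSS.NodeAlg A 0
  let I : Ideal M := Ideal.span {(Ideal.Quotient.mk _ (MvPolynomial.X i) : M)}
  let s : Polynomial A →ₐ[A] (M ⧸ I) :=
    Polynomial.aeval (Ideal.Quotient.mk I (Ideal.Quotient.mk _ (MvPolynomial.X j)))
  have hs : s.comp (axisHom A i) = Ideal.Quotient.mkₐ A I := by
    refine Ideal.Quotient.algHom_ext _ (MvPolynomial.algHom_ext fun l => ?_)
    show s (axisHom A i (Ideal.Quotient.mk _ (MvPolynomial.X l))) = Ideal.Quotient.mk I (Ideal.Quotient.mk _ (MvPolynomial.X l))
    rw [axisHom_X]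
    split_ifs with h
    · subst h
      refine (map_zero s).trans (Eq.symm ?_)
      exact Ideal.Quotient.eq_zero_iff_mem.2 (Ideal.mem_span_singleton_self _)
    · rw [hij l h, Polynomial.aeval_X]
  intro x hx
  rw [← Ideal.Quotient.eq_zero_iff_mem]
  show Ideal.Quotient.mkₐ A I x = 0
  rw [← hs, AlgHom.comp_apply, RingHom.mem_ker.1 hx]
  exact map_zero s

/-- An axis of the node model. -/
noncomputable def axis (i : Fin 2) : Spec (CommRingCat.of (Polynomial A)) ⟶ Spec (CommRingCat.of (StrictSS.NodeAlg A 0)) :=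
  Spec.map (CommRingCat.ofHom (axisHom A i).toRingHom)

instance (i : Fin 2) : IsClosedImmersion (axis A i) :=
  IsClosedImmersion.spec_of_surjective _ (axisHom_surjective A i)

theorem axis_toBase (i : Fin 2) : axis A i ≫ StrictSS.nodeToBase A 0 = StrictSS.lineToBase A := by
  rw [axis, StrictSS.nodeToBase, ← Spec.map_comp, ← CommRingCat.ofHom_comp]
  exact congrArg (fun r => Spec.map (CommRingCat.ofHom r)) (axisHom A i).comp_algebraMap

theorem axis_cover (q : Spec (CommRingCat.of (StrictSS.NodeAlg A 0))) : ∃ i, q ∈ Set.range (axis A i) := by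
  have h : (Ideal.Quotient.mk _ (MvPolynomial.X 0) : StrictSS.NodeAlg A 0) * Ideal.Quotient.mk _ (MvPolynomial.X 1) ∈
      q.asIdeal := by
    rw [← map_mul]
    convert q.asIdeal.zero_mem
    rw [Ideal.Quotient.eq_zero_iff_mem]
    exact Ideal.mem_span_singleton.2 ⟨1, by simp⟩
  have key : ∀ i, (Ideal.Quotient.mk _ (MvPolynomial.X i) : StrictSS.NodeAlg A 0) ∈ q.asIdeal →
      q ∈ Set.range (axis A i) := fun i hi => by
    have e : Set.range (axis A i) = PrimeSpectrum.zeroLocus (RingHom.ker (axisHom A i) : Set (StrictSS.NodeAlg A 0)) :=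
      range_comap_of_surjective _ _ (axisHom_surjective A i)
    rw [e, PrimeSpectrum.mem_zeroLocus]
    exact (ker_axisHom_le A i).trans ((Ideal.span_singleton_le_iff_mem _).2 hi)
  rcases q.isPrime.mem_or_mem h with h | h
  exacts [⟨0, key 0 h⟩, ⟨1, key 1 h⟩]

end Node

theorem main {C D : Scheme.{u}} (φ : C ⟶ Spec (CommRingCat.of k)) (i : D ⟶ C)
    (h : StrictSS.IsStrictlySemistable φ i) (Z : Set C) (hZ : Z ∈ irreducibleComponents (C : Type u)) :
    ∃ (W : Scheme.{u}) (e : W ⟶ C), IsClosedImmersion e ∧ IsReduced W ∧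
      Set.range e = Z ∧ Smooth (e ≫ φ) := by
  let Zc : Closeds C := ⟨Z, isClosed_of_mem_irreducibleComponents Z hZ⟩
  let I := Scheme.IdealSheafData.vanishingIdeal Zc
  haveI : IsReduced I.subscheme := RedSepLib.isReduced_vanishingIdeal_subscheme Zc
  have hrange : Set.range I.subschemeι = Z := by
    rw [Scheme.IdealSheafData.range_subschemeι]
    exact Scheme.IdealSheafData.coe_support_vanishingIdeal Zc
  refine ⟨I.subscheme, I.subschemeι, inferInstance, inferInstance, hrange, ?_⟩
  have key : ∀ x : C, ∃ U : C.Opens, x ∈ U ∧ Smooth ((I.subschemeι ⁻¹ᵁ U).ι ≫ I.subschemeι ≫ φ) := by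
    intro x
    -- a local criterion
    have red : ∀ (U : C.Opens), (∀ T ∈ irreducibleComponents (U : Type u),
        ∃ (Y : Scheme.{u}) (e : Y ⟶ U) (_ : IsClosedImmersion e), Smooth (e ≫ U.ι ≫ φ) ∧ T ⊆ Set.range e) →
        Smooth ((I.subschemeι ⁻¹ᵁ U).ι ≫ I.subschemeι ≫ φ) := by
      intro U hU
      rw [← morphismRestrict_ι_assoc]
      let w := I.subschemeι ∣_ U
      have hr : Set.range w = U.ι ⁻¹' Z := by
        rw [← hrange]
        ext a
        constructor
        · rintro ⟨b, rfl⟩
          exact ⟨(I.subschemeι ⁻¹ᵁ U).ι b, by rw [← Scheme.Hom.comp_apply, ← Scheme.Hom.comp_apply, morphismRestrict_ι]⟩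
        · rintro ⟨b, hb⟩
          refine ⟨⟨b, show I.subschemeι b ∈ U by rw [hb]; exact a.2⟩, U.ι.isOpenEmbedding.injective ?_⟩
          rw [← Scheme.Hom.comp_apply, morphismRestrict_ι, Scheme.Hom.comp_apply]
          exact hb
      rcases (U.ι ⁻¹' Z).eq_empty_or_nonempty with h0 | ⟨a, ha⟩
      · haveI : IsEmpty (I.subschemeι ⁻¹ᵁ U : Scheme.{u}) := ⟨fun b => (h0 ▸ hr.le ⟨b, rfl⟩ : w b ∈ (∅ : Set (U : Scheme.{u})))⟩
        infer_instance
      have hT : U.ι ⁻¹' Z ∈ irreducibleComponents (U : Type u) :=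
        preimage_mem_irreducibleComponents hZ U.ι.isOpenEmbedding ⟨U.ι a, ha, a, rfl⟩
      obtain ⟨Y, e, he, hs, hsub⟩ := hU _ hT
      exact smooth_of_subset_range (U.ι ≫ φ) e w hT hsub hr
    rcases h.2 x with ⟨A, j, hj, U, hxU, q, hq, f, fD, hf, hfq, -, -⟩ | ⟨A, j, hj, U, hxU, q, hq, a, f, hf, hfq, -⟩
    · refine ⟨U, hxU, red U fun T hT => ⟨U, 𝟙 _, inferInstance, ?_, by simp⟩⟩
      haveI := smooth_lineToBase (A : Type u)
      rw [Category.id_comp, hq, ← hfq]
      infer_instance
    · refine ⟨U, hxU, red U ?_⟩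
      -- the base of the chart is a field
      haveI : Nonempty (Spec A : Scheme.{u}) := ⟨q ⟨x, hxU⟩⟩
      haveI : Surjective j := ⟨fun y => ⟨Classical.arbitrary _, Subsingleton.elim (α := PrimeSpectrum k) _ _⟩⟩
      haveI : IsIso j := isIso_of_isOpenImmersion_of_opensRange_eq_top j
        (Opens.ext (Set.range_eq_univ.2 j.surjective))
      obtain ⟨ψ, hψ⟩ := Spec.map_surjective (inv j)
      haveI : IsIso (Spec.map ψ) := hψ ▸ inferInstance
      haveI : IsIso ψ := by
        haveI : IsIso (Scheme.Spec.map ψ.op) := ‹IsIso (Spec.map ψ)›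
        haveI : IsIso ψ.op := isIso_of_reflects_iso ψ.op Scheme.Spec
        exact isIso_of_op ψ
      have hA : IsField A := (asIso ψ).commRingCatIsoToRingEquiv.toMulEquiv.isField (Field.toIsField k)
      by_cases ha : a = 0
      · subst ha
        intro T hT
        let e : ∀ l : Fin 2, pullback f (axis (A : Type u) l) ⟶ (U : Scheme.{u}) := fun l => pullback.fst _ _
        have hs : ∀ l, Smooth (e l ≫ U.ι ≫ φ) := fun l => by
          haveI := smooth_lineToBase (A : Type u)
          rw [hq, ← hfq, Category.assoc, pullback.condition_assoc, reassoc_of% (axis_toBase (A : Type u) l)]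
          infer_instance
        have hr : ∀ l, Set.range (e l) = f ⁻¹' Set.range (axis (A : Type u) l) := fun l => by
          exact Scheme.Pullback.range_fst _ _
        have hcl : ∀ l, IsClosed (Set.range (e l)) := fun l => (e l).isClosedEmbedding.isClosed_range
        have hcov : T ⊆ Set.range (e 0) ∪ Set.range (e 1) := fun t _ => by
          obtain ⟨l, hl⟩ := axis_cover (A : Type u) (f t)
          fin_cases l
          · exact Or.inl ((hr 0).ge hl)
          · exact Or.inr ((hr 1).ge hl)
        rcases isPreirreducible_iff_isClosed_union_isClosed.1 hT.1.isPreirreducible _ _ (hcl 0) (hcl 1) hcov with h' | h'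
        exacts [⟨_, e 0, inferInstance, hs 0, h'⟩, ⟨_, e 1, inferInstance, hs 1, h'⟩]
      · intro T hT
        refine ⟨U, 𝟙 _, inferInstance, ?_, by simp⟩
        obtain ⟨b, hb⟩ := hA.mul_inv_cancel ha
        haveI := smooth_nodeToBase (A : Type u) a (IsUnit.of_mul_eq_one b hb)
        rw [Category.id_comp, hq, ← hfq]
        infer_instance
  choose U hxU hs using key
  exact IsZariskiLocalAtSource.of_openCover (P := @Smooth)
    (I.subscheme.openCoverOfIsOpenCover (fun x => I.subschemeι ⁻¹ᵁ U x)
      (IsOpenCover.mk (top_le_iff.1 fun y _ => Opens.mem_iSup.2 ⟨I.subschemeι y, hxU _⟩))) hs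

end Groth.Agent.KS29.StrictComp
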