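import Groth.Agent.Lib.SmDim19.CotangentScheme
import Groth.Agent.Lib.SmDim19.RelDimVariety
import Groth.Agent.Lib.EtCodim19.Basic
import Groth.Agent.Lib.KS29.StrictComp
import Groth.Agent.Lib.SchBasic.Basic

/-!
# Morphisms with injective cotangent maps
-/

set_option autoImplicit false
set_option linter.style.haveILetI false
set_option backward.isDefEq.respectTransparency false
set_option backward.isDefEq.respectTransparency.types false
set_option maxHeartbeats 1000000

universe u

open CategoryTheory CategoryTheory.Limits AlgebraicGeometry TopologicalSpace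

namespace Groth.Agent.KS29.CotSmooth

variable {k : Type u} [Field k]

theorem dim_component {F : Scheme.{u}} (p : F ⟶ Spec (CommRingCat.of k)) {n : ℕ} [SmoothOfRelativeDimension n p]
    (Z : Set F) (hZ : Z ∈ irreducibleComponents (F : Type u)) : topologicalKrullDim Z = (n : WithBot ℕ∞) := by
  haveI := SmoothOfRelativeDimension.smooth n p
  let O : F.Opens := ⟨Z, StrictComp.isOpen_component p hZ⟩
  haveI : IrreducibleSpace (O : Scheme.{u}) := Subtype.irreducibleSpace hZ.1
  haveI : SmoothOfRelativeDimension n (O.ι ≫ p) := by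
    have h0 : SmoothOfRelativeDimension (0 + n) (O.ι ≫ p) := inferInstance
    rwa [Nat.zero_add] at h0
  have hd := VarDim.dim_eq_sdim_genericPoint (O.ι ≫ p)
  haveI : JacobsonSpace (O : Scheme.{u}) := LocallyOfFiniteType.jacobsonSpace (O.ι ≫ p)
  obtain ⟨z, -, hz⟩ := nonempty_inter_closedPoints (X := (O : Scheme.{u})) (Z := Set.univ) Set.univ_nonempty
    isClosed_univ.isLocallyClosed
  have h1 := SmDim19.ringKrullDim_stalk_of_isClosed (O.ι ≫ p) n hz
  rw [SmDim19.ringKrullDim_stalk_closed (O.ι ≫ p) hd hz] at h1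
  rw [← h1, ← hd]
  rfl

theorem main [IsAlgClosed k] {X Y : Scheme.{u}} (qX : X ⟶ Spec (CommRingCat.of k)) (qY : Y ⟶ Spec (CommRingCat.of k))
    [IsIntegral X] [IsIntegral Y] [Smooth qX] [Smooth qY]
    (f : X ⟶ Y) (hf : f ≫ qY = qX) (dX dY : ℕ) (hX : topologicalKrullDim X = dX) (hY : topologicalKrullDim Y = dY)
    (hT : ∀ x : X, IsClosed ({x} : Set X) → Function.Injective (FixPt.cotangentMapAt f x (f x) rfl)) :
    DenseRange f ∧ dY ≤ dX ∧
      ∀ y : Y, IsClosed ({y} : Set Y) → y ∈ Set.range f →
        Smooth (f.fiberToSpecResidueField y) ∧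
          ∀ Z ∈ irreducibleComponents (f.fiber y : Type u),
            topologicalKrullDim Z = ((dX - dY : ℕ) : WithBot ℕ∞) := by
  subst hf
  haveI : LocallyOfFinitePresentation f := SchBasic.locallyOfFinitePresentation_of_comp f qY
  haveI : JacobsonSpace X := LocallyOfFiniteType.jacobsonSpace (f ≫ qY)
  haveI : JacobsonSpace Y := LocallyOfFiniteType.jacobsonSpace qY
  have htop : f.smoothLocus = ⊤ := by
    refine Opens.ext (Set.eq_univ_of_forall fun x => ?_)
    by_contra hx
    obtain ⟨z, hz, hzc⟩ := nonempty_inter_closedPoints (X := X) (Z := (f.smoothLocus : Set X)ᶜ) ⟨x, hx⟩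
      f.smoothLocus.2.isClosed_compl.isLocallyClosed
    exact hz ((SmDim19.mem_smoothLocus_iff_cotangentMapAt_injective qY f hzc).2 (hT z hzc))
  haveI : Smooth f := Scheme.Hom.smoothLocus_eq_top_iff.1 htop
  have hle : dY ≤ dX := by
    obtain ⟨x, -, hx⟩ := nonempty_inter_closedPoints (X := X) (Z := Set.univ) Set.univ_nonempty
      isClosed_univ.isLocallyClosed
    have h1 := EtCodim19.ringKrullDim_stalk_le f x
    rw [SmDim19.ringKrullDim_stalk_closed qY hY (VarDim.isClosed_singleton_image qY f hx),
      SmDim19.ringKrullDim_stalk_closed (f ≫ qY) hX hx] at h1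
    exact_mod_cast h1
  refine ⟨?_, hle, fun y _ _ => ?_⟩
  · exact f.isOpenMap.isOpen_range.dense ⟨_, Set.mem_range_self (Classical.arbitrary X)⟩
  haveI : SmoothOfRelativeDimension (dX - dY) f :=
    SmDim19.smoothOfRelativeDimension_of_smooth_comp qY f hY (by rw [hX, Nat.add_sub_cancel' hle])
  haveI : SmoothOfRelativeDimension (dX - dY) (f.fiberToSpecResidueField y) :=
    haveI := smoothOfRelativeDimension_isStableUnderBaseChange.{u} (dX - dY)
    MorphismProperty.pullback_snd (P := @SmoothOfRelativeDimension (dX - dY)) f (Y.fromSpecResidueField y) inferInstance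
  exact ⟨SmoothOfRelativeDimension.smooth (dX - dY) _, fun Z hZ => dim_component (f.fiberToSpecResidueField y) Z hZ⟩

end Groth.Agent.KS29.CotSmooth
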