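import Groth.Agent.Lib.VarDim.Fibre
import Groth.Agent.Lib.ProjSpace.Basic
import Mathlib.RingTheory.Ideal.KrullsHeightTheorem
import Mathlib.AlgebraicGeometry.Morphisms.Flat
import Mathlib.AlgebraicGeometry.Morphisms.UniversallyOpen
/-!
Irreducible curves through a given closed point, finite over a given curve of the base.
-/
noncomputable section
universe u
open CategoryTheory CategoryTheory.Limits AlgebraicGeometry TopologicalSpace Order

namespace Groth.Agent.KS29.CurveThrough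

open Groth.Agent.VarDim

theorem exists_between {R : Type u} [CommRing R] [IsDomain R] [IsNoetherianRing R] (m Q₁ : Ideal R) [m.IsPrime]
    [Q₁.IsPrime] (h0 : ⊥ < Q₁) (h1 : Q₁ < m) {a : R} (ha : a ≠ 0) :
    ∃ Q : Ideal R, Q.IsPrime ∧ ⊥ < Q ∧ Q ≤ m ∧ a ∉ Q := by
  have hm : 1 < m.height := by
    have h3 : (Q₁).height < m.height := Ideal.height_strict_mono_of_isPrime h1
    have h4 : (⊥ : Ideal R).height < Q₁.height := Ideal.height_strict_mono_of_isPrime h0
    exact lt_of_le_of_lt (Order.one_le_iff_pos.2 (lt_of_le_of_lt bot_le h4)) h3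
  by_cases ham : a ∈ m
  swap
  · exact ⟨m, inferInstance, h0.trans h1, le_rfl, ham⟩
  have hfin := (Ideal.span {a}).finite_minimalPrimes_of_isNoetherianRing R
  have havoid : ¬ ((m : Set R) ⊆ ⋃ M ∈ (hfin.toFinset : Set (Ideal R)), (M : Set R)) := by
    rw [Ideal.subset_union_prime ⊥ ⊥ (fun M hM _ _ => ((hfin.mem_toFinset).1 hM).1.1)]
    rintro ⟨M, hM, hle⟩
    have hM' := (hfin.mem_toFinset).1 hM
    haveI := hM'.1.1
    exact (hm.trans_le ((Ideal.height_mono hle).trans
      (Ideal.height_le_one_of_isPrincipal_of_mem_minimalPrimes _ _ hM'))).ne rfl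
  obtain ⟨b, hbm, hb⟩ := Set.not_subset.1 havoid
  simp only [Set.mem_iUnion, SetLike.mem_coe, Set.Finite.mem_toFinset, not_exists] at hb
  have hb0 : b ≠ 0 := by
    rintro rfl
    obtain ⟨M, hM, -⟩ := Ideal.exists_minimalPrimes_le ((Ideal.span_singleton_le_iff_mem (I := m)).2 ham)
    exact hb M hM (zero_mem M)
  obtain ⟨Q, hQ, hQm⟩ := Ideal.exists_minimalPrimes_le ((Ideal.span_singleton_le_iff_mem (I := m)).2 hbm)
  haveI := hQ.1.1
  have hbQ : b ∈ Q := hQ.1.2 (Ideal.mem_span_singleton_self b)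
  refine ⟨Q, hQ.1.1, bot_lt_iff_ne_bot.2 fun h => hb0 (by rw [h] at hbQ; exact hbQ), hQm, fun haQ => ?_⟩
  obtain ⟨M, hM, hMQ⟩ := Ideal.exists_minimalPrimes_le ((Ideal.span_singleton_le_iff_mem (I := Q)).2 haQ)
  haveI := hM.1.1
  refine hb M hM ?_
  rcases hMQ.eq_or_lt with rfl | hlt
  · exact hbQ
  exfalso
  have hMb : ⊥ < M := bot_lt_iff_ne_bot.2 fun h => ha (by
    have := hM.1.2 (Ideal.mem_span_singleton_self a)
    rw [h] at this
    exact this)
  have h4 : (⊥ : Ideal R).height < M.height := Ideal.height_strict_mono_of_isPrime hMb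
  have h5 : M.height < Q.height := Ideal.height_strict_mono_of_isPrime hlt
  exact absurd (Ideal.height_le_one_of_isPrincipal_of_mem_minimalPrimes _ _ hQ)
    (not_le.2 (lt_of_le_of_lt (Order.one_le_iff_pos.2 (lt_of_le_of_lt bot_le h4)) h5))

theorem exists_curve {k : Type u} [Field k] {Y Z : Scheme.{u}} (g : Z ⟶ Spec (CommRingCat.of k)) (f : Y ⟶ Z)
    [LocallyOfFiniteType g] [LocallyOfFiniteType f] (p : Z) (hpc : IsClosed ({p} : Set Z))
    (q : Y) (hqc : IsClosed ({q} : Set Y)) (hq : f q = p) (y₀ : Y) (h₀ : y₀ ⤳ q) (h₀p : f y₀ ≠ p) :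
    ∃ y, y₀ ⤳ y ∧ y ⤳ q ∧ f y ≠ p ∧ sdim (f ≫ g) y = 1 := by
  classical
  haveI : IsLocallyNoetherian Y := LocallyOfFiniteType.isLocallyNoetherian (f ≫ g)
  have hex : ∃ n, ∃ y, y₀ ⤳ y ∧ y ⤳ q ∧ f y ≠ p ∧ sdim (f ≫ g) y = n := ⟨_, y₀, specializes_rfl, h₀, h₀p, rfl⟩
  obtain ⟨y, hy0, hyq, hyp, hyn⟩ := Nat.find_spec hex
  refine ⟨y, hy0, hyq, hyp, ?_⟩
  have hne : y ≠ q := fun h => hyp (h ▸ hq)
  have hq0 : sdim (f ≫ g) q = 0 := (sdim_eq_zero_iff_isClosed _ q).2 hqc
  have hpos : 0 < sdim (f ≫ g) y := hq0 ▸ sdim_lt_of_specializes (f ≫ g) hyq hne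
  by_contra hone
  obtain ⟨U, hU, hqU, -⟩ := exists_isAffineOpen_mem_and_subset (Opens.mem_top q)
  have hyU : y ∈ U := hyq.mem_open U.2 hqU
  haveI : IsNoetherianRing Γ(Y, U) := IsLocallyNoetherian.component_noetherian ⟨U, hU⟩
  letI : Algebra k Γ(Y, U) := (baseToSections (f ≫ g) U).toAlgebra
  haveI : Algebra.FiniteType k Γ(Y, U) := finiteType_baseToSections (f ≫ g) hU
  let P : PrimeSpectrum Γ(Y, U) := hU.primeIdealOf ⟨y, hyU⟩
  let m : PrimeSpectrum Γ(Y, U) := hU.primeIdealOf ⟨q, hqU⟩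
  have hPm : P < m := lt_of_le_of_ne ((primeIdealOf_le_iff hU ⟨y, hyU⟩ ⟨q, hqU⟩).2 hyq) fun h => hne (by
    have := congrArg hU.fromSpec h
    rwa [hU.fromSpec_primeIdealOf, hU.fromSpec_primeIdealOf] at this)
  obtain ⟨Q₁, hPQ, hQm⟩ : ∃ Q₁, P < Q₁ ∧ Q₁ < m := by
    by_contra hcon
    simp only [not_exists, not_and] at hcon
    have := coheight_covBy k Γ(Y, U) ⟨hPm, fun c hc => hcon c hc⟩
    rw [sdim_eq_coheight (f ≫ g) hU y hyU, sdim_eq_coheight (f ≫ g) hU q hqU, hq0] at this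
    exact hone (by exact_mod_cast this)
  obtain ⟨I, hI⟩ := (PrimeSpectrum.isClosed_iff_zeroLocus_ideal _).1
    (hpc.preimage (hU.fromSpec ≫ f).continuous)
  have hPI : P ∉ PrimeSpectrum.zeroLocus (I : Set Γ(Y, U)) := by
    rw [← hI]
    show f (hU.fromSpec P) ≠ p
    rwa [hU.fromSpec_primeIdealOf]
  obtain ⟨a, haI, haP⟩ := Set.not_subset.1 hPI
  let π := Ideal.Quotient.mk P.asIdeal
  have hmap : ∀ J : PrimeSpectrum Γ(Y, U), P ≤ J → (J.asIdeal.map π).IsPrime ∧ (J.asIdeal.map π).comap π = J.asIdeal :=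
    fun J hJ => ⟨Ideal.map_isPrime_of_surjective Ideal.Quotient.mk_surjective (by rw [Ideal.mk_ker]; exact hJ),
      by rw [Ideal.comap_map_of_surjective π Ideal.Quotient.mk_surjective, ← RingHom.ker_eq_comap_bot, Ideal.mk_ker]
         exact sup_eq_left.2 hJ⟩
  haveI := (hmap m hPm.le).1
  haveI := (hmap Q₁ hPQ.le).1
  obtain ⟨Q, hQ, hQ0, hQle, haQ⟩ := exists_between (m.asIdeal.map π) (Q₁.asIdeal.map π)
    (bot_lt_iff_ne_bot.2 fun h => hPQ.ne (PrimeSpectrum.ext (by
      rw [← (hmap Q₁ hPQ.le).2, h, ← RingHom.ker_eq_comap_bot, Ideal.mk_ker])))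
    (lt_of_le_of_ne (Ideal.map_mono hQm.le) fun h => hQm.ne (PrimeSpectrum.ext (by
      rw [← (hmap Q₁ hPQ.le).2, h, (hmap m hPm.le).2])))
    (a := π a) (fun h => haP (Ideal.Quotient.eq_zero_iff_mem.1 h))
  let Q' : PrimeSpectrum Γ(Y, U) := ⟨Q.comap π, hQ.comap π⟩
  have hPQ' : P < Q' := lt_of_le_of_ne (fun x hx => by
      show π x ∈ Q
      rw [Ideal.Quotient.eq_zero_iff_mem.2 hx]; exact zero_mem _) fun h => hQ0.ne (by
    rw [← Ideal.map_comap_of_surjective π Ideal.Quotient.mk_surjective Q]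
    show ⊥ = Ideal.map π Q'.asIdeal
    rw [← h, Ideal.map_quotient_self])
  have hQ'm : Q' ≤ m := fun x hx => by
    have := (Ideal.comap_mono (f := π) hQle) hx
    rwa [(hmap m hPm.le).2] at this
  let y' := hU.fromSpec Q'
  have h1 : y ⤳ y' := by
    have := (fromSpec_le_iff hU P Q').2 hPQ'.le
    rw [le_iff_specializes', hU.fromSpec_primeIdealOf] at this
    exact this
  have h2 : y' ⤳ q := by
    have := (fromSpec_le_iff hU Q' m).2 hQ'm
    rw [le_iff_specializes', hU.fromSpec_primeIdealOf] at this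
    exact this
  have hne' : y ≠ y' := fun h => hPQ'.ne (hU.fromSpec.isOpenEmbedding.injective (by
    rw [hU.fromSpec_primeIdealOf]; exact h))
  have hyp' : f y' ≠ p := fun h => haQ (by
    have h3 : Q' ∈ PrimeSpectrum.zeroLocus (I : Set Γ(Y, U)) := by rw [← hI]; exact h
    exact h3 haI)
  have hlt := sdim_lt_of_specializes (f ≫ g) h1 hne'
  have := Nat.find_le (h := hex) ⟨y', hy0.trans h1, h2, hyp', rfl⟩
  omega

theorem main {k : Type u} [Field k] {Y Z : Scheme.{u}} (g : Z ⟶ Spec (CommRingCat.of k)) (f : Y ⟶ Z)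
    [IsProper g] [IsProper f] [Flat f]
    (B : Set Z) (hBc : IsClosed B) (hBi : IsIrreducible B) (hBd : topologicalKrullDim ↥B = 1)
    (p : Z) (hp : p ∈ B) (hpc : IsClosed ({p} : Set Z))
    (q : Y) (hqc : IsClosed ({q} : Set Y)) (hq : f q = p) :
    ∃ B' : Set Y, IsClosed B' ∧ IsIrreducible B' ∧ q ∈ B' ∧ f '' B' = B ∧
      ∀ z : Z, (B' ∩ f ⁻¹' {z}).Finite := by
  haveI : IsLocallyNoetherian Y := LocallyOfFiniteType.isLocallyNoetherian (f ≫ g)
  haveI : CompactSpace Y := QuasiCompact.compactSpace_of_compactSpace (f ≫ g)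
  haveI : AlgebraicGeometry.IsNoetherian Y := {}
  let η := hBi.genericPoint
  have hη : closure {η} = B := hBc.closure_eq ▸ hBi.isGenericPoint_genericPoint_closure
  have hηB : ∀ z ∈ B, η ⤳ z := fun z hz => specializes_iff_mem_closure.2 (hη.symm ▸ hz)
  have hη1 : sdim g η = 1 := by
    have := dim_irreducible_isClosed g hBc hBi
    rw [hBd] at this
    exact_mod_cast this.symm
  have hηp : η ≠ p := fun h => by
    rw [h, (sdim_eq_zero_iff_isClosed g p).2 hpc] at hη1
    exact zero_ne_one hη1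
  obtain ⟨y₀, h₀, hy₀⟩ := (Flat.generalizingMap f) (show η ⤳ f q from hq ▸ hηB p hp)
  obtain ⟨y, h1, h2, h3, h4⟩ := exists_curve g f p hpc q hqc hq y₀ h₀ (hy₀ ▸ hηp)
  have hfy : f y = η := by
    have hs : η ⤳ f y := hy₀ ▸ h1.map f.continuous
    by_contra hne
    have h5 := sdim_lt_of_specializes g hs (Ne.symm hne)
    have h6 : sdim g (f y) = 0 := by omega
    exact h3 ((((sdim_eq_zero_iff_isClosed g _).1 h6).closure_eq ▸
      specializes_iff_mem_closure.1 (hq ▸ h2.map f.continuous) : p ∈ ({f y} : Set Z))).symm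
  refine ⟨closure {y}, isClosed_closure, isIrreducible_singleton.closure, specializes_iff_mem_closure.1 h2, ?_,
    fun z => ?_⟩
  · rw [← f.isClosedMap.closure_image_eq_of_continuous f.continuous, Set.image_singleton, hfy, hη]
  · have hcl : ∀ x ∈ closure ({y} : Set Y), x = y ∨ IsClosed ({x} : Set Y) := fun x hx => by
      by_cases hxy : x = y
      · exact Or.inl hxy
      · have := sdim_lt_of_specializes (f ≫ g) (specializes_iff_mem_closure.2 hx) (Ne.symm hxy)
        exact Or.inr ((sdim_eq_zero_iff_isClosed (f ≫ g) x).1 (by omega))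
    by_cases hz : z = η
    · refine (Set.finite_singleton y).subset fun x ⟨hx, hxz⟩ => ?_
      rcases hcl x hx with h | h
      · exact h
      · exfalso
        have := isClosed_singleton_image (q := g) (f := f) h
        rw [show f x = η from hxz.trans hz, ← sdim_eq_zero_iff_isClosed g] at this
        omega
    · let S := closure ({y} : Set Y) ∩ f ⁻¹' {z}
      by_cases hzc : IsClosed ({z} : Set Z)
      · have hSc : IsClosed S := isClosed_closure.inter (hzc.preimage f.continuous)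
        obtain ⟨G, hG⟩ := exists_finite_generic hSc
        refine G.finite_toSet.subset fun x hx => ?_
        obtain ⟨γ, hγ, hγx⟩ := (hG x).1 hx
        have hγS := (hG γ).2 ⟨γ, hγ, specializes_rfl⟩
        rcases hcl γ hγS.1 with h | h
        · exact absurd ((congrArg f h).symm.trans hγS.2 ▸ hfy) hz
        · have : x ∈ ({γ} : Set Y) := h.closure_eq ▸ specializes_iff_mem_closure.1 hγx
          exact this ▸ hγ
      · refine Set.finite_empty.subset fun x ⟨hx, hxz⟩ => hzc ?_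
        rcases hcl x hx with h | h
        · exact absurd ((congrArg f h).symm.trans hxz ▸ hfy) hz
        · exact hxz ▸ isClosed_singleton_image (q := g) (f := f) h

end Groth.Agent.KS29.CurveThrough
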