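import Groth.Agent.Lib.DefDiag3.Hom
import Groth.Agent.Lib.KS29.Basic

/-!
# Homomorphisms of coherent modules on a proper scheme over a field form a finite-dimensional space
-/

set_option autoImplicit false
set_option linter.style.haveILetI false
set_option linter.unusedSectionVars false
set_option backward.isDefEq.respectTransparency false
set_option backward.isDefEq.respectTransparency.types false

universe u

open CategoryTheory CategoryTheory.Limits AlgebraicGeometry TopologicalSpace Opposite

noncomputable section

namespace Groth.Agent.KS29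

open Groth.Agent DefDiag3 CohMop

variable {Y : Scheme.{u}} {k : Type u} [Field k] [Y.Over (Spec (CommRingCat.of k))]

/-- `Hom(F, G)` is finite-dimensional. -/
theorem finite_hom [IsProper (Y ↘ Spec (CommRingCat.of k))] {F G : Y.Modules} (hF : Coh.IsCoh F)
    (hG : Coh.IsCoh G) : Module.Finite k (F ⟶ G) := by
  classical
  let f := Y ↘ Spec (CommRingCat.of k)
  let P := ihom F ⋙ Scheme.Modules.pushforward f
  haveI : P.Additive := inferInstance
  haveI : PreservesFiniteLimits P :=
    haveI : PreservesLimitsOfSize.{0, 0} (Scheme.Modules.pushforward f) :=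
      (Scheme.Modules.pullbackPushforwardAdjunction f).rightAdjoint_preservesLimits
    haveI : PreservesFiniteLimits (Scheme.Modules.pushforward f) := PreservesLimitsOfSize.preservesFiniteLimits _
    haveI : PreservesFiniteLimits (ihom F) := PreservesLimitsOfSize.preservesFiniteLimits _
    comp_preservesFiniteLimits _ _
  have hC : Coh.IsCoh (P.obj G) :=
    isCoh_of_iso (P.rightDerivedZeroIsoSelf.app G) (isCoh_relExt f hF hG 0)
  let str : k →+* Γ(Spec (CommRingCat.of k), ⊤) := (Scheme.ΓSpecIso (CommRingCat.of k)).inv.hom
  letI : Module k Γ(P.obj G, ⊤) := Module.compHom _ str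
  haveI : Module.Finite k Γ(P.obj G, ⊤) := by
    haveI := M1.finite_sections hC.1 hC.2 (isAffineOpen_top (Spec (CommRingCat.of k)))
    letI : Algebra k Γ(Spec (CommRingCat.of k), ⊤) := str.toAlgebra
    haveI : IsScalarTower k Γ(Spec (CommRingCat.of k), ⊤) Γ(P.obj G, ⊤) :=
      IsScalarTower.of_algebraMap_smul fun _ _ => rfl
    haveI : Module.Finite k Γ(Spec (CommRingCat.of k), ⊤) :=
      Module.Finite.of_surjective (Algebra.linearMap k _)
        (ConcreteCategory.bijective_of_isIso (Scheme.ΓSpecIso (CommRingCat.of k)).inv).2
    exact Module.Finite.trans Γ(Spec (CommRingCat.of k), ⊤) _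
  let Φ : (F ⟶ G) →ₗ[k] Γ(P.obj G, ⊤) :=
    { toFun := fun g => (eHom F g : Γ(P.obj G, ⊤))
      map_add' := fun a b => eHom_add F a b
      map_smul' := fun c g => by
        rw [RingHom.id_apply, eHom_smul]
        rfl }
  exact Module.Finite.of_injective Φ (eHom_injective F)

end Groth.Agent.KS29
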