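import Groth.Agent.Lib.KS29.Basic
import Groth.Agent.Lib.KS29.HomFin
import Groth.Agent.Lib.KS29.BaseChange
import Groth.Agent.Lib.CohGab13.Basic
import Groth.Agent.Lib.ModM1.Pull
import Groth.Prelude.Def_W4c1astiltbs12AS

/-!
# Krull–Schmidt for coherent modules on a proper scheme and descent along algebraic field extensions
-/

set_option autoImplicit false
set_option linter.style.haveILetI false
set_option linter.unusedSectionVars false
set_option backward.isDefEq.respectTransparency false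
set_option backward.isDefEq.respectTransparency.types false
set_option maxHeartbeats 400000

universe u

open CategoryTheory CategoryTheory.Limits AlgebraicGeometry TopologicalSpace Opposite

noncomputable section

namespace Groth.Agent.KS29

open Groth.Agent W4c1astiltbs12

attribute [local instance] Abelian.hasFiniteBiproducts

variable {k : Type u} [Field k] {X : Scheme.{u}} (p : X ⟶ Spec (CommRingCat.of k))

theorem isLocallyNoetherian_of [IsProper p] : IsLocallyNoetherian X :=
  LocallyOfFiniteType.isLocallyNoetherian p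

/-- A retract of a coherent module is coherent. -/
theorem isCoh_of_retract [IsLocallyNoetherian X] {M F : X.Modules} (hF : Coh.IsCoh F) (i : M ⟶ F)
    (q : F ⟶ M) (hiq : i ≫ q = 𝟙 M) : Coh.IsCoh M := by
  let φ : F ⟶ F := 𝟙 F - q ≫ i
  have w : i ≫ φ = 0 := by simp [φ, Preadditive.comp_sub, reassoc_of% hiq]
  have hlim : IsLimit (KernelFork.ofι i w) := KernelFork.IsLimit.ofι i w (fun g _ => g ≫ q)
    (fun g hg => by
      have : g - g ≫ q ≫ i = 0 := by simpa [φ, Preadditive.comp_sub] using hg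
      rw [Category.assoc]
      exact (sub_eq_zero.1 this).symm)
    (fun g _ m hm => by rw [← hm, Category.assoc, hiq, Category.comp_id])
  exact CohFound.isCoh_of_iso ((kernelIsKernel φ).conePointUniqueUpToIso hlim) (M1.isCoh_kernel hF hF.1 φ)

theorem Dec.isCoh [IsLocallyNoetherian X] {M : X.Modules} {ι : Type} [Fintype ι] {F : ι → X.Modules}
    (d : Dec M F) (hM : Coh.IsCoh M) (i : ι) : Coh.IsCoh (F i) :=
  isCoh_of_retract hM _ _ (d.inj_prj i)

/-- Indecomposable objects with decompositions of the same object: uniqueness, for coherent modules. -/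
theorem coh_dec_unique [IsProper p] {M : X.Modules} (hM : Coh.IsCoh M) {ι κ : Type} [Fintype ι] [Fintype κ]
    {F : ι → X.Modules} {G : κ → X.Modules} (dF : Dec M F) (dG : Dec M G) (hF : ∀ i, Indec (F i))
    (hG : ∀ j, Indec (G j)) : ∃ e : ι ≃ κ, ∀ i, Nonempty (F i ≅ G (e i)) := by
  letI : X.Over (Spec (CommRingCat.of k)) := ⟨p⟩
  haveI : IsProper (X ↘ Spec (CommRingCat.of k)) := ‹IsProper p›
  haveI := finite_hom (k := k) hM hM
  exact dec_unique k dF dG hF hG

include p in
theorem coh_exists_dec [IsProper p] {M : X.Modules} (hM : Coh.IsCoh M) :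
    ∃ (n : ℕ) (F : Fin n → X.Modules), (∀ i, Indec (F i)) ∧ Nonempty (Dec M F) := by
  letI : X.Over (Spec (CommRingCat.of k)) := ⟨p⟩
  haveI : IsProper (X ↘ Spec (CommRingCat.of k)) := ‹IsProper p›
  haveI := finite_hom (k := k) hM hM
  exact exists_dec k M

/-- Krull–Schmidt for coherent modules on a proper scheme over a field. -/
theorem coh_krullSchmidt [IsProper p] (F : X.Modules) (hF : Coh.IsCoh F) :
    (∃ (n : ℕ) (Fs : Fin n → X.Modules), (∀ i, Indec (Fs i)) ∧ Nonempty (F ≅ ∐ Fs)) ∧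
    (∀ (n m : ℕ) (Fs : Fin n → X.Modules) (Gs : Fin m → X.Modules), (∀ i, Indec (Fs i)) →
      (∀ j, Indec (Gs j)) → Nonempty (F ≅ ∐ Fs) → Nonempty (F ≅ ∐ Gs) →
      ∃ e : Fin n ≃ Fin m, ∀ i, Nonempty (Fs i ≅ Gs (e i))) := by
  refine ⟨?_, fun n m Fs Gs hFs hGs ⟨eF⟩ ⟨eG⟩ =>
    coh_dec_unique p hF (Dec.ofCoproduct.trans eF.symm) (Dec.ofCoproduct.trans eG.symm) hFs hGs⟩
  obtain ⟨n, Fs, hFs, ⟨d⟩⟩ := coh_exists_dec p hF
  exact ⟨n, Fs, hFs, ⟨d.isoCoproduct⟩⟩

/-- A morphism between powers given by its components. -/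
def powHom {F G : X.Modules} {d : ℕ} (m : Fin d → Fin d → (F ⟶ G)) :
    (⨁ fun _ : Fin d => F) ⟶ ⨁ fun _ : Fin d => G :=
  biproduct.desc fun j => biproduct.lift fun i => m j i

theorem powHom_comp {F G : X.Modules} {d : ℕ} (m : Fin d → Fin d → (F ⟶ G)) (n : Fin d → Fin d → (G ⟶ F))
    (h : ∀ j l, ∑ i, m j i ≫ n i l = if j = l then 𝟙 F else 0) : powHom m ≫ powHom n = 𝟙 _ := by
  refine biproduct.hom_ext _ _ fun l => biproduct.hom_ext' _ _ fun j => ?_
  simp only [powHom, Category.assoc, biproduct.ι_desc_assoc, Category.id_comp, biproduct.lift_desc_assoc,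
    Preadditive.sum_comp, biproduct.lift_π]
  rw [h j l]
  by_cases e : j = l
  · subst e; rw [if_pos rfl, biproduct.ι_π_self]
  · rw [if_neg e, biproduct.ι_π_ne _ e]

/-- Powers of isomorphic coherent modules with positive exponent. -/
theorem coh_iso_of_pow_iso [IsProper p] {F G : X.Modules} (hF : Coh.IsCoh F) (hG : Coh.IsCoh G) {d : ℕ}
    (hd : 0 < d) (e : (⨁ fun _ : Fin d => F) ≅ ⨁ fun _ : Fin d => G) : Nonempty (F ≅ G) := by
  letI : X.Over (Spec (CommRingCat.of k)) := ⟨p⟩
  haveI : IsProper (X ↘ Spec (CommRingCat.of k)) := ‹IsProper p›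
  haveI := finite_hom (k := k) hF hF
  haveI := finite_hom (k := k) hG hG
  haveI := CohFound.isNoetherian_of_isProper p
  have hP : Coh.IsCoh (⨁ fun _ : Fin d => F) :=
    CohFound.isCoh_of_iso (biproduct.isoCoproduct _).symm (CohGab13.isCoh_sigma hF d)
  haveI := finite_hom (k := k) hP hP
  exact iso_of_pow_iso k hd Dec.ofBiproduct (Dec.ofBiproduct.trans e.symm)

variable {p}
variable {K : Type u} [Field K] [Algebra k K]

theorem comb_eq_id {F G : X.Modules} {n m : ℕ} {f : Fin n → (F ⟶ G)} {a : Fin n → K}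
    {g : Fin m → (G ⟶ F)} {c : Fin m → K} (hF : Coh.IsQCoh F)
    (h : (∑ s, bcT p (f s) (a s)) ≫ (∑ t, bcT p (g t) (c t)) = 𝟙 _) (l : K →ₗ[k] k) :
    ∑ s, ∑ t, (f s ≫ g t) ≫ sck p F (l (a s * c t)) = sck p F (l 1) := by
  have h' : ∑ x ∈ (Finset.univ : Finset (Fin n × Fin m)), bcT p (f x.1 ≫ g x.2) (a x.1 * c x.2) =
      ∑ _u ∈ (Finset.univ : Finset (Fin 1)), bcT p (𝟙 F) (1 : K) := by
    rw [Fintype.sum_prod_type, Fin.sum_univ_one, bcT_id, ← h, Preadditive.sum_comp]
    refine Finset.sum_congr rfl fun s _ => ?_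
    rw [Preadditive.comp_sum]
    exact Finset.sum_congr rfl fun t _ => (bcT_comp p _ _ _ _).symm
  have := comb_congr p hF _ _ _ _ _ _ h' l
  rw [Fintype.sum_prod_type, Fin.sum_univ_one, Category.id_comp] at this
  exact this

variable (p) in
/-- Coherent modules that become isomorphic after an algebraic extension of the field are isomorphic. -/
theorem iso_of_bc_iso [IsProper p] [Algebra.IsAlgebraic k K] {F G : X.Modules} (hF : Coh.IsCoh F)
    (hG : Coh.IsCoh G) (e : bcMod p K F ≅ bcMod p K G) : Nonempty (F ≅ G) := by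
  classical
  haveI : CompactSpace X := QuasiCompact.compactSpace_of_compactSpace p
  obtain ⟨n, f, a, hfa⟩ := exists_comb p hF hG.1 e.hom
  obtain ⟨m, g, c, hgc⟩ := exists_comb p hG hF.1 e.inv
  let K₀ : IntermediateField k K := IntermediateField.adjoin k (Set.range a ∪ Set.range c)
  haveI : Finite ↥(Set.range a ∪ Set.range c) := ((Set.finite_range a).union (Set.finite_range c)).to_subtype
  haveI : FiniteDimensional k K₀ :=
    IntermediateField.finiteDimensional_adjoin fun x _ => Algebra.IsIntegral.isIntegral x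
  obtain ⟨π₀, hπ₀⟩ := LinearMap.exists_leftInverse_of_injective K₀.val.toLinearMap
    (LinearMap.ker_eq_bot.2 Subtype.val_injective)
  have hπ : ∀ x : K₀, π₀ (x : K) = x := fun x => LinearMap.congr_fun hπ₀ x
  let d := Module.finrank k K₀
  let e0 : Module.Basis (Fin d) k K₀ := Module.finBasis k K₀
  let L : Fin d → Fin d → K →ₗ[k] k := fun i j =>
    ((Matrix.entryLinearMap k k i j).comp (Algebra.leftMulMatrix e0).toLinearMap).comp π₀
  have ha : ∀ s, a s ∈ K₀ := fun s => IntermediateField.subset_adjoin k _ (Or.inl ⟨s, rfl⟩)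
  have hc : ∀ t, c t ∈ K₀ := fun t => IntermediateField.subset_adjoin k _ (Or.inr ⟨t, rfl⟩)
  have hL : ∀ (i j : Fin d) (x : K) (hx : x ∈ K₀), L i j x = Algebra.leftMulMatrix e0 ⟨x, hx⟩ i j :=
    fun i j x hx => congrArg (fun z => Algebra.leftMulMatrix e0 z i j) (hπ ⟨x, hx⟩)
  have hmul : ∀ (i j : Fin d) (x y : K), x ∈ K₀ → y ∈ K₀ → L i j (x * y) = ∑ l, L i l x * L l j y := by
    intro i j x y hx hy
    simp only [hL i j _ (mul_mem hx hy), hL _ _ x hx, hL _ _ y hy]
    rw [← Matrix.mul_apply, ← map_mul]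
    rfl
  have hone : ∀ i j : Fin d, L i j 1 = if i = j then 1 else 0 := by
    intro i j
    rw [hL i j 1 (one_mem _), show (⟨1, one_mem K₀⟩ : K₀) = 1 from rfl, map_one, Matrix.one_apply]
  let M : Fin d → Fin d → (F ⟶ G) := fun j i => ∑ s, f s ≫ sck p G (L i j (a s))
  let N : Fin d → Fin d → (G ⟶ F) := fun j i => ∑ t, g t ≫ sck p F (L i j (c t))
  have key : ∀ {F G : X.Modules} {n m : ℕ} (f : Fin n → (F ⟶ G)) (a : Fin n → K)
      (g : Fin m → (G ⟶ F)) (c : Fin m → K), Coh.IsQCoh F →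
      (∑ s, bcT p (f s) (a s)) ≫ (∑ t, bcT p (g t) (c t)) = 𝟙 _ → (∀ s, a s ∈ K₀) → (∀ t, c t ∈ K₀) →
      ∀ j l : Fin d, ∑ i, (∑ s, f s ≫ sck p G (L i j (a s))) ≫ (∑ t, g t ≫ sck p F (L l i (c t))) =
        if j = l then 𝟙 F else 0 := by
    intro F G n m f a g c hFq h ha hc j l
    have h2 := comb_eq_id hFq h (L l j)
    rw [hone] at h2
    refine Eq.trans ?_ (h2.trans ?_)
    · simp only [Preadditive.sum_comp]
      rw [Finset.sum_comm]
      refine Finset.sum_congr rfl fun s _ => ?_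
      simp only [Preadditive.comp_sum]
      rw [Finset.sum_comm]
      refine Finset.sum_congr rfl fun t _ => ?_
      rw [mul_comm (a s), hmul l j _ _ (hc t) (ha s), sck_sum, Preadditive.comp_sum]
      refine Finset.sum_congr rfl fun i _ => ?_
      rw [sck_mul, Category.assoc, Category.assoc, ← Category.assoc (sck p G _) (g t), ← comp_sck,
        Category.assoc, ← sck_mul, ← sck_mul, mul_comm]
    · by_cases e : j = l
      · rw [if_pos e, if_pos e.symm, sck_one]
      · rw [if_neg e, if_neg (Ne.symm e), sck_zero]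
  let E : (⨁ fun _ : Fin d => F) ≅ ⨁ fun _ : Fin d => G :=
    { hom := powHom M
      inv := powHom N
      hom_inv_id := powHom_comp M N fun j l => key f a g c hF.1 (by rw [← hfa, ← hgc, e.hom_inv_id]) ha hc j l
      inv_hom_id := powHom_comp N M fun j l => key g c f a hG.1 (by rw [← hfa, ← hgc, e.inv_hom_id]) hc ha j l }
  exact coh_iso_of_pow_iso p hF hG Module.finrank_pos E

end Groth.Agent.KS29
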