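import Groth.Agent.Lib.ParaFDesc27.QcqsBC
import Groth.Agent.Lib.KS29.Basic

/-!
# Modules on a disjoint union of open pieces
-/

set_option autoImplicit false
set_option linter.style.haveILetI false
set_option backward.isDefEq.respectTransparency false
set_option backward.isDefEq.respectTransparency.types false

universe u

open CategoryTheory CategoryTheory.Limits AlgebraicGeometry TopologicalSpace Opposite

noncomputable section

namespace Groth.Agent.KS29

attribute [local instance] Abelian.hasFiniteBiproducts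

open Groth.Agent

theorem subsingleton_of_eq_bot {Y : Scheme.{u}} (M : Y.Modules) {V : Y.Opens} (hV : V = ⊥) :
    Subsingleton Γ(M, V) :=
  ⟨fun s t => M1.modules_eq_of_locally_eq M V (fun i : PEmpty.{u+1} => i.elim) (fun i => i.elim)
    (by subst hV; exact bot_le) s t (fun i => i.elim)⟩

variable {Y : Scheme.{u}} {ι : Type} [Fintype ι] {Z : ι → Scheme.{u}} (j : ∀ a, Z a ⟶ Y)
  [∀ a, IsOpenImmersion (j a)]

/-- The map of a module to the sum of its pieces. -/
def toPieces (M : Y.Modules) :
    M ⟶ ⨁ fun a => (Scheme.Modules.pushforward (j a)).obj (M.restrict (j a)) :=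
  biproduct.lift fun a => (Scheme.Modules.restrictAdjunction (j a)).unit.app M

theorem isIso_toPieces (hcov : ∀ y : Y, ∃ a, y ∈ (j a).opensRange)
    (hd : ∀ a b, a ≠ b → Disjoint (j a).opensRange (j b).opensRange) (M : Y.Modules) :
    IsIso (toPieces j M) := by
  classical
  refine ParaFDesc27.isIso_of_basis _ (fun W => ∃ a, W ≤ (j a).opensRange) (fun O z hz => ?_) ?_
  · obtain ⟨a, ha⟩ := hcov z
    exact ⟨O ⊓ (j a).opensRange, ⟨a, inf_le_right⟩, ⟨hz, ha⟩, inf_le_left⟩
  rintro W ⟨a, hW⟩
  let F := fun a => (Scheme.Modules.pushforward (j a)).obj (M.restrict (j a))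
  have hcomp : ∀ (b : ι) (x : Γ(M, W)), (biproduct.π F b).app W ((toPieces j M).app W x) =
      ((Scheme.Modules.restrictAdjunction (j b)).unit.app M).app W x := fun b x => by
    show (toPieces j M ≫ biproduct.π F b).app W x = _
    rw [toPieces, biproduct.lift_π]
    rfl
  have hzero : ∀ b, b ≠ a → Subsingleton Γ(F b, W) := fun b hb => by
    refine subsingleton_of_eq_bot (M.restrict (j b)) ?_
    rw [eq_bot_iff]
    intro z hz
    exact ((hd b a hb).le_bot ⟨⟨z, rfl⟩, hW hz⟩).elim
  have hbij : Function.Bijective (((Scheme.Modules.restrictAdjunction (j a)).unit.app M).app W) := by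
    rw [Scheme.Modules.restrictAdjunction_unit_app_app]
    have e : (j a) ''ᵁ (j a) ⁻¹ᵁ W = W := by
      rw [Scheme.Hom.image_preimage_eq_opensRange_inf, inf_eq_right.2 hW]
    have : IsIso (homOfLE ((j a).image_preimage_le W)).op := by
      rw [show homOfLE ((j a).image_preimage_le W) = eqToHom e from Subsingleton.elim _ _]
      infer_instance
    exact (ConcreteCategory.isIso_iff_bijective _).1 (Functor.map_isIso M.presheaf _)
  have hinj : ∀ x y : Γ(⨁ F, W), (biproduct.π F a).app W x = (biproduct.π F a).app W y → x = y := by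
    intro x y hxy
    have key : ∀ z : Γ(⨁ F, W), z = ∑ b, (biproduct.ι F b).app W ((biproduct.π F b).app W z) := fun z => by
      let ev : ((⨁ F) ⟶ (⨁ F)) →+ Γ(⨁ F, W) := AddMonoidHom.mk' (fun f => f.app W z) fun f g => rfl
      have h := congrArg ev (biproduct.total (f := F))
      rw [map_sum] at h
      exact h.symm
    rw [key x, key y]
    refine Finset.sum_congr rfl fun b _ => ?_
    rcases eq_or_ne b a with rfl | hb
    · rw [hxy]
    · haveI := hzero b hb
      rw [Subsingleton.elim ((biproduct.π F b).app W x) ((biproduct.π F b).app W y)]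
  refine ⟨fun x y hxy => hbij.1 ?_, fun z => ?_⟩
  · rw [← hcomp, ← hcomp, hxy]
  · obtain ⟨x, hx⟩ := hbij.2 ((biproduct.π F a).app W z)
    exact ⟨x, hinj _ _ ((hcomp a x).trans hx)⟩

/-- Modules isomorphic on every piece of a disjoint open cover are isomorphic. -/
theorem nonempty_iso_of_pieces (hcov : ∀ y : Y, ∃ a, y ∈ (j a).opensRange)
    (hd : ∀ a b, a ≠ b → Disjoint (j a).opensRange (j b).opensRange) {M N : Y.Modules}
    (h : ∀ a, Nonempty ((Scheme.Modules.pullback (j a)).obj M ≅ (Scheme.Modules.pullback (j a)).obj N)) :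
    Nonempty (M ≅ N) := by
  haveI := isIso_toPieces j hcov hd M
  haveI := isIso_toPieces j hcov hd N
  let R := fun a => Scheme.Modules.restrictFunctorIsoPullback (j a)
  exact ⟨asIso (toPieces j M) ≪≫ biproduct.mapIso (fun a => (Scheme.Modules.pushforward (j a)).mapIso
    ((R a).app M ≪≫ (h a).some ≪≫ ((R a).app N).symm)) ≪≫ (asIso (toPieces j N)).symm⟩

end Groth.Agent.KS29
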