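import Groth.Agent.Lib.VarDim.Scheme
import Groth.Agent.Lib.VarDim.Fibre
import Groth.Agent.Lib.GeomSpread4.Core
import Mathlib.AlgebraicGeometry.FunctionField
import Mathlib.Algebra.MvPolynomial.Funext
import Mathlib.RingTheory.AlgebraicIndependent.TranscendenceBasis
/-!
Varieties dominated by rational varieties are dominated by rational varieties of the same dimension.
-/
noncomputable section
universe u
open CategoryTheory CategoryTheory.Limits AlgebraicGeometry TopologicalSpace Order MvPolynomial

namespace Groth.Agent.KS29.DomDim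

open Groth.Agent.VarDim

/-- Algebraic core. -/
theorem core {k : Type u} [Field k] [Infinite k] {n : ℕ} {A : Type u} [CommRing A] [IsDomain A] [Algebra k A]
    [Algebra.FiniteType k A] (g : MvPolynomial (Fin n) k) (hg : g ≠ 0)
    (ψ : A →ₐ[k] Localization.Away g) (hψ : Function.Injective ψ) :
    ∃ (g' : MvPolynomial (Fin (tdeg k A)) k) (ψ' : A →ₐ[k] Localization.Away g'), g' ≠ 0 ∧ Function.Injective ψ' := by
  classical
  let T := Localization.Away g
  have hle : Submonoid.powers g ≤ nonZeroDivisors (MvPolynomial (Fin n) k) :=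
    powers_le_nonZeroDivisors_of_noZeroDivisors hg
  haveI : IsDomain T := IsLocalization.isDomain_localization hle
  haveI : FaithfulSMul (MvPolynomial (Fin n) k) T :=
    (faithfulSMul_iff_algebraMap_injective _ _).2 (IsLocalization.injective T hle)
  letI : Algebra A T := ψ.toRingHom.toAlgebra
  haveI : IsScalarTower k A T := IsScalarTower.of_algebraMap_eq fun x => (ψ.commutes x).symm
  haveI : FaithfulSMul A T := (faithfulSMul_iff_algebraMap_injective _ _).2 hψ
  let x : Fin n → T := fun i => algebraMap (MvPolynomial (Fin n) k) T (X i)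
  have hxinj : Function.Injective x := (IsLocalization.injective T hle).comp (X_injective)
  have hmem : ∀ p : MvPolynomial (Fin n) k, algebraMap _ T p ∈ Algebra.adjoin A (Set.range x) := by
    intro p
    induction p using MvPolynomial.induction_on with
    | C a =>
      rw [← MvPolynomial.algebraMap_eq, ← IsScalarTower.algebraMap_apply, IsScalarTower.algebraMap_apply k A T]
      exact Subalgebra.algebraMap_mem _ _
    | add p q hp hq => rw [map_add]; exact add_mem hp hq
    | mul_X p i hp => rw [map_mul]; exact mul_mem hp (Algebra.subset_adjoin ⟨i, rfl⟩)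
  haveI : Algebra.IsAlgebraic (Algebra.adjoin A (Set.range x)) T := ⟨fun y => by
    obtain ⟨⟨p, s⟩, hy⟩ := IsLocalization.surj (Submonoid.powers g) y
    refine ⟨Polynomial.C (⟨_, hmem s⟩ : Algebra.adjoin A (Set.range x)) * Polynomial.X - Polynomial.C ⟨_, hmem p⟩,
      fun h0 => ?_, ?_⟩
    · have := congrArg (fun q => ((Polynomial.coeff q 1 : Algebra.adjoin A (Set.range x)) : T)) h0
      simp [Polynomial.coeff_C] at this
      exact nonZeroDivisors.ne_zero (hle s.2) this
    · simp only [map_sub, map_mul, Polynomial.aeval_C, Polynomial.aeval_X]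
      exact sub_eq_zero.2 ((mul_comm _ _).trans hy)⟩
  obtain ⟨t, htsub, ht⟩ := exists_isTranscendenceBasis_subset (R := A) (A := T) (Set.range x)
  let J : Finset (Fin n) := Finset.univ.filter fun i => x i ∈ t
  have hcard : Algebra.trdeg A T = (J.card : Cardinal) := by
    have hts : t = (J.image x : Set T) := by
      ext y
      simp only [Finset.coe_image, Set.mem_image, J, Finset.coe_filter, Finset.mem_univ, true_and]
      refine ⟨fun hy => ?_, fun ⟨i, hi, hy⟩ => hy ▸ hi⟩
      obtain ⟨i, rfl⟩ := htsub hy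
      exact ⟨i, hy, rfl⟩
    rw [← ht.cardinalMk_eq_trdeg, hts]
    exact Cardinal.mk_coe_finset.trans (by rw [Finset.card_image_of_injective _ hxinj])
  have htot : Algebra.trdeg k T = (n : Cardinal) := by
    haveI : Algebra.IsAlgebraic (MvPolynomial (Fin n) k) T := IsLocalization.isAlgebraic T (Submonoid.powers g)
    have h := trdeg_add_eq k (MvPolynomial (Fin n) k) (A := T)
    rw [trdeg_mvPolynomial, trdeg_eq_zero, add_zero] at h
    exact h.symm
  have hsum : tdeg k A + J.card = n := by
    have h := trdeg_add_eq k A (A := T)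
    rw [hcard, htot, trdeg_eq_tdeg k A] at h
    exact_mod_cast h
  have hS : Fintype.card {i // i ∉ J} = tdeg k A := by
    rw [Fintype.card_subtype_compl, Fintype.card_fin, Fintype.card_coe]; omega
  let e : {i // i ∉ J} ≃ Fin (tdeg k A) := Fintype.equivFinOfCardEq hS
  let m := tdeg k A
  -- the map `A[y_J] → T`
  let xJ : J → T := fun j => x j
  have hind : AlgebraicIndependent A xJ :=
    ht.1.comp (fun j : J => (⟨x j, (Finset.mem_filter.1 j.2).2⟩ : t))
      fun a b hab => Subtype.ext (hxinj (congrArg Subtype.val hab))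
  let Φ : MvPolynomial J A →ₐ[A] T := aeval xJ
  have hΦ : Function.Injective Φ := hind
  haveI : IsNoetherianRing A := Algebra.FiniteType.isNoetherianRing k A
  have hΦft : Φ.toRingHom.FiniteType := by
    letI := Φ.toRingHom.toAlgebra
    haveI : IsScalarTower A (MvPolynomial J A) T := IsScalarTower.of_algebraMap_eq fun a => (Φ.commutes a).symm
    haveI : IsScalarTower k (MvPolynomial J A) T := IsScalarTower.to₁₃₄ k A (MvPolynomial J A) T
    exact Algebra.FiniteType.of_restrictScalars_finiteType k (MvPolynomial J A) T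
  have hcon := PrimeSpectrum.isConstructible_range_comap (RingHom.FinitePresentation.of_finiteType.1 hΦft)
  obtain ⟨h, hh0, hh⟩ := Groth.Agent.GeomSpread4.exists_basicOpen_subset hcon
    ⟨⟨⊥, Ideal.isPrime_bot⟩, PrimeSpectrum.ext (by
      show Ideal.comap Φ.toRingHom ⊥ = ⊥
      exact (RingHom.injective_iff_ker_eq_bot _).1 hΦ)⟩
  -- choice of the specialisation
  let split : MvPolynomial (Fin n) k →ₐ[k] MvPolynomial J (MvPolynomial (Fin m) A) := aeval fun i =>
    if hi : i ∈ J then X ⟨i, hi⟩ else C (X (e ⟨i, hi⟩))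
  let hD : MvPolynomial J (MvPolynomial (Fin m) A) := map (C : A →+* MvPolynomial (Fin m) A) h
  have hsplit : split g ≠ 0 := by
    intro h0
    let back : MvPolynomial J (MvPolynomial (Fin m) A) →+* T :=
      eval₂Hom (aeval (fun s => x (e.symm s : Fin n)) : MvPolynomial (Fin m) A →ₐ[A] T).toRingHom xJ
    have hb : ∀ p, back (split p) = algebraMap _ T p := by
      intro p
      induction p using MvPolynomial.induction_on with
      | C a =>
        rw [algHom_C, ← MvPolynomial.algebraMap_eq, ← IsScalarTower.algebraMap_apply k (MvPolynomial (Fin n) k) T]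
        simp [back, MvPolynomial.algebraMap_apply, ← IsScalarTower.algebraMap_apply]
      | add p q hp hq => rw [map_add, map_add, map_add, hp, hq]
      | mul_X p i hp =>
        rw [map_mul, map_mul, map_mul, hp]
        congr 1
        simp only [split, aeval_X]
        split_ifs with hi
        · simp [back, xJ, x]
        · simp [back, x]
    have := hb g
    rw [h0, map_zero] at this
    exact hg (IsLocalization.injective T hle (this.symm.trans (map_zero _).symm))
  have hDne : hD ≠ 0 := fun h0 => hh0 (map_injective _ (C_injective _ _) (h0.trans (map_zero _).symm))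
  obtain ⟨a, ha⟩ : ∃ a : J → k, eval (fun j => algebraMap k (MvPolynomial (Fin m) A) (a j)) (hD * split g) ≠ 0 := by
    by_contra hall
    simp only [not_exists, not_not] at hall
    apply mul_ne_zero hDne hsplit
    refine funext_set (fun _ => Set.range (algebraMap k (MvPolynomial (Fin m) A)))
      (fun _ => Set.infinite_range_of_injective (algebraMap k (MvPolynomial (Fin m) A)).injective) fun y hy => ?_
    choose a ha using fun j => hy j (Set.mem_univ j)
    rw [map_zero, show y = fun j => algebraMap k (MvPolynomial (Fin m) A) (a j) from funext fun j => (ha j).symm]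
    exact hall a
  rw [map_mul] at ha
  have ha1 : eval (fun j => algebraMap k A (a j)) h ≠ 0 := by
    intro h0
    refine left_ne_zero_of_mul ha ?_
    have : eval (fun j => algebraMap k (MvPolynomial (Fin m) A) (a j)) hD = C (eval (fun j => algebraMap k A (a j)) h) := by
      rw [MvPolynomial.eval_map, ← eval₂_id, eval₂_comp_left, RingHom.comp_id]
      congr 1
    rw [this, h0, map_zero]
  let θ : MvPolynomial (Fin n) k →ₐ[k] MvPolynomial (Fin m) k :=
    aeval fun i => if hi : i ∈ J then C (a ⟨i, hi⟩) else X (e ⟨i, hi⟩)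
  have hθg : θ g ≠ 0 := by
    intro h0
    refine right_ne_zero_of_mul ha ?_
    have hcomm : ∀ p, eval (fun j => algebraMap k (MvPolynomial (Fin m) A) (a j)) (split p) =
        map (algebraMap k A) (θ p) := by
      intro p
      induction p using MvPolynomial.induction_on with
      | C c => simp [split, θ, MvPolynomial.algebraMap_apply]
      | add p q hp hq => simp only [map_add, hp, hq]
      | mul_X p i hp =>
        simp only [map_mul, hp]
        congr 1
        simp only [split, θ, aeval_X]
        split_ifs with hi <;> simp [MvPolynomial.algebraMap_apply]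
    rw [hcomm, h0, map_zero]
  -- the specialised map
  refine ⟨θ g, ?_⟩
  have hunit : ∀ s : Submonoid.powers g, IsUnit
      (((IsScalarTower.toAlgHom k _ (Localization.Away (θ g))).comp θ) s) := by
    rintro ⟨_, j, rfl⟩
    simp only [AlgHom.comp_apply, map_pow]
    exact (IsLocalization.Away.algebraMap_isUnit (θ g)).pow j
  let θ' : T →ₐ[k] Localization.Away (θ g) :=
    IsLocalization.liftAlgHom (M := Submonoid.powers g) hunit
  refine ⟨θ'.comp ψ, hθg, (injective_iff_map_eq_zero _).2 fun α hα => ?_⟩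
  -- a prime over `(0, a)`
  let ev : MvPolynomial J A →+* A := eval fun j => algebraMap k A (a j)
  haveI : (RingHom.ker ev).IsPrime := RingHom.ker_isPrime _
  obtain ⟨q, hq⟩ := hh ⟨RingHom.ker ev, inferInstance⟩ (fun hk => ha1 (RingHom.mem_ker.1 hk))
  have hqc : ∀ p, Φ p ∈ q.asIdeal ↔ ev p = 0 := fun p => by
    have := congrArg (fun r : PrimeSpectrum (MvPolynomial J A) => p ∈ r.asIdeal) hq
    simpa using this
  have hθ : ∀ p, θ p = 0 → algebraMap (MvPolynomial (Fin n) k) T p ∈ q.asIdeal := by
    let Q := Ideal.Quotient.mkₐ k q.asIdeal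
    have : (aeval fun s => Q (x (e.symm s : Fin n))).comp θ =
        Q.comp (IsScalarTower.toAlgHom k (MvPolynomial (Fin n) k) T) := by
      refine algHom_ext fun i => ?_
      simp only [θ, AlgHom.comp_apply, aeval_X]
      split_ifs with hi
      · rw [aeval_C]
        refine (Ideal.Quotient.eq.2 ?_).symm
        have := (hqc (X ⟨i, hi⟩ - C (algebraMap k A (a ⟨i, hi⟩)))).2 (by simp [ev])
        rw [map_sub, aeval_X, aeval_C] at this
        rwa [← IsScalarTower.algebraMap_apply k A T] at this
      · simp [x, Q]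
    intro p hp
    refine Ideal.Quotient.eq_zero_iff_mem.1 ?_
    have h2 := DFunLike.congr_fun this p
    rw [AlgHom.comp_apply, hp, map_zero] at h2
    exact h2.symm
  have hαq : ψ α ∈ q.asIdeal := by
    obtain ⟨⟨p, s⟩, hy⟩ := IsLocalization.surj (Submonoid.powers g) (ψ α)
    have hp : θ p = 0 := by
      have h2 : θ' (ψ α * algebraMap _ T (s : MvPolynomial (Fin n) k)) = 0 := by
        rw [map_mul, show θ' (ψ α) = 0 from hα, zero_mul]
      rw [hy] at h2
      change IsLocalization.lift hunit (algebraMap _ T p) = 0 at h2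
      rw [IsLocalization.lift_eq] at h2
      exact IsLocalization.injective (Localization.Away (θ g))
        (powers_le_nonZeroDivisors_of_noZeroDivisors hθg) (h2.trans (map_zero _).symm)
    have h3 := hθ p hp
    rw [← hy] at h3
    exact ((q.2.mem_or_mem h3).resolve_right fun hs =>
      q.2.ne_top (Ideal.eq_top_of_isUnit_mem _ hs (IsLocalization.map_units T s)))
  have : Φ (C α) ∈ q.asIdeal := by
    rw [aeval_C]; exact hαq
  simpa [ev] using (hqc _).1 this

theorem main (k : Type u) [Field k] [Infinite k]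
    (Xs : Scheme.{u}) (f : Xs ⟶ Spec (CommRingCat.of k)) [IsIntegral Xs] [LocallyOfFiniteType f]
    (n : ℕ) (W : (Spec (CommRingCat.of (MvPolynomial (Fin n) k))).Opens)
    (hW : (W : Set ↑(Spec (CommRingCat.of (MvPolynomial (Fin n) k)))).Nonempty)
    (φ : (W : Scheme.{u}) ⟶ Xs) [IsDominant φ]
    (hφ : φ ≫ f = W.ι ≫ Spec.map (CommRingCat.ofHom (algebraMap k (MvPolynomial (Fin n) k)))) :
    ∃ (m : ℕ) (W' : (Spec (CommRingCat.of (MvPolynomial (Fin m) k))).Opens) (ψ : (W' : Scheme.{u}) ⟶ Xs),
      (W' : Set ↑(Spec (CommRingCat.of (MvPolynomial (Fin m) k)))).Nonempty ∧ IsDominant ψ ∧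
      ψ ≫ f = W'.ι ≫ Spec.map (CommRingCat.ofHom (algebraMap k (MvPolynomial (Fin m) k))) ∧
      (m : WithBot ℕ∞) = topologicalKrullDim Xs := by
  obtain ⟨U, hU, hηU, -⟩ := exists_isAffineOpen_mem_and_subset (Opens.mem_top (genericPoint Xs))
  haveI : Nonempty U := ⟨⟨_, hηU⟩⟩
  letI : Algebra k Γ(Xs, U) := (baseToSections f U).toAlgebra
  haveI : Algebra.FiniteType k Γ(Xs, U) := finiteType_baseToSections f hU
  have hdim : (tdeg k Γ(Xs, U) : WithBot ℕ∞) = topologicalKrullDim Xs := by
    rw [dim_eq_sdim_genericPoint f]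
    have h1 := sdim_eq_coheight f hU (genericPoint Xs) hηU
    have h2 := height_add_coheight_nat k Γ(Xs, U) (hU.primeIdealOf ⟨_, hηU⟩)
    have h3 : height (hU.primeIdealOf ⟨_, hηU⟩ : PrimeSpectrum Γ(Xs, U)) = 0 := by
      refine height_eq_zero.2 fun p _ => ?_
      rw [← primeIdealOf_fromSpec hU p, primeIdealOf_le_iff hU]
      exact genericPoint_specializes _
    rw [h3, zero_add, h1] at h2
    exact_mod_cast h2.symm
  have hfU : hU.fromSpec ≫ f = Spec.map (CommRingCat.ofHom (algebraMap k Γ(Xs, U))) := by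
    rw [← (isAffineOpen_top (Spec (CommRingCat.of k))).SpecMap_appLE_fromSpec f hU le_top, IsAffineOpen.fromSpec_top (X := Spec (CommRingCat.of k))]
    simp only [Scheme.isoSpec_Spec_inv, ← Spec.map_comp]
    congr 1
  -- basic open in `W ∩ φ⁻¹ U`
  have hdense : (W.ι ''ᵁ (φ ⁻¹ᵁ U) : Set ↑(Spec (CommRingCat.of (MvPolynomial (Fin n) k)))).Nonempty := by
    haveI : Nonempty (W : Scheme.{u}) := hW.to_subtype
    obtain ⟨w, hu⟩ := φ.denseRange.exists_mem_open U.2 ⟨_, hηU⟩
    exact ⟨W.ι w, ⟨w, hu, rfl⟩⟩
  obtain ⟨w, hw⟩ := hdense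
  obtain ⟨_, ⟨_, ⟨g, rfl⟩, rfl⟩, hwg, hgsub⟩ :=
    PrimeSpectrum.isBasis_basic_opens.exists_subset_of_mem_open hw (W.ι ''ᵁ (φ ⁻¹ᵁ U)).2
  have hg : g ≠ 0 := fun h => hwg (by rw [h]; exact zero_mem _)
  let j := Spec.map (CommRingCat.ofHom (algebraMap (MvPolynomial (Fin n) k) (Localization.Away g)))
  have hj : Set.range j.base ⊆ Set.range ((φ ⁻¹ᵁ U).ι ≫ W.ι).base := by
    rintro _ ⟨y, rfl⟩
    have : j y ∈ SetLike.coe (PrimeSpectrum.basicOpen g) := by
      rw [← PrimeSpectrum.localization_away_comap_range (Localization.Away g) g]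
      exact ⟨y, rfl⟩
    obtain ⟨v, hv, hv'⟩ := hgsub this
    exact ⟨⟨v, hv⟩, hv'⟩
  let j₁ := IsOpenImmersion.lift ((φ ⁻¹ᵁ U).ι ≫ W.ι) j hj
  have hj₁ : j₁ ≫ (φ ⁻¹ᵁ U).ι ≫ W.ι = j := IsOpenImmersion.lift_fac _ _ _
  haveI : IsOpenImmersion j := IsOpenImmersion.of_isLocalization g
  haveI : IsOpenImmersion j₁ := by
    haveI : IsOpenImmersion (j₁ ≫ ((φ ⁻¹ᵁ U).ι ≫ W.ι)) := by rw [hj₁]; infer_instance
    exact IsOpenImmersion.of_comp j₁ ((φ ⁻¹ᵁ U).ι ≫ W.ι)
  let a : Spec (CommRingCat.of (Localization.Away g)) ⟶ Spec Γ(Xs, U) := j₁ ≫ (φ ∣_ U) ≫ hU.isoSpec.hom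
  have ha : a ≫ hU.fromSpec = j₁ ≫ (φ ⁻¹ᵁ U).ι ≫ φ := by
    simp only [a, Category.assoc, IsAffineOpen.isoSpec_hom_fromSpec, morphismRestrict_ι]
  let ψr := Spec.preimage a
  have hψa : Spec.map ψr = a := Spec.map_preimage a
  have hcomm : a ≫ Spec.map (CommRingCat.ofHom (algebraMap k Γ(Xs, U))) =
      Spec.map (CommRingCat.ofHom (algebraMap k (Localization.Away g))) := by
    rw [← hfU, reassoc_of% ha, hφ, reassoc_of% hj₁, ← Spec.map_comp, ← CommRingCat.ofHom_comp,
      ← IsScalarTower.algebraMap_eq]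
  let ψ : Γ(Xs, U) →ₐ[k] Localization.Away g :=
    { toRingHom := ψr.hom
      commutes' := fun c => by
        rw [← hψa, ← Spec.map_comp] at hcomm
        exact congrArg (fun m : _ ⟶ _ => (CommRingCat.Hom.hom m) c) (Spec.map_injective hcomm) }
  have hψinj : Function.Injective ψ := by
    have hd : DenseRange (PrimeSpectrum.comap ψr.hom) := by
      show DenseRange (Spec.map ψr).base
      rw [hψa]
      haveI : Nonempty (Spec (CommRingCat.of (Localization.Away g))) := by
        haveI := IsLocalization.isDomain_localization (powers_le_nonZeroDivisors_of_noZeroDivisors hg)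
        exact inferInstanceAs (Nonempty (PrimeSpectrum (Localization.Away g)))
      haveI : IsIntegral (W : Scheme.{u}) := by
        haveI : Nonempty (W : Scheme.{u}) := hW.to_subtype
        exact isIntegral_of_isOpenImmersion W.ι
      haveI : IsDominant (j₁ ≫ (φ ⁻¹ᵁ U).ι) :=
        ⟨(j₁ ≫ (φ ⁻¹ᵁ U).ι).isOpenEmbedding.isOpen_range.dense (Set.range_nonempty _)⟩
      haveI : IsDominant (a ≫ hU.fromSpec) := by rw [ha, ← Category.assoc]; infer_instance
      rw [DenseRange, hU.fromSpec.isOpenEmbedding.isInducing.dense_iff]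
      intro x
      have := (a ≫ hU.fromSpec).denseRange (hU.fromSpec x)
      rwa [Scheme.Hom.comp_base, TopCat.coe_comp, Set.range_comp] at this
    rw [PrimeSpectrum.denseRange_comap_iff_ker_le_nilRadical] at hd
    exact (injective_iff_map_eq_zero _).2 fun c hc => IsNilpotent.eq_zero (hd (RingHom.mem_ker.2 hc))
  obtain ⟨g', ψ', hg', hψ'⟩ := core g hg ψ hψinj
  let j' := Spec.map (CommRingCat.ofHom (algebraMap (MvPolynomial (Fin (tdeg k Γ(Xs, U))) k) (Localization.Away g')))
  haveI : IsOpenImmersion j' := IsOpenImmersion.of_isLocalization g'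
  haveI := IsLocalization.isDomain_localization (powers_le_nonZeroDivisors_of_noZeroDivisors hg')
  refine ⟨_, j'.opensRange, j'.isoOpensRange.inv ≫ Spec.map (CommRingCat.ofHom ψ'.toRingHom) ≫ hU.fromSpec,
    ?_, ?_, ?_, hdim⟩
  · exact ⟨_, ⟨⟨⊥, Ideal.isPrime_bot⟩, rfl⟩⟩
  · haveI : IsDominant (Spec.map (CommRingCat.ofHom ψ'.toRingHom)) := by
      refine ⟨?_⟩
      show DenseRange (PrimeSpectrum.comap ψ'.toRingHom)
      rw [PrimeSpectrum.denseRange_comap_iff_ker_le_nilRadical,
        (RingHom.injective_iff_ker_eq_bot ψ'.toRingHom).1 hψ']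
      exact bot_le
    haveI : IsDominant hU.fromSpec := ⟨hU.fromSpec.isOpenEmbedding.isOpen_range.dense (by
      rw [hU.range_fromSpec]; exact ⟨_, hηU⟩)⟩
    infer_instance
  · rw [Category.assoc, Category.assoc, hfU, ← Spec.map_comp, ← CommRingCat.ofHom_comp, show ψ'.toRingHom.comp (algebraMap k Γ(Xs, U)) = algebraMap k _ from ψ'.comp_algebraMap,
      IsScalarTower.algebraMap_eq k (MvPolynomial (Fin (tdeg k Γ(Xs, U))) k) (Localization.Away g'),
      CommRingCat.ofHom_comp, Spec.map_comp, ← Category.assoc]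
    congr 1
    exact Scheme.Hom.isoOpensRange_inv_comp j'

end Groth.Agent.KS29.DomDim
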