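import Mathlib.LinearAlgebra.Matrix.ToLin
import Mathlib.RingTheory.TensorProduct.Basic
import Mathlib.LinearAlgebra.Matrix.Basis
import Mathlib.RingTheory.SimpleRing.Matrix
import Groth.Agent.Lib.CSAlg.Split

/-!
# Rank one idempotents in split algebras
-/

set_option autoImplicit false
set_option linter.style.haveILetI false
set_option linter.unusedSectionVars false

open TensorProduct Matrix

noncomputable section

namespace Groth.Agent.KS29

universe u

variable {k : Type u} [Field k] {B : Type u} [Ring B] [Algebra k B] {S : Type u} [Field S] [Algebra k S]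
variable {N b : ℕ}

/-- The combination of the images of a family. -/
def coordMap (ψ : B →ₐ[k] Matrix (Fin b) (Fin b) S) (β : Fin N → B) : (Fin N → S) →ₗ[S] Matrix (Fin b) (Fin b) S :=
  ∑ l, (LinearMap.proj l : (Fin N → S) →ₗ[S] S).smulRight (ψ (β l))

theorem coordMap_apply (ψ : B →ₐ[k] Matrix (Fin b) (Fin b) S) (β : Fin N → B) (c : Fin N → S) :
    coordMap ψ β c = ∑ l, c l • ψ (β l) := by simp [coordMap]

theorem coordMap_single (ψ : B →ₐ[k] Matrix (Fin b) (Fin b) S) (β : Fin N → B) (l : Fin N) :
    coordMap ψ β (Pi.single l 1) = ψ (β l) := by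
  rw [coordMap_apply, Finset.sum_eq_single l (fun x _ hx => by rw [Pi.single_eq_of_ne hx, zero_smul])
    (fun h => absurd (Finset.mem_univ l) h), Pi.single_eq_same, one_smul]

theorem bijective_coordMap [Algebra.IsCentral k B] [IsSimpleRing B] [FiniteDimensional k B] [Nonempty (Fin b)]
    (ψ : B →ₐ[k] Matrix (Fin b) (Fin b) S) (β : Module.Basis (Fin N) k B) (hN : N = b * b) :
    Function.Bijective (coordMap ψ β) := by
  classical
  haveI := CSAlg.isSimpleRing_baseChange (k := k) S B
  let Θ : S ⊗[k] B →ₐ[S] Matrix (Fin b) (Fin b) S :=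
    Algebra.TensorProduct.lift (Algebra.ofId S _) ψ fun a _ => Algebra.commutes a _
  have h : coordMap ψ β = Θ.toLinearMap ∘ₗ (Algebra.TensorProduct.basis S β).equivFun.symm.toLinearMap := by
    refine LinearMap.ext fun c => ?_
    rw [LinearMap.comp_apply, LinearEquiv.coe_coe, Module.Basis.equivFun_symm_apply, map_sum, coordMap_apply]
    refine Finset.sum_congr rfl fun l _ => ?_
    rw [map_smul, Algebra.TensorProduct.basis_apply]
    congr 1
    exact ((Algebra.TensorProduct.lift_tmul (Algebra.ofId S (Matrix (Fin b) (Fin b) S)) ψ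
      (fun a _ => Algebra.commutes a _) (1 : S) (β l)).trans (by rw [map_one, one_mul])).symm
  have hinj : Function.Injective (coordMap ψ β) := by
    rw [h]
    exact (RingHom.injective Θ.toRingHom).comp (LinearEquiv.injective _)
  refine ⟨hinj, (LinearMap.injective_iff_surjective_of_finrank_eq_finrank (f := coordMap ψ β) ?_).1 hinj⟩
  rw [Module.finrank_fin_fun, Module.finrank_matrix, Fintype.card_fin, Module.finrank_self, mul_one, hN]

theorem coordMap_map {S' : Type u} [Field S'] [Algebra k S'] (τ : S →+* S') (ψ : B →ₐ[k] Matrix (Fin b) (Fin b) S)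
    (ψ' : B →ₐ[k] Matrix (Fin b) (Fin b) S') (h : ∀ x, ψ' x = (ψ x).map τ) (β : Fin N → B) (c : Fin N → S) :
    coordMap ψ' β (fun l => τ (c l)) = (coordMap ψ β c).map τ := by
  rw [coordMap_apply, coordMap_apply]
  refine Eq.trans ?_ (map_sum τ.mapMatrix _ _).symm
  refine Finset.sum_congr rfl fun l _ => ?_
  rw [h]
  ext i j
  simp [RingHom.mapMatrix_apply]

/-- Left multiplication in coordinates. -/
theorem coordMap_leftMul (ψ : B →ₐ[k] Matrix (Fin b) (Fin b) S) (β : Module.Basis (Fin N) k B) (x : B) (c : Fin N → S) :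
    coordMap ψ β ((Algebra.leftMulMatrix β x).map (algebraMap k S) *ᵥ c) = ψ x * coordMap ψ β c := by
  classical
  have e : c = ∑ l, c l • (Pi.single l 1 : Fin N → S) := pi_eq_sum_univ' c
  rw [e]
  simp only [Matrix.mulVec_sum, Matrix.mulVec_smul, map_sum, map_smul, Finset.mul_sum, Algebra.mul_smul_comm]
  refine Finset.sum_congr rfl fun l _ => ?_
  congr 1
  rw [coordMap_single, ← map_mul, Matrix.mulVec_single_one]
  rw [coordMap_apply]
  conv_rhs => rw [← β.sum_repr (x * β l)]
  rw [map_sum]
  refine Finset.sum_congr rfl fun i _ => ?_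
  rw [map_smul, Matrix.col_apply, Matrix.map_apply, Algebra.leftMulMatrix_eq_repr_mul, algebraMap_smul]

variable {K : Type u} [Field K] {m : ℕ}

/-- The images of matrix units span, so the corner at the first one is a line. -/
theorem exists_smul_corner (ω : Matrix (Fin (m + 1)) (Fin (m + 1)) K →+* Matrix (Fin (m + 1)) (Fin (m + 1)) S)
    (T : Matrix (Fin (m + 1)) (Fin (m + 1)) S) :
    ∃ c : S, ω (Matrix.single 0 0 1) * T * ω (Matrix.single 0 0 1) = c • ω (Matrix.single 0 0 1) := by
  classical
  let G : Fin (m + 1) × Fin (m + 1) → Matrix (Fin (m + 1)) (Fin (m + 1)) S := fun q => ω (Matrix.single q.1 q.2 1)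
  have hinj : Function.Injective ω := RingHom.injective ω
  have hG : ∀ p i j q : Fin (m + 1), ∀ a c : Fin (m + 1),
      ω (Matrix.single p i 1) * ω (Matrix.single a c 1) * ω (Matrix.single j q 1) =
        if i = a ∧ c = j then ω (Matrix.single p q 1) else 0 := by
    intro p i j q a c
    rw [← map_mul, ← map_mul]
    by_cases h1 : i = a
    · subst h1
      rw [Matrix.single_mul_single_same, mul_one]
      by_cases h2 : c = j
      · subst h2
        rw [Matrix.single_mul_single_same, mul_one, if_pos ⟨rfl, rfl⟩]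
      · rw [Matrix.single_mul_single_of_ne _ _ _ _ h2, map_zero, if_neg fun h => h2 h.2]
    · rw [Matrix.single_mul_single_of_ne _ _ _ _ h1, zero_mul, map_zero, if_neg fun h => h1 h.1]
  have hli : LinearIndependent S G := by
    rw [Fintype.linearIndependent_iff]
    intro t ht ⟨i, j⟩
    have h := congrArg (fun W => ω (Matrix.single 0 i 1) * W * ω (Matrix.single j 0 1)) ht
    simp only [mul_zero, zero_mul, Finset.mul_sum, Finset.sum_mul, Algebra.mul_smul_comm, Algebra.smul_mul_assoc,
      G, hG] at h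
    rw [Finset.sum_eq_single (i, j) (fun q _ hq => by rw [if_neg fun h => hq (Prod.ext h.1.symm h.2), smul_zero])
      (fun h => absurd (Finset.mem_univ _) h), if_pos ⟨rfl, rfl⟩] at h
    refine (smul_eq_zero.1 h).resolve_right fun h0 => ?_
    exact one_ne_zero (α := K) (by
      have h1 : (Matrix.single 0 0 (1 : K) : Matrix (Fin (m + 1)) (Fin (m + 1)) K) = 0 := hinj (h0.trans (map_zero _).symm)
      simpa using congrFun (congrFun h1 0) 0)
  have hspan := hli.span_eq_top_of_card_eq_finrank (by
    rw [Fintype.card_prod, Module.finrank_matrix, Module.finrank_self, mul_one])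
  have hT : T ∈ Submodule.span S (Set.range G) := by rw [hspan]; trivial
  obtain ⟨t, rfl⟩ := (Submodule.mem_span_range_iff_exists_fun S).1 hT
  refine ⟨t (0, 0), ?_⟩
  simp only [Finset.mul_sum, Finset.sum_mul, Algebra.mul_smul_comm, Algebra.smul_mul_assoc, G, hG]
  rw [Finset.sum_eq_single (0, 0) (fun q _ hq => by rw [if_neg fun h => hq (Prod.ext h.1.symm h.2), smul_zero])
    (fun h => absurd (Finset.mem_univ _) h), if_pos ⟨rfl, rfl⟩]

/-- The solutions `e V = V = V E₀₀` form a line. -/
theorem exists_line (ω : Matrix (Fin (m + 1)) (Fin (m + 1)) K →+* Matrix (Fin (m + 1)) (Fin (m + 1)) S) :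
    ∃ V₀ : Matrix (Fin (m + 1)) (Fin (m + 1)) S, V₀ ≠ 0 ∧ V₀ * Matrix.single 0 0 1 = V₀ ∧
      ω (Matrix.single 0 0 1) * V₀ = V₀ ∧
      ∀ W, W * Matrix.single 0 0 1 = W → ω (Matrix.single 0 0 1) * W = W → ∃ t : S, W = t • V₀ := by
  classical
  set e := ω (Matrix.single 0 0 1) with he
  have he0 : e ≠ 0 := fun h => one_ne_zero (α := K) (by
    have h1 : (Matrix.single 0 0 (1 : K) : Matrix (Fin (m + 1)) (Fin (m + 1)) K) = 0 :=
      RingHom.injective ω (h.trans (map_zero _).symm)
    simpa using congrFun (congrFun h1 0) 0)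
  have hee : e * e = e := by rw [he, ← map_mul, Matrix.single_mul_single_same, mul_one]
  obtain ⟨p, q, hpq⟩ : ∃ p q, e p q ≠ 0 := by
    by_contra! h
    exact he0 (Matrix.ext h)
  have hcol : ∀ (M : Matrix (Fin (m + 1)) (Fin (m + 1)) S) i, (M * Matrix.single q (0 : Fin (m + 1)) (1 : S)) i 0 = M i q := fun M i => by
    simp [Matrix.mul_apply, Matrix.single_apply]
  refine ⟨e * Matrix.single q 0 1, fun h => hpq ?_, ?_, ?_, fun W hW hW' => ?_⟩
  · rw [← hcol e p, h, Matrix.zero_apply]
  · rw [mul_assoc, Matrix.single_mul_single_same, mul_one]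
  · rw [← mul_assoc, hee]
  · let T : Matrix (Fin (m + 1)) (Fin (m + 1)) S := Matrix.vecMulVec (fun i => W i 0) (Pi.single p (e p q)⁻¹)
    obtain ⟨c, hc⟩ := exists_smul_corner ω T
    refine ⟨c, ?_⟩
    have hTv : T * (e * Matrix.single q 0 1) = W := by
      ext i j
      rw [Matrix.mul_apply]
      simp only [T, Matrix.vecMulVec_apply]
      rw [Finset.sum_eq_single p (fun b _ hb => by rw [Pi.single_eq_of_ne hb, mul_zero, zero_mul])
        (fun h => absurd (Finset.mem_univ p) h), Pi.single_eq_same]
      by_cases hj : j = 0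
      · subst hj
        rw [hcol, mul_assoc, inv_mul_cancel₀ hpq, mul_one]
      · have h0 : ∀ (M : Matrix (Fin (m + 1)) (Fin (m + 1)) S) (a : Fin (m + 1)), (M * Matrix.single a (0 : Fin (m + 1)) (1 : S)) p j = 0 :=
          fun M a => Matrix.mul_single_apply_of_ne _ _ _ _ _ (fun h => hj h) _
        rw [h0, mul_zero, ← hW]
        exact (Matrix.mul_single_apply_of_ne _ _ _ _ _ (fun h => hj h) _).symm
    calc W = e * W := hW'.symm
      _ = e * T * e * (e * Matrix.single q 0 1) := by
          rw [mul_assoc (e * T) e, ← mul_assoc e e, hee, mul_assoc e T, hTv]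
      _ = c • (e * Matrix.single q 0 1) := by rw [hc, Algebra.smul_mul_assoc, ← mul_assoc, hee]

end Groth.Agent.KS29
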