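import Groth.Agent.Lib.Brauer25.PeriodIndex

/-!
# Indices of powers of a Brauer class
-/

set_option autoImplicit false
set_option linter.style.haveILetI false

namespace Groth.Agent.KS29

open Groth.Agent.Brauer25

universe u

variable {k : Type u} [Field k]

/-- Raising to a prime power divides the index by that prime. -/
theorem ind_pow_prime_dvd (x : Br k) {q : ℕ} (hq : q.Prime) {c : ℕ} (hc : ind x = q * c) :
    ind (x ^ q) ∣ c := by
  obtain ⟨c', rfl⟩ : ∃ c', c = c' + 1 := ⟨c - 1, by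
    rcases c with _ | c
    · exact absurd (by simpa using hc) (ind_ne_zero x)
    · rfl⟩
  obtain ⟨p, rfl⟩ : ∃ p, q = p + 1 := ⟨q - 1, by have := hq.pos; omega⟩
  haveI : Fact (p + 1).Prime := ⟨hq⟩
  have hd : ind x = ((p + 1) * c' + p) + 1 := by rw [hc]; ring
  have hu : Nat.choose ((p + 1) * c' + p) p % (p + 1) = 1 := by
    have h := Choose.choose_modEq_choose_mod_mul_choose_div_nat (p := p + 1) (n := (p + 1) * c' + p) (k := p)
    rw [Nat.mul_add_mod, Nat.mod_eq_of_lt (Nat.lt_succ_self p), Nat.choose_self,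
      Nat.div_eq_of_lt (Nat.lt_succ_self p), Nat.choose_zero_right, mul_one] at h
    exact Nat.mod_eq_of_modEq h hq.one_lt
  have h1 : ind (x ^ (p + 1)) ∣ (p + 1) * (c' + 1) := hc ▸ ind_pow_dvd x (p + 1)
  have hch : Nat.choose (ind x) (p + 1) = (c' + 1) * Nat.choose ((p + 1) * c' + p) p := by
    have h := Nat.add_one_mul_choose_eq ((p + 1) * c' + p) p
    rw [hd]
    refine Nat.eq_of_mul_eq_mul_right (Nat.succ_pos p) (h.symm.trans ?_)
    rw [Nat.succ_eq_add_one]
    ring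
  have h2 : ind (x ^ (p + 1)) ∣ (c' + 1) * Nat.choose ((p + 1) * c' + p) p :=
    hch ▸ ind_pow_dvd_choose x (p + 1)
  have hco : Nat.gcd (p + 1) (Nat.choose ((p + 1) * c' + p) p) = 1 := by
    rw [Nat.gcd_rec, hu]
    exact Nat.gcd_one_left _
  have := Nat.dvd_gcd h1 h2
  rw [mul_comm (p + 1) (c' + 1), Nat.gcd_mul_left, hco, mul_one] at this
  exact this

/-- The index of `x ^ g` divides the index of `x` divided by `g`. -/
theorem ind_pow_dvd_div (x : Br k) : ∀ g : ℕ, ∀ c : ℕ, ind x = g * c → ind (x ^ g) ∣ c := by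
  intro g
  induction g using Nat.strong_induction_on with
  | _ g ih =>
    intro c hc
    rcases eq_or_ne g 1 with rfl | hg1
    · rw [pow_one, hc, one_mul]
    obtain ⟨q, hq, g', rfl⟩ := Nat.exists_prime_and_dvd hg1
    have hg' : 0 < g' := Nat.pos_of_ne_zero fun h => ind_ne_zero x (by rw [hc, h, mul_zero, zero_mul])
    have hy : ind (x ^ g') ∣ q * c :=
      ih g' ((Nat.lt_mul_iff_one_lt_left hg').2 hq.one_lt) (q * c) (by rw [hc]; ring)
    rw [mul_comm q g', pow_mul]
    by_cases hqy : q ∣ ind (x ^ g')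
    · obtain ⟨d, hd⟩ := hqy
      rw [hd] at hy
      exact (ind_pow_prime_dvd _ hq hd).trans ((Nat.mul_dvd_mul_iff_left hq.pos).1 hy)
    · exact (ind_pow_dvd _ q).trans (((hq.coprime_iff_not_dvd.2 hqy).symm).dvd_of_dvd_mul_left hy)

/-- Powers of a class whose period is its index. -/
theorem ind_pow_of_orderOf_eq (x : Br k) (h : orderOf x = ind x) (m : ℕ) :
    ind (x ^ m) = ind x / Nat.gcd (ind x) m := by
  have hd0 : 0 < ind x := Nat.pos_of_ne_zero (ind_ne_zero x)
  set g := Nat.gcd (ind x) m with hgdef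
  have hg0 : 0 < g := Nat.gcd_pos_of_pos_left m hd0
  obtain ⟨c, hc⟩ : g ∣ ind x := Nat.gcd_dvd_left _ _
  obtain ⟨a, ha⟩ : g ∣ m := Nat.gcd_dvd_right _ _
  rw [hc, Nat.mul_div_cancel_left _ hg0]
  have h1 : ind (x ^ g) = c := by
    refine Nat.dvd_antisymm (ind_pow_dvd_div x g c hc) ?_
    have h2 : orderOf (x ^ g) ∣ ind (x ^ g) := orderOf_dvd_of_pow_eq_one (pow_ind_eq_one _)
    rw [orderOf_pow' x hg0.ne', h, hc, Nat.gcd_mul_right_left, Nat.mul_div_cancel_left _ hg0] at h2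
    exact h2
  have hco : a.Coprime (ind (x ^ g)) := by
    rw [h1]
    refine (Nat.coprime_iff_gcd_eq_one.2 (Nat.eq_of_mul_eq_mul_left hg0 ?_)).symm
    rw [mul_one, ← Nat.gcd_mul_left, ← hc, ← ha]
  rw [ha, pow_mul, ind_pow_eq_of_coprime hco, h1]

end Groth.Agent.KS29
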