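import Groth.Agent.Lib.KS29.SBEnd
import Groth.Agent.Lib.KS29.IndexNum
import Groth.Agent.Lib.TwPow29.Basic
import Groth.Agent.Lib.TensorMod.Hom
import Groth.Agent.Lib.PicSep22.Main

/-!
# The Brauer classes of indecomposable isotypical modules
-/

set_option autoImplicit false
set_option linter.style.haveILetI false
set_option linter.unusedSectionVars false
set_option backward.isDefEq.respectTransparency false
set_option backward.isDefEq.respectTransparency.types false
set_option maxHeartbeats 800000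

universe u

open CategoryTheory CategoryTheory.Limits AlgebraicGeometry TensorProduct

noncomputable section

namespace Groth.Agent.KS29

open Groth.Agent W4c1astiltbs12 Brauer25

attribute [local instance] Abelian.hasFiniteBiproducts

variable {k : Type u} [Field k] {X : Scheme.{u}} (f : X ⟶ Spec (CommRingCat.of k))

section tensor

variable (M N : X.Modules)

/-- `End M → End (M ⊗ N)`. -/
def tensL : EndA f M →ₐ[k] EndA f (CohB1.tensorMod M N) where
  toFun g := M2.tensorMap (g : M ⟶ M) (𝟙 N)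
  map_one' := M2.tensorMap_id M N
  map_mul' g h := by
    show M2.tensorMap ((h : M ⟶ M) ≫ (g : M ⟶ M)) (𝟙 N) = M2.tensorMap (h : M ⟶ M) (𝟙 N) ≫ M2.tensorMap (g : M ⟶ M) (𝟙 N)
    rw [← M2.tensorMap_comp, Category.comp_id]
  map_zero' := by
    show M2.tensorMap (0 : M ⟶ M) (𝟙 N) = 0
    refine M2.tensorMod_hom_ext fun U s t => ?_
    rw [M2.tensorMap_tsec]
    have h := M2.tsec_add_left (M := M) (N := N) (0 : Γ(M, U)) 0 t
    rw [add_zero] at h
    show M2.tsec M N 0 t = 0
    exact left_eq_add.1 h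
  map_add' g h := by
    show M2.tensorMap ((g : M ⟶ M) + (h : M ⟶ M)) (𝟙 N) = M2.tensorMap (g : M ⟶ M) (𝟙 N) + M2.tensorMap (h : M ⟶ M) (𝟙 N)
    refine M2.tensorMod_hom_ext fun U s t => ?_
    show _ = (M2.tensorMap (g : M ⟶ M) (𝟙 N)).app U (M2.tsec M N s t) + (M2.tensorMap (h : M ⟶ M) (𝟙 N)).app U (M2.tsec M N s t)
    rw [M2.tensorMap_tsec, M2.tensorMap_tsec, M2.tensorMap_tsec, ← M2.tsec_add_left]
    rfl
  commutes' c := by
    show M2.tensorMap (sck f M c) (𝟙 N) = sck f (CohB1.tensorMod M N) c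
    refine M2.tensorMod_hom_ext fun U s t => ?_
    rw [sck, sck, M2.tensorMap_tsec, KLin.smulModΓ_app_apply, KLin.smulModΓ_app_apply, M2.tsec_smul_left]
    rfl

/-- `End N → End (M ⊗ N)`. -/
def tensR : EndA f N →ₐ[k] EndA f (CohB1.tensorMod M N) where
  toFun g := M2.tensorMap (𝟙 M) (g : N ⟶ N)
  map_one' := M2.tensorMap_id M N
  map_mul' g h := by
    show M2.tensorMap (𝟙 M) ((h : N ⟶ N) ≫ (g : N ⟶ N)) = M2.tensorMap (𝟙 M) (h : N ⟶ N) ≫ M2.tensorMap (𝟙 M) (g : N ⟶ N)
    rw [← M2.tensorMap_comp, Category.comp_id]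
  map_zero' := by
    show M2.tensorMap (𝟙 M) (0 : N ⟶ N) = 0
    refine M2.tensorMod_hom_ext fun U s t => ?_
    rw [M2.tensorMap_tsec]
    have h := M2.tsec_add_right (M := M) (N := N) s (0 : Γ(N, U)) 0
    rw [add_zero] at h
    show M2.tsec M N s 0 = 0
    exact left_eq_add.1 h
  map_add' g h := by
    show M2.tensorMap (𝟙 M) ((g : N ⟶ N) + (h : N ⟶ N)) = M2.tensorMap (𝟙 M) (g : N ⟶ N) + M2.tensorMap (𝟙 M) (h : N ⟶ N)
    refine M2.tensorMod_hom_ext fun U s t => ?_
    show _ = (M2.tensorMap (𝟙 M) (g : N ⟶ N)).app U (M2.tsec M N s t) + (M2.tensorMap (𝟙 M) (h : N ⟶ N)).app U (M2.tsec M N s t)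
    rw [M2.tensorMap_tsec, M2.tensorMap_tsec, M2.tensorMap_tsec, ← M2.tsec_add_right]
    rfl
  commutes' c := by
    show M2.tensorMap (𝟙 M) (sck f N c) = sck f (CohB1.tensorMod M N) c
    refine M2.tensorMod_hom_ext fun U s t => ?_
    rw [sck, sck, M2.tensorMap_tsec, KLin.smulModΓ_app_apply, KLin.smulModΓ_app_apply, M2.tsec_smul_right]
    rfl

/-- `End M ⊗ End N → End (M ⊗ N)`. -/
def tensEnd : EndA f M ⊗[k] EndA f N →ₐ[k] EndA f (CohB1.tensorMod M N) :=
  Algebra.TensorProduct.lift (tensL f M N) (tensR f M N) fun g h => by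
    show M2.tensorMap (𝟙 M) (h : N ⟶ N) ≫ M2.tensorMap (g : M ⟶ M) (𝟙 N) =
      M2.tensorMap (g : M ⟶ M) (𝟙 N) ≫ M2.tensorMap (𝟙 M) (h : N ⟶ N)
    rw [← M2.tensorMap_comp, ← M2.tensorMap_comp]
    simp only [Category.comp_id, Category.id_comp]

end tensor

variable {K : Type u} [Field K] [Algebra k K] [IsProper f] {q : ℕ} (e : BrSev.Splitting f K q)

theorem isCoh_of_flf (f : X ⟶ Spec (CommRingCat.of k)) [IsProper f] {M : X.Modules} (hM : FlatMod.IsFinLocFree M) : Coh.IsCoh M :=
  haveI := CohFound.isNoetherian_of_isProper f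
  CohFound.isCoh_of_isFinLocFree hM

theorem not_isZero_of_twPow {j : ℤ} {r : ℕ} (hr : 0 < r) {M : X.Modules}
    (hMt : BrSev.IsTwPow e j r M) : ¬ IsZero M := fun h => by
  haveI : (Scheme.Modules.pullback (BrSev.proj f K)).Additive :=
    (Scheme.Modules.pullbackPushforwardAdjunction (BrSev.proj f K)).left_adjoint_additive
  exact (indec_twist e j).1 ((Dec.ofCoproduct.trans hMt.some.symm).isZero_summand
    (Functor.map_isZero (Scheme.Modules.pullback (BrSev.proj f K)) h) ⟨0, hr⟩)

/-- The chosen indecomposable module of type `j`. -/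
def indW (j : ℤ) : X.Modules := (exists_indec_twPow e j).choose

theorem indW_spec (j : ℤ) : ∃ r : ℕ, FlatMod.IsFinLocFree (indW f e j) ∧ Indec (indW f e j) ∧ 0 < r ∧
    BrSev.IsTwPow e j r (indW f e j) := (exists_indec_twPow e j).choose_spec

theorem indW_csa (j : ℤ) : Algebra.IsCentral k (EndA f (indW f e j)) ∧ IsSimpleRing (EndA f (indW f e j)) ∧
    FiniteDimensional k (EndA f (indW f e j)) := by
  obtain ⟨r, hW, -, hr, hWt⟩ := indW_spec f e j
  exact isCSA_endA f e hr (isCoh_of_flf f hW) hWt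

/-- The Brauer class of type `j`. -/
def chi (j : ℤ) : Br k :=
  haveI := (indW_csa f e j).1
  haveI := (indW_csa f e j).2.1
  haveI := (indW_csa f e j).2.2
  cls (k := k) (EndA f (indW f e j))

variable [Algebra.IsAlgebraic k K]

/-- Every isotypical module gives the same class. -/
theorem cls_endA_eq_chi {j : ℤ} {r : ℕ} (hr : 0 < r) {M : X.Modules} (hM : FlatMod.IsFinLocFree M)
    (hMt : BrSev.IsTwPow e j r M) [Algebra.IsCentral k (EndA f M)] [IsSimpleRing (EndA f M)]
    [FiniteDimensional k (EndA f M)] : cls (k := k) (EndA f M) = chi f e j := by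
  haveI := (indW_csa f e j).1
  haveI := (indW_csa f e j).2.1
  haveI := (indW_csa f e j).2.2
  have hMc := isCoh_of_flf f hM
  obtain ⟨G, t, hG, hGi, ⟨θ⟩⟩ := (exists_pow_indec f hM (not_isZero_of_twPow f e hr hMt)
    (indec_twist e j) hMt.some).1
  let dG : Dec M (fun _ : Fin t => G) := Dec.ofCoproduct.trans θ.symm
  have ht : t ≠ 0 := by
    rintro rfl
    exact not_isZero_of_twPow f e hr hMt dG.isZero
  obtain ⟨m, σ, ⟨ψ⟩⟩ := exists_summand_bc hMc dG (Dec.ofCoproduct.trans hMt.some.symm)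
    (fun _ => indec_twist e j) ⟨0, Nat.pos_of_ne_zero ht⟩
  obtain ⟨r₀, hW, hWi, hr₀, hWt⟩ := indW_spec f e j
  obtain ⟨ι⟩ := indec_unique f (isCoh_of_flf f hG) (isCoh_of_flf f hW) hGi hWi ψ hWt.some
  exact cls_of_matrix ht (decMatEquiv f (dG.congr fun _ => ι))

/-- The index of the class is the multiplicity of the indecomposable module. -/
theorem ind_chi {j : ℤ} {r : ℕ} (hr : 0 < r) {M : X.Modules} (hM : FlatMod.IsFinLocFree M) (hMi : Indec M)
    (hMt : BrSev.IsTwPow e j r M) : ind (chi f e j) = r := by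
  have hMc := isCoh_of_flf f hM
  obtain ⟨h1, h2, h3⟩ := isCSA_endA f e hr hMc hMt
  haveI := h1
  haveI := h2
  haveI := h3
  haveI : IsSimpleRing (End M) := h2
  have hu : ∀ g : EndA f M, IsUnit g ∨ g = 0 := fun g => by
    refine or_iff_not_imp_right.2 fun hg => ?_
    haveI := isIso_of_ne_zero f hMc hMi (g : M ⟶ M) hg
    exact (isUnit_iff_isIso (g : M ⟶ M)).2 this
  rw [← cls_endA_eq_chi f e hr hM hMt]
  letI : DivisionRing (EndA f M) := DivisionRing.ofIsUnitOrEqZero hu
  exact ind_cls_eq (finrank_endA f e hMc hMt)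

theorem chi_add (j l : ℤ) : chi f e (j + l) = chi f e j * chi f e l := by
  obtain ⟨r, hW, -, hr, hWt⟩ := indW_spec f e j
  obtain ⟨s, hW', -, hs, hW't⟩ := indW_spec f e l
  haveI := (indW_csa f e j).1
  haveI := (indW_csa f e j).2.1
  haveI := (indW_csa f e j).2.2
  haveI := (indW_csa f e l).1
  haveI := (indW_csa f e l).2.1
  haveI := (indW_csa f e l).2.2
  have hP : FlatMod.IsFinLocFree (CohB1.tensorMod (indW f e j) (indW f e l)) :=
    M2.isFinLocFree_tensor hW hW'
  have hPt := TwPow29.isTwPow_tensorMod e j l r s _ _ hWt hW't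
  have hPc := isCoh_of_flf f hP
  obtain ⟨h1, h2, h3⟩ := isCSA_endA f e (Nat.mul_pos hr hs) hPc hPt
  haveI := h1
  haveI := h2
  haveI := h3
  have hfin : Module.finrank k (EndA f (indW f e j) ⊗[k] EndA f (indW f e l)) =
      Module.finrank k (EndA f (CohB1.tensorMod (indW f e j) (indW f e l))) := by
    rw [Module.finrank_tensorProduct, finrank_endA f e (isCoh_of_flf f hW) hWt,
      finrank_endA f e (isCoh_of_flf f hW') hW't, finrank_endA f e hPc hPt, mul_pow]
  have hinj : Function.Injective (tensEnd f (indW f e j) (indW f e l)).toRingHom :=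
    RingHom.injective _
  have hbij : Function.Bijective (tensEnd f (indW f e j) (indW f e l)) :=
    ⟨hinj, (LinearMap.injective_iff_surjective_of_finrank_eq_finrank
      (f := (tensEnd f (indW f e j) (indW f e l)).toLinearMap) hfin).1 hinj⟩
  rw [← cls_endA_eq_chi f e (Nat.mul_pos hr hs) hP hPt]
  show _ = cls (k := k) (EndA f (indW f e j)) * cls (k := k) (EndA f (indW f e l))
  rw [cls_mul]
  exact (cls_congr (AlgEquiv.ofBijective _ hbij)).symm

/-- The classes form a homomorphism. -/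
def chiHom : Multiplicative ℤ →* Br k where
  toFun j := chi f e j.toAdd
  map_one' := by
    have h := chi_add f e 0 0
    rw [add_zero] at h
    exact left_eq_mul.1 h
  map_mul' a b := chi_add f e a.toAdd b.toAdd

theorem chi_eq_zpow (j : ℤ) : chi f e j = chi f e 1 ^ j := by
  have h : chiHom f e (Multiplicative.ofAdd (1 : ℤ) ^ j) = chiHom f e (Multiplicative.ofAdd 1) ^ j := map_zpow _ _ _
  rw [← ofAdd_zsmul, zsmul_one] at h
  simpa [chiHom] using h

theorem chi_neg (j : ℤ) : chi f e (-j) = (chi f e j)⁻¹ := by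
  rw [chi_eq_zpow f e (-j), chi_eq_zpow f e j, zpow_neg]

omit [Algebra.IsAlgebraic k K] in
theorem surjective_proj : Surjective (BrSev.proj f K) := by
  haveI : Surjective (Spec.map (CommRingCat.ofHom (algebraMap k K))) :=
    ⟨fun x => ⟨⟨⊥, Ideal.isPrime_bot⟩, Subsingleton.elim _ _⟩⟩
  exact MorphismProperty.pullback_fst (P := @Surjective) _ _ ‹_›

omit [Algebra.IsAlgebraic k K] in
theorem isInvertible_of_twPow_one {j : ℤ} {M : X.Modules} (hM : FlatMod.IsFinLocFree M)
    (hMt : BrSev.IsTwPow e j 1 M) : PicF.IsInvertible M := by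
  haveI := surjective_proj f (K := K)
  let d : Dec (BrSev.bcMod f K M) (fun _ : Fin 1 => e.twist j) := Dec.ofCoproduct.trans hMt.some.symm
  exact PicSep22.isInvertible_of_pullback_iso (BrSev.proj f K) hM (isInvertible_twist e j)
    ⟨d.prj 0, d.inj 0, by simpa using d.total, d.inj_prj 0⟩

end Groth.Agent.KS29
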