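import Groth.Agent.Lib.KS29.SBMain
import Groth.Agent.Lib.KS29.SBIndex

/-!
# The classes of isotypical modules on a Severi–Brauer scheme are the powers of the class of the algebra
-/

set_option autoImplicit false
set_option linter.style.haveILetI false
set_option linter.unusedSectionVars false
set_option backward.isDefEq.respectTransparency false
set_option backward.isDefEq.respectTransparency.types false

universe u

open CategoryTheory CategoryTheory.Limits AlgebraicGeometry TensorProduct

noncomputable section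

namespace Groth.Agent.KS29

open Groth.Agent Brauer25

variable {k : Type u} [Field k] {A : Type u} [Ring A] [Algebra k A]
  [Algebra.IsCentral k A] [IsSimpleRing A] [FiniteDimensional k A]
variable {X : Scheme.{u}} {f : X ⟶ Spec (CommRingCat.of k)} [IsProper f]
variable {K : Type u} [Field K] [Algebra k K] [IsAlgClosure k K] {n : ℕ}

theorem finite_of_finrank (hn : 0 < n) {B : Type u} [Ring B] [Algebra k B]
    (hB : Module.finrank k B = n * n) : FiniteDimensional k B :=
  FiniteDimensional.of_finrank_pos (by rw [hB]; exact Nat.mul_pos hn hn)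

theorem chi_one_eq (hn : 0 < n) (hA : Module.finrank k A = n * n) (hX : BrSev.IsSBOf k A (n * n - n) f)
    (e : BrSev.Splitting f K (n - 1)) :
    ∃ s : ℤ, (s = 1 ∨ s = -1) ∧ chi f e 1 = cls (k := k) A ^ s := by
  haveI : IsAlgClosed K := IsAlgClosure.isAlgClosed k
  obtain ⟨T, ρ, j, hT, hj, hTt, hρ⟩ := exists_tautBundle hn hA hX e
  have hTf := M2.isFinLocFree_of_ofRank hT
  have hTc := isCoh_of_flf f hTf
  obtain ⟨h1, h2, h3⟩ := isCSA_endA f e hn hTc hTt
  haveI := h1
  haveI := h2
  haveI := h3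
  let φ : A →ₐ[k] EndA f T := { toRingHom := (ρ : A →+* EndA f T), commutes' := hρ }
  have hfin : Module.finrank k A = Module.finrank k (EndA f T) := by
    rw [hA, finrank_endA f e hTc hTt, sq]
  have hinj : Function.Injective φ := RingHom.injective φ.toRingHom
  have hbij : Function.Bijective φ :=
    ⟨hinj, (LinearMap.injective_iff_surjective_of_finrank_eq_finrank (f := φ.toLinearMap) hfin).1 hinj⟩
  have h : cls (k := k) A = chi f e 1 ^ j := by
    rw [← chi_eq_zpow, ← cls_endA_eq_chi f e hn hTf hTt]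
    exact cls_congr (AlgEquiv.ofBijective φ hbij)
  rcases hj with rfl | rfl
  · exact ⟨1, Or.inl rfl, by rw [h, zpow_one, zpow_one]⟩
  · exact ⟨-1, Or.inr rfl, by rw [h, zpow_neg_one, zpow_neg_one, inv_inv]⟩

theorem ind_chi_eq (hn : 0 < n) (hA : Module.finrank k A = n * n) (hX : BrSev.IsSBOf k A (n * n - n) f)
    (e : BrSev.Splitting f K (n - 1)) (j : ℤ) :
    ind (chi f e j) = ind (cls (k := k) A ^ j.natAbs) := by
  obtain ⟨s, hs, h⟩ := chi_one_eq hn hA hX e
  have key : ∀ i : ℤ, ind (cls (k := k) A ^ i) = ind (cls (k := k) A ^ i.natAbs) := fun i => by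
    rcases Int.natAbs_eq i with hi | hi
    · conv_lhs => rw [hi, zpow_natCast]
    · conv_lhs => rw [hi, zpow_neg, zpow_natCast, ind_inv]
  rw [chi_eq_zpow, h, ← zpow_mul, key]
  rcases hs with rfl | rfl <;> simp

theorem multiplicity_eq (hn : 0 < n) (hA : Module.finrank k A = n * n) (hX : BrSev.IsSBOf k A (n * n - n) f)
    (e : BrSev.Splitting f K (n - 1)) {W : X.Modules} (hW : FlatMod.IsFinLocFree W) (hWi : Indec W)
    {j : ℤ} {r : ℕ} (hr : 0 < r) (hWt : BrSev.IsTwPow e j r W) :
    r = ind (cls (k := k) A ^ j.natAbs) := by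
  rw [← ind_chi_eq hn hA hX e j, ind_chi f e hr hW hWi hWt]

theorem ind_dvd_degree (hA : Module.finrank k A = n * n) : ind (cls (k := k) A) ∣ n := by
  obtain ⟨m, hm, D, _, _, _, _, ⟨e⟩⟩ := CSAlg.exists_algEquiv_matrix_central_divisionRing (k := k) A
  obtain ⟨d, -, hd⟩ := exists_finrank_sq (k := k) D
  rw [ind_cls_of_matrix e hd]
  refine ⟨m, Nat.mul_self_inj.1 ?_⟩
  rw [← hA, e.toLinearEquiv.finrank_eq, Module.finrank_matrix, Fintype.card_fin, hd]
  ring

theorem pow_natAbs_add_mul {G : Type*} [CommGroup G] (x : G) (p : ℕ) (hp : x ^ p = 1) (j a : ℤ) :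
    x ^ (j + a * (p : ℤ)) = x ^ j := by
  rw [zpow_add, mul_comm a, zpow_mul, zpow_natCast, hp, one_zpow, mul_one]

end Groth.Agent.KS29

namespace Groth.Agent.KS29

open Groth.Agent Brauer25

theorem ind_zpow {k : Type u} [Field k] (x : Br k) (i : ℤ) : ind (x ^ i) = ind (x ^ i.natAbs) := by
  rcases Int.natAbs_eq i with hi | hi
  · conv_lhs => rw [hi, zpow_natCast]
  · conv_lhs => rw [hi, zpow_neg, zpow_natCast, ind_inv]

end Groth.Agent.KS29
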