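import Groth.Agent.Lib.KS29.FFUp
import Groth.Agent.Lib.KS29.FFAlg
import Groth.Agent.Lib.KS29.SBClass
import Groth.Agent.Lib.SquareNC14.Square

/-!
# Classes split by the function field of a form of projective space
-/

set_option autoImplicit false
set_option linter.style.haveILetI false
set_option linter.unusedSectionVars false
set_option backward.isDefEq.respectTransparency false
set_option backward.isDefEq.respectTransparency.types false
set_option maxHeartbeats 800000

universe u

open CategoryTheory CategoryTheory.Limits AlgebraicGeometry TensorProduct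

noncomputable section

namespace Groth.Agent.KS29

open Groth.Agent Matrix W4c1astiltbs12

attribute [local instance] Abelian.hasFiniteBiproducts

variable {k : Type u} [Field k] {X : Scheme.{u}} [IsIntegral X] [IsLocallyNoetherian X] [X.IsSeparated]
  (f : X ⟶ Spec (CommRingCat.of k))
variable {B : Type u} [Ring B] [Algebra k B] [Algebra.IsCentral k B] [IsSimpleRing B] [FiniteDimensional k B]
variable {N m : ℕ} (β : Module.Basis (Fin N) k B) (hN : N = (m + 1) * (m + 1))

/-- The equations of the lattice of a splitting over the function field. -/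
def ffEq [Algebra k X.functionField] (ψ : B →ₐ[k] Matrix (Fin (m + 1)) (Fin (m + 1)) X.functionField) :
    Matrix (Fin N) (Fin N) X.functionField :=
  LinearMap.toMatrix' ((LinearEquiv.ofBijective (coordMap ψ β) (bijective_coordMap ψ β hN)).symm.toLinearMap ∘ₗ
    (LinearMap.mulRight X.functionField (1 - Matrix.single 0 0 1)) ∘ₗ coordMap ψ β)

variable [Algebra k X.functionField] (ψ : B →ₐ[k] Matrix (Fin (m + 1)) (Fin (m + 1)) X.functionField)

theorem coordMap_ffEq (c : Fin N → X.functionField) :
    coordMap ψ β (ffEq β hN ψ *ᵥ c) = coordMap ψ β c * (1 - Matrix.single 0 0 1) := by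
  rw [ffEq, ← Matrix.toLin'_apply, Matrix.toLin'_toMatrix', LinearMap.comp_apply, LinearMap.comp_apply,
    LinearEquiv.coe_coe]
  exact (LinearEquiv.ofBijective (coordMap ψ β) (bijective_coordMap ψ β hN)).apply_symm_apply _

theorem ffEq_comm (hk : algebraMap k X.functionField = kF f) (x : B) :
    ffEq β hN ψ * (Algebra.leftMulMatrix β x).map (kF f) = (Algebra.leftMulMatrix β x).map (kF f) * ffEq β hN ψ := by
  classical
  refine Matrix.ext_iff_mulVec.2 fun c => (bijective_coordMap ψ β hN).1 ?_
  rw [← hk, ← Matrix.mulVec_mulVec, ← Matrix.mulVec_mulVec, coordMap_ffEq, coordMap_leftMul, coordMap_leftMul,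
    coordMap_ffEq, mul_assoc]

variable {K : Type u} [Field K] [Algebra k K]

theorem isInvertible_ffPiece [IsIntegral (W4bk4gw11416.baseChange f K)] [Flat (proj f K)] [Surjective (proj f K)]
    [IsLocallyNoetherian (W4bk4gw11416.baseChange f K)]
    (hufd : ∀ y : W4bk4gw11416.baseChange f K,
      UniqueFactorizationMonoid ((W4bk4gw11416.baseChange f K).presheaf.stalk y))
    (hk : algebraMap k X.functionField = kF f) (φ : K ⊗[k] B ≃ₐ[K] Matrix (Fin (m + 1)) (Fin (m + 1)) K) :
    ∃ ρ : Matrix (Fin (m + 1)) (Fin (m + 1)) K →+* End (bcMod f K (lat (ffEq β hN ψ))),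
      PicF.IsInvertible (rowMod ρ) := by
  classical
  let A := ffEq β hN ψ
  let L := Algebra.leftMulMatrix β
  let r := latRho f A L (ffEq_comm f β hN ψ hk)
  letI : Algebra K (End (bcMod f K (lat A))) :=
    RingHom.toAlgebra' (scHom f (bcMod f K (lat A))) fun c x => comp_sc f (x : bcMod f K (lat A) ⟶ _) c
  letI : Algebra k (End (bcMod f K (lat A))) :=
    RingHom.toAlgebra' ((scHom f (bcMod f K (lat A))).comp (algebraMap k K))
      fun c x => comp_sc f (x : bcMod f K (lat A) ⟶ _) _
  haveI : IsScalarTower k K (End (bcMod f K (lat A))) := IsScalarTower.of_algebraMap_eq fun _ => rfl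
  let r' : B →ₐ[k] End (bcMod f K (lat A)) :=
    { toRingHom := (bcEnd f (lat A)).comp r.toRingHom
      commutes' := fun c => by
        show (Scheme.Modules.pullback (proj f K)).map (r (algebraMap k B c) : lat A ⟶ lat A) = _
        rw [AlgHom.commutes]
        show (Scheme.Modules.pullback (proj f K)).map (sck f (lat A) c) = _
        rw [pullback_map_sck]
        rfl }
  let R : K ⊗[k] B →ₐ[K] End (bcMod f K (lat A)) :=
    Algebra.TensorProduct.lift (Algebra.ofId K _) r' fun a _ => Algebra.commutes a _
  let Lam : K ⊗[k] B →ₐ[K] Matrix (Fin N) (Fin N) K :=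
    Algebra.TensorProduct.lift (Algebra.ofId K _) ((Algebra.ofId k K).mapMatrix.comp L) fun a _ => Algebra.commutes a _
  have hform : ∀ (z : K ⊗[k] B) (i : Fin N), (R z : bcMod f K (lat A) ⟶ bcMod f K (lat A)) ≫ bcForm f A i =
      ∑ l, bcForm f A l ≫ sc f K (Coh.structureModule _) (Lam z i l) := by
    intro z i
    induction z using TensorProduct.induction_on with
    | zero =>
      simp only [map_zero]
      show (0 : bcMod f K (lat A) ⟶ bcMod f K (lat A)) ≫ bcForm f A i = _
      rw [zero_comp]
      refine (Finset.sum_eq_zero fun l _ => ?_).symm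
      rw [Matrix.zero_apply, sc, map_zero, KLin.smulModΓ_zero, comp_zero]
    | add a b ha hb =>
      simp only [map_add]
      show ((R a : bcMod f K (lat A) ⟶ bcMod f K (lat A)) + R b) ≫ bcForm f A i = _
      rw [Preadditive.add_comp, ha, hb, ← Finset.sum_add_distrib]
      exact Finset.sum_congr rfl fun l _ => by rw [Matrix.add_apply, sc_add, Preadditive.comp_add]
    | tmul a x =>
      have hR : (R (a ⊗ₜ x) : bcMod f K (lat A) ⟶ bcMod f K (lat A)) =
          (Scheme.Modules.pullback (proj f K)).map (latEnd f A (L x) (ffEq_comm f β hN ψ hk x)) ≫ sc f K _ a := by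
        rw [Algebra.TensorProduct.lift_tmul]
        rfl
      have hL : ∀ l, Lam (a ⊗ₜ x) i l = a * algebraMap k K (L x i l) := fun l => by
        rw [Algebra.TensorProduct.lift_tmul, Algebra.ofId_apply, ← Algebra.smul_def, Matrix.smul_apply, smul_eq_mul]
        rfl
      haveI : (Scheme.Modules.pullback (proj f K)).Additive :=
        (Scheme.Modules.pullbackPushforwardAdjunction (proj f K)).left_adjoint_additive
      rw [hR, Category.assoc, ← comp_sc, bcForm, pullForm, ← Category.assoc, ← Category.assoc, ← Functor.map_comp,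
        latEnd_form, Functor.map_sum, Preadditive.sum_comp, Preadditive.sum_comp]
      refine Finset.sum_congr rfl fun l _ => ?_
      rw [hL]
      simp only [Functor.map_comp, pullback_map_sck, Category.assoc, bcForm, pullForm]
      congr 1
      rw [← Category.assoc, ← comp_sc, Category.assoc, ← sc_mul, mul_comm a]
  let ρ : Matrix (Fin (m + 1)) (Fin (m + 1)) K →+* End (bcMod f K (lat A)) :=
    R.toRingHom.comp φ.symm.toRingEquiv.toRingHom
  refine ⟨ρ, ?_⟩
  let τ := ffMap (proj f K)
  letI : Algebra K (W4bk4gw11416.baseChange f K).functionField := (kL f).toAlgebra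
  letI : Algebra k (W4bk4gw11416.baseChange f K).functionField := ((kL f).comp (algebraMap k K)).toAlgebra
  haveI : IsScalarTower k K (W4bk4gw11416.baseChange f K).functionField := IsScalarTower.of_algebraMap_eq fun _ => rfl
  let ψ' : B →ₐ[k] Matrix (Fin (m + 1)) (Fin (m + 1)) (W4bk4gw11416.baseChange f K).functionField :=
    { toRingHom := τ.mapMatrix.comp ψ.toRingHom
      commutes' := fun c => by
        show (ψ (algebraMap k B c)).map τ = _
        rw [AlgHom.commutes, Matrix.algebraMap_eq_diagonal, Matrix.algebraMap_eq_diagonal,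
          Matrix.diagonal_map (map_zero τ)]
        refine congrArg Matrix.diagonal (funext fun _ => ?_)
        show τ (algebraMap k X.functionField c) = kL f (algebraMap k K c)
        rw [hk, kL_algebraMap] }
  let Th : K ⊗[k] B →ₐ[K] Matrix (Fin (m + 1)) (Fin (m + 1)) (W4bk4gw11416.baseChange f K).functionField :=
    Algebra.TensorProduct.lift (Algebra.ofId K _) ψ' fun a _ => Algebra.commutes a _
  have hA : ∀ c, coordMap ψ' β (A.map τ *ᵥ c) = coordMap ψ' β c * (1 - Matrix.single 0 0 1) := fun c => by
    rw [pi_eq_sum_univ' c]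
    simp only [Matrix.mulVec_sum, Matrix.mulVec_smul, map_sum, map_smul, Finset.sum_mul, Algebra.smul_mul_assoc]
    refine Finset.sum_congr rfl fun l _ => ?_
    congr 1
    have h := congrArg (fun M => τ.mapMatrix M) (coordMap_ffEq β hN ψ (Pi.single l 1))
    rw [show τ.mapMatrix (coordMap ψ β (ffEq β hN ψ *ᵥ Pi.single l 1)) = _ from
      (coordMap_map τ ψ ψ' (fun _ => rfl) β _).symm, coordMap_single] at h
    rw [coordMap_single]
    refine Eq.trans (congrArg (coordMap ψ' β) ?_) (h.trans ?_)
    · funext i
      simp [Matrix.mulVec_single_one, Matrix.map_apply, A]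
    · show τ.mapMatrix (ψ (β l) * (1 - Matrix.single 0 0 1)) = _
      rw [map_mul, map_sub, map_one]
      rw [show τ.mapMatrix (Matrix.single (0 : Fin (m + 1)) (0 : Fin (m + 1)) (1 : X.functionField)) =
        Matrix.single 0 0 1 from by
          ext a b
          simp only [RingHom.mapMatrix_apply, Matrix.map_apply, Matrix.single_apply]
          split_ifs <;> simp]
      rfl
  have hE : ∀ z c, coordMap ψ' β ((Lam z).map (kL f) *ᵥ c) = Th z * coordMap ψ' β c := fun z c => by
    induction z using TensorProduct.induction_on with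
    | zero => simp [Matrix.map_zero _ (map_zero (kL f))]
    | add a b ha hb =>
      rw [map_add, Matrix.map_add _ (map_add (kL f)), Matrix.add_mulVec, map_add, ha, hb, map_add, add_mul]
    | tmul a x =>
      have h1 : (Lam (a ⊗ₜ x)).map (kL f) =
          kL f a • (L x).map (algebraMap k (W4bk4gw11416.baseChange f K).functionField) := by
        rw [Algebra.TensorProduct.lift_tmul, Algebra.ofId_apply, ← Algebra.smul_def]
        ext i l
        exact map_mul (kL f) _ _
      rw [h1, Matrix.smul_mulVec, map_smul, coordMap_leftMul, Algebra.TensorProduct.lift_tmul, Algebra.ofId_apply,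
        ← Algebra.smul_def, Algebra.smul_mul_assoc]
      exact (algebraMap_smul (W4bk4gw11416.baseChange f K).functionField a
        (ψ' x * coordMap ψ' β c : Matrix (Fin (m + 1)) (Fin (m + 1)) (W4bk4gw11416.baseChange f K).functionField))
  let ω : Matrix (Fin (m + 1)) (Fin (m + 1)) K →+*
      Matrix (Fin (m + 1)) (Fin (m + 1)) (W4bk4gw11416.baseChange f K).functionField :=
    Th.toRingHom.comp φ.symm.toRingEquiv.toRingHom
  obtain ⟨V₀, hV0, hV1, hV2, hV3⟩ := exists_line ω
  let Φ := LinearEquiv.ofBijective (coordMap ψ' β) (bijective_coordMap ψ' β hN)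
  have hsol : ∀ c, (A.map τ *ᵥ c = 0 ↔ coordMap ψ' β c * Matrix.single 0 0 1 = coordMap ψ' β c) ∧
      ((Lam (φ.symm (Matrix.single 0 0 1))).map (kL f) *ᵥ c = c ↔
        ω (Matrix.single 0 0 1) * coordMap ψ' β c = coordMap ψ' β c) := fun c => by
    constructor
    · rw [← (bijective_coordMap ψ' β hN).1.eq_iff, hA, map_zero, mul_sub, mul_one, sub_eq_zero, eq_comm]
    · rw [← (bijective_coordMap ψ' β hN).1.eq_iff, hE]
      rfl
  refine isInvertible_fix f A (rh ρ (Matrix.single 0 0 1)) (Lam (φ.symm (Matrix.single 0 0 1))) hufd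
    (fun i => hform _ i) (Φ.symm V₀) ?_ ⟨?_, ?_⟩ ?_
  · intro h
    exact hV0 (by rw [← Φ.apply_symm_apply V₀, h, map_zero])
  · refine (hsol _).1.2 ?_
    rw [show coordMap ψ' β (Φ.symm V₀) = V₀ from Φ.apply_symm_apply V₀, hV1]
  · refine (hsol _).2.2 ?_
    rw [show coordMap ψ' β (Φ.symm V₀) = V₀ from Φ.apply_symm_apply V₀, hV2]
  · intro w hw0 hw1
    obtain ⟨t, ht⟩ := hV3 _ ((hsol w).1.1 hw0) ((hsol w).2.1 hw1)
    exact ⟨t, (bijective_coordMap ψ' β hN).1 (by
      rw [ht, map_smul, show coordMap ψ' β (Φ.symm V₀) = V₀ from Φ.apply_symm_apply V₀])⟩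

end Groth.Agent.KS29
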