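import Groth.Agent.Lib.RefHull26.Rank
import Groth.Agent.Lib.KS29.BaseChange
import Groth.Agent.Lib.LefFEt11.Completion
import Groth.Agent.Lib.TensorMod.PullStalk
import Groth.Agent.Lib.ModLimH13.Flat
import Groth.Agent.Lib.FormalH7.Nbhd
import Groth.Agent.Lib.P1Split17.Basis

/-!
# Coordinates on submodules of free modules
-/

set_option autoImplicit false
set_option linter.style.haveILetI false
set_option linter.unusedSectionVars false
set_option backward.isDefEq.respectTransparency false
set_option backward.isDefEq.respectTransparency.types false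
set_option maxHeartbeats 800000

universe u

open CategoryTheory CategoryTheory.Limits AlgebraicGeometry TopologicalSpace Opposite TensorProduct

noncomputable section

namespace Groth.Agent.KS29

open Groth.Agent

attribute [local instance] Abelian.hasFiniteBiproducts

variable {Y : Scheme.{u}} {N : ℕ} {M : Y.Modules}

/-- A family of linear forms separating sections. -/
def Separating (p : Fin N → (M ⟶ Coh.structureModule Y)) : Prop :=
  ∀ (V : Y.Opens) (s : Γ(M, V)), (∀ i, (p i).app V s = 0) → s = 0

/-- The forms of a submodule of a free module separate. -/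
theorem separating_of_mono (ι : M ⟶ ⨁ fun _ : Fin N => Coh.structureModule Y) [Mono ι] :
    Separating (fun i => ι ≫ biproduct.π (fun _ : Fin N => Coh.structureModule Y) i) := by
  intro V s h
  refine M1.app_injective ι V ?_
  rw [map_zero]
  calc ι.app V s
      = Scheme.Modules.Hom.app (𝟙 (⨁ fun _ : Fin N => Coh.structureModule Y)) V (ι.app V s) := rfl
    _ = Scheme.Modules.Hom.app (∑ i, biproduct.π (fun _ : Fin N => Coh.structureModule Y) i ≫
          biproduct.ι (fun _ : Fin N => Coh.structureModule Y) i) V (ι.app V s) := by rw [biproduct.total]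
    _ = 0 := by
      rw [P1Split.app_sum]
      refine Finset.sum_eq_zero fun i _ => ?_
      show (biproduct.ι (fun _ : Fin N => Coh.structureModule Y) i).app V
        ((ι ≫ biproduct.π (fun _ : Fin N => Coh.structureModule Y) i).app V s) = 0
      rw [h i, map_zero]

/-- The stalk coordinates. -/
def stCo (p : Fin N → (M ⟶ Coh.structureModule Y)) (y : Y) :
    M.presheaf.stalk y →ₗ[Y.presheaf.stalk y] (Fin N → Y.presheaf.stalk y) :=
  LinearMap.pi fun i => (RH26.str y).symm.toLinearMap ∘ₗ RefHull.stalkMapₗ (p i) y

theorem stCo_germ (p : Fin N → (M ⟶ Coh.structureModule Y)) {V : Y.Opens} {y : Y} (hy : y ∈ V) (s : Γ(M, V))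
    (i : Fin N) : stCo p y (M.presheaf.germ V y hy s) i =
      Y.presheaf.germ V y hy (show Γ(Y, V) from (p i).app V s) := by
  show (RH26.str y).symm (RefHull.stalkMapₗ (p i) y (M.presheaf.germ V y hy s)) = _
  rw [RefHull.stalkMapₗ_germ, RH26.str_symm_germ]

theorem stCo_injective {p : Fin N → (M ⟶ Coh.structureModule Y)} (hp : Separating p) (y : Y) :
    Function.Injective (stCo p y) := by
  classical
  refine (injective_iff_map_eq_zero _).2 fun a ha => ?_
  obtain ⟨V, hy, s, rfl⟩ := M.presheaf.exists_germ_eq a
  have hW : ∀ i, ∃ W : Y.Opens, ∃ hW : W ≤ V, y ∈ W ∧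
      Y.presheaf.map (homOfLE hW).op (show Γ(Y, V) from (p i).app V s) = 0 := fun i => by
    have h := (stCo_germ p hy s i).symm.trans (congrFun ha i)
    obtain ⟨W, hyW, i₁, i₂, he⟩ := Y.presheaf.germ_eq y hy hy (show Γ(Y, V) from (p i).app V s) 0
      (h.trans (map_zero _).symm)
    exact ⟨W, i₁.le, hyW, he.trans (map_zero _)⟩
  choose W hWV hyW hW0 using hW
  let U : Y.Opens := Finset.univ.inf W ⊓ V
  have hyU : y ∈ U := by
    refine ⟨?_, hy⟩
    have key : ∀ t : Finset (Fin N), y ∈ t.inf W := fun t => by
      induction t using Finset.induction with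
      | empty => simp only [Finset.inf_empty]; trivial
      | insert a t _ ih => rw [Finset.inf_insert]; exact ⟨hyW a, ih⟩
    exact key _
  have h0 : M1.mres M (inf_le_right : U ≤ V) s = 0 := hp U _ fun i => by
    rw [M1.app_mres]
    show Y.presheaf.map (homOfLE (inf_le_right : U ≤ V)).op (show Γ(Y, V) from (p i).app V s) = 0
    have e : (homOfLE (inf_le_right : U ≤ V)).op = (homOfLE (hWV i)).op ≫
        (homOfLE (inf_le_left.trans (Finset.inf_le (Finset.mem_univ i)) : U ≤ W i)).op :=
      Subsingleton.elim _ _
    rw [e, Functor.map_comp, CommRingCat.comp_apply, hW0, map_zero]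
  calc M.presheaf.germ V y hy s = M.presheaf.germ U y hyU (M1.mres M inf_le_right s) :=
        (M1.germ_mres M inf_le_right hyU s).symm
    _ = 0 := by rw [h0, map_zero]

section pull

variable {X : Scheme.{u}} (f : Y ⟶ X) {M' : X.Modules}

/-- The pulled back forms. -/
def pullForm (p : Fin N → (M' ⟶ Coh.structureModule X)) (i : Fin N) :
    (Scheme.Modules.pullback f).obj M' ⟶ Coh.structureModule Y :=
  (Scheme.Modules.pullback f).map (p i) ≫ (PicLoc.pullbackStructureIso f).hom

theorem pullForm_pullSec (p : Fin N → (M' ⟶ Coh.structureModule X)) {V : X.Opens} (s : Γ(M', V)) (i : Fin N) :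
    (pullForm f p i).app (f ⁻¹ᵁ V) (M2.pullSec f M' s) =
      (show Γ(Coh.structureModule Y, f ⁻¹ᵁ V) from f.app V (show Γ(X, V) from (p i).app V s)) := by
  rw [pullForm, Scheme.Modules.Hom.comp_app, CategoryTheory.comp_apply, FormalH7.pullSec_naturality,
    LefFEt11.structIso_pullSec]

theorem stCo_pullSec (p : Fin N → (M' ⟶ Coh.structureModule X)) {V : X.Opens} (y : Y) (hy : f y ∈ V)
    (s : Γ(M', V)) (i : Fin N) :
    stCo (pullForm f p) y (((Scheme.Modules.pullback f).obj M').presheaf.germ (f ⁻¹ᵁ V) y hy (M2.pullSec f M' s)) i =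
      f.stalkMap y (stCo p (f y) (M'.presheaf.germ V (f y) hy s) i) := by
  rw [stCo_germ, stCo_germ, pullForm_pullSec]
  exact (Scheme.Hom.germ_stalkMap_apply f V y hy _).symm

/-- The coordinates of a pullback are spanned by those downstairs. -/
theorem range_stCo_pull (p : Fin N → (M' ⟶ Coh.structureModule X)) (y : Y) :
    LinearMap.range (stCo (pullForm f p) y) = Submodule.span (Y.presheaf.stalk y)
      (Set.range fun m => fun i => f.stalkMap y (stCo p (f y) m i)) := by
  refine le_antisymm ?_ (Submodule.span_le.2 ?_)
  · rintro _ ⟨a, rfl⟩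
    obtain ⟨t, rfl⟩ := (M2.pullStalkEquiv f y M').surjective a
    induction t using TensorProduct.induction_on with
    | zero => rw [map_zero, map_zero]; exact zero_mem _
    | add a b ha hb => rw [map_add, map_add]; exact add_mem ha hb
    | tmul c m =>
      rw [show c ⊗ₜ m = c • ((1 : Y.presheaf.stalk y) ⊗ₜ[X.presheaf.stalk (f y)] m) from by
        rw [TensorProduct.smul_tmul', smul_eq_mul, mul_one], map_smul, map_smul]
      refine Submodule.smul_mem _ c (Submodule.subset_span ⟨m, ?_⟩)
      obtain ⟨V, hy, s, rfl⟩ := M'.presheaf.exists_germ_eq m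
      rw [M2.pullStalkEquiv_tmul]
      funext i
      exact (stCo_pullSec f p y hy s i).symm
  · rintro _ ⟨m, rfl⟩
    obtain ⟨V, hy, s, rfl⟩ := M'.presheaf.exists_germ_eq m
    exact ⟨((Scheme.Modules.pullback f).obj M').presheaf.germ (f ⁻¹ᵁ V) y hy (M2.pullSec f M' s),
      funext fun i => stCo_pullSec f p y hy s i⟩

/-- Pulling back a submodule of a free module along a flat map keeps the forms separating. -/
theorem separating_pull [Flat f] (ι : M' ⟶ ⨁ fun _ : Fin N => Coh.structureModule X) [Mono ι] :
    Separating (pullForm f fun i => ι ≫ biproduct.π (fun _ : Fin N => Coh.structureModule X) i) := by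
  haveI := ModLimH13.mono_pullback_map_of_flat f ι
  haveI : (Scheme.Modules.pullback f).Additive :=
    (Scheme.Modules.pullbackPushforwardAdjunction f).left_adjoint_additive
  intro V s h
  refine M1.app_injective ((Scheme.Modules.pullback f).map ι) V ?_
  rw [map_zero]
  have hz : ∀ i, ((Scheme.Modules.pullback f).map (ι ≫ biproduct.π (fun _ : Fin N => Coh.structureModule X) i)).app V s
      = 0 := fun i => by
    refine M1.app_injective (PicLoc.pullbackStructureIso f).hom V ?_
    rw [map_zero]
    exact h i
  have key : (Scheme.Modules.pullback f).map ι = ∑ i,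
      (Scheme.Modules.pullback f).map (ι ≫ biproduct.π (fun _ : Fin N => Coh.structureModule X) i) ≫
        (Scheme.Modules.pullback f).map (biproduct.ι (fun _ : Fin N => Coh.structureModule X) i) := by
    simp only [← Functor.map_comp, Category.assoc]
    rw [← Functor.map_sum, ← Preadditive.comp_sum, biproduct.total, Category.comp_id]
  rw [key, P1Split.app_sum]
  exact Finset.sum_eq_zero fun i _ => by
    rw [Scheme.Modules.Hom.comp_app, CategoryTheory.comp_apply, hz i, map_zero]

end pull

end Groth.Agent.KS29
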