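import Groth.Agent.Lib.KS29.SplitApps
import Groth.Agent.Lib.KS29.BaseChange
import Groth.Agent.Lib.KS29.Simple
import Groth.Agent.Lib.Twist.GlobalProjSpace
import Groth.Agent.Lib.CSAlg.Split

/-!
# Endomorphism algebras of isotypical modules are central simple
-/

set_option autoImplicit false
set_option linter.style.haveILetI false
set_option linter.unusedSectionVars false
set_option backward.isDefEq.respectTransparency false
set_option backward.isDefEq.respectTransparency.types false
set_option maxHeartbeats 800000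

universe u v w

open CategoryTheory CategoryTheory.Limits AlgebraicGeometry TensorProduct

noncomputable section

namespace Groth.Agent.KS29

open Groth.Agent W4c1astiltbs12

section cat

variable {C : Type v} [Category.{w} C] [Abelian C] {W G : C} {t : ℕ}

/-- The matrix of an endomorphism with respect to a decomposition into copies of one object. -/
def decMat (d : Dec W (fun _ : Fin t => G)) : End W →+* Matrix (Fin t) (Fin t) (End G) where
  toFun g := Matrix.of fun i l => d.inj l ≫ g ≫ d.prj i
  map_one' := by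
    ext i l
    show d.inj l ≫ 𝟙 W ≫ d.prj i = _
    rw [Category.id_comp, Matrix.one_apply]
    by_cases h : i = l
    · subst h; rw [if_pos rfl]; exact d.inj_prj i
    · rw [if_neg h]; exact d.inj_prj_ne (Ne.symm h)
  map_zero' := by
    ext i l
    show d.inj l ≫ (0 : W ⟶ W) ≫ d.prj i = 0
    simp
  map_add' g h := by
    ext i l
    show d.inj l ≫ ((g : W ⟶ W) + h) ≫ d.prj i = d.inj l ≫ g ≫ d.prj i + d.inj l ≫ h ≫ d.prj i
    rw [Preadditive.add_comp, Preadditive.comp_add]
  map_mul' g h := by
    ext i l
    rw [Matrix.mul_apply]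
    show d.inj l ≫ (h ≫ g) ≫ d.prj i = ∑ m, (d.inj l ≫ h ≫ d.prj m) ≫ (d.inj m ≫ g ≫ d.prj i)
    conv_lhs => rw [← Category.comp_id h, ← d.total]
    simp [Preadditive.comp_sum, Preadditive.sum_comp]

theorem decMat_apply (d : Dec W (fun _ : Fin t => G)) (g : W ⟶ W) (i l : Fin t) :
    decMat d g i l = d.inj l ≫ g ≫ d.prj i := rfl

theorem decMat_bijective (d : Dec W (fun _ : Fin t => G)) : Function.Bijective (decMat d) := by
  refine ⟨fun g h hgh => ?_, fun M => ⟨∑ i, ∑ l, d.prj l ≫ M i l ≫ d.inj i, ?_⟩⟩
  · have e : ∀ i l, d.inj l ≫ g ≫ d.prj i = d.inj l ≫ h ≫ d.prj i := fun i l => congrFun (congrFun hgh i) l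
    calc g = (∑ l, d.prj l ≫ d.inj l) ≫ g ≫ (∑ i, d.prj i ≫ d.inj i) := by
          rw [d.total, Category.id_comp, Category.comp_id]
      _ = (∑ l, d.prj l ≫ d.inj l) ≫ h ≫ (∑ i, d.prj i ≫ d.inj i) := by
          simp only [Preadditive.comp_sum, Preadditive.sum_comp, Category.assoc]
          refine Finset.sum_congr rfl fun i _ => Finset.sum_congr rfl fun l _ => ?_
          rw [← Category.assoc g, ← Category.assoc (d.inj l), e, Category.assoc, Category.assoc]
      _ = h := by rw [d.total, Category.id_comp, Category.comp_id]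
  · ext a b
    show d.inj b ≫ (∑ i, ∑ l, d.prj l ≫ (M i l : G ⟶ G) ≫ d.inj i : W ⟶ W) ≫ d.prj a = M a b
    simp only [Preadditive.comp_sum, Preadditive.sum_comp, Category.assoc]
    rw [Finset.sum_eq_single a]
    · rw [Finset.sum_eq_single b]
      · rw [d.inj_prj, Category.comp_id, d.inj_prj_assoc]
      · intro l _ hl
        rw [← Category.assoc (d.inj b), d.inj_prj_ne (Ne.symm hl), zero_comp]
      · exact fun h => absurd (Finset.mem_univ _) h
    · intro i _ hi
      refine Finset.sum_eq_zero fun l _ => ?_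
      rw [d.inj_prj_ne hi, comp_zero, comp_zero, comp_zero]
    · exact fun h => absurd (Finset.mem_univ _) h

end cat

attribute [local instance] Abelian.hasFiniteBiproducts

variable {k : Type u} [Field k] {X : Scheme.{u}} (f : X ⟶ Spec (CommRingCat.of k))

/-- The endomorphism algebra of a module over the ground field. -/
def EndA (_f : X ⟶ Spec (CommRingCat.of k)) (M : X.Modules) : Type u := End M

instance (M : X.Modules) : Ring (EndA f M) := inferInstanceAs (Ring (End M))

/-- The scalars. -/
def sckHom (M : X.Modules) : k →+* End M where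
  toFun := sck f M
  map_one' := sck_one f M
  map_zero' := sck_zero f M
  map_add' := sck_add f M
  map_mul' a b := by rw [mul_comm]; exact sck_mul f M b a

instance instAlgebraEndA (M : X.Modules) : Algebra k (EndA f M) :=
  RingHom.toAlgebra' (sckHom f M) fun c x => (comp_sck f (x : M ⟶ M) c)

theorem algebraMap_endA (M : X.Modules) (c : k) : algebraMap k (EndA f M) c = sck f M c := rfl

theorem smul_endA (M : X.Modules) (c : k) (g : M ⟶ M) :
    (c • (show EndA f M from g)) = (show EndA f M from g ≫ sck f M c) := by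
  rw [Algebra.smul_def]
  rfl

/-- A decomposition into copies of one module gives a matrix algebra. -/
def decMatEquiv {W G : X.Modules} {t : ℕ} (d : Dec W (fun _ : Fin t => G)) :
    EndA f W ≃ₐ[k] Matrix (Fin t) (Fin t) (EndA f G) :=
  AlgEquiv.ofBijective
    { toRingHom := (decMat d : EndA f W →+* Matrix (Fin t) (Fin t) (EndA f G))
      commutes' := fun c => by
        rw [Matrix.algebraMap_eq_diagonal]
        ext i l
        show d.inj l ≫ sck f W c ≫ d.prj i = _
        rw [← Category.assoc, comp_sck, Category.assoc]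
        by_cases h : i = l
        · subst h; rw [d.inj_prj, Category.comp_id, Matrix.diagonal_apply_eq, Pi.algebraMap_apply]; rfl
        · rw [d.inj_prj_ne (Ne.symm h), comp_zero, Matrix.diagonal_apply_ne _ h] }
    (decMat_bijective d)

variable {K : Type u} [Field K] [Algebra k K]

/-- The scalars upstairs. -/
def scHom (M : (W4bk4gw11416.baseChange f K).Modules) : K →+* End M where
  toFun := sc f K M
  map_one' := sc_one f M
  map_zero' := by rw [sc, map_zero, KLin.smulModΓ_zero]
  map_add' := sc_add f M
  map_mul' a b := by rw [mul_comm]; exact sc_mul f M b a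

theorem scHom_twist_bijective {q : ℕ} (e : BrSev.Splitting f K q) (j : ℤ) :
    Function.Bijective (scHom f (K := K) (e.twist j)) := by
  refine ⟨(injective_iff_map_eq_zero _).2 fun a ha => ?_, fun φ => ?_⟩
  · by_contra ha0
    refine (indec_twist e j).1 ((IsZero.iff_id_eq_zero _).2 ?_)
    have : (1 : End (e.twist j)) = 0 := by
      rw [← map_one (scHom f (e.twist j)), ← mul_inv_cancel₀ ha0, map_mul, ha, zero_mul]
    exact this
  · obtain ⟨c, hc, -⟩ := ThetaGrp19.existsUnique_smulHom (isInvertible_twist e j) φ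
    obtain ⟨a, ha⟩ := (Twist.bijective_toSpec_appTop q K).2 (e.iso.inv.appTop c)
    refine ⟨a, Eq.trans ?_ hc.symm⟩
    have hca : c = (BrSev.bcTo f K).appTop ((Scheme.ΓSpecIso (CommRingCat.of K)).inv a) := by
      rw [← e.comm, Scheme.Hom.comp_appTop]
      show c = e.iso.hom.appTop ((CohB1.ProjSpace.toSpec q K).appTop _)
      rw [show (CohB1.ProjSpace.toSpec q K).appTop ((Scheme.ΓSpecIso (CommRingCat.of K)).inv a) =
          e.iso.inv.appTop c from ha, ← CommRingCat.comp_apply, ← Scheme.Hom.comp_appTop, e.iso.hom_inv_id,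
        Scheme.Hom.id_appTop]
      rfl
    rw [hca]
    show sc f K (e.twist j) a = _
    refine Scheme.Modules.hom_ext _ _ fun V => ?_
    ext s
    rfl

/-- Base change of endomorphisms. -/
def bcEnd (M : X.Modules) : EndA f M →+* End (bcMod f K M) where
  toFun g := (Scheme.Modules.pullback (proj f K)).map g
  map_one' := CategoryTheory.Functor.map_id _ _
  map_zero' := Functor.map_zero _ _ _
  map_add' _ _ := Functor.map_add _
  map_mul' g h := (Scheme.Modules.pullback (proj f K)).map_comp h g

section mat

variable {q : ℕ} (e : BrSev.Splitting f K q) {j : ℤ} {r : ℕ}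

/-- The scalar ring of a twist is the ground field. -/
def scEquiv (j : ℤ) : K ≃+* End (e.twist j) :=
  RingEquiv.ofBijective (scHom f (e.twist j)) (scHom_twist_bijective f e j)

variable {M : X.Modules} (d : Dec (bcMod f K M) (fun _ : Fin r => e.twist j))

/-- The matrix of an endomorphism upstairs. -/
def bcMat : End (bcMod f K M) →+* Matrix (Fin r) (Fin r) K :=
  (scEquiv f e j).symm.toRingHom.mapMatrix.comp (decMat d)

theorem bcMat_bijective : Function.Bijective (bcMat f e d) :=
  ((scEquiv f e j).symm.mapMatrix (m := Fin r)).bijective.comp (decMat_bijective d)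

theorem bcMat_sc (a : K) : bcMat f e d (scHom f _ a) = Matrix.diagonal fun _ => a := by
  ext i l
  show (scEquiv f e j).symm (d.inj l ≫ sc f K _ a ≫ d.prj i) = _
  rw [← Category.assoc, comp_sc, Category.assoc]
  by_cases h : i = l
  · subst h
    rw [d.inj_prj, Category.comp_id, Matrix.diagonal_apply_eq]
    exact (scEquiv f e j).symm_apply_apply a
  · rw [d.inj_prj_ne (Ne.symm h), comp_zero, Matrix.diagonal_apply_ne _ h]
    exact map_zero (scEquiv f e j).symm

/-- The matrix representation of endomorphisms downstairs. -/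
def endMat : EndA f M →ₐ[k] Matrix (Fin r) (Fin r) K where
  toRingHom := (bcMat f e d).comp (bcEnd f M)
  commutes' c := by
    show bcMat f e d ((Scheme.Modules.pullback (proj f K)).map (sck f M c)) = _
    rw [pullback_map_sck, Matrix.algebraMap_eq_diagonal]
    exact bcMat_sc f e d _

/-- Its extension of scalars. -/
def endMatK : K ⊗[k] EndA f M →ₐ[K] Matrix (Fin r) (Fin r) K :=
  Algebra.TensorProduct.lift (Algebra.ofId K _) (endMat f e d) fun a _ => Algebra.commutes a _

theorem bcT_eq_mul (a : K) (g : EndA f M) :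
    (show End (bcMod f K M) from bcT f (g : M ⟶ M) a) = scHom f _ a * bcEnd f M g := rfl

theorem endMat_apply (g : EndA f M) : endMat f e d g = bcMat f e d (bcEnd f M g) := rfl

theorem endMatK_tmul (a : K) (g : EndA f M) :
    endMatK f e d (a ⊗ₜ g) = bcMat f e d (show End (bcMod f K M) from bcT f (g : M ⟶ M) a) := by
  rw [bcT_eq_mul, map_mul, bcMat_sc]
  refine (Algebra.TensorProduct.lift_tmul _ _ _ a g).trans ?_
  rw [Algebra.ofId_apply, Matrix.algebraMap_eq_diagonal, endMat_apply]
  rfl

theorem endMatK_injective (hM : Coh.IsQCoh M) : Function.Injective (endMatK f e d) := by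
  classical
  refine (injective_iff_map_eq_zero _).2 fun x hx => ?_
  obtain ⟨S, rfl⟩ := TensorProduct.exists_finset x
  have h0 : ∑ s ∈ S, bcT f (s.2 : M ⟶ M) s.1 = ∑ s ∈ (∅ : Finset (Fin 0)), bcT f (𝟙 M) ((s : ℕ) : K) := by
    rw [Finset.sum_empty]
    refine (bcMat_bijective f e d).1 ?_
    rw [map_zero]
    refine (map_sum (bcMat f e d) _ S).trans (Eq.trans ?_ hx)
    rw [map_sum]
    exact Finset.sum_congr rfl fun s _ => (endMatK_tmul f e d s.1 s.2).symm
  let b := Module.Basis.ofVectorSpace k K
  refine (TensorProduct.equivFinsuppOfBasisLeft b : K ⊗[k] EndA f M ≃ₗ[k] _).injective ?_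
  ext i
  rw [map_sum, map_zero, Finsupp.finsetSum_apply]
  have h1 := comb_congr f hM _ _ _ _ _ _ h0 (b.coord i)
  rw [Finset.sum_empty] at h1
  refine Eq.trans (Finset.sum_congr rfl fun s _ => ?_) h1
  rw [TensorProduct.equivFinsuppOfBasisLeft_apply_tmul_apply]
  exact smul_endA f M _ _

theorem endMatK_surjective [CompactSpace X] (hM : Coh.IsCoh M) : Function.Surjective (endMatK f e d) := fun N => by
  obtain ⟨ψ, rfl⟩ := (bcMat_bijective f e d).2 N
  obtain ⟨n, g, a, rfl⟩ := exists_comb f hM hM.1 ψ
  refine ⟨∑ s, a s ⊗ₜ[k] (show EndA f M from g s), ?_⟩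
  rw [map_sum]
  refine Eq.trans ?_ (map_sum (bcMat f e d) _ _).symm
  exact Finset.sum_congr rfl fun s _ => endMatK_tmul f e d _ _

end mat

/-- The endomorphisms of an isotypical module form a form of a matrix algebra. -/
theorem exists_algEquiv_endA [IsProper f] {q : ℕ} (e : BrSev.Splitting f K q) {j : ℤ} {r : ℕ}
    {M : X.Modules} (hM : Coh.IsCoh M) (hMt : BrSev.IsTwPow e j r M) :
    Nonempty (K ⊗[k] EndA f M ≃ₐ[K] Matrix (Fin r) (Fin r) K) := by
  haveI : CompactSpace X := QuasiCompact.compactSpace_of_compactSpace f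
  obtain ⟨φ⟩ := hMt
  let d : Dec (bcMod f K M) (fun _ : Fin r => e.twist j) := Dec.ofCoproduct.trans φ.symm
  exact ⟨AlgEquiv.ofBijective (endMatK f e d) ⟨endMatK_injective f e d hM.1, endMatK_surjective f e d hM⟩⟩

theorem isCSA_endA [IsProper f] {q : ℕ} (e : BrSev.Splitting f K q) {j : ℤ} {r : ℕ} (hr : 0 < r)
    {M : X.Modules} (hM : Coh.IsCoh M) (hMt : BrSev.IsTwPow e j r M) :
    Algebra.IsCentral k (EndA f M) ∧ IsSimpleRing (EndA f M) ∧ FiniteDimensional k (EndA f M) :=
  CSAlg.isCSA_of_splits ⟨r, hr.ne', exists_algEquiv_endA f e hM hMt⟩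

theorem finrank_endA [IsProper f] {q : ℕ} (e : BrSev.Splitting f K q) {j : ℤ} {r : ℕ}
    {M : X.Modules} (hM : Coh.IsCoh M) (hMt : BrSev.IsTwPow e j r M) :
    Module.finrank k (EndA f M) = r ^ 2 := by
  obtain ⟨φ⟩ := exists_algEquiv_endA f e hM hMt
  have := φ.toLinearEquiv.finrank_eq
  rw [Module.finrank_baseChange, Module.finrank_matrix, Fintype.card_fin, Module.finrank_self, mul_one] at this
  rw [this, sq]

end Groth.Agent.KS29
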