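import Groth.Agent.Lib.KS29.FFLattice
import Groth.Agent.Lib.KS29.SBEnd

/-!
# Constant matrices acting on lattices
-/

set_option autoImplicit false
set_option linter.style.haveILetI false
set_option linter.unusedSectionVars false
set_option backward.isDefEq.respectTransparency false
set_option backward.isDefEq.respectTransparency.types false
set_option maxHeartbeats 800000

universe u

open CategoryTheory CategoryTheory.Limits AlgebraicGeometry TopologicalSpace Opposite

noncomputable section

namespace Groth.Agent.KS29

open Groth.Agent Matrix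

attribute [local instance] Abelian.hasFiniteBiproducts

variable {Y : Scheme.{u}} {M : Y.Modules} {N : ℕ}

theorem app_smulModΓ (r : Coh.Γtop Y) {V : Y.Opens} (s : Γ(Coh.structureModule Y, V)) :
    (Formal.smulModΓ (Coh.structureModule Y) r).app V s =
      (show Γ(Coh.structureModule Y, V) from (Y.presheaf.map (homOfLE (le_top : V ≤ ⊤)).op r) * (show Γ(Y, V) from s)) := by
  rw [KLin.smulModΓ_app_apply]
  rfl

/-- An endomorphism given by a matrix of scalars in terms of forms acts so on coordinates. -/
theorem stCo_smulMat {p : Fin N → (M ⟶ Coh.structureModule Y)} (φ : M ⟶ M) (c : Matrix (Fin N) (Fin N) (Coh.Γtop Y))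
    (h : ∀ i, φ ≫ p i = ∑ l, p l ≫ Formal.smulModΓ (Coh.structureModule Y) (c i l)) (y : Y)
    (a : M.presheaf.stalk y) :
    stCo p y (RefHull.stalkMapₗ φ y a) = c.map (Y.presheaf.germ ⊤ y trivial) *ᵥ stCo p y a := by
  obtain ⟨V, hy, s, rfl⟩ := M.presheaf.exists_germ_eq a
  funext i
  rw [RefHull.stalkMapₗ_germ, stCo_germ, ← CategoryTheory.comp_apply, ← Scheme.Modules.Hom.comp_app, h i,
    P1Split.app_sum]
  show Y.presheaf.germ V y hy (∑ l, show Γ(Y, V) from (p l ≫ Formal.smulModΓ (Coh.structureModule Y) (c i l)).app V s) = _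
  rw [map_sum]
  refine Finset.sum_congr rfl fun l _ => ?_
  rw [Scheme.Modules.Hom.comp_app, CategoryTheory.comp_apply, app_smulModΓ, map_mul, TopCat.Presheaf.germ_res_apply,
    stCo_germ]
  rfl

variable {k : Type u} [Field k] {X : Scheme.{u}} [IsIntegral X] (f : X ⟶ Spec (CommRingCat.of k))

/-- The ground field in the function field. -/
def kF : k →+* X.functionField :=
  (X.presheaf.germ ⊤ (genericPoint X) trivial).hom.comp (Coh.toGlobal f)

/-- The endomorphism of a free module given by a constant matrix. -/
def cMat (C : Matrix (Fin N) (Fin N) k) :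
    (⨁ fun _ : Fin N => Coh.structureModule X) ⟶ ⨁ fun _ : Fin N => Coh.structureModule X :=
  biproduct.lift fun i => ∑ l, biproduct.π (fun _ : Fin N => Coh.structureModule X) l ≫
    sck f (Coh.structureModule X) (C i l)

theorem cMat_π (C : Matrix (Fin N) (Fin N) k) (i : Fin N) :
    cMat f C ≫ biproduct.π (fun _ : Fin N => Coh.structureModule X) i =
      ∑ l, biproduct.π (fun _ : Fin N => Coh.structureModule X) l ≫ sck f (Coh.structureModule X) (C i l) :=
  biproduct.lift_π _ _

variable (A : Matrix (Fin N) (Fin N) X.functionField)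

theorem latι_cMat (C : Matrix (Fin N) (Fin N) k) (h : A * C.map (kF f) = C.map (kF f) * A) :
    (latι A ≫ cMat f C) ≫ ratMap A = 0 := by
  refine Scheme.Modules.hom_ext _ _ fun V => ?_
  ext s
  show (ratMap A).app V ((cMat f C).app V ((latι A).app V s)) = 0
  by_cases hV : genericPoint X ∈ V
  · refine ext_biprod fun i => ?_
    rw [ratMap_app A hV, map_zero]
    set c : Fin N → X.functionField := fun l => X.presheaf.germ V _ hV
      (show Γ(X, V) from (latForm A l).app V s) with hc
    have hs : A *ᵥ c = 0 := by
      funext j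
      refine ratSec_injective hV ?_
      rw [Pi.zero_apply, map_zero]
      refine (ratMap_app A hV ((latι A).app V s) j).symm.trans ?_
      rw [show (ratMap A).app V ((latι A).app V s) = 0 from
        congrArg (fun φ => Scheme.Modules.Hom.app φ V s) (kernel.condition (ratMap A)), map_zero]
    have hC : ∀ l, X.presheaf.germ V _ hV (show Γ(X, V) from
        (biproduct.π (fun _ : Fin N => Coh.structureModule X) l).app V ((cMat f C).app V ((latι A).app V s))) =
        (C.map (kF f) *ᵥ c) l := fun l => by
      rw [← CategoryTheory.comp_apply (f := (cMat f C).app V), ← Scheme.Modules.Hom.comp_app, cMat_π, P1Split.app_sum]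
      show X.presheaf.germ V _ hV (∑ q, show Γ(X, V) from (biproduct.π (fun _ : Fin N => Coh.structureModule X) q ≫
        sck f (Coh.structureModule X) (C l q)).app V ((latι A).app V s)) = _
      rw [map_sum]
      refine Finset.sum_congr rfl fun q _ => ?_
      rw [sck, Scheme.Modules.Hom.comp_app, CategoryTheory.comp_apply, app_smulModΓ, map_mul,
        TopCat.Presheaf.germ_res_apply]
      rfl
    simp only [hC]
    refine (congrArg (ratSec V) (?_ : _ = (0 : X.functionField))).trans (map_zero _)
    refine (congrFun (Matrix.mulVec_mulVec c A (C.map (kF f))) i).trans ?_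
    rw [h, ← Matrix.mulVec_mulVec, hs, Matrix.mulVec_zero]
    rfl
  · refine TopCat.Presheaf.section_ext ⟨(⨁ fun _ : Fin N => ratMod X).presheaf, (⨁ fun _ : Fin N => ratMod X).isSheaf⟩
      V _ _ fun x hx => absurd ((genericPoint_specializes x).mem_open V.isOpen hx) hV

/-- The induced endomorphism of the lattice. -/
def latEnd (C : Matrix (Fin N) (Fin N) k) (h : A * C.map (kF f) = C.map (kF f) * A) : lat A ⟶ lat A :=
  kernel.lift _ (latι A ≫ cMat f C) (latι_cMat f A C h)

theorem latEnd_ι (C : Matrix (Fin N) (Fin N) k) (h : A * C.map (kF f) = C.map (kF f) * A) :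
    latEnd f A C h ≫ latι A = latι A ≫ cMat f C := kernel.lift_ι _ _ _

theorem latEnd_form (C : Matrix (Fin N) (Fin N) k) (h : A * C.map (kF f) = C.map (kF f) * A) (i : Fin N) :
    latEnd f A C h ≫ latForm A i = ∑ l, latForm A l ≫ sck f (Coh.structureModule X) (C i l) := by
  rw [latForm, ← Category.assoc, latEnd_ι, Category.assoc, cMat_π, Preadditive.comp_sum]
  exact Finset.sum_congr rfl fun l _ => (Category.assoc _ _ _).symm

variable {B : Type u} [Ring B] [Algebra k B]

/-- An algebra acting by constant matrices commuting with the equations acts on the lattice. -/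
def latRho (L : B →ₐ[k] Matrix (Fin N) (Fin N) k) (h : ∀ x, A * (L x).map (kF f) = (L x).map (kF f) * A) :
    B →ₐ[k] EndA f (lat A) :=
  have key : ∀ {φ ψ : lat A ⟶ lat A}, (∀ i, φ ≫ latForm A i = ψ ≫ latForm A i) → φ = ψ := fun {φ ψ} hi => by
    refine (cancel_mono (latι A)).1 (biproduct.hom_ext _ _ fun i => ?_)
    simpa only [Category.assoc, latForm] using hi i
  { toFun := fun x => latEnd f A (L x) (h x)
    map_one' := key fun i => by
      show latEnd f A (L 1) (h 1) ≫ latForm A i = 𝟙 _ ≫ latForm A i
      rw [latEnd_form, Category.id_comp, map_one, Finset.sum_eq_single i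
        (fun l _ hl => by rw [Matrix.one_apply_ne (Ne.symm hl), sck_zero, comp_zero])
        (fun hi => absurd (Finset.mem_univ i) hi), Matrix.one_apply_eq, sck_one, Category.comp_id]
    map_mul' := fun x y => key fun i => by
      show latEnd f A (L (x * y)) (h _) ≫ latForm A i =
        (latEnd f A (L y) (h y) ≫ latEnd f A (L x) (h x)) ≫ latForm A i
      rw [Category.assoc, latEnd_form f A (L x), Preadditive.comp_sum, latEnd_form, map_mul]
      have e : ∀ l, latEnd f A (L y) (h y) ≫ latForm A l ≫ sck f (Coh.structureModule X) (L x i l) =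
          ∑ q, latForm A q ≫ sck f (Coh.structureModule X) (L x i l * L y l q) := fun l => by
        rw [← Category.assoc, latEnd_form, Preadditive.sum_comp]
        exact Finset.sum_congr rfl fun q _ => by rw [Category.assoc, ← sck_mul, mul_comm]
      simp only [e]
      rw [Finset.sum_comm]
      exact Finset.sum_congr rfl fun q _ => by rw [← Preadditive.comp_sum, ← sck_sum, Matrix.mul_apply]
    map_zero' := key fun i => by
      show latEnd f A (L 0) (h 0) ≫ latForm A i = (0 : lat A ⟶ lat A) ≫ latForm A i
      rw [latEnd_form, zero_comp]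
      exact Finset.sum_eq_zero fun l _ => by rw [map_zero, Matrix.zero_apply, sck_zero, comp_zero]
    map_add' := fun x y => key fun i => by
      show latEnd f A (L (x + y)) (h _) ≫ latForm A i =
        ((latEnd f A (L x) (h x) : lat A ⟶ lat A) + latEnd f A (L y) (h y)) ≫ latForm A i
      rw [Preadditive.add_comp, latEnd_form, latEnd_form, latEnd_form, ← Finset.sum_add_distrib]
      exact Finset.sum_congr rfl fun l _ => by rw [map_add, Matrix.add_apply, sck_add, Preadditive.comp_add]
    commutes' := fun c => key fun i => by
      show latEnd f A (L (algebraMap k B c)) (h _) ≫ latForm A i = sck f (lat A) c ≫ latForm A i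
      rw [latEnd_form, ← comp_sck, AlgHom.commutes, Finset.sum_eq_single i
        (fun l _ hl => by rw [Matrix.algebraMap_matrix_apply, if_neg (Ne.symm hl), sck_zero, comp_zero])
        (fun hi => absurd (Finset.mem_univ i) hi), Matrix.algebraMap_matrix_apply, if_pos rfl, Algebra.algebraMap_self,
        RingHom.id_apply] }

theorem latRho_apply (L : B →ₐ[k] Matrix (Fin N) (Fin N) k) (h : ∀ x, A * (L x).map (kF f) = (L x).map (kF f) * A)
    (x : B) : (latRho f A L h x : lat A ⟶ lat A) = latEnd f A (L x) (h x) := rfl

end Groth.Agent.KS29
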