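import Mathlib.RingTheory.Flat.EquationalCriterion
import Mathlib.RingTheory.UniqueFactorizationDomain.NormalizedFactors
import Mathlib.RingTheory.UniqueFactorizationDomain.GCDMonoid
import Mathlib.Algebra.GCDMonoid.Finset
import Mathlib.LinearAlgebra.Matrix.ToLin
import Mathlib.RingTheory.Localization.FractionRing

/-!
# Kernels of matrices along flat ring maps; primitive vectors
-/

set_option autoImplicit false

namespace Groth.Agent.KS29

open Matrix

universe u

/-- Solutions over a flat extension are combinations of solutions below. -/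
theorem mem_span_ker_of_flat {R S : Type*} [CommRing R] [CommRing S] [Algebra R S] [Module.Flat R S]
    {m N : ℕ} (A : Matrix (Fin m) (Fin N) R) (w : Fin N → S) (h : A.map (algebraMap R S) *ᵥ w = 0) :
    w ∈ Submodule.span S (Set.range fun v : {v : Fin N → R // A *ᵥ v = 0} => fun l => algebraMap R S (v.1 l)) := by
  classical
  let f : (Fin m → R) →ₗ[R] (Fin N → R) :=
    ∑ i, (LinearMap.proj i).smulRight (A i)
  let x : (Fin N → R) →ₗ[R] S := ∑ l, (LinearMap.proj l).smulRight (w l)
  have hx : ∀ v : Fin N → R, x v = ∑ l, v l • w l := fun v => by simp [x]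
  have hfx : x ∘ₗ f = 0 := by
    refine LinearMap.ext fun r => ?_
    have hr : ∀ i, ∑ l, algebraMap R S (A i l) * w l = 0 := fun i => congrFun h i
    simp only [LinearMap.comp_apply, LinearMap.zero_apply, f, LinearMap.coe_sum, Finset.sum_apply,
      LinearMap.smulRight_apply, LinearMap.coe_proj, Function.eval, map_sum, map_smul]
    refine Finset.sum_eq_zero fun i _ => ?_
    rw [hx]
    simp only [Algebra.smul_def]
    rw [hr i, mul_zero]
  obtain ⟨k, a, y, hya, haf⟩ := Module.Flat.exists_factorization_of_comp_eq_zero_of_free hfx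
  have hv : ∀ c : Fin k, A *ᵥ (fun l => a (Pi.single l 1) c) = 0 := fun c => funext fun i => by
    have h1 := congrArg (fun z : Fin k →₀ R => z c) (LinearMap.congr_fun haf (Pi.single i (1 : R)))
    simp only [LinearMap.comp_apply, f, LinearMap.coe_sum, Finset.sum_apply, LinearMap.smulRight_apply,
      LinearMap.coe_proj, Function.eval, LinearMap.zero_apply, Finsupp.coe_zero, Pi.zero_apply] at h1
    rw [Finset.sum_eq_single i (fun b _ hb => by rw [Pi.single_eq_of_ne hb, zero_smul])
      (fun hi => absurd (Finset.mem_univ i) hi), Pi.single_eq_same, one_smul] at h1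
    have h2 : A i = ∑ l, A i l • (Pi.single l 1 : Fin N → R) := pi_eq_sum_univ' (A i)
    rw [h2, map_sum, Finsupp.finsetSum_apply] at h1
    simp only [map_smul, Finsupp.smul_apply, smul_eq_mul] at h1
    simpa [Matrix.mulVec, dotProduct] using h1
  have hw : w = ∑ c, y (Finsupp.single c 1) • (fun l => algebraMap R S (a (Pi.single l 1) c)) := by
    funext l
    have h1 := LinearMap.congr_fun hya (Pi.single l 1)
    rw [hx, Finset.sum_eq_single l (fun b _ hb => by rw [Pi.single_eq_of_ne hb, zero_smul])
      (fun hl => absurd (Finset.mem_univ l) hl), Pi.single_eq_same, one_smul] at h1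
    rw [h1, LinearMap.comp_apply, ← Finsupp.univ_sum_single (a (Pi.single l 1)), map_sum, Finset.sum_apply]
    refine Finset.sum_congr rfl fun c _ => ?_
    rw [← Finsupp.smul_single_one, map_smul, Algebra.smul_def, Pi.smul_apply, smul_eq_mul, mul_comm]
  rw [hw]
  exact Submodule.sum_mem _ fun c _ => Submodule.smul_mem _ _ (Submodule.subset_span ⟨⟨_, hv c⟩, rfl⟩)

/-- A matrix over the fraction field may be cleared of denominators. -/
theorem exists_integral_matrix (R : Type*) [CommRing R] [IsDomain R] {L : Type*} [Field L] [Algebra R L]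
    [IsFractionRing R L] {m N : ℕ} (A : Matrix (Fin m) (Fin N) L) :
    ∃ (c : L) (A0 : Matrix (Fin m) (Fin N) R), c ≠ 0 ∧ A0.map (algebraMap R L) = c • A := by
  classical
  obtain ⟨b, hb⟩ := IsLocalization.exist_integer_multiples_of_finite (nonZeroDivisors R)
    (fun q : Fin m × Fin N => A q.1 q.2)
  choose A0 hA0 using hb
  refine ⟨algebraMap R L b, Matrix.of fun i l => A0 (i, l), IsFractionRing.to_map_ne_zero_of_mem_nonZeroDivisors b.2,
    Matrix.ext fun i l => ?_⟩
  rw [Matrix.map_apply, Matrix.of_apply, hA0, Matrix.smul_apply, Algebra.smul_def, smul_eq_mul]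

/-- A line over the fraction field of a factorial domain meets the lattice in a free rank one module. -/
theorem exists_primitive (R : Type u) [CommRing R] [IsDomain R] [UniqueFactorizationMonoid R] {L : Type u}
    [Field L] [Algebra R L] [IsFractionRing R L] {N : ℕ} {v₀ : Fin N → L} (hv₀ : v₀ ≠ 0) :
    ∃ v : Fin N → R, v ≠ 0 ∧ (∃ μ : L, (fun l => algebraMap R L (v l)) = μ • v₀) ∧
      ∀ (w : Fin N → R) (lam : L), (fun l => algebraMap R L (w l)) = lam • (fun l => algebraMap R L (v l)) →
        ∃ r : R, w = r • v := by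
  classical
  letI := Classical.inhabited_of_nonempty (inferInstance : Nonempty (NormalizationMonoid R))
  letI : NormalizationMonoid R := default
  letI := UniqueFactorizationMonoid.toNormalizedGCDMonoid R
  obtain ⟨b, hb⟩ := IsLocalization.exist_integer_multiples_of_finite (nonZeroDivisors R) v₀
  choose w₀ hw₀ using hb
  have hw₀0 : w₀ ≠ 0 := fun h => hv₀ (funext fun l => by
    have h1 := hw₀ l
    rw [h, Pi.zero_apply, map_zero, Algebra.smul_def, eq_comm, mul_eq_zero] at h1
    exact h1.resolve_left (IsFractionRing.to_map_ne_zero_of_mem_nonZeroDivisors b.2))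
  obtain ⟨l₀, hl₀⟩ := Function.ne_iff.1 hw₀0
  have hne : (Finset.univ : Finset (Fin N)).Nonempty := ⟨l₀, Finset.mem_univ _⟩
  obtain ⟨v, hv, hgcd⟩ := Finset.extract_gcd w₀ hne
  set g := Finset.univ.gcd w₀
  have hg : g ≠ 0 := fun h => hl₀ (by rw [hv l₀ (Finset.mem_univ _), h, zero_mul]; rfl)
  have hv0 : v ≠ 0 := fun h => hl₀ (by rw [hv l₀ (Finset.mem_univ _), h]; simp)
  have hgL : algebraMap R L g ≠ 0 := fun h => hg (IsFractionRing.injective R L (h.trans (map_zero _).symm))
  refine ⟨v, hv0, ⟨(algebraMap R L g)⁻¹ * algebraMap R L b, funext fun l => ?_⟩, fun w lam hw => ?_⟩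
  · have h1 := hw₀ l
    rw [hv l (Finset.mem_univ _), map_mul, Algebra.smul_def] at h1
    rw [Pi.smul_apply, smul_eq_mul, mul_assoc, ← h1, ← mul_assoc, inv_mul_cancel₀ hgL, one_mul]
  · obtain ⟨x, y, hy, hxy⟩ := IsFractionRing.div_surjective (A := R) lam
    have hy0 : algebraMap R L y ≠ 0 := IsFractionRing.to_map_ne_zero_of_mem_nonZeroDivisors hy
    have h1 : ∀ l, x * v l = y * w l := fun l => IsFractionRing.injective R L (by
      have := congrFun hw l
      rw [Pi.smul_apply, smul_eq_mul, ← hxy] at this
      rw [map_mul, map_mul, this, ← mul_assoc, mul_div_cancel₀ _ hy0])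
    obtain ⟨r, hr⟩ : y ∣ x := by
      have h2 : y ∣ Finset.univ.gcd fun l => x * v l := Finset.dvd_gcd fun l _ => ⟨w l, h1 l⟩
      have h3 := h2.trans (Finset.gcd_mul_left' Finset.univ v x).dvd
      rwa [hgcd, mul_one] at h3
    exact ⟨r, funext fun l => mul_left_cancel₀ (nonZeroDivisors.ne_zero hy) (by
      rw [Pi.smul_apply, smul_eq_mul, ← mul_assoc, ← hr, h1 l])⟩

end Groth.Agent.KS29
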