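import Groth.Agent.Lib.KS29.FFCoord
import Groth.Agent.Lib.KS29.SpanKer
import Groth.Agent.Lib.ModM1.Coh
import Groth.Agent.Lib.ModM1.Push
import Groth.Agent.Lib.Twist.Triv
import Groth.Agent.Lib.SerreCl8.Main
import Groth.Agent.Lib.CohFound.ProjQuot
import Groth.Agent.Lib.KFlat.FinLocFree
import Mathlib.AlgebraicGeometry.FunctionField

/-!
# Saturated lattices cut out of free modules by matrices over the function field
-/

set_option autoImplicit false
set_option linter.style.haveILetI false
set_option linter.unusedSectionVars false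
set_option backward.isDefEq.respectTransparency false
set_option backward.isDefEq.respectTransparency.types false
set_option maxHeartbeats 800000

universe u

open CategoryTheory CategoryTheory.Limits AlgebraicGeometry TopologicalSpace Opposite

noncomputable section

namespace Groth.Agent.KS29

open Groth.Agent Matrix

attribute [local instance] Abelian.hasFiniteBiproducts

variable (X : Scheme.{u}) [IsIntegral X]

/-- The constant sheaf of rational functions. -/
def ratMod : X.Modules :=
  (Scheme.Modules.pushforward (X.fromSpecStalk (genericPoint X))).obj (Coh.structureModule _)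

variable {X}

/-- A rational function as a section of the constant sheaf. -/
def ratSec (V : X.Opens) : X.functionField →+ Γ(ratMod X, V) where
  toFun a := (show Γ(ratMod X, V) from
    (Spec X.functionField).presheaf.map (homOfLE (le_top : (X.fromSpecStalk (genericPoint X)) ⁻¹ᵁ V ≤ ⊤)).op
      ((Scheme.ΓSpecIso X.functionField).inv a))
  map_zero' := by
    rw [map_zero, map_zero]
  map_add' a b := by
    rw [map_add, map_add]

theorem ratSec_injective {V : X.Opens} (hV : genericPoint X ∈ V) : Function.Injective (ratSec V) := by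
  have htop : (X.fromSpecStalk (genericPoint X)) ⁻¹ᵁ V = ⊤ := by
    refine eq_top_iff.2 fun z _ => ?_
    show (X.fromSpecStalk (genericPoint X)) z ∈ V
    have h : (X.fromSpecStalk (genericPoint X)) z ⤳ genericPoint X := by
      have hz : (X.fromSpecStalk (genericPoint X)) z ∈ Set.range (X.fromSpecStalk (genericPoint X)) := ⟨z, rfl⟩
      rwa [Scheme.range_fromSpecStalk] at hz
    exact h.mem_open V.isOpen hV
  intro a b hab
  have hi : IsIso (homOfLE (le_top : (X.fromSpecStalk (genericPoint X)) ⁻¹ᵁ V ≤ ⊤)).op := by
    rw [show homOfLE (le_top : (X.fromSpecStalk (genericPoint X)) ⁻¹ᵁ V ≤ ⊤) = eqToHom htop from Subsingleton.elim _ _]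
    infer_instance
  refine (ConcreteCategory.bijective_of_isIso (Scheme.ΓSpecIso X.functionField).inv).1 ?_
  exact (ConcreteCategory.bijective_of_isIso ((Spec X.functionField).presheaf.map
    (homOfLE (le_top : (X.fromSpecStalk (genericPoint X)) ⁻¹ᵁ V ≤ ⊤)).op)).1 hab

theorem smul_ratSec {V : X.Opens} (hV : genericPoint X ∈ V) (r : Γ(X, V)) (a : X.functionField) :
    r • M1.mres (ratMod X) (le_top : V ≤ ⊤) (ratSec ⊤ a) = ratSec V (X.presheaf.germ V _ hV r * a) := by
  have h : (X.fromSpecStalk (genericPoint X)).app V r =
      (Spec X.functionField).presheaf.map (homOfLE le_top).op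
        ((Scheme.ΓSpecIso X.functionField).inv (X.presheaf.germ V _ hV r)) := by
    rw [Scheme.fromSpecStalk_app hV]
    rfl
  show (X.fromSpecStalk (genericPoint X)).app V r *
      (show Γ(Spec X.functionField, (X.fromSpecStalk (genericPoint X)) ⁻¹ᵁ V) from
        (Spec X.functionField).presheaf.map
          (homOfLE (Scheme.Hom.preimage_mono (X.fromSpecStalk (genericPoint X)) (le_top : V ≤ ⊤))).op
          ((Spec X.functionField).presheaf.map (homOfLE le_top).op ((Scheme.ΓSpecIso X.functionField).inv a))) = _
  rw [← CommRingCat.comp_apply (f := (Spec X.functionField).presheaf.map _), ← Functor.map_comp, h,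
    show ((homOfLE _).op ≫ (homOfLE _).op : op (⊤ : (Spec X.functionField).Opens) ⟶ _) =
      (homOfLE (le_top : (X.fromSpecStalk (genericPoint X)) ⁻¹ᵁ V ≤ ⊤)).op from Subsingleton.elim _ _,
    ← map_mul, ← map_mul]
  rfl

variable {m N : ℕ} (A : Matrix (Fin m) (Fin N) X.functionField)

/-- The map given by a matrix of rational functions. -/
def ratMap : (⨁ fun _ : Fin N => Coh.structureModule X) ⟶ ⨁ fun _ : Fin m => ratMod X :=
  biproduct.lift fun i => ∑ l, biproduct.π (fun _ : Fin N => Coh.structureModule X) l ≫ M1.secHom (ratSec ⊤ (A i l))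

/-- The lattice of solutions. -/
def lat : X.Modules := kernel (ratMap A)

/-- Its inclusion. -/
def latι : lat A ⟶ ⨁ fun _ : Fin N => Coh.structureModule X := kernel.ι _

instance : Mono (latι A) := inferInstanceAs (Mono (kernel.ι _))

/-- Its coordinate forms. -/
def latForm (i : Fin N) : lat A ⟶ Coh.structureModule X :=
  latι A ≫ biproduct.π (fun _ : Fin N => Coh.structureModule X) i

theorem separating_latForm : Separating (latForm A) := separating_of_mono (latι A)

theorem ratMap_app {V : X.Opens} (hV : genericPoint X ∈ V) (s : Γ((⨁ fun _ : Fin N => Coh.structureModule X), V))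
    (i : Fin m) :
    (biproduct.π (fun _ : Fin m => ratMod X) i).app V ((ratMap A).app V s) =
      ratSec V (∑ l, A i l *
        X.presheaf.germ V _ hV (show Γ(X, V) from (biproduct.π (fun _ : Fin N => Coh.structureModule X) l).app V s)) := by
  rw [map_sum, ← CategoryTheory.comp_apply, ← Scheme.Modules.Hom.comp_app, ratMap, biproduct.lift_π, P1Split.app_sum]
  refine Finset.sum_congr rfl fun l _ => ?_
  rw [Scheme.Modules.Hom.comp_app, CategoryTheory.comp_apply, Twist.secHom_app, smul_ratSec hV, mul_comm]

theorem ext_biprod {n : ℕ} {F : Fin n → X.Modules} {V : X.Opens} {s t : Γ(⨁ F, V)}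
    (h : ∀ i, (biproduct.π F i).app V s = (biproduct.π F i).app V t) : s = t := by
  have e : ∀ z : Γ(⨁ F, V), z = ∑ i, (biproduct.ι F i).app V ((biproduct.π F i).app V z) := fun z => by
    calc z = Scheme.Modules.Hom.app (𝟙 (⨁ F)) V z := rfl
      _ = Scheme.Modules.Hom.app (∑ i, biproduct.π F i ≫ biproduct.ι F i) V z := by rw [biproduct.total]
      _ = _ := by
        rw [P1Split.app_sum]
        rfl
  rw [e s, e t]
  simp only [h]

/-- The stalks of the lattice. -/
theorem range_stCo_lat (x : X) :
    ∀ v : Fin N → X.presheaf.stalk x, v ∈ LinearMap.range (stCo (latForm A) x) ↔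
      A *ᵥ (fun l => algebraMap (X.presheaf.stalk x) X.functionField (v l)) = 0 := by
  classical
  intro v
  have key : ∀ (V : X.Opens) (hx : x ∈ V) (s : Γ((⨁ fun _ : Fin N => Coh.structureModule X), V)),
      (ratMap A).app V s = 0 ↔ A *ᵥ (fun l => algebraMap (X.presheaf.stalk x) X.functionField
        (X.presheaf.germ V x hx (show Γ(X, V) from
          (biproduct.π (fun _ : Fin N => Coh.structureModule X) l).app V s))) = 0 := by
    intro V hx s
    have hη : genericPoint X ∈ V := (genericPoint_specializes x).mem_open V.isOpen hx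
    have e : ∀ r : Γ(X, V), algebraMap (X.presheaf.stalk x) X.functionField (X.presheaf.germ V x hx r) =
        X.presheaf.germ V _ hη r := fun r =>
      TopCat.Presheaf.germ_stalkSpecializes_apply X.presheaf hx (genericPoint_specializes x) r
    simp only [e]
    constructor
    · intro h0
      funext i
      refine ratSec_injective hη ?_
      rw [Pi.zero_apply, map_zero]
      refine (ratMap_app A hη s i).symm.trans ?_
      rw [h0, map_zero]
    · intro h0
      refine ext_biprod fun i => ?_
      rw [ratMap_app A hη s i, map_zero]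
      exact (congrArg (ratSec V) (congrFun h0 i)).trans (map_zero _)
  constructor
  · rintro ⟨a, rfl⟩
    obtain ⟨V, hx, s, rfl⟩ := (lat A).presheaf.exists_germ_eq a
    simp only [stCo_germ]
    refine (key V hx ((latι A).app V s)).1 ?_
    exact congrArg (fun φ => Scheme.Modules.Hom.app φ V s) (kernel.condition (ratMap A))
  · intro hv
    choose W hxW r hr using fun l => X.presheaf.exists_germ_eq (v l)
    have hyU : ∀ t : Finset (Fin N), x ∈ t.inf W := fun t => by
      induction t using Finset.induction with
      | empty => simp only [Finset.inf_empty]; trivial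
      | insert a t _ ih => rw [Finset.inf_insert]; exact ⟨hxW a, ih⟩
    let U : X.Opens := Finset.univ.inf W
    have hxU : x ∈ U := hyU _
    let c : Fin N → Γ(Coh.structureModule X, U) := fun l =>
      X.presheaf.map (homOfLE (Finset.inf_le (Finset.mem_univ l) : U ≤ W l)).op (r l)
    let s : Γ((⨁ fun _ : Fin N => Coh.structureModule X), U) :=
      ∑ l, (biproduct.ι (fun _ : Fin N => Coh.structureModule X) l).app U (c l)
    have hs : ∀ l, (biproduct.π (fun _ : Fin N => Coh.structureModule X) l).app U s = c l := fun l => by
      rw [map_sum, Finset.sum_eq_single l (fun l' _ hl' => by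
          rw [← CategoryTheory.comp_apply, ← Scheme.Modules.Hom.comp_app, biproduct.ι_π_ne _ hl']
          rfl) (fun h => absurd (Finset.mem_univ l) h),
        ← CategoryTheory.comp_apply, ← Scheme.Modules.Hom.comp_app, biproduct.ι_π_self]
      rfl
    have hgerm : ∀ l, X.presheaf.germ U x hxU (show Γ(X, U) from c l) = v l := fun l =>
      (TopCat.Presheaf.germ_res_apply X.presheaf _ x hxU _).trans (hr l)
    obtain ⟨a, ha⟩ := M1.sections_exact
      (S := ShortComplex.mk (latι A) (ratMap A) (kernel.condition _))
      (ShortComplex.exact_of_f_is_kernel _ (kernelIsKernel (ratMap A))) U s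
      ((key U hxU s).2 (by simp only [hs, hgerm]; exact hv))
    refine ⟨(lat A).presheaf.germ U x hxU a, funext fun l => ?_⟩
    rw [stCo_germ]
    have e1 : (latForm A l).app U a = c l := by
      rw [latForm, Scheme.Modules.Hom.comp_app, CategoryTheory.comp_apply, show (latι A).app U a = s from ha, hs]
    rw [e1]
    exact hgerm l

theorem isQCoh_ratMod [X.IsSeparated] : Coh.IsQCoh (ratMod X) :=
  M1.isQCoh_push _ (M1.isFP_isQCoh (M1.isFP_of_isFinLocFree
    (M2.isFinLocFree_of_isInvertible (PicLoc.isInvertible_structureModule _))))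

theorem isCoh_lat [IsLocallyNoetherian X] [X.IsSeparated] : Coh.IsCoh (lat A) := by
  refine M1.isCoh_kernel (CohFound.isCoh_of_isFinLocFree
    (KFlat.Sch.isFinLocFree_biproduct (fun _ : Fin N => Coh.structureModule X)
      fun _ => M2.isFinLocFree_of_isInvertible (PicLoc.isInvertible_structureModule X))) ?_ _
  exact M1.isQCoh_of_isIso ((Sigma.whiskerEquiv (f := fun _ : ULift.{u} (Fin m) => ratMod X)
    (g := fun _ : Fin m => ratMod X) Equiv.ulift fun _ => Iso.refl _) ≪≫ (biproduct.isoCoproduct _).symm)
    (SerreCl8.isQCoh_sigma _ fun _ => isQCoh_ratMod)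

end Groth.Agent.KS29
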