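import Groth.Agent.Lib.KS29.FFEnd
import Groth.Agent.Lib.RefHull26.Glue
import Groth.Agent.Lib.RefHull26.Free

/-!
# Base change of lattices: rank one pieces are invertible
-/

set_option autoImplicit false
set_option linter.style.haveILetI false
set_option linter.unusedSectionVars false
set_option backward.isDefEq.respectTransparency false
set_option backward.isDefEq.respectTransparency.types false
set_option maxHeartbeats 800000

universe u

open CategoryTheory CategoryTheory.Limits AlgebraicGeometry TopologicalSpace Opposite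

noncomputable section

namespace Groth.Agent.KS29

open Groth.Agent Matrix W4c1astiltbs12

attribute [local instance] Abelian.hasFiniteBiproducts

theorem apply_genericPoint_of_surjective {Y X : Scheme.{u}} [IsIntegral X] [IsIntegral Y] (g : Y ⟶ X) [Surjective g] :
    g (genericPoint Y) = genericPoint X := by
  obtain ⟨y, hy⟩ := g.surjective (genericPoint X)
  exact Specializes.antisymm (hy ▸ (genericPoint_specializes y).map g.continuous)
    (genericPoint_specializes (g (genericPoint Y))) |>.eq

/-- The map of function fields. -/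
def ffMap {Y X : Scheme.{u}} [IsIntegral X] [IsIntegral Y] (g : Y ⟶ X) [Surjective g] :
    X.functionField →+* Y.functionField :=
  (g.stalkMap (genericPoint Y)).hom.comp
    (X.presheaf.stalkSpecializes (Inseparable.of_eq (apply_genericPoint_of_surjective g)).specializes).hom

theorem ffMap_algebraMap {Y X : Scheme.{u}} [IsIntegral X] [IsIntegral Y] (g : Y ⟶ X) [Surjective g] (y : Y)
    (r : X.presheaf.stalk (g y)) :
    ffMap g (algebraMap (X.presheaf.stalk (g y)) X.functionField r) =
      algebraMap (Y.presheaf.stalk y) Y.functionField (g.stalkMap y r) := by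
  show g.stalkMap (genericPoint Y) (X.presheaf.stalkSpecializes _ (X.presheaf.stalkSpecializes _ r)) = _
  rw [← CommRingCat.comp_apply (f := X.presheaf.stalkSpecializes (genericPoint_specializes (g y))),
    TopCat.Presheaf.stalkSpecializes_comp]
  exact Scheme.Hom.stalkSpecializes_stalkMap_apply g (genericPoint Y) y (genericPoint_specializes y) r

theorem ffMap_germ {Y X : Scheme.{u}} [IsIntegral X] [IsIntegral Y] (g : Y ⟶ X) [Surjective g] (r : Γ(X, ⊤)) :
    ffMap g (X.presheaf.germ ⊤ (genericPoint X) trivial r) = Y.presheaf.germ ⊤ (genericPoint Y) trivial (g.appTop r) := by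
  show g.stalkMap (genericPoint Y) (X.presheaf.stalkSpecializes _ (X.presheaf.germ ⊤ (genericPoint X) trivial r)) = _
  rw [TopCat.Presheaf.germ_stalkSpecializes_apply X.presheaf (show genericPoint X ∈ (⊤ : X.Opens) from trivial)]
  exact Scheme.Hom.germ_stalkMap_apply g ⊤ (genericPoint Y) trivial r

variable {k : Type u} [Field k] {X : Scheme.{u}} [IsIntegral X] [IsLocallyNoetherian X] [X.IsSeparated]
  (f : X ⟶ Spec (CommRingCat.of k))
variable {K : Type u} [Field K] [Algebra k K]
variable [IsIntegral (W4bk4gw11416.baseChange f K)] [Flat (proj f K)] [Surjective (proj f K)]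
variable {N : ℕ} (A : Matrix (Fin N) (Fin N) X.functionField)

/-- The coordinate forms of the base change of a lattice. -/
def bcForm (i : Fin N) : bcMod f K (lat A) ⟶ Coh.structureModule (W4bk4gw11416.baseChange f K) :=
  pullForm (proj f K) (latForm A) i

theorem separating_bcForm : Separating (bcForm f A (K := K)) := separating_pull (proj f K) (latι A)

/-- The stalks of the base change of a lattice. -/
theorem range_stCo_bc (y : W4bk4gw11416.baseChange f K)
    (v : Fin N → (W4bk4gw11416.baseChange f K).presheaf.stalk y) :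
    v ∈ LinearMap.range (stCo (bcForm f A) y) ↔
      A.map (ffMap (proj f K)) *ᵥ (fun l => algebraMap ((W4bk4gw11416.baseChange f K).presheaf.stalk y)
        (W4bk4gw11416.baseChange f K).functionField (v l)) = 0 := by
  classical
  let Z := W4bk4gw11416.baseChange f K
  let π := proj f K
  let τ := ffMap π
  let R := X.presheaf.stalk (π y)
  let R' := Z.presheaf.stalk y
  letI : Algebra R R' := (π.stalkMap y).hom.toAlgebra
  haveI : Module.Flat R R' := Flat.stalkMap π y
  have hrange : LinearMap.range (stCo (bcForm f A) y) = Submodule.span R'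
      (Set.range fun m => fun i => π.stalkMap y (stCo (latForm A) (π y) m i)) := range_stCo_pull π (latForm A) y
  have hcompat : ∀ r : R, τ (algebraMap R X.functionField r) = algebraMap R' Z.functionField (algebraMap R R' r) :=
    fun r => ffMap_algebraMap π y r
  rw [hrange]
  constructor
  · intro hv
    induction hv using Submodule.span_induction with
    | mem w hw =>
      obtain ⟨m, rfl⟩ := hw
      have h := congrArg (fun z : Fin N → X.functionField => fun i => τ (z i))
        ((range_stCo_lat A (π y) _).1 ⟨m, rfl⟩)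
      funext i
      have hi := congrFun h i
      simp only [Pi.zero_apply, map_zero] at hi
      rw [Pi.zero_apply, ← hi]
      show _ = τ ((A *ᵥ fun l => algebraMap R X.functionField (stCo (latForm A) (π y) m l)) i)
      rw [RingHom.map_mulVec]
      refine congrFun (congrArg (A.map τ *ᵥ ·) (funext fun l => ?_)) i
      exact (hcompat _).symm
    | zero =>
      simp only [Pi.zero_apply, map_zero]
      exact Matrix.mulVec_zero _
    | add a b _ _ ha hb =>
      simp only [Pi.add_apply, map_add]
      exact (Matrix.mulVec_add _ _ _).trans (by rw [ha, hb, add_zero])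
    | smul c a _ ha =>
      simp only [Pi.smul_apply, smul_eq_mul, map_mul]
      exact (Matrix.mulVec_smul (A.map τ) (algebraMap R' Z.functionField c) _).trans (by rw [ha, smul_zero])
  · intro hv
    obtain ⟨c, A0, hc, hA0⟩ := exists_integral_matrix R A
    have h0 : A0.map (algebraMap R R') *ᵥ v = 0 := by
      funext i
      refine IsFractionRing.injective R' Z.functionField ?_
      rw [Pi.zero_apply, map_zero, RingHom.map_mulVec, Matrix.map_map]
      have e : A0.map (algebraMap R' Z.functionField ∘ algebraMap R R') = τ c • A.map τ := by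
        ext a b
        have h1 := congrFun (congrFun hA0 a) b
        rw [Matrix.map_apply, Matrix.smul_apply, smul_eq_mul] at h1
        rw [Matrix.map_apply, Function.comp_apply, ← hcompat, h1, map_mul, Matrix.smul_apply, Matrix.map_apply,
          smul_eq_mul]
      rw [e, Matrix.smul_mulVec]
      show τ c * (A.map τ *ᵥ fun l => algebraMap R' Z.functionField (v l)) i = 0
      rw [hv, Pi.zero_apply, mul_zero]
    refine Submodule.span_mono ?_ (mem_span_ker_of_flat A0 v h0)
    rintro _ ⟨⟨w, hw⟩, rfl⟩
    obtain ⟨m, hm⟩ := (range_stCo_lat A (π y) w).2 (by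
      funext i
      have h1 := congrArg (algebraMap R X.functionField) (congrFun hw i)
      rw [RingHom.map_mulVec, hA0, Matrix.smul_mulVec, Pi.zero_apply, map_zero] at h1
      exact (mul_eq_zero.1 h1).resolve_left hc)
    exact ⟨m, funext fun i => by
      show π.stalkMap y (stCo (latForm A) (π y) m i) = algebraMap R R' (w i)
      rw [hm]
      rfl⟩

/-- The scalars of `K` in the function field upstairs. -/
def kL : K →+* (W4bk4gw11416.baseChange f K).functionField :=
  ((W4bk4gw11416.baseChange f K).presheaf.germ ⊤ (genericPoint _) trivial).hom.comp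
    (Coh.toGlobal (W4bk4gw11416.baseChangeTo f K))

theorem kL_algebraMap (c : k) : kL f (algebraMap k K c) = ffMap (proj f K) (kF f c) := by
  show _ = ffMap (proj f K) (X.presheaf.germ ⊤ (genericPoint X) trivial (Coh.toGlobal f c))
  rw [ffMap_germ]
  show (W4bk4gw11416.baseChange f K).presheaf.germ ⊤ _ trivial (Coh.toGlobal (W4bk4gw11416.baseChangeTo f K) (algebraMap k K c)) = _
  congr 1
  show (W4bk4gw11416.baseChangeTo f K).appTop ((Scheme.ΓSpecIso (CommRingCat.of K)).inv (algebraMap k K c)) =
    (proj f K).appTop (f.appTop ((Scheme.ΓSpecIso (CommRingCat.of k)).inv c))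
  rw [← CommRingCat.comp_apply (f := f.appTop), ← Scheme.Hom.comp_appTop]
  simp only [pullback.condition]
  rw [Scheme.Hom.comp_appTop, CommRingCat.comp_apply]
  exact congrArg _ (ConcreteCategory.congr_hom
    (Scheme.ΓSpecIso_inv_naturality (CommRingCat.ofHom (algebraMap k K))) c)

variable (ε : bcMod f K (lat A) ⟶ bcMod f K (lat A)) (E : Matrix (Fin N) (Fin N) K)

/-- The part fixed by an endomorphism. -/
abbrev fixMod : (W4bk4gw11416.baseChange f K).Modules := kernel (𝟙 (bcMod f K (lat A)) - ε)

/-- Its forms. -/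
def fixForm (i : Fin N) : fixMod f A ε ⟶ Coh.structureModule (W4bk4gw11416.baseChange f K) :=
  kernel.ι (𝟙 (bcMod f K (lat A)) - ε) ≫ bcForm f A i

theorem separating_fixForm : Separating (fixForm f A ε) := fun V s h =>
  M1.app_injective (kernel.ι (𝟙 (bcMod f K (lat A)) - ε)) V
    ((separating_bcForm f A V _ h).trans (map_zero _).symm)

theorem stCo_fixForm (y : W4bk4gw11416.baseChange f K) (b : (fixMod f A ε).presheaf.stalk y) :
    stCo (fixForm f A ε) y b = stCo (bcForm f A) y (RefHull.stalkMapₗ (kernel.ι (𝟙 (bcMod f K (lat A)) - ε)) y b) := by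
  obtain ⟨V, hy, s, rfl⟩ := (fixMod f A ε).presheaf.exists_germ_eq b
  funext i
  rw [RefHull.stalkMapₗ_germ, stCo_germ, stCo_germ]
  rfl

theorem range_stCo_fix (hε : ∀ i, ε ≫ bcForm f A i = ∑ l, bcForm f A l ≫ sc f K (Coh.structureModule _) (E i l))
    (y : W4bk4gw11416.baseChange f K) (v : Fin N → (W4bk4gw11416.baseChange f K).presheaf.stalk y) :
    v ∈ LinearMap.range (stCo (fixForm f A ε) y) ↔
      A.map (ffMap (proj f K)) *ᵥ (fun l => algebraMap ((W4bk4gw11416.baseChange f K).presheaf.stalk y)
          (W4bk4gw11416.baseChange f K).functionField (v l)) = 0 ∧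
        E.map (kL f) *ᵥ (fun l => algebraMap ((W4bk4gw11416.baseChange f K).presheaf.stalk y)
          (W4bk4gw11416.baseChange f K).functionField (v l)) =
            fun l => algebraMap ((W4bk4gw11416.baseChange f K).presheaf.stalk y)
              (W4bk4gw11416.baseChange f K).functionField (v l) := by
  classical
  let Z := W4bk4gw11416.baseChange f K
  let c : Matrix (Fin N) (Fin N) (Coh.Γtop Z) := E.map (Coh.toGlobal (W4bk4gw11416.baseChangeTo f K))
  have hco : ∀ a, stCo (bcForm f A) y (RefHull.stalkMapₗ ε y a) =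
      c.map (Z.presheaf.germ ⊤ y trivial) *ᵥ stCo (bcForm f A) y a := fun a =>
    stCo_smulMat ε c hε y a
  have hE : ∀ w : Fin N → Z.presheaf.stalk y, (fun l => algebraMap (Z.presheaf.stalk y) Z.functionField
      ((c.map (Z.presheaf.germ ⊤ y trivial) *ᵥ w) l)) =
      E.map (kL f) *ᵥ fun l => algebraMap (Z.presheaf.stalk y) Z.functionField (w l) := fun w => by
    funext i
    rw [RingHom.map_mulVec]
    refine congrFun (congrArg (· *ᵥ _) (Matrix.ext fun a b => ?_)) i
    exact TopCat.Presheaf.germ_stalkSpecializes_apply Z.presheaf (show y ∈ (⊤ : Z.Opens) from trivial)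
      (genericPoint_specializes y) _
  constructor
  · rintro ⟨b, rfl⟩
    rw [stCo_fixForm]
    refine ⟨(range_stCo_bc f A y _).1 ⟨_, rfl⟩, ?_⟩
    rw [← hE, ← hco]
    have h1 : RefHull.stalkMapₗ ε y (RefHull.stalkMapₗ (kernel.ι (𝟙 _ - ε)) y b) =
        RefHull.stalkMapₗ (kernel.ι (𝟙 _ - ε)) y b := by
      have hk : kernel.ι (𝟙 (bcMod f K (lat A)) - ε) ≫ ε = kernel.ι (𝟙 (bcMod f K (lat A)) - ε) := by
        have h := kernel.condition (𝟙 (bcMod f K (lat A)) - ε)
        rw [Preadditive.comp_sub, Category.comp_id, sub_eq_zero] at h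
        exact h.symm
      obtain ⟨V, hy, s, rfl⟩ := (fixMod f A ε).presheaf.exists_germ_eq b
      rw [RefHull.stalkMapₗ_germ, RefHull.stalkMapₗ_germ,
        ← CategoryTheory.comp_apply (f := (kernel.ι (𝟙 (bcMod f K (lat A)) - ε)).app V) (g := ε.app V),
        ← Scheme.Modules.Hom.comp_app, hk]
    rw [h1]
  · rintro ⟨h0, h1⟩
    obtain ⟨a, rfl⟩ := (range_stCo_bc f A y v).2 h0
    have hfix : RefHull.stalkMapₗ ε y a = a := stCo_injective (separating_bcForm f A) y (by
      funext l
      refine IsFractionRing.injective (Z.presheaf.stalk y) Z.functionField ?_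
      exact congrFun ((congrArg (fun w : Fin N → Z.presheaf.stalk y => fun l =>
        algebraMap (Z.presheaf.stalk y) Z.functionField (w l)) (hco a)).trans ((hE _).trans h1)) l)
    obtain ⟨V, hy, s, rfl⟩ := (bcMod f K (lat A)).presheaf.exists_germ_eq a
    rw [RefHull.stalkMapₗ_germ] at hfix
    obtain ⟨W, hyW, i₁, i₂, heq⟩ := (bcMod f K (lat A)).presheaf.germ_eq y hy hy _ _ hfix
    have hzero : (𝟙 (bcMod f K (lat A)) - ε).app W (M1.mres _ i₁.le s) = 0 := by
      rw [Scheme.Modules.Hom.sub_app]
      show M1.mres _ i₁.le s - ε.app W (M1.mres _ i₁.le s) = 0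
      rw [M1.app_mres, sub_eq_zero]
      exact heq.symm
    obtain ⟨t, ht⟩ := M1.sections_exact
      (S := ShortComplex.mk (kernel.ι (𝟙 (bcMod f K (lat A)) - ε)) _ (kernel.condition _))
      (ShortComplex.exact_of_f_is_kernel _ (kernelIsKernel _)) W _ hzero
    refine ⟨(fixMod f A ε).presheaf.germ W y hyW t, ?_⟩
    rw [stCo_fixForm, RefHull.stalkMapₗ_germ,
      show (kernel.ι (𝟙 (bcMod f K (lat A)) - ε)).app W t = M1.mres _ i₁.le s from ht]
    congr 1
    exact M1.germ_mres _ i₁.le hyW s

/-- A rank one fixed part is invertible. -/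
theorem isInvertible_fix [IsLocallyNoetherian (W4bk4gw11416.baseChange f K)]
    (hufd : ∀ y : W4bk4gw11416.baseChange f K,
      UniqueFactorizationMonoid ((W4bk4gw11416.baseChange f K).presheaf.stalk y))
    (hε : ∀ i, ε ≫ bcForm f A i = ∑ l, bcForm f A l ≫ sc f K (Coh.structureModule _) (E i l))
    (v₀ : Fin N → (W4bk4gw11416.baseChange f K).functionField) (hv₀ : v₀ ≠ 0)
    (h₀ : A.map (ffMap (proj f K)) *ᵥ v₀ = 0 ∧ E.map (kL f) *ᵥ v₀ = v₀)
    (huniq : ∀ w, A.map (ffMap (proj f K)) *ᵥ w = 0 → E.map (kL f) *ᵥ w = w → ∃ t : (W4bk4gw11416.baseChange f K).functionField, w = t • v₀) :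
    PicF.IsInvertible (fixMod f A ε) := by
  let Z := W4bk4gw11416.baseChange f K
  have hM : Coh.IsCoh (bcMod f K (lat A)) := M1.isCoh_pullback (proj f K) (isCoh_lat A)
  refine RH26.isInvertible_of_gen (M1.isCoh_kernel hM hM.1 _) fun y => ?_
  haveI := hufd y
  obtain ⟨v, hv, ⟨μ, hμ⟩, huni⟩ := exists_primitive (Z.presheaf.stalk y) (L := Z.functionField) hv₀
  obtain ⟨g, hg⟩ := (range_stCo_fix f A ε E hε y v).2 (by
    rw [hμ, Matrix.mulVec_smul, Matrix.mulVec_smul, h₀.1, h₀.2, smul_zero]
    exact ⟨rfl, rfl⟩)
  have hμ0 : μ ≠ 0 := fun h => hv (funext fun l => by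
    refine IsFractionRing.injective (Z.presheaf.stalk y) Z.functionField ?_
    rw [Pi.zero_apply, map_zero]
    exact (congrFun hμ l).trans (by rw [h, zero_smul, Pi.zero_apply]))
  refine ⟨g, fun r r' h => ?_, fun b => ?_⟩
  · have h' := congrArg (stCo (fixForm f A ε) y) h
    simp only [map_smul, hg] at h'
    obtain ⟨l, hl⟩ := Function.ne_iff.1 hv
    exact mul_right_cancel₀ hl (congrFun h' l)
  · obtain ⟨hb0, hb1⟩ := (range_stCo_fix f A ε E hε y _).1 ⟨b, rfl⟩
    obtain ⟨t, ht⟩ := huniq _ hb0 hb1
    obtain ⟨r, hr⟩ := huni (stCo (fixForm f A ε) y b) (t * μ⁻¹) (by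
      rw [ht, hμ, smul_smul, mul_assoc, inv_mul_cancel₀ hμ0, mul_one])
    refine ⟨r, stCo_injective (separating_fixForm f A ε) y ?_⟩
    rw [map_smul, hg, hr]

end Groth.Agent.KS29
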