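import Mathlib.AlgebraicGeometry.Morphisms.Proper
import Mathlib.AlgebraicGeometry.Morphisms.UniversallyInjective
import Mathlib.AlgebraicGeometry.Morphisms.QuasiSeparated
import Mathlib.AlgebraicGeometry.Morphisms.ClosedImmersion
import Mathlib.Topology.Sheaves.SheafCondition.Sites

/-!
Factoring morphisms through a surjective closed morphism with `q_* O = O`.
-/

set_option autoImplicit false
set_option backward.isDefEq.respectTransparency false
set_option backward.isDefEq.respectTransparency.types false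
universe u

open CategoryTheory CategoryTheory.Limits AlgebraicGeometry TopologicalSpace Opposite

noncomputable section

namespace Groth.Agent.KS29.Factor

/-- A morphism into an affine open is given by its ring map. -/
theorem ι_comp_eq {X Z : Scheme.{u}} (h : X ⟶ Z) {W : Z.Opens} (hW : IsAffineOpen W) {O : X.Opens}
    (e : O ≤ h ⁻¹ᵁ W) :
    O.ι ≫ h = O.toSpecΓ ≫ Spec.map (h.appLE W O e) ≫ hW.fromSpec := by
  have h1 : (h ⁻¹ᵁ W).toSpecΓ ≫ Spec.map (h.app W) ≫ hW.fromSpec = (h ⁻¹ᵁ W).ι ≫ h := by simp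
  rw [Scheme.Hom.appLE, Spec.map_comp_assoc, Scheme.Opens.toSpecΓ_SpecMap_presheaf_map_assoc, h1,
    Scheme.homOfLE_ι_assoc]

/-- Morphisms over the base into a scheme affine over it agree if their ring maps agree. -/
theorem eq_of_appLE_eq {X Z Y : Scheme.{u}} (g : Z ⟶ Y) [IsAffineHom g] (h h' : X ⟶ Z) (f : X ⟶ Y)
    (w : h ≫ g = f) (w' : h' ≫ g = f)
    (he : ∀ (U : Y.Opens), IsAffineOpen U → ∀ (e : f ⁻¹ᵁ U ≤ h ⁻¹ᵁ (g ⁻¹ᵁ U)) (e' : f ⁻¹ᵁ U ≤ h' ⁻¹ᵁ (g ⁻¹ᵁ U)),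
      h.appLE (g ⁻¹ᵁ U) (f ⁻¹ᵁ U) e = h'.appLE (g ⁻¹ᵁ U) (f ⁻¹ᵁ U) e') : h = h' := by
  refine Scheme.Cover.hom_ext (X.openCoverOfIsOpenCover (fun U : Y.affineOpens => f ⁻¹ᵁ U.1)
    (.comap (iSup_affineOpens_eq_top Y) f.base.1)) _ _ fun U => ?_
  change (f ⁻¹ᵁ U.1).ι ≫ h = (f ⁻¹ᵁ U.1).ι ≫ h'
  have e : f ⁻¹ᵁ U.1 ≤ h ⁻¹ᵁ (g ⁻¹ᵁ U.1) := by rw [← Scheme.Hom.comp_preimage, w]
  have e' : f ⁻¹ᵁ U.1 ≤ h' ⁻¹ᵁ (g ⁻¹ᵁ U.1) := by rw [← Scheme.Hom.comp_preimage, w']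
  rw [ι_comp_eq h (U.2.preimage g) e, ι_comp_eq h' (U.2.preimage g) e', he U.1 U.2 e e']

variable {V C' : Scheme.{u}}

/-- `q` is surjective and `O → q_* O` is bijective. -/
structure Good (q : V ⟶ C') : Prop where
  surj : Function.Surjective q
  app : ∀ D : C'.Opens, Function.Bijective (q.app D)

theorem app_surjective_of_surjective {X Y : Scheme.{u}} (q : X ⟶ Y) (hq : ∀ D : Y.Opens, IsIso (q.app D))
    (hc : IsClosedMap q) : Function.Surjective q := by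
  intro y
  by_contra hy
  let O : Y.Opens := ⟨(Set.range q)ᶜ, hc.isClosed_range.isOpen_compl⟩
  have hyO : y ∈ O := hy
  have h0 : q ⁻¹ᵁ O = ⊥ := by
    ext x
    simp only [Opens.coe_bot, Set.mem_empty_iff_false, iff_false]
    exact fun hx => hx ⟨x, rfl⟩
  haveI := hq O
  haveI : Subsingleton Γ(X, q ⁻¹ᵁ O) := by rw [h0]; infer_instance
  haveI : Subsingleton Γ(Y, O) := (ConcreteCategory.bijective_of_isIso (q.app O)).1.subsingleton
  haveI := (Y.presheaf.germ O y hyO).hom.domain_nontrivial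
  exact false_of_nontrivial_of_subsingleton Γ(Y, O)

theorem Good.restrict {q : V ⟶ C'} (hq : Good q) (D : C'.Opens) : Good (q ∣_ D) := by
  refine ⟨?_, fun D' => ?_⟩
  · intro c
    obtain ⟨v, hv⟩ := hq.surj c.1
    refine ⟨⟨v, show q v ∈ D from hv ▸ c.2⟩, Subtype.ext ?_⟩
    exact (congr($(morphismRestrict_ι q D) _)).trans hv
  · haveI : IsIso (q.app (D.ι ''ᵁ D')) := (ConcreteCategory.isIso_iff_bijective _).2 (hq.app (D.ι ''ᵁ D'))
    refine (ConcreteCategory.isIso_iff_bijective _).1 ?_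
    rw [morphismRestrict_app]
    exact IsIso.comp_isIso' inferInstance inferInstance

/-- Such a morphism is an epimorphism of schemes. -/
theorem Good.hom_ext {q : V ⟶ C'} (hq : Good q) {C : Scheme.{u}} (u₁ u₂ : C' ⟶ C) (h : q ≫ u₁ = q ≫ u₂) :
    u₁ = u₂ := by
  have hb : ∀ c, u₁ c = u₂ c := fun c => by
    obtain ⟨v, rfl⟩ := hq.surj c
    exact congr($h v)
  have key : ∀ c : C', ∃ D : C'.Opens, c ∈ D ∧ D.ι ≫ u₁ = D.ι ≫ u₂ := by
    intro c
    obtain ⟨W, hW, hcW, -⟩ := exists_isAffineOpen_mem_and_subset (U := (⊤ : C.Opens)) (x := u₁ c) trivial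
    have e2 : u₁ ⁻¹ᵁ W ≤ u₂ ⁻¹ᵁ W := fun d hd => by
      show u₂ d ∈ W
      rw [← hb d]; exact hd
    refine ⟨u₁ ⁻¹ᵁ W, hcW, ?_⟩
    rw [ι_comp_eq u₁ hW le_rfl, ι_comp_eq u₂ hW e2]
    congr 2
    refine congrArg Spec.map ?_
    refine CommRingCat.hom_ext (RingHom.ext fun a => (hq.app _).1 ?_)
    have h1 : (q ≫ u₁).appLE W (q ⁻¹ᵁ (u₁ ⁻¹ᵁ W)) le_rfl =
        (q ≫ u₂).appLE W (q ⁻¹ᵁ (u₁ ⁻¹ᵁ W)) (q.preimage_mono e2) := by
      simp only [h]
    have h3 : ∀ (u : C' ⟶ C) (e : u₁ ⁻¹ᵁ W ≤ u ⁻¹ᵁ W),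
        (q ≫ u).appLE W (q ⁻¹ᵁ (u₁ ⁻¹ᵁ W)) (q.preimage_mono e) = u.appLE W _ e ≫ q.app _ := by
      intro u e
      rw [q.app_eq_appLE, Scheme.Hom.appLE_comp_appLE]
    rw [h3 u₁ le_rfl, h3 u₂ e2] at h1
    exact ConcreteCategory.congr_hom h1 a
  choose D hD hDu using key
  exact Scheme.Cover.hom_ext (C'.openCoverOfIsOpenCover D
    (IsOpenCover.mk (top_le_iff.1 fun c _ => Opens.mem_iSup.2 ⟨c, hD c⟩))) _ _ hDu

/-- Morphisms constant on the fibres factor. -/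
theorem Good.exists_factor {q : V ⟶ C'} (hq : Good q) (hc : IsClosedMap q) {C : Scheme.{u}} (φ : V ⟶ C)
    (hconst : ∀ v w, q v = q w → φ v = φ w) : ∃ u : C' ⟶ C, q ≫ u = φ := by
  let ub : C' → C := fun c => φ (hq.surj c).choose
  have hub : ∀ v, ub (q v) = φ v := fun v => hconst _ _ (hq.surj (q v)).choose_spec
  have hqm : Topology.IsQuotientMap q := hc.isQuotientMap q.continuous hq.surj
  have hcont : Continuous ub := by
    rw [hqm.continuous_iff]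
    have : ub ∘ q = φ := funext hub
    rw [this]
    exact φ.continuous
  have key : ∀ c : C', ∃ (D : C'.Opens) (u : (D : Scheme.{u}) ⟶ C), c ∈ D ∧
      (q ∣_ D) ≫ u = (q ⁻¹ᵁ D).ι ≫ φ := by
    intro c
    obtain ⟨W, hW, hcW, -⟩ := exists_isAffineOpen_mem_and_subset (U := (⊤ : C.Opens)) (x := ub c) trivial
    obtain ⟨D, hD, hcD, hDW⟩ := exists_isAffineOpen_mem_and_subset
      (U := (⟨ub ⁻¹' W, W.2.preimage hcont⟩ : C'.Opens)) (x := c) hcW
    have e : q ⁻¹ᵁ D ≤ φ ⁻¹ᵁ W := fun v hv => by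
      show φ v ∈ W
      rw [← hub v]; exact hDW hv
    haveI : IsIso (q.app D) := (ConcreteCategory.isIso_iff_bijective _).2 (hq.app D)
    refine ⟨D, D.toSpecΓ ≫ Spec.map (φ.appLE W (q ⁻¹ᵁ D) e ≫ inv (q.app D)) ≫ hW.fromSpec, hcD, ?_⟩
    have hn : (q ∣_ D) ≫ D.toSpecΓ = (q ⁻¹ᵁ D).toSpecΓ ≫ Spec.map (q.app D) := by
      rw [← cancel_mono hD.fromSpec]
      simp [morphismRestrict_ι]
    rw [reassoc_of% hn, ← Spec.map_comp_assoc, Category.assoc, IsIso.inv_hom_id, Category.comp_id,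
      ← ι_comp_eq φ hW e]
  choose D u hD hu using key
  let 𝒰 := C'.openCoverOfIsOpenCover D
    (IsOpenCover.mk (top_le_iff.1 fun c _ => Opens.mem_iSup.2 ⟨c, hD c⟩))
  have hover : ∀ a b : C', C'.homOfLE (inf_le_left : D a ⊓ D b ≤ D a) ≫ u a =
      C'.homOfLE (inf_le_right : D a ⊓ D b ≤ D b) ≫ u b := by
    intro a b
    refine (hq.restrict (D a ⊓ D b)).hom_ext _ _ ?_
    have hr : ∀ (D₁ D₂ : C'.Opens) (h : D₁ ≤ D₂),
        (q ∣_ D₁) ≫ C'.homOfLE h = V.homOfLE (q.preimage_mono h) ≫ (q ∣_ D₂) := by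
      intro D₁ D₂ h
      rw [← cancel_mono D₂.ι]
      simp [morphismRestrict_ι]
    rw [reassoc_of% (hr _ _ inf_le_left), reassoc_of% (hr _ _ inf_le_right), hu, hu]
    simp
  refine ⟨𝒰.glueMorphisms u fun a b => ?_, ?_⟩
  · have hp := isPullback_opens_inf (X := C') (D a) (D b)
    show pullback.fst (D a).ι (D b).ι ≫ u a = pullback.snd (D a).ι (D b).ι ≫ u b
    refine (cancel_epi hp.isoPullback.hom).1 ?_
    simp only [IsPullback.isoPullback_hom_fst_assoc, IsPullback.isoPullback_hom_snd_assoc]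
    exact hover a b
  · refine Scheme.Cover.hom_ext (V.openCoverOfIsOpenCover (fun c => q ⁻¹ᵁ D c)
      (IsOpenCover.mk (top_le_iff.1 fun v _ => Opens.mem_iSup.2 ⟨q v, hD (q v)⟩))) _ _ fun c => ?_
    change (q ⁻¹ᵁ D c).ι ≫ q ≫ _ = (q ⁻¹ᵁ D c).ι ≫ φ
    rw [← hu c, ← morphismRestrict_ι_assoc]
    congr 1
    exact 𝒰.ι_glueMorphisms u _ c

/-- `O → q_* O` is bijective if it is over the affine preimages of the base. -/
theorem app_bijective {Y : Scheme.{u}} (g : C' ⟶ Y) [IsAffineHom g] (q : V ⟶ C') (f : V ⟶ Y)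
    [QuasiCompact f] [QuasiSeparated f] (w : q ≫ g = f)
    (h : ∀ U : Y.Opens, IsAffineOpen U → IsIso (q.app (g ⁻¹ᵁ U))) (D : C'.Opens) : IsIso (q.app D) := by
  let I := {Us : Y.affineOpens × Unit // True}
  let B : ((U : Y.affineOpens) × Γ(C', g ⁻¹ᵁ U.1)) → C'.Opens := fun x => C'.basicOpen x.2
  have hB : Opens.IsBasis (Set.range B) := by
    refine Opens.isBasis_iff_nbhd.mpr fun {O c} hc => ?_
    obtain ⟨U, hU, hcU, -⟩ := exists_isAffineOpen_mem_and_subset (U := (⊤ : Y.Opens)) (x := g c) trivial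
    obtain ⟨s, hsO, hcs⟩ := (hU.preimage g).exists_basicOpen_le (V := O) ⟨c, hc⟩ hcU
    exact ⟨_, ⟨⟨⟨U, hU⟩, s⟩, rfl⟩, hcs, hsO⟩
  have hb : ∀ x, IsIso (q.app (B x)) := by
    rintro ⟨⟨U, hU⟩, s⟩
    haveI := h U hU
    let A := Γ(C', g ⁻¹ᵁ U)
    have hWA : IsAffineOpen (g ⁻¹ᵁ U) := hU.preimage g
    letI : Algebra Γ(C', g ⁻¹ᵁ U) Γ(C', C'.basicOpen s) :=
      (C'.presheaf.map (homOfLE (C'.basicOpen_le s)).op).hom.toAlgebra
    haveI : IsLocalization.Away s Γ(C', C'.basicOpen s) := hWA.isLocalization_basicOpen s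
    have hqf : q ⁻¹ᵁ (g ⁻¹ᵁ U) = f ⁻¹ᵁ U := by rw [← Scheme.Hom.comp_preimage, w]
    have hqc : IsCompact ((q ⁻¹ᵁ (g ⁻¹ᵁ U) : V.Opens) : Set V) := by
      rw [hqf]; exact f.isCompact_preimage hU.isCompact
    have hqs : IsQuasiSeparated ((q ⁻¹ᵁ (g ⁻¹ᵁ U) : V.Opens) : Set V) := by
      rw [hqf]; exact f.isQuasiSeparated_preimage hU.isQuasiSeparated
    letI : Algebra Γ(V, q ⁻¹ᵁ (g ⁻¹ᵁ U)) Γ(V, V.basicOpen (q.app (g ⁻¹ᵁ U) s)) :=
      (V.presheaf.map (homOfLE (V.basicOpen_le _)).op).hom.toAlgebra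
    haveI : IsLocalization.Away (q.app (g ⁻¹ᵁ U) s) Γ(V, V.basicOpen (q.app (g ⁻¹ᵁ U) s)) :=
      isLocalization_basicOpen_of_qcqs hqc hqs _
    let e : Γ(C', g ⁻¹ᵁ U) ≃+* Γ(V, q ⁻¹ᵁ (g ⁻¹ᵁ U)) := (asIso (q.app (g ⁻¹ᵁ U))).commRingCatIsoToRingEquiv
    let e' : Γ(C', C'.basicOpen s) ≃+* Γ(V, V.basicOpen (q.app (g ⁻¹ᵁ U) s)) :=
      IsLocalization.ringEquivOfRingEquiv (M := Submonoid.powers s)
        (T := Submonoid.powers (q.app (g ⁻¹ᵁ U) s)) _ _ e (by rw [Submonoid.map_powers]; rfl)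
    have heq : V.basicOpen (q.app (g ⁻¹ᵁ U) s) ≤ q ⁻¹ᵁ C'.basicOpen s :=
      (q.preimage_basicOpen s).ge
    let m : Γ(C', C'.basicOpen s) ⟶ Γ(V, V.basicOpen (q.app (g ⁻¹ᵁ U) s)) :=
      q.appLE _ _ heq
    have hm : m = CommRingCat.ofHom e'.toRingHom := by
      refine CommRingCat.hom_ext (IsLocalization.ringHom_ext (Submonoid.powers s) (RingHom.ext fun a => ?_))
      show m (C'.presheaf.map (homOfLE (C'.basicOpen_le s)).op a) = e' (algebraMap _ _ a)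
      rw [IsLocalization.ringEquivOfRingEquiv_eq]
      exact ConcreteCategory.congr_hom (Scheme.Hom.map_appLE q heq (homOfLE (C'.basicOpen_le s)).op) a
    have hmi : IsIso m := by
      rw [hm]
      exact (ConcreteCategory.isIso_iff_bijective _).2 e'.bijective
    have h2 : q.app (C'.basicOpen s) ≫ V.presheaf.map (homOfLE heq).op = m := rfl
    haveI : IsIso (V.presheaf.map (homOfLE heq).op) := by
      rw [show (homOfLE heq) = eqToHom (q.preimage_basicOpen s).symm from Subsingleton.elim _ _]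
      infer_instance
    rw [← h2] at hmi
    exact IsIso.of_isIso_comp_right (q.app (C'.basicOpen s)) (V.presheaf.map (homOfLE heq).op)
  let F : TopCat.Sheaf CommRingCat.{u} C'.carrier := C'.sheaf
  let G : TopCat.Sheaf CommRingCat.{u} C'.carrier :=
    ⟨q.base _* V.presheaf, TopCat.Sheaf.pushforward_sheaf_of_sheaf _ V.sheaf.property⟩
  let α : F ⟶ G := ⟨q.c⟩
  haveI := TopCat.Opens.coverDense_inducedFunctor hB
  have hα : IsIso α := by
    refine Functor.IsCoverDense.iso_of_restrict_iso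
      (G := inducedFunctor B) α ?_
    rw [NatTrans.isIso_iff_isIso_app]
    intro x
    exact hb x.unop
  have : IsIso q.c := Functor.map_isIso (TopCat.Sheaf.forget CommRingCat.{u} C'.carrier) α
  exact (inferInstance : IsIso (q.c.app (op D)))

end Groth.Agent.KS29.Factor
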