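import Groth.Agent.Lib.FibreLocus.Apps
import Groth.Agent.Lib.Curve17.Basic
import Groth.Agent.Lib.Descend.PointLocal
import Groth.Agent.Lib.WeilExt.Apply
import Groth.Agent.Lib.SmoothReg17.Basic
import Mathlib.AlgebraicGeometry.Morphisms.QuasiFinite

/-!
# Base change of a fibred surface along a cover unramified over the singular fibres
-/

set_option autoImplicit false
set_option linter.style.haveILetI false
set_option backward.isDefEq.respectTransparency false
set_option backward.isDefEq.respectTransparency.types false
set_option maxHeartbeats 1000000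

universe u

open CategoryTheory CategoryTheory.Limits AlgebraicGeometry TopologicalSpace

namespace Groth.Agent.KS29.FibSurf

variable {k : Type u} [Field k]

theorem isPrincipalIdealRing_stalk {C : Scheme.{u}} (c : C ⟶ Spec (CommRingCat.of k)) [Smooth c] [IsIntegral C]
    (hd : topologicalKrullDim C = 1) (x : C) : IsPrincipalIdealRing (C.presheaf.stalk x) := by
  haveI : IsLocallyNoetherian C := LocallyOfFiniteType.isLocallyNoetherian c
  by_cases hx : x = genericPoint C
  · subst hx
    letI : Field (C.presheaf.stalk (genericPoint C)) := (inferInstance : Field C.functionField)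
    infer_instance
  · haveI := SmoothReg17.isDomain_stalk c x
    haveI : IsIntegrallyClosed (C.presheaf.stalk x) := SmoothReg17.isIntegrallyClosed_stalk c x
    haveI := Curve17.isDiscreteValuationRing_stalk hd (Curve17.isClosed_singleton hd.le hx)
    infer_instance

/-- Morphisms to a smooth curve which map the generic point to the generic point are flat. -/
theorem flat_to_curve {X C : Scheme.{u}} [IsIntegral X] [IsIntegral C] (c : C ⟶ Spec (CommRingCat.of k)) [Smooth c]
    (hd : topologicalKrullDim C = 1) (f : X ⟶ C) (hf : f (genericPoint X) = genericPoint C) : Flat f :=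
  Flat.of_stalkMap f fun x => Curve17.flat_stalkMap_of_dvr f hf x (isPrincipalIdealRing_stalk c hd (f x))

/-- A finite morphism of curves is dominant. -/
theorem map_genericPoint_of_finite {C' C : Scheme.{u}} [IsIntegral C'] [IsIntegral C]
    (c : C ⟶ Spec (CommRingCat.of k)) (c' : C' ⟶ Spec (CommRingCat.of k)) [LocallyOfFiniteType c'] [LocallyOfFiniteType c]
    (hd' : topologicalKrullDim C' = 1) (hd : topologicalKrullDim C = 1) (ψ : C' ⟶ C) [IsFinite ψ] :
    ψ (genericPoint C') = genericPoint C := by
  by_contra hne
  have hcl := Curve17.isClosed_singleton hd.le hne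
  have key : ∀ z, ψ z = ψ (genericPoint C') := fun z =>
    ((genericPoint_specializes z).map ψ.continuous).mem_closed hcl rfl
  have hfin : (Set.univ : Set C').Finite :=
    (ψ.finite_preimage_singleton (ψ (genericPoint C'))).subset fun z _ => key z
  haveI : JacobsonSpace C' := LocallyOfFiniteType.jacobsonSpace c'
  have hcp : IsClosed (closedPoints C') := by
    have hf : (closedPoints C').Finite := hfin.subset (Set.subset_univ _)
    rw [← Set.biUnion_of_singleton (closedPoints C')]
    exact hf.isClosed_biUnion fun z hz => hz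
  have h1 : closure (closedPoints C') = Set.univ := closure_closedPoints
  rw [hcp.closure_eq] at h1
  exact Curve17.not_isClosed_genericPoint hd' (h1.ge (Set.mem_univ (genericPoint C')))

theorem smooth_pullback {S C C' : Scheme.{u}} (s : S ⟶ Spec (CommRingCat.of k)) (c : C ⟶ Spec (CommRingCat.of k))
    (c' : C' ⟶ Spec (CommRingCat.of k)) [IsIntegral S] [IsIntegral C] [IsIntegral C'] [Smooth s] [Smooth c] [Smooth c']
    (hdC : topologicalKrullDim C = 1) (hdC' : topologicalKrullDim C' = 1)
    (f : S ⟶ C) (hf : f ≫ c = s) [Surjective f] (ψ : C' ⟶ C) (hψc : ψ ≫ c = c') [IsFinite ψ]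
    (hψ : ∀ z : C', ¬ Smooth (f.fiberToSpecResidueField (ψ z)) → ∃ U : C'.Opens, z ∈ U ∧ FormallyUnramified (U.ι ≫ ψ)) :
    Smooth (pullback.snd f ψ ≫ c') := by
  have hfgen : f (genericPoint S) = genericPoint C := by
    obtain ⟨x, hx⟩ := f.surjective (genericPoint C)
    exact ((genericPoint_specializes (f (genericPoint S))).antisymm
      (hx ▸ (genericPoint_specializes x).map f.continuous)).eq.symm
  haveI := flat_to_curve c hdC f hfgen
  haveI : LocallyOfFinitePresentation f := by
    haveI : LocallyOfFinitePresentation (f ≫ c) := by rw [hf]; infer_instance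
    exact SchBasic.locallyOfFinitePresentation_of_comp f c
  haveI : LocallyOfFinitePresentation ψ := by
    haveI : LocallyOfFinitePresentation (ψ ≫ c) := by rw [hψc]; infer_instance
    exact SchBasic.locallyOfFinitePresentation_of_comp ψ c
  haveI := flat_to_curve c hdC ψ (map_genericPoint_of_finite c c' hdC' hdC ψ)
  have key : ∀ p : (pullback f ψ : Scheme.{u}), ∃ W : (pullback f ψ).Opens, p ∈ W ∧
      Smooth (W.ι ≫ pullback.snd f ψ ≫ c') := by
    intro p
    let x := pullback.fst f ψ p
    let z := pullback.snd f ψ p
    have hxz : f x = ψ z := by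
      rw [← Scheme.Hom.comp_apply, pullback.condition, Scheme.Hom.comp_apply]
    by_cases hs : Smooth (f.fiberToSpecResidueField (ψ z))
    · obtain ⟨U, hxU, hU⟩ := (FibreLocus.smooth_fiberToSpecResidueField_iff f (ψ z)).1 hs x hxz
      refine ⟨pullback.fst f ψ ⁻¹ᵁ U, hxU, ?_⟩
      haveI : Smooth ((pullback.fst f ψ ⁻¹ᵁ U).ι ≫ pullback.snd f ψ) :=
        MorphismProperty.of_isPullback (P := @Smooth)
          ((isPullback_morphismRestrict (pullback.fst f ψ) U).paste_vert (IsPullback.of_hasPullback f ψ)) hU
      rw [← Category.assoc]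
      infer_instance
    · obtain ⟨V, hzV, hV⟩ := Descend.etale_nhd_of_flat_of_unramified ψ z (Flat.stalkMap ψ z) (hψ z hs)
      refine ⟨pullback.snd f ψ ⁻¹ᵁ V, hzV, ?_⟩
      haveI : Etale ((pullback.snd f ψ ⁻¹ᵁ V).ι ≫ pullback.fst f ψ) :=
        MorphismProperty.of_isPullback (P := @Etale)
          ((isPullback_morphismRestrict (pullback.snd f ψ) V).paste_vert (IsPullback.of_hasPullback f ψ).flip) hV
      have e : (pullback.snd f ψ ⁻¹ᵁ V).ι ≫ pullback.snd f ψ ≫ c' =
          ((pullback.snd f ψ ⁻¹ᵁ V).ι ≫ pullback.fst f ψ) ≫ s := by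
        rw [← hψc, ← pullback.condition_assoc, hf, Category.assoc]
      rw [e]
      infer_instance
  choose W hpW hW using key
  exact IsZariskiLocalAtSource.of_openCover (P := @Smooth)
    ((pullback f ψ).openCoverOfIsOpenCover W (IsOpenCover.mk (top_le_iff.1 fun p _ => Opens.mem_iSup.2 ⟨p, hpW p⟩))) hW

end Groth.Agent.KS29.FibSurf
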