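import Groth.Agent.Lib.KS29.GrassIrr
import Groth.Agent.Lib.Grass.FlagGrass

/-!
# Flag schemes of locally free modules: existence, smoothness, geometric irreducibility
-/

set_option autoImplicit false
set_option linter.style.haveILetI false
set_option linter.unusedSectionVars false
set_option backward.isDefEq.respectTransparency false
set_option backward.isDefEq.respectTransparency.types false
set_option maxHeartbeats 1600000

universe u

open CategoryTheory CategoryTheory.Limits AlgebraicGeometry Scheme.Modules TopologicalSpace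

namespace Groth.Agent.KS29Gr

open Groth.Agent Groth.Agent.GrassLib

variable {X : Scheme.{u}} {E : X.Modules}

theorem quotBC_id {F : Scheme.{u}} {π : F ⟶ X} {Q : F.Modules} (q : (Scheme.Modules.pullback π).obj E ⟶ Q)
    (hg : 𝟙 F ≫ π = π) : Grass.quotBC hg q ≫ ((pullbackId F).app Q).hom = q := by
  have hn := (pullbackId F).hom.naturality q
  simp only [Functor.id_map] at hn
  show ((pullbackCongr hg).inv.app E ≫ (pullbackComp (𝟙 F) π).inv.app E ≫ (Scheme.Modules.pullback (𝟙 F)).map q) ≫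
    (pullbackId F).hom.app Q = q
  rw [Category.assoc, Category.assoc, hn, ← Grass18.eq_id_of_quotBC.cmp_id π E hg]
  simp [ModLimH13.cmp]

/-- Compatibility isomorphisms compose. -/
theorem exists_iso_comp {F F' T : Scheme.{u}} {π : F ⟶ X} {π' : F' ⟶ X} {g : T ⟶ X} {Q : F.Modules}
    {Q' : F'.Modules} {L : T.Modules} {q : (Scheme.Modules.pullback π).obj E ⟶ Q}
    {q' : (Scheme.Modules.pullback π').obj E ⟶ Q'} {s : (Scheme.Modules.pullback g).obj E ⟶ L}
    {c : F' ⟶ F} {h : T ⟶ F'} (hc : c ≫ π = π') (hh : h ≫ π' = g) (hg : (h ≫ c) ≫ π = g)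
    (e : (Scheme.Modules.pullback c).obj Q ≅ Q') (he : Grass.quotBC hc q ≫ e.hom = q')
    (f : (Scheme.Modules.pullback h).obj Q' ≅ L) (hf : Grass.quotBC hh q' ≫ f.hom = s) :
    ∃ e' : (Scheme.Modules.pullback (h ≫ c)).obj Q ≅ L, Grass.quotBC hg q ≫ e'.hom = s := by
  refine ⟨((pullbackComp h c).app Q).symm ≪≫ (Scheme.Modules.pullback h).mapIso e ≪≫ f, ?_⟩
  rw [GrassLib.quotBC_comp q hc hh hg, Category.assoc]
  simp only [Iso.trans_hom, Iso.symm_hom, Iso.app_inv, Functor.mapIso_hom, Iso.hom_inv_id_app_assoc]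
  rw [← Category.assoc, ← GrassLib.quotBC_comp_map, he, hf]

theorem flag_eq_id {F : Scheme.{u}} {π : F ⟶ X} {m : ℕ} {n : Fin m → ℕ} {Q : Fin m → F.Modules}
    {q : ∀ i, (Scheme.Modules.pullback π).obj E ⟶ Q i} (hF : Grass.IsFlag π E n Q q) (h : F ⟶ F) (hh : h ≫ π = π)
    (he : ∀ i, ∃ e : (Scheme.Modules.pullback h).obj (Q i) ≅ Q i, Grass.quotBC hh (q i) ≫ e.hom = q i) : h = 𝟙 F := by
  choose e he using he
  exact (hF.lift_unique π Q hF.rank q hF.epi hF.nested h hh e he).trans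
    (hF.lift_unique π Q hF.rank q hF.epi hF.nested (𝟙 F) (Category.id_comp π) (fun i => (pullbackId F).app (Q i))
      (fun i => quotBC_id (q i) _)).symm

theorem isGrass_of_flagOne {F : Scheme.{u}} {π : F ⟶ X} {n : Fin 1 → ℕ} {Q : Fin 1 → F.Modules}
    {q : ∀ i, (Scheme.Modules.pullback π).obj E ⟶ Q i} (hF : Grass.IsFlag π E n Q q) :
    Grass.IsGrass π E (n 0) (Q 0) (q 0) where
  rank := hF.rank 0
  epi := hF.epi 0
  univ T g L hL s hs := by
    obtain ⟨h, ⟨hg, e, he⟩, huniq⟩ := hF.univ T g (fun _ => L) (fun i => by rw [Subsingleton.elim i 0]; exact hL)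
      (fun _ => s) (fun _ => hs) (fun _ _ _ => ⟨𝟙 _, Category.comp_id _⟩)
    refine ⟨h, ⟨hg, e 0, he 0⟩, fun h' ⟨hg', e', he'⟩ => huniq h' ?_⟩
    have : ∀ i : Fin 1, ∃ ei : (Scheme.Modules.pullback h').obj (Q i) ≅ L, Grass.quotBC hg' (q i) ≫ ei.hom = s :=
      fun i => by rw [Subsingleton.elim i 0]; exact ⟨e', he'⟩
    choose ei hei using this
    exact ⟨hg', ei, hei⟩

/-- The flag scheme of the empty type. -/
theorem isFlag_zero (X : Scheme.{u}) (E : X.Modules) (n : Fin 0 → ℕ) :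
    Grass.IsFlag (𝟙 X) E n (fun i => i.elim0) (fun i => i.elim0) where
  rank i := i.elim0
  epi i := i.elim0
  nested i := i.elim0
  univ T g L hL s hs hn :=
    ⟨g, ⟨Category.comp_id g, fun i => i.elim0, fun i => i.elim0⟩, fun h' ⟨hg', _⟩ => by
      rw [← hg', Category.comp_id]⟩

theorem isIso_of_flagZero {F : Scheme.{u}} {π : F ⟶ X} {n : Fin 0 → ℕ} {Q : Fin 0 → F.Modules}
    {q : ∀ i, (Scheme.Modules.pullback π).obj E ⟶ Q i} (hF : Grass.IsFlag π E n Q q) : IsIso π := by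
  obtain ⟨h, ⟨hh, -⟩, -⟩ := hF.univ X (𝟙 X) (fun i => i.elim0) (fun i => i.elim0) (fun i => i.elim0)
    (fun i => i.elim0) (fun i => i.elim0)
  exact ⟨h, flag_eq_id hF _ (by rw [Category.assoc, hh, Category.comp_id]) (fun i => i.elim0), hh⟩

/-- A Grassmannian of the last quotient of a flag scheme is a flag scheme. -/
theorem exists_isFlag_snoc {F F' : Scheme.{u}} {π : F ⟶ X} {m : ℕ} {n : Fin (m + 2) → ℕ}
    {Q : Fin (m + 1) → F.Modules} {q : ∀ i, (Scheme.Modules.pullback π).obj E ⟶ Q i}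
    (hF : Grass.IsFlag π E (fun i => n (Fin.castSucc i)) Q q)
    {c : F' ⟶ F} {Ql : F'.Modules} {ql : (Scheme.Modules.pullback c).obj (Q (Fin.last m)) ⟶ Ql}
    (hG : Grass.IsGrass c (Q (Fin.last m)) (n (Fin.last (m + 1))) Ql ql) :
    ∃ (Q' : Fin (m + 2) → F'.Modules) (q' : ∀ i, (Scheme.Modules.pullback (c ≫ π)).obj E ⟶ Q' i),
      Grass.IsFlag (c ≫ π) E n Q' q' := by
  let fam : Fin (m + 2) → QuotOf ((Scheme.Modules.pullback (c ≫ π)).obj E) :=
    Fin.lastCases ⟨Ql, Grass.quotBC rfl (q (Fin.last m)) ≫ ql⟩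
      (fun i => ⟨(Scheme.Modules.pullback c).obj (Q i), Grass.quotBC rfl (q i)⟩)
  have fcs : ∀ i, fam (Fin.castSucc i) =
      ⟨(Scheme.Modules.pullback c).obj (Q i), Grass.quotBC rfl (q i)⟩ := fun i =>
    Fin.lastCases_castSucc ..
  have flast : fam (Fin.last (m + 1)) = ⟨Ql, Grass.quotBC rfl (q (Fin.last m)) ≫ ql⟩ :=
    Fin.lastCases_last ..
  haveI hepim : Epi (Grass.quotBC (π := π) (h := c) rfl (q (Fin.last m))) :=
    haveI := hF.epi (Fin.last m); epi_quotBC rfl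
  refine ⟨fun j => (fam j).1, fun j => (fam j).2, ⟨fun j => ?_, fun j => ?_, ?_, ?_⟩⟩
  · exact Fin.lastCases (by rw [flast]; exact hG.rank)
      (fun i => by rw [fcs]; exact M2.isFinLocFreeOfRank_pullback c (hF.rank i)) j
  · exact Fin.lastCases (by
      rw [flast]
      haveI := hG.epi
      exact epi_comp _ _)
      (fun i => by rw [fcs]; haveI := hF.epi i; exact epi_quotBC rfl) j
  · intro i
    induction i using Fin.lastCases with
    | last =>
      intro j hj
      rw [le_antisymm (Fin.le_last j) hj]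
      exact ⟨𝟙 _, Category.comp_id _⟩
    | cast i =>
      intro j
      induction j using Fin.lastCases with
      | last =>
        intro _
        rw [fcs, flast]
        obtain ⟨w, hw⟩ := hF.nested i (Fin.last m) (Fin.le_last _)
        refine ⟨(Scheme.Modules.pullback c).map w ≫ ql, ?_⟩
        rw [← Category.assoc, ← quotBC_comp_map, hw]
      | cast j =>
        intro hij
        rw [fcs, fcs]
        obtain ⟨w, hw⟩ := hF.nested i j (Fin.castSucc_le_castSucc_iff.mp hij)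
        exact ⟨(Scheme.Modules.pullback c).map w, by rw [← quotBC_comp_map, hw]⟩
  intro T g L hL s hs hn
  obtain ⟨h₀, ⟨hh₀, e₀, he₀⟩, hu₀⟩ := hF.univ T g (fun i => L (Fin.castSucc i)) (fun i => hL _)
    (fun i => s (Fin.castSucc i)) (fun i => hs _) (fun i j hij => hn _ _ (Fin.castSucc_le_castSucc_iff.mpr hij))
  obtain ⟨t, ht⟩ := hn (Fin.castSucc (Fin.last m)) (Fin.last (m + 1)) (Fin.le_last _)
  haveI : Epi t := by
    haveI : Epi (s (Fin.castSucc (Fin.last m)) ≫ t) := by rw [ht]; exact hs _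
    exact epi_of_epi (s (Fin.castSucc (Fin.last m))) t
  obtain ⟨h, ⟨hhc, el, hel⟩, hul⟩ := hG.univ T h₀ (L (Fin.last (m + 1))) (hL _)
    ((e₀ (Fin.last m)).hom ≫ t) (epi_comp _ _)
  -- reading a quotient through `c`
  have key : ∀ (a : T ⟶ F') (b : T ⟶ F) (hab : a ≫ c = b) (ha : a ≫ c ≫ π = g) (hb : b ≫ π = g)
      (i : Fin (m + 1)),
      Grass.quotBC hb (q i) = Grass.quotBC ha (Grass.quotBC rfl (q i)) ≫
        (ModLimH13.cmp a c hab).hom.app (Q i) ∧
      ∀ {Z : F'.Modules} (x : (Scheme.Modules.pullback c).obj (Q i) ⟶ Z),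
        Grass.quotBC hb (q i) ≫ Grass.quotBC hab x = Grass.quotBC ha (Grass.quotBC rfl (q i) ≫ x) := by
    intro a b hab ha hb i
    subst hab
    have h1 := quotBC_comp (q i) (rfl : c ≫ π = c ≫ π) ha hb
    refine ⟨?_, fun {Z} x => ?_⟩
    · rw [h1]
      simp [ModLimH13.cmp, pullbackCongr]
    · refine Eq.trans (congrArg (· ≫ Grass.quotBC rfl x) h1) ?_
      refine Eq.trans (Category.assoc _ _ _) ?_
      refine Eq.trans (congrArg (Grass.quotBC ha (Grass.quotBC rfl (q i)) ≫ ·) ?_)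
        (quotBC_comp_map ha (Grass.quotBC rfl (q i)) x).symm
      simp only [Grass.quotBC, pullbackCongr_inv_app, eqToHom_refl, Category.id_comp,
        Iso.hom_inv_id_app_assoc]
  have hh : h ≫ c ≫ π = g := by rw [← Category.assoc, hhc, hh₀]
  refine ⟨h, ⟨hh, ?_⟩, ?_⟩
  · have : ∀ j, ∃ e : (Scheme.Modules.pullback h).obj (fam j).1 ≅ L j, Grass.quotBC hh (fam j).2 ≫ e.hom = s j := by
      intro j
      induction j using Fin.lastCases with
      | last =>
        rw [flast]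
        refine ⟨el, ?_⟩
        rw [← (key h h₀ hhc hh hh₀ (Fin.last m)).2 ql, Category.assoc, hel, ← Category.assoc, he₀, ht]
      | cast i =>
        rw [fcs]
        refine ⟨(ModLimH13.cmp h c hhc).app (Q i) ≪≫ e₀ i, ?_⟩
        rw [Iso.trans_hom, Iso.app_hom, ← Category.assoc, ← (key h h₀ hhc hh hh₀ i).1, he₀]
    choose e he using this
    exact ⟨e, he⟩
  · rintro h' ⟨hh', e', he'⟩
    have hx : ∀ i, ∃ e : (Scheme.Modules.pullback h').obj ((Scheme.Modules.pullback c).obj (Q i)) ≅ L (Fin.castSucc i),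
        Grass.quotBC hh' (Grass.quotBC rfl (q i)) ≫ e.hom = s (Fin.castSucc i) := fun i => by
      have hj : ∃ e : (Scheme.Modules.pullback h').obj (fam (Fin.castSucc i)).1 ≅ L (Fin.castSucc i),
          Grass.quotBC hh' (fam (Fin.castSucc i)).2 ≫ e.hom = s (Fin.castSucc i) := ⟨_, he' _⟩
      rwa [fcs] at hj
    have hxl : ∃ e : (Scheme.Modules.pullback h').obj Ql ≅ L (Fin.last (m + 1)),
        Grass.quotBC hh' (Grass.quotBC rfl (q (Fin.last m)) ≫ ql) ≫ e.hom = s (Fin.last (m + 1)) := by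
      have hj : ∃ e : (Scheme.Modules.pullback h').obj (fam (Fin.last (m + 1))).1 ≅ L (Fin.last (m + 1)),
          Grass.quotBC hh' (fam (Fin.last (m + 1))).2 ≫ e.hom = s (Fin.last (m + 1)) := ⟨_, he' _⟩
      rwa [flast] at hj
    choose ex hex using hx
    obtain ⟨exl, hexl⟩ := hxl
    have hb : (h' ≫ c) ≫ π = g := by rw [Category.assoc, hh']
    have hc0 : h' ≫ c = h₀ := hu₀ _ ⟨hb, fun i => ((ModLimH13.cmp h' c rfl).app (Q i)).symm ≪≫ ex i, fun i => by
      rw [(key h' _ rfl hh' hb i).1, Category.assoc]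
      simp only [Iso.trans_hom, Iso.symm_hom, Iso.app_inv, Iso.hom_inv_id_app_assoc]
      exact hex i⟩
    refine hul h' ⟨hc0, exl, ?_⟩
    haveI := hF.epi (Fin.last m)
    haveI := epi_quotBC (q := q (Fin.last m)) hh₀
    rw [← cancel_epi (Grass.quotBC hh₀ (q (Fin.last m))), ← Category.assoc, (key h' h₀ hc0 hh' hh₀ _).2 ql, hexl,
      ← Category.assoc, he₀, ht]

variable {N : ℕ}

/-- Flag schemes of locally free modules exist. -/
theorem exists_isFlag (hE : FlatMod.IsFinLocFreeOfRank N E) :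
    ∀ (m : ℕ) (n : Fin m → ℕ), StrictAnti n → (∀ i, n i < N) →
      ∃ (F : Scheme.{u}) (π : F ⟶ X) (Q : Fin m → F.Modules)
        (q : ∀ i, (Scheme.Modules.pullback π).obj E ⟶ Q i), Grass.IsFlag π E n Q q := by
  intro m
  induction m with
  | zero => exact fun n _ _ => ⟨X, 𝟙 X, _, _, isFlag_zero X E n⟩
  | succ m ih =>
    intro n hn hN
    cases m with
    | zero =>
      obtain ⟨G, Q, q, hG, -⟩ := Grass18.exists_isGrass E (n 0) hE (hN 0).le
      have h1 : n = ![n 0] := funext fun i => by obtain rfl : i = 0 := Fin.fin_one_eq_zero i; rfl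
      rw [h1]
      exact ⟨G.left, G.hom, _, _, Grass.IsFlag.of_isGrass hG⟩
    | succ m =>
      obtain ⟨F, π, Q, q, hF⟩ := ih (fun i => n (Fin.castSucc i)) (fun a b hab => hn (Fin.castSucc_lt_castSucc_iff.2 hab))
        (fun i => hN _)
      obtain ⟨G, Ql, ql, hG, -⟩ := Grass18.exists_isGrass (Q (Fin.last m)) (n (Fin.last (m + 1))) (hF.rank _)
        (hn (Fin.castSucc_lt_last (Fin.last m))).le
      obtain ⟨Q', q', h⟩ := exists_isFlag_snoc hF hG
      exact ⟨G.left, G.hom ≫ π, Q', q', h⟩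

/-- The properties of forgetful maps of flag schemes. -/
def Good (d : ℕ) {Y Z : Scheme.{u}} (f : Y ⟶ Z) : Prop :=
  SmoothOfRelativeDimension d f ∧ IsProper f ∧ GeometricallyIrreducible f

theorem good_grass {S G : Scheme.{u}} {V : S.Modules} {r n : ℕ} {π : G ⟶ S} {Q : G.Modules}
    {q : (Scheme.Modules.pullback π).obj V ⟶ Q}
    (hG : Grass.IsGrass π V r Q q) (hV : FlatMod.IsFinLocFreeOfRank n V) (hr : r < n) : Good (r * (n - r)) π :=
  ⟨smooth_of_isGrass hG hV hr, Grass18.isProper_of_isGrass hG hV hr.le,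
    geometricallyIrreducible_of_isGrass hG hV hr.le⟩

theorem good_iso {Y Z : Scheme.{u}} (f : Y ⟶ Z) [IsIso f] : Good 0 f :=
  ⟨inferInstance, inferInstance, ⟨geometrically_iff_of_isClosedUnderIsomorphisms.mpr fun K _ x ↦
    (asIso (pullback.snd f x)).hom.homeomorph.irreducibleSpace_iff.2
      (inferInstanceAs (IrreducibleSpace (PrimeSpectrum K)))⟩⟩

theorem good_comp {Y Z W : Scheme.{u}} {f : Y ⟶ Z} {g : Z ⟶ W} {a b : ℕ} (hf : Good a f) (hg : Good b g) :
    Good (a + b) (f ≫ g) := by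
  obtain ⟨h1, h2, h3⟩ := hf
  obtain ⟨h4, h5, h6⟩ := hg
  haveI := SmoothOfRelativeDimension.smooth a f
  haveI := SmoothOfRelativeDimension.smooth b g
  exact ⟨inferInstance, inferInstance, GeometricallyIrreducible.comp f g⟩

/-- Forgetting the last step. -/
theorem good_step (hE : FlatMod.IsFinLocFreeOfRank N E) {F F' : Scheme.{u}} {π : F ⟶ X} {π' : F' ⟶ X}
    {m : ℕ} {n : Fin (m + 1) → ℕ} (hn : StrictAnti n) (hN : ∀ i, n i < N)
    {Q : Fin m → F.Modules} {q : ∀ i, (Scheme.Modules.pullback π).obj E ⟶ Q i}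
    (hF : Grass.IsFlag π E (fun i => n (Fin.castSucc i)) Q q)
    {Q' : Fin (m + 1) → F'.Modules} {q' : ∀ i, (Scheme.Modules.pullback π').obj E ⟶ Q' i}
    (hF' : Grass.IsFlag π' E n Q' q')
    (c : F' ⟶ F) (hc : c ≫ π = π')
    (iso : ∀ i, (Scheme.Modules.pullback c).obj (Q i) ≅ Q' (Fin.castSucc i))
    (hiso : ∀ i, Grass.quotBC hc (q i) ≫ (iso i).hom = q' (Fin.castSucc i)) :
    Good (n (Fin.last m) * ((Fin.cons N n : Fin (m + 2) → ℕ) (Fin.castSucc (Fin.last m)) - n (Fin.last m))) c := by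
  cases m with
  | zero =>
    haveI := isIso_of_flagZero hF
    have hg := good_grass (isGrass_of_flagOne hF') hE (hN 0)
    have hc' : c = π' ≫ inv π := by rw [← hc, Category.assoc, IsIso.hom_inv_id, Category.comp_id]
    have := good_comp hg (good_iso (inv π))
    rw [← hc', add_zero] at this
    simpa using this
  | succ m =>
    obtain ⟨t, ht⟩ := hF'.nested (Fin.castSucc (Fin.last m)) (Fin.last (m + 1)) (Fin.le_last _)
    have hG := isGrass_last X F F' π π' E m n Q q hF Q' q' hF' c hc iso hiso t ht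
    have e : Fin.castSucc (Fin.last (m + 1)) = Fin.succ (Fin.castSucc (Fin.last m)) := Fin.ext (by simp)
    rw [e, Fin.cons_succ]
    exact good_grass hG (hF.rank _) (hn (Fin.castSucc_lt_last (Fin.last m)))

theorem cons_castSucc {m : ℕ} (n : Fin (m + 1) → ℕ) (i : Fin m) :
    (Fin.cons N n : Fin (m + 2) → ℕ) (Fin.castSucc (Fin.castSucc i)) =
      (Fin.cons N (fun j => n (Fin.castSucc j)) : Fin (m + 1) → ℕ) (Fin.castSucc i) := by
  cases m with
  | zero => exact i.elim0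
  | succ m =>
    induction i using Fin.cases with
    | zero => simp
    | succ j => simp [Fin.castSucc_succ]

/-- Forgetting the steps after the first `k`. -/
theorem good_forget (hE : FlatMod.IsFinLocFreeOfRank N E) {k : ℕ} {F₀ : Scheme.{u}} {π₀ : F₀ ⟶ X}
    {Q₀ : Fin k → F₀.Modules} {q₀ : ∀ i, (Scheme.Modules.pullback π₀).obj E ⟶ Q₀ i} :
    ∀ (m : ℕ) (hk : k ≤ m) (n : Fin m → ℕ), StrictAnti n → (∀ i, n i < N) →
    Grass.IsFlag π₀ E (fun i => n (Fin.castLE hk i)) Q₀ q₀ →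
    ∀ (F : Scheme.{u}) (π : F ⟶ X) (Q : Fin m → F.Modules) (q : ∀ i, (Scheme.Modules.pullback π).obj E ⟶ Q i),
    Grass.IsFlag π E n Q q →
    ∀ (h : F ⟶ F₀) (hh : h ≫ π₀ = π) (e : ∀ i, (Scheme.Modules.pullback h).obj (Q₀ i) ≅ Q (Fin.castLE hk i)),
    (∀ i, Grass.quotBC hh (q₀ i) ≫ (e i).hom = q (Fin.castLE hk i)) →
    Good (∑ i : Fin m, if k ≤ (i : ℕ) then n i * ((Fin.cons N n : Fin (m + 1) → ℕ) (Fin.castSucc i) - n i) else 0) h := by
  have base : ∀ (hk : k ≤ k) (n : Fin k → ℕ),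
      Grass.IsFlag π₀ E (fun i => n (Fin.castLE hk i)) Q₀ q₀ →
      ∀ (F : Scheme.{u}) (π : F ⟶ X) (Q : Fin k → F.Modules) (q : ∀ i, (Scheme.Modules.pullback π).obj E ⟶ Q i),
      Grass.IsFlag π E n Q q →
      ∀ (h : F ⟶ F₀) (hh : h ≫ π₀ = π) (e : ∀ i, (Scheme.Modules.pullback h).obj (Q₀ i) ≅ Q (Fin.castLE hk i)),
      (∀ i, Grass.quotBC hh (q₀ i) ≫ (e i).hom = q (Fin.castLE hk i)) → IsIso h := by
    intro hk n hF₀ F π Q q hF h hh e he
    obtain ⟨b, ⟨hb, f, hf⟩, -⟩ := hF.univ F₀ π₀ Q₀ hF₀.rank q₀ hF₀.epi hF₀.nested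
    refine ⟨b, flag_eq_id hF (h ≫ b) (by rw [Category.assoc, hb, hh]) (fun i => ?_),
      flag_eq_id hF₀ (b ≫ h) (by rw [Category.assoc, hh, hb]) (fun i => ?_)⟩
    · exact exists_iso_comp hb hh _ (f i) (hf i) (e i) (he i)
    · exact exists_iso_comp hh hb _ (e i) (he i) (f i) (hf i)
  intro m
  induction m with
  | zero =>
    intro hk n hn hN hF₀ F π Q q hF h hh e he
    obtain rfl : k = 0 := Nat.le_zero.1 hk
    haveI := base hk n hF₀ F π Q q hF h hh e he
    simpa using good_iso h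
  | succ m ih =>
    intro hk n hn hN hF₀ F π Q q hF h hh e he
    rcases eq_or_lt_of_le hk with hkm | hkm
    · subst hkm
      haveI := base hk n hF₀ F π Q q hF h hh e he
      rw [Finset.sum_eq_zero fun i _ => if_neg (by omega)]
      exact good_iso h
    have hk₁ : k ≤ m := Nat.lt_succ_iff.1 hkm
    have hn₁ : StrictAnti fun i => n (Fin.castSucc i) := fun a b hab => hn (Fin.castSucc_lt_castSucc_iff.2 hab)
    obtain ⟨F₁, π₁, Q₁, q₁, hF₁⟩ := exists_isFlag hE m (fun i => n (Fin.castSucc i)) hn₁ (fun i => hN _)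
    obtain ⟨c, ⟨hc, iso, hiso⟩, -⟩ := hF₁.univ F π (fun i => Q (Fin.castSucc i)) (fun i => hF.rank _)
      (fun i => q (Fin.castSucc i)) (fun i => hF.epi _)
      (fun i j hij => hF.nested _ _ (Fin.castSucc_le_castSucc_iff.mpr hij))
    obtain ⟨h₁, ⟨hh₁, e₁, he₁⟩, -⟩ := hF₀.univ F₁ π₁ (fun i => Q₁ (Fin.castLE hk₁ i)) (fun i => hF₁.rank _)
      (fun i => q₁ (Fin.castLE hk₁ i)) (fun i => hF₁.epi _)
      (fun i j hij => hF₁.nested _ _ ((Fin.castLE_le_castLE_iff hk₁).mpr hij))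
    have hch : (c ≫ h₁) ≫ π₀ = π := by rw [Category.assoc, hh₁, hc]
    have : ∀ i, ∃ e' : (Scheme.Modules.pullback (c ≫ h₁)).obj (Q₀ i) ≅ Q (Fin.castLE hk i),
        Grass.quotBC hch (q₀ i) ≫ e'.hom = q (Fin.castLE hk i) := fun i =>
      exists_iso_comp hh₁ hc hch (e₁ i) (he₁ i) (iso (Fin.castLE hk₁ i)) (hiso (Fin.castLE hk₁ i))
    choose e' he' using this
    have heq : h = c ≫ h₁ := (hF₀.univ F π (fun i => Q (Fin.castLE hk i)) (fun i => hF.rank _)
      (fun i => q (Fin.castLE hk i)) (fun i => hF.epi _)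
      (fun i j hij => hF.nested _ _ ((Fin.castLE_le_castLE_iff hk).mpr hij))).unique ⟨hh, e, he⟩ ⟨hch, e', he'⟩
    have g1 := good_step hE hn hN hF₁ hF c hc iso hiso
    have g2 := ih hk₁ (fun i => n (Fin.castSucc i)) hn₁ (fun i => hN _) hF₀ F₁ π₁ Q₁ q₁ hF₁ h₁ hh₁ e₁ he₁
    rw [heq, Fin.sum_univ_castSucc, Fin.val_last, if_pos hk₁, add_comm]
    simp only [Fin.val_castSucc, cons_castSucc]
    exact good_comp g1 g2

end Groth.Agent.KS29Gr
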