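import Groth.Agent.Lib.KS29.SymbExt
import Mathlib.Algebra.Group.UniqueProds.Basic
import Mathlib.RingTheory.Localization.Integer

/-!
# Products with generic symbol algebras stay division algebras
-/

set_option autoImplicit false
set_option linter.style.haveILetI false
set_option linter.unusedSectionVars false
set_option maxHeartbeats 800000

universe u

open TensorProduct

noncomputable section

namespace Groth.Agent.KS29

variable {k : Type u} [Field k] {D : Type u} [DivisionRing D] [Algebra k D] [FiniteDimensional k D]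
variable {S : Type u} [Ring S] [Algebra (Rat2 k) S]
variable (x y : S) {n : ℕ}

/-- A monomial with a constant coefficient. -/
def monT (p : ℕ × ℕ) : D →+ (Rat2 k ⊗[k] D) ⊗[Rat2 k] S where
  toFun d := ((1 : Rat2 k) ⊗ₜ[k] d) ⊗ₜ[Rat2 k] (x ^ p.1 * y ^ p.2)
  map_zero' := by simp
  map_add' d e := by rw [TensorProduct.tmul_add, TensorProduct.add_tmul]

theorem monT_apply (p : ℕ × ℕ) (d : D) :
    monT (k := k) x y p d = ((1 : Rat2 k) ⊗ₜ[k] d) ⊗ₜ[Rat2 k] (x ^ p.1 * y ^ p.2) := rfl

theorem algebraMap_smul_monT (c : k) (p : ℕ × ℕ) (d : D) :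
    algebraMap k (Rat2 k) c • monT (k := k) x y p d = monT (k := k) x y p (c • d) := by
  rw [monT_apply, monT_apply, TensorProduct.smul_tmul', algebraMap_smul, ← TensorProduct.tmul_smul]

variable {c : k} (hyx : y * x = algebraMap k (Rat2 k) c • (x * y))

include hyx in
theorem pow_mul_pow (j i : ℕ) :
    y ^ j * x ^ i = algebraMap k (Rat2 k) (c ^ (j * i)) • (x ^ i * y ^ j) := by
  have h1 : ∀ i : ℕ, y * x ^ i = algebraMap k (Rat2 k) (c ^ i) • (x ^ i * y) := fun i => by
    induction i with
    | zero => simp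
    | succ i ih =>
      rw [pow_succ x i, ← mul_assoc, ih, smul_mul_assoc, mul_assoc, hyx, mul_smul_comm, smul_smul, ← map_mul,
        ← mul_assoc, ← pow_succ]
  induction j with
  | zero => simp
  | succ j ih =>
    rw [pow_succ' y j, mul_assoc, ih, mul_smul_comm, ← mul_assoc, h1, smul_mul_assoc, smul_smul, ← map_mul,
      mul_assoc, ← pow_add, Nat.succ_mul]

include hyx in
theorem monT_mul (p q : ℕ × ℕ) (d e : D) :
    monT (k := k) x y p d * monT (k := k) x y q e = monT (k := k) x y (p + q) (c ^ (p.2 * q.1) • (d * e)) := by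
  rw [← algebraMap_smul_monT, monT_apply, monT_apply, monT_apply, Algebra.TensorProduct.tmul_mul_tmul,
    Algebra.TensorProduct.tmul_mul_tmul, one_mul, ← TensorProduct.tmul_smul]
  congr 1
  rw [mul_assoc, ← mul_assoc (y ^ p.2), pow_mul_pow x y hyx, smul_mul_assoc, mul_smul_comm, mul_assoc, ← pow_add,
    ← mul_assoc, ← pow_add]
  rfl

/-- The exponent of a monomial in two variables. -/
def ex2 (s t : ℕ) : Fin 2 →₀ ℕ := Finsupp.single 0 s + Finsupp.single 1 t

theorem ex2_inj {s t s' t' : ℕ} (h : ex2 s t = ex2 s' t') : s = s' ∧ t = t' :=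
  ⟨by simpa [ex2] using DFunLike.congr_fun h 0, by simpa [ex2] using DFunLike.congr_fun h 1⟩

theorem monomial_ex2 (s t : ℕ) (a : k) :
    MvPolynomial.monomial (ex2 s t) a = MvPolynomial.C a * MvPolynomial.X 0 ^ s * MvPolynomial.X 1 ^ t := by
  rw [MvPolynomial.X_pow_eq_monomial, MvPolynomial.X_pow_eq_monomial, MvPolynomial.C_mul_monomial,
    MvPolynomial.monomial_mul, mul_one, mul_one]
  rfl

variable (hx : x ^ n = algebraMap (Rat2 k) S (algebraMap _ _ (MvPolynomial.X (R := k) (0 : Fin 2))))
  (hy : y ^ n = algebraMap (Rat2 k) S (algebraMap _ _ (MvPolynomial.X (R := k) (1 : Fin 2))))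

include hx hy in
theorem mon_reduce (p : ℕ × ℕ) :
    x ^ p.1 * y ^ p.2 = algebraMap (MvPolynomial (Fin 2) k) (Rat2 k)
      (MvPolynomial.X 0 ^ (p.1 / n) * MvPolynomial.X 1 ^ (p.2 / n)) • (x ^ (p.1 % n) * y ^ (p.2 % n)) := by
  conv_lhs => rw [← Nat.mod_add_div p.1 n, ← Nat.mod_add_div p.2 n]
  rw [pow_add, pow_add, pow_mul, pow_mul, hx, hy, ← map_pow, ← map_pow, ← map_pow, ← map_pow,
    ← Algebra.commutes, ← Algebra.commutes, ← Algebra.smul_def, ← Algebra.smul_def, smul_mul_assoc, mul_smul_comm,
    smul_smul, ← map_mul]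

/-- The monomials below `n`. -/
def monFam (n : ℕ) (q : Fin n × Fin n) : S := x ^ (q.1 : ℕ) * y ^ (q.2 : ℕ)

include hyx hx hy in
theorem span_monFam (hn : 0 < n) (hgen : Algebra.adjoin (Rat2 k) ({x, y} : Set S) = ⊤) :
    ⊤ ≤ Submodule.span (Rat2 k) (Set.range (monFam x y n)) := by
  set P := Submodule.span (Rat2 k) (Set.range (monFam x y n)) with hP
  have hmon : ∀ p : ℕ × ℕ, x ^ p.1 * y ^ p.2 ∈ P := fun p => by
    rw [mon_reduce x y hx hy p]
    exact P.smul_mem _ (Submodule.subset_span ⟨(⟨p.1 % n, Nat.mod_lt _ hn⟩, ⟨p.2 % n, Nat.mod_lt _ hn⟩), rfl⟩)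
  have hone : (1 : S) ∈ P := by simpa using hmon (0, 0)
  have hmul : ∀ u v : S, u ∈ P → v ∈ P → u * v ∈ P := by
    intro u v hu hv
    induction hu using Submodule.span_induction with
    | zero => simp
    | add a b _ _ ha hb => rw [add_mul]; exact P.add_mem ha hb
    | smul r a _ ha => rw [smul_mul_assoc]; exact P.smul_mem r ha
    | mem a ha =>
      induction hv using Submodule.span_induction with
      | zero => simp
      | add a b _ _ ha hb => rw [mul_add]; exact P.add_mem ha hb
      | smul r a _ ha => rw [mul_smul_comm]; exact P.smul_mem r ha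
      | mem b hb =>
        obtain ⟨p, rfl⟩ := ha
        obtain ⟨q, rfl⟩ := hb
        rw [monFam, monFam, mul_assoc, ← mul_assoc (y ^ (p.2 : ℕ)), pow_mul_pow x y hyx, smul_mul_assoc,
          mul_smul_comm, mul_assoc, ← pow_add, ← mul_assoc, ← pow_add]
        exact P.smul_mem _ (hmon ((p.1 : ℕ) + q.1, (p.2 : ℕ) + q.2))
  intro z _
  have hz : z ∈ Algebra.adjoin (Rat2 k) ({x, y} : Set S) := hgen ▸ Algebra.mem_top
  induction hz using Algebra.adjoin_induction with
  | mem a ha =>
    rcases ha with rfl | rfl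
    · simpa using hmon (1, 0)
    · simpa using hmon (0, 1)
  | algebraMap r => rw [Algebra.algebraMap_eq_smul_one]; exact P.smul_mem r hone
  | add a b _ _ ha hb => exact P.add_mem (ha trivial) (hb trivial)
  | mul a b _ _ ha hb => exact hmul a b (ha trivial) (hb trivial)

include hyx hx hy in
/-- No zero divisors in the product with a generic symbol algebra. -/
theorem eq_zero_or_eq_zero_of_mul_eq_zero_generic (hn : 0 < n) (hc : c ≠ 0) [FiniteDimensional (Rat2 k) S]
    (hS : Module.finrank (Rat2 k) S = n * n) (hgen : Algebra.adjoin (Rat2 k) ({x, y} : Set S) = ⊤)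
    (z w : (Rat2 k ⊗[k] D) ⊗[Rat2 k] S) (hzw : z * w = 0) : z = 0 ∨ w = 0 := by
  classical
  let bD := Module.finBasis k D
  let bS := basisOfTopLeSpanOfCardEqFinrank (R := Rat2 k) (monFam x y n) (span_monFam x y hyx hx hy hn hgen)
    (by rw [hS, Fintype.card_prod, Fintype.card_fin])
  have hbS : ∀ q, bS q = monFam x y n q := fun q => by
    rw [coe_basisOfTopLeSpanOfCardEqFinrank]
  let bA := (Algebra.TensorProduct.basis (Rat2 k) bD).tensorProduct bS
  let Φ : ((ℕ × ℕ) →₀ D) →+ (Rat2 k ⊗[k] D) ⊗[Rat2 k] S := Finsupp.liftAddHom (monT (k := k) x y)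
  have hΦ : ∀ p d, Φ (Finsupp.single p d) = monT (k := k) x y p d := fun p d =>
    Finsupp.liftAddHom_apply_single _ p d
  let cls' : ℕ × ℕ → Fin n × Fin n := fun p => (⟨p.1 % n, Nat.mod_lt _ hn⟩, ⟨p.2 % n, Nat.mod_lt _ hn⟩)
  let Q : (Fin (Module.finrank k D) × (Fin n × Fin n)) → ((ℕ × ℕ) →₀ D) →+ MvPolynomial (Fin 2) k := fun lq =>
    Finsupp.liftAddHom fun p => if cls' p = lq.2 then
      (MvPolynomial.monomial (ex2 (p.1 / n) (p.2 / n))).toAddMonoidHom.comp (bD.coord lq.1).toAddMonoidHom else 0
  have hrepr : ∀ f lq, bA.repr (Φ f) lq = algebraMap (MvPolynomial (Fin 2) k) (Rat2 k) (Q lq f) := by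
    intro f lq
    induction f using Finsupp.induction_linear with
    | zero => simp
    | add f g hf hg => rw [map_add, map_add, Finsupp.add_apply, hf, hg, map_add, map_add]
    | single p d =>
      obtain ⟨l, q⟩ := lq
      rw [hΦ, monT_apply, mon_reduce x y hx hy p, TensorProduct.tmul_smul, map_smul, Finsupp.smul_apply,
        show x ^ (p.1 % n) * y ^ (p.2 % n) = bS (cls' p) from (hbS (cls' p)).symm,
        Module.Basis.tensorProduct_repr_tmul_apply, Algebra.TensorProduct.basis_repr_tmul, Finsupp.smul_apply,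
        Finsupp.mapRange_apply, one_smul]
      · simp only [Q, Finsupp.liftAddHom_apply_single, Module.Basis.repr_self, Finsupp.single_apply]
        split_ifs
        · show _ = algebraMap _ _ (MvPolynomial.monomial (ex2 (p.1 / n) (p.2 / n)) (bD.repr d l))
          rw [monomial_ex2, mul_assoc, map_mul, one_smul, smul_eq_mul, mul_comm]
          simp only [map_mul]
          rw [IsScalarTower.algebraMap_apply k (MvPolynomial (Fin 2) k) (Rat2 k)]
          rfl
        · simp
  have hinj : ∀ f, Φ f = 0 → f = 0 := fun f hf => by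
    refine Finsupp.ext fun p => bD.repr.injective (Finsupp.ext fun l => ?_)
    rw [Finsupp.zero_apply, map_zero, Finsupp.zero_apply]
    have h0 : Q (l, cls' p) f = 0 := IsFractionRing.injective (MvPolynomial (Fin 2) k) (Rat2 k)
      (by rw [← hrepr, hf, map_zero, map_zero, Finsupp.zero_apply])
    have hco : ∀ g : (ℕ × ℕ) →₀ D,
        MvPolynomial.coeff (ex2 (p.1 / n) (p.2 / n)) (Q (l, cls' p) g) = bD.repr (g p) l := by
      intro g
      induction g using Finsupp.induction_linear with
      | zero => simp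
      | add g g' h h' =>
        rw [map_add, MvPolynomial.coeff_add, h, h', Finsupp.add_apply, map_add, Finsupp.add_apply]
      | single r d =>
        simp only [Q, Finsupp.liftAddHom_apply_single]
        by_cases hr : r = p
        · subst hr
          simp
        · rw [Finsupp.single_eq_of_ne (Ne.symm hr)]
          split_ifs with hq
          · simp only [AddMonoidHom.comp_apply, LinearMap.toAddMonoidHom_coe, MvPolynomial.coeff_monomial, map_zero,
              Finsupp.zero_apply]
            refine if_neg fun he => hr ?_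
            obtain ⟨h1, h2⟩ := ex2_inj he
            simp only [cls', Prod.mk.injEq, Fin.mk.injEq] at hq
            exact Prod.ext (by rw [← Nat.mod_add_div r.1 n, ← Nat.mod_add_div p.1 n, hq.1, h1])
              (by rw [← Nat.mod_add_div r.2 n, ← Nat.mod_add_div p.2 n, hq.2, h2])
          · simp
    rw [← hco f, h0, MvPolynomial.coeff_zero]
  have hrange : ∀ P : MvPolynomial (Fin 2) k, ∀ v ∈ (AddMonoidHom.mrange Φ),
      algebraMap (MvPolynomial (Fin 2) k) (Rat2 k) P • v ∈ (AddMonoidHom.mrange Φ) := by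
    intro P
    induction P using MvPolynomial.induction_on with
    | C a =>
      rintro _ ⟨f, rfl⟩
      induction f using Finsupp.induction_linear with
      | zero => simp
      | add f g hf hg => rw [map_add, smul_add]; exact add_mem hf hg
      | single p d =>
        refine ⟨Finsupp.single p (a • d), ?_⟩
        rw [hΦ, hΦ, ← algebraMap_smul_monT]
        rfl
    | add P P' hP hP' => intro v hv; rw [map_add, add_smul]; exact add_mem (hP v hv) (hP' v hv)
    | mul_X P i hP =>
      intro v hv
      rw [map_mul, mul_smul]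
      refine hP _ ?_
      obtain ⟨f, rfl⟩ := hv
      induction f using Finsupp.induction_linear with
      | zero => simp
      | add f g hf hg => rw [map_add, smul_add]; exact add_mem hf hg
      | single p d =>
        fin_cases i
        · refine ⟨Finsupp.single (p.1 + n, p.2) d, ?_⟩
          rw [hΦ, hΦ, monT_apply, monT_apply, add_comm p.1 n, pow_add, hx, ← Algebra.smul_def, smul_mul_assoc,
            TensorProduct.tmul_smul]
          rfl
        · refine ⟨Finsupp.single (p.1, p.2 + n) d, ?_⟩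
          rw [hΦ, hΦ, monT_apply, monT_apply, add_comm p.2 n, pow_add, hy, ← Algebra.smul_def, mul_smul_comm,
            TensorProduct.tmul_smul]
          rfl
  have hclear : ∀ v : (Rat2 k ⊗[k] D) ⊗[Rat2 k] S, ∃ P : MvPolynomial (Fin 2) k, P ≠ 0 ∧ ∃ f,
      Φ f = algebraMap (MvPolynomial (Fin 2) k) (Rat2 k) P • v := fun v => by
    obtain ⟨⟨P, hP⟩, hint⟩ := IsLocalization.exist_integer_multiples (nonZeroDivisors (MvPolynomial (Fin 2) k))
      Finset.univ (fun i => bA.repr v i)
    refine ⟨P, nonZeroDivisors.ne_zero hP, ?_⟩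
    show algebraMap (MvPolynomial (Fin 2) k) (Rat2 k) P • v ∈ (AddMonoidHom.mrange Φ)
    rw [← bA.sum_repr v, Finset.smul_sum]
    refine sum_mem fun i _ => ?_
    obtain ⟨r, hr⟩ := hint i (Finset.mem_univ _)
    rw [smul_smul, ← Algebra.smul_def]
    refine (show _ • bA i ∈ (AddMonoidHom.mrange Φ) from hr ▸ hrange r (bA i) ⟨Finsupp.single ((i.2.1 : ℕ), (i.2.2 : ℕ)) (bD i.1), ?_⟩)
    rw [hΦ, monT_apply, Module.Basis.tensorProduct_apply, Algebra.TensorProduct.basis_apply, hbS]
    rfl
  obtain ⟨P, hP, f, hf⟩ := hclear z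
  obtain ⟨P', hP', g, hg⟩ := hclear w
  by_contra hne
  rw [not_or] at hne
  have hal : ∀ {Q : MvPolynomial (Fin 2) k}, Q ≠ 0 → algebraMap (MvPolynomial (Fin 2) k) (Rat2 k) Q ≠ 0 :=
    fun hQ h => hQ (IsFractionRing.injective (MvPolynomial (Fin 2) k) (Rat2 k) (h.trans (map_zero _).symm))
  have hf0 : f.support.Nonempty := Finsupp.support_nonempty_iff.2 fun h => hne.1
    ((smul_eq_zero.1 (by rw [← hf, h, map_zero] : algebraMap _ (Rat2 k) P • z = 0)).resolve_left (hal hP))
  have hg0 : g.support.Nonempty := Finsupp.support_nonempty_iff.2 fun h => hne.2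
    ((smul_eq_zero.1 (by rw [← hg, h, map_zero] : algebraMap _ (Rat2 k) P' • w = 0)).resolve_left (hal hP'))
  let h : (ℕ × ℕ) →₀ D := ∑ p ∈ f.support, ∑ q ∈ g.support, Finsupp.single (p + q) (c ^ (p.2 * q.1) • (f p * g q))
  have hh : Φ h = Φ f * Φ g := by
    conv_rhs => rw [← Finsupp.sum_single f, ← Finsupp.sum_single g]
    simp only [h, Finsupp.sum, map_sum, hΦ]
    have hs := Finset.sum_mul_sum f.support g.support
      (fun p => monT (k := k) x y p (f p)) (fun q => monT (k := k) x y q (g q))
    refine Eq.trans ?_ hs.symm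
    exact Finset.sum_congr rfl fun p _ => Finset.sum_congr rfl fun q _ => (monT_mul x y hyx p q _ _).symm
  have hz : h = 0 := hinj h (by rw [hh, hf, hg, smul_mul_smul_comm, hzw, smul_zero])
  obtain ⟨p0, hp0, q0, hq0, hu⟩ := UniqueSums.uniqueAdd_of_nonempty hf0 hg0
  have hval : h (p0 + q0) = c ^ (p0.2 * q0.1) • (f p0 * g q0) := by
    simp only [h, Finsupp.finset_sum_apply, Finsupp.single_apply]
    rw [Finset.sum_eq_single p0, Finset.sum_eq_single q0, if_pos rfl]
    · exact fun q hq hne => if_neg fun he => hne (hu hp0 hq he).2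
    · exact fun hq => absurd hq0 hq
    · exact fun p hp hne => Finset.sum_eq_zero fun q hq => if_neg fun he => hne (hu hp hq he).1
    · exact fun hp => absurd hp0 hp
  rw [hz, Finsupp.zero_apply, eq_comm, smul_eq_zero] at hval
  exact (mul_ne_zero (Finsupp.mem_support_iff.1 hp0) (Finsupp.mem_support_iff.1 hq0))
    (hval.resolve_left (pow_ne_zero _ hc))

end Groth.Agent.KS29
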