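import Groth.Agent.Lib.KS29.GenIndex
import Mathlib.RingTheory.RootsOfUnity.EnoughRootsOfUnity
import Mathlib.FieldTheory.IsAlgClosed.AlgebraicClosure
import Mathlib.NumberTheory.Cyclotomic.Basic

/-!
# Central simple algebras with prescribed period and index
-/

set_option autoImplicit false
set_option linter.style.haveILetI false
set_option maxHeartbeats 800000

universe u

open TensorProduct

noncomputable section

namespace Groth.Agent.KS29

open Brauer25

/-- Multiplying by a generic symbol algebra multiplies the index and takes the lcm of periods. -/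
theorem exists_divisionRing_step {k : Type u} [Field k] (D : Type u) [DivisionRing D] [Algebra k D]
    [Algebra.IsCentral k D] [FiniteDimensional k D] {d : ℕ} (hd : Module.finrank k D = d * d)
    {n : ℕ} (hn : 0 < n) {ω : k} (hω : IsPrimitiveRoot ω n) :
    ∃ (D' : Type u) (_ : DivisionRing D') (_ : Algebra (Rat2 k) D') (_ : Algebra.IsCentral (Rat2 k) D')
      (_ : FiniteDimensional (Rat2 k) D'),
      Module.finrank (Rat2 k) D' = (d * n) * (d * n) ∧
      orderOf (cls (k := Rat2 k) D') = Nat.lcm (orderOf (cls (k := k) D)) n := by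
  obtain ⟨S, _, _, _, _, _, L, _, _, _, _, hS, hSL, hL⟩ := exists_genSymbol k hn hω
  have hs : orderOf (cls (k := Rat2 k) S) = n :=
    isPeriod_iff.1 (Groth.Agent.S13273.result k n hn ω hω (varU k 0) (varU k 1) rfl rfl S hS)
  obtain ⟨x, y, hx, hy, hxy, hgen, -, hSd⟩ := hS
  rw [sq] at hSd
  have hω0 : ω ≠ 0 := hω.ne_zero hn.ne'
  have hyx : y * x = algebraMap k (Rat2 k) ω⁻¹ • (x * y) := by
    rw [hxy, smul_smul, ← show algebraMap k (Rat2 k) ω = algebraMap (MvPolynomial (Fin 2) k) (Rat2 k) (MvPolynomial.C ω)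
      from IsScalarTower.algebraMap_apply k (MvPolynomial (Fin 2) k) (Rat2 k) ω, ← map_mul, inv_mul_cancel₀ hω0,
      map_one, one_smul]
  haveI : IsSimpleRing D := inferInstance
  haveI : Algebra.IsCentral (Rat2 k) ((Rat2 k ⊗[k] D) ⊗[Rat2 k] S) := CSAlg.isCentral_tensor _ _
  haveI : IsSimpleRing ((Rat2 k ⊗[k] D) ⊗[Rat2 k] S) := CSAlg.isSimpleRing_tensor' (k := Rat2 k) _ _
  haveI : IsDomain ((Rat2 k ⊗[k] D) ⊗[Rat2 k] S) := by
    haveI : NoZeroDivisors ((Rat2 k ⊗[k] D) ⊗[Rat2 k] S) :=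
      ⟨fun {z w} h => eq_zero_or_eq_zero_of_mul_eq_zero_generic (D := D) x y hyx hx hy hn (inv_ne_zero hω0) hSd hgen z w h⟩
    haveI : Nontrivial ((Rat2 k ⊗[k] D) ⊗[Rat2 k] S) := IsSimpleRing.instNontrivial
    exact NoZeroDivisors.to_isDomain ((Rat2 k ⊗[k] D) ⊗[Rat2 k] S)
  letI : DivisionRing ((Rat2 k ⊗[k] D) ⊗[Rat2 k] S) := divisionRingOfFiniteDimensional (Rat2 k) _
  refine ⟨(Rat2 k ⊗[k] D) ⊗[Rat2 k] S, inferInstance, inferInstance, inferInstance, inferInstance, ?_, ?_⟩
  · rw [Module.finrank_tensorProduct, Module.finrank_baseChange, hd, hSd]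
    ring
  · have hcls : cls (k := Rat2 k) ((Rat2 k ⊗[k] D) ⊗[Rat2 k] S) =
        res (Rat2 k) (cls (k := k) D) * cls (k := Rat2 k) S := by
      rw [res_cls, cls_mul]
    have key : ∀ e : ℕ, (res (Rat2 k) (cls (k := k) D) * cls (k := Rat2 k) S) ^ e = 1 ↔
        orderOf (cls (k := k) D) ∣ e ∧ n ∣ e := fun e => by
      rw [mul_pow, ← map_pow, orderOf_dvd_iff_pow_eq_one,
        show n ∣ e ↔ cls (k := Rat2 k) S ^ e = 1 by rw [← orderOf_dvd_iff_pow_eq_one, hs]]
      refine ⟨fun h => ?_, fun ⟨h1, h2⟩ => by rw [h1, h2, map_one, one_mul]⟩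
      obtain ⟨C, hC⟩ := exists_cls (cls (k := k) D ^ e)
      have hC1 : cls (k := k) C = 1 := by
        refine cls_eq_one_iff_splits.2 (hL C ((res_cls_eq_one_iff L).1 ?_))
        have h' := congrArg (res L) h
        rw [map_mul, map_pow (res L) (cls (k := Rat2 k) S), (res_cls_eq_one_iff L).2 hSL, one_pow, mul_one, map_one,
          res_res (Rat2 k) L] at h'
        rw [hC, h']
      rw [hC] at hC1
      rw [hC1, map_one, one_mul] at h
      exact ⟨hC1, h⟩
    refine Nat.dvd_antisymm ?_ ?_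
    · rw [orderOf_dvd_iff_pow_eq_one, hcls, key]
      exact ⟨Nat.dvd_lcm_left _ _, Nat.dvd_lcm_right _ _⟩
    · rw [hcls]
      exact Nat.lcm_dvd_iff.2 ((key _).1 (pow_orderOf_eq_one _))

/-- A division algebra with prescribed period and degree over some field. -/
theorem exists_period_index (p : ℕ) (hp : 0 < p) :
    ∀ t : ℕ, 0 < t → (∀ q : ℕ, q.Prime → q ∣ t → q ∣ p) →
      ∃ (k : Type u) (_ : Field k), (∃ ζ : k, IsPrimitiveRoot ζ p) ∧
        ∃ (D : Type u) (_ : DivisionRing D) (_ : Algebra k D) (_ : Algebra.IsCentral k D) (_ : FiniteDimensional k D),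
          Module.finrank k D = (p * t) * (p * t) ∧ orderOf (cls (k := k) D) = p := by
  intro t
  induction t using Nat.strong_induction_on with
  | _ t ih =>
    intro ht hprimes
    rcases eq_or_lt_of_le (Nat.one_le_iff_ne_zero.2 ht.ne') with h1 | h1
    · subst h1
      let K0 := AlgebraicClosure (ULift.{u} ℚ)
      haveI : CharZero (ULift.{u} ℚ) :=
        charZero_of_injective_ringHom (f := (ULift.ringEquiv (R := ℚ)).symm.toRingHom) (RingEquiv.injective _)
      haveI : CharZero K0 := charZero_of_injective_ringHom (f := algebraMap (ULift.{u} ℚ) K0) (RingHom.injective _)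
      haveI : NeZero (p : K0) := ⟨Nat.cast_ne_zero.2 hp.ne'⟩
      obtain ⟨ζ, hζ⟩ := HasEnoughRootsOfUnity.exists_primitiveRoot K0 p
      obtain ⟨D, _, _, _, _, hd, ho⟩ := exists_divisionRing_step (k := K0) K0 (d := 1) (by simp) hp hζ
      refine ⟨Rat2 K0, inferInstance, ⟨_, hζ.map_of_injective (f := algebraMap K0 (Rat2 K0)) (RingHom.injective _)⟩,
        D, _, _, inferInstance, inferInstance, by simpa using hd, ?_⟩
      rw [ho, show cls (k := K0) K0 = 1 from cls_self, orderOf_one, Nat.lcm_one_left]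
    · obtain ⟨q, hq, hqt⟩ := Nat.exists_prime_and_dvd h1.ne'
      obtain ⟨t', rfl⟩ := hqt
      have ht' : 0 < t' := Nat.pos_of_mul_pos_left ht
      obtain ⟨k, _, ⟨ζ, hζ⟩, D, _, _, _, _, hd, ho⟩ := ih t' (lt_mul_left ht' hq.one_lt) ht'
        fun r hr hrt => hprimes r hr (hrt.mul_left q)
      obtain ⟨c, hc⟩ := hprimes q hq (dvd_mul_right q t')
      obtain ⟨D', _, _, _, _, hd', ho'⟩ := exists_divisionRing_step D hd hq.pos
        (hζ.pow hp (by rw [hc, mul_comm]) : IsPrimitiveRoot (ζ ^ c) q)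
      refine ⟨Rat2 k, inferInstance, ⟨_, hζ.map_of_injective (f := algebraMap k (Rat2 k)) (RingHom.injective _)⟩,
        D', _, _, inferInstance, inferInstance, by rw [hd']; ring, ?_⟩
      rw [ho', ho, Nat.lcm_eq_left ⟨c, hc⟩]

end Groth.Agent.KS29
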