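import Groth.Agent.S10852
import Groth.Agent.Lib.Grass18.Proper
import Groth.Agent.Lib.Quot18.GrExists
import Mathlib.AlgebraicGeometry.Geometrically.Irreducible
import Mathlib.LinearAlgebra.Vandermonde
import Mathlib.RingTheory.TensorProduct.MvPolynomial

/-!
# Grassmannians are smooth and geometrically irreducible
-/

set_option autoImplicit false
set_option linter.style.haveILetI false
set_option linter.unusedSectionVars false
set_option backward.isDefEq.respectTransparency false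
set_option backward.isDefEq.respectTransparency.types false
set_option maxHeartbeats 1600000

universe u

open CategoryTheory CategoryTheory.Limits AlgebraicGeometry Scheme.Modules TopologicalSpace TensorProduct

namespace Groth.Agent.KS29Gr

open Groth.Agent Groth.Agent.Quot18 Groth.Agent.GrassLib Groth.Agent.Grass18

attribute [local irreducible] ChartSet.pt

section Charts

variable (R : Type u) [CommRing R] {N k : ℕ}

/-- A normalized matrix gives a point of a chart. -/
noncomputable def chi {L : Type u} [CommRing L] [Algebra R L] (τ : Fin k ↪ Fin N) (A : Matrix (Fin k) (Fin N) L) :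
    GrC.CR R τ →ₐ[R] L :=
  MvPolynomial.aeval fun v => A v.1 v.2.1

theorem M_map_chi {L : Type u} [CommRing L] [Algebra R L] (τ : Fin k ↪ Fin N) (A : Matrix (Fin k) (Fin N) L)
    (hA : A.submatrix id τ = 1) : (GrC.M R τ).map (chi R τ A) = A := by
  ext i c
  rw [Matrix.map_apply, GrC.M, Matrix.of_apply]
  by_cases hc : c ∈ Set.range τ
  · obtain ⟨l, rfl⟩ := hc
    rw [freeEll_apply_range, Pi.single_apply]
    have := congrFun (congrFun hA i) l
    rw [Matrix.submatrix_apply, id, Matrix.one_apply] at this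
    rw [this]
    split <;> simp
  · rw [show c = (⟨c, hc⟩ : {c : Fin N // c ∉ Set.range τ}).1 from rfl, freeEll_apply_compl]
    exact MvPolynomial.aeval_X _ _

/-- Over any field, some point of the Grassmannian lies in all standard charts. -/
theorem exists_mem_all_charts (hk : k ≤ N) (K : Type u) [Field K] (x : Spec (CommRingCat.of K) ⟶ Spec (CommRingCat.of R)) :
    ∃ y : (pullback (GrC.X0 R N k).hom x : Scheme.{u}),
      ∀ σ : Fin k ↪ Fin N, pullback.fst (GrC.X0 R N k).hom x y ∈ Set.range (GrC.j R σ) := by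
  classical
  obtain ⟨φ, rfl⟩ := Spec.map_surjective x
  let L := FractionRing (MvPolynomial (Fin N) K)
  let ι : K →+* L := algebraMap K L
  letI : Algebra R L := (ι.comp φ.hom).toAlgebra
  let v : Fin N → L := fun c => algebraMap (MvPolynomial (Fin N) K) L (MvPolynomial.X c)
  have hv : Function.Injective v :=
    (IsFractionRing.injective (MvPolynomial (Fin N) K) L).comp (MvPolynomial.X_injective (R := K))
  let V : Matrix (Fin k) (Fin N) L := fun i c => v c ^ (i : ℕ)
  have hdet : ∀ σ : Fin k ↪ Fin N, (V.submatrix id σ).det ≠ 0 := fun σ => by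
    rw [← Matrix.det_transpose]
    exact Matrix.det_vandermonde_ne_zero_iff.2 (hv.comp σ.injective)
  let τ : Fin k ↪ Fin N := Fin.castLEEmb hk
  let A : Matrix (Fin k) (Fin N) L := (V.submatrix id τ)⁻¹ * V
  have hsub : ∀ σ : Fin k ↪ Fin N, A.submatrix id σ = (V.submatrix id τ)⁻¹ * V.submatrix id σ := fun σ => by
    ext i l
    simp [A, Matrix.mul_apply]
  have hA : A.submatrix id τ = 1 := by
    rw [hsub, Matrix.nonsing_inv_mul _ (isUnit_iff_ne_zero.2 (hdet τ))]
  let χ : GrC.CR R τ →ₐ[R] L := chi R τ A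
  have hM : ∀ σ : Fin k ↪ Fin N, χ ((GrC.M R τ).submatrix id σ).det ≠ 0 := fun σ => by
    rw [AlgHom.map_det, AlgHom.mapMatrix_apply, ← Matrix.submatrix_map, M_map_chi R τ A hA, hsub, Matrix.det_mul]
    exact mul_ne_zero (Matrix.isUnit_nonsing_inv_det _ (isUnit_iff_ne_zero.2 (hdet τ))).ne_zero (hdet σ)
  have hw : (sp χ ≫ GrC.j R τ) ≫ (GrC.X0 R N k).hom = Spec.map (CommRingCat.ofHom ι) ≫ Spec.map φ := by
    rw [Category.assoc, GrC.j_str, sp_str, ← Spec.map_comp]
    rfl
  let g := pullback.lift (sp χ ≫ GrC.j R τ) (Spec.map (CommRingCat.ofHom ι)) hw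
  let p : Spec (CommRingCat.of L) := IsLocalRing.closedPoint L
  refine ⟨g p, fun σ => ?_⟩
  have e : pullback.fst (GrC.X0 R N k).hom (Spec.map φ) (g p) = GrC.j R τ (sp χ p) := by
    rw [← Scheme.Hom.comp_apply, pullback.lift_fst, Scheme.Hom.comp_apply]
  rw [e]
  refine GrC.mem_range_j R σ τ _ fun h => hM σ ?_
  change χ ((GrC.M R τ).submatrix id σ).det ∈ IsLocalRing.maximalIdeal L at h
  rwa [IsLocalRing.maximalIdeal_eq_bot, Ideal.mem_bot] at h

/-- The chart of a Grassmannian over a field is irreducible. -/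
theorem irreducibleSpace_chart (K : Type u) [Field K] (x : Spec (CommRingCat.of K) ⟶ Spec (CommRingCat.of R))
    (σ : Fin k ↪ Fin N) : IrreducibleSpace (pullback (str R (GrC.CR R σ)) x : Scheme.{u}) := by
  obtain ⟨φ, rfl⟩ := Spec.map_surjective x
  letI : Algebra R K := φ.hom.toAlgebra
  let e : K ⊗[R] GrC.CR R σ ≃ₐ[K] MvPolynomial (FreeVar σ) K := MvPolynomial.algebraTensorAlgEquiv R K
  haveI : IsDomain (K ⊗[R] GrC.CR R σ) := e.toMulEquiv.isDomain _
  let i : pullback (str R (GrC.CR R σ)) (Spec.map (CommRingCat.ofHom (algebraMap R K))) ≅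
      Spec (CommRingCat.of (K ⊗[R] GrC.CR R σ)) := pullbackSymmetry _ _ ≪≫ pullbackSpecIso R K (GrC.CR R σ)
  exact i.hom.homeomorph.irreducibleSpace_iff.2 (inferInstanceAs (IrreducibleSpace (PrimeSpectrum _)))

/-- The Grassmannian of a free module is geometrically irreducible. -/
theorem geometricallyIrreducible_X0 (hk : k ≤ N) : GeometricallyIrreducible (GrC.X0 R N k).hom := by
  refine ⟨geometrically_iff_of_isClosedUnderIsomorphisms.mpr fun K _ x ↦ ?_⟩
  let p := pullback.fst (GrC.X0 R N k).hom x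
  let O : (Fin k ↪ Fin N) → (pullback (GrC.X0 R N k).hom x).Opens := fun σ => p ⁻¹ᵁ (GrC.j R σ).opensRange
  have hO : ∀ σ, IsIrreducible (O σ : Set (pullback (GrC.X0 R N k).hom x : Scheme.{u})) := fun σ => by
    have h1 : IrreducibleSpace (pullback (GrC.j R σ) p : Scheme.{u}) := by
      refine (pullbackRightPullbackFstIso (GrC.X0 R N k).hom x (GrC.j R σ)).hom.homeomorph.irreducibleSpace_iff.2 ?_
      refine (pullback.congrHom (GrC.j_str R σ) (rfl : x = x)).hom.homeomorph.irreducibleSpace_iff.2 ?_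
      exact irreducibleSpace_chart R K x σ
    have h2 : Set.range (pullback.snd (GrC.j R σ) p) = (O σ : Set (pullback (GrC.X0 R N k).hom x : Scheme.{u})) :=
      IsOpenImmersion.range_pullbackSnd _ _
    rw [← h2, ← Set.image_univ]
    exact (IrreducibleSpace.isIrreducible_univ _).image _ (pullback.snd (GrC.j R σ) p).continuous.continuousOn
  obtain ⟨y, hy⟩ := exists_mem_all_charts R hk K x
  have hcov : ∀ z : (pullback (GrC.X0 R N k).hom x : Scheme.{u}), ∃ σ, z ∈ O σ := fun z =>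
    GrC.exists_mem_range_j R (p z)
  haveI : PreirreducibleSpace (pullback (GrC.X0 R N k).hom x : Scheme.{u}) := ⟨fun U V hU hV hUne hVne => by
    obtain ⟨a, -, ha⟩ := hUne
    obtain ⟨b, -, hb⟩ := hVne
    obtain ⟨σ, hσ⟩ := hcov a
    obtain ⟨τ, hτ⟩ := hcov b
    obtain ⟨c, hc, hcU, hcτ⟩ := (hO σ).2 U (O τ) hU (O τ).isOpen ⟨a, hσ, ha⟩ ⟨y, hy σ, hy τ⟩
    obtain ⟨d, -, hd⟩ := (hO τ).2 U V hU hV ⟨c, hcτ, hcU⟩ ⟨b, hτ, hb⟩
    exact ⟨d, trivial, hd⟩⟩
  exact { toNonempty := ⟨y⟩ }

/-- The Grassmannian of a free module is smooth. -/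
theorem smooth_X0 (hk : k < N) : SmoothOfRelativeDimension (k * (N - k)) (GrC.X0 R N k).hom :=
  (Groth.Agent.S10852.result R N k hk (GrC.X0 R N k) (GrC.rep R N k).e (GrC.rep R N k).natural).1

end Charts

section Transfer

variable (P : MorphismProperty Scheme.{u}) [P.IsStableUnderBaseChange] [IsZariskiLocalAtTarget P]

/-- The Grassmannian of a free module as a base change of the one over the integers. -/
theorem exists_isGrass_free_prop (S : Scheme.{u}) {N k : ℕ} (hk : k ≤ N) (hP : P (GrC.X0 GrC.RZ.{u} N k).hom) :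
    ∃ (G : Scheme.{u}) (π : G ⟶ S) (Q : G.Modules)
      (q : (Scheme.Modules.pullback π).obj (FlatMod.freeMod S N) ⟶ Q),
      Grass.IsGrass π (FlatMod.freeMod S N) k Q q ∧ P π := by
  let b := (GrC.X0 GrC.RZ.{u} N k).hom
  let t : S ⟶ Spec (CommRingCat.of GrC.RZ.{u}) := specULiftZIsTerminal.from S
  let π := pullback.snd b t
  let p := pullback.fst b t
  refine ⟨pullback b t, π, (Scheme.Modules.pullback p).obj (GrC.Qu.{u} N k),
    (M2.freeModPullbackIso π N).hom ≫ GrC.pullQ p (GrC.qu N k),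
    ⟨M2.isFinLocFreeOfRank_pullback p (GrC.rank_qu hk), ?_, fun T g L hL s hs => ?_⟩,
    MorphismProperty.pullback_snd _ _ hP⟩
  · haveI := GrC.epi_pullQ p (GrC.qu.{u} N k)
    exact epi_comp _ _
  · let s' := (M2.freeModPullbackIso g N).inv ≫ s
    haveI : Epi s' := epi_comp _ _
    have key : ∀ (h : T ⟶ pullback b t) (hg : h ≫ π = g) (e : (Scheme.Modules.pullback h).obj
        ((Scheme.Modules.pullback p).obj (GrC.Qu.{u} N k)) ≅ L),
        Grass.quotBC hg ((M2.freeModPullbackIso π N).hom ≫ GrC.pullQ p (GrC.qu N k)) ≫ e.hom = s ↔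
          GrC.pullQ (h ≫ p) (GrC.qu N k) ≫ ((ModLimH13.cmp h p rfl).inv.app _ ≫ e.hom) = s' := fun h hg e => by
      have h3 := GrC.freeModPullbackIso_comp h π hg N
      have hq : Grass.quotBC hg ((M2.freeModPullbackIso π N).hom ≫ GrC.pullQ p (GrC.qu N k)) =
          (M2.freeModPullbackIso g N).hom ≫ GrC.pullQ h (GrC.pullQ p (GrC.qu N k)) := by
        have hpre : (pullbackCongr hg).inv.app (FlatMod.freeMod S N) ≫ (pullbackComp h π).inv.app (FlatMod.freeMod S N) ≫
            (Scheme.Modules.pullback h).map (M2.freeModPullbackIso π N).hom =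
              (M2.freeModPullbackIso g N).hom ≫ (M2.freeModPullbackIso h N).inv := by
          rw [← cancel_epi ((ModLimH13.cmp h π hg).hom.app (FlatMod.freeMod S N)), reassoc_of% h3, Iso.hom_inv_id,
            Category.comp_id]
          simp [ModLimH13.cmp]
        simp only [Grass.quotBC, GrC.pullQ, Functor.map_comp]
        rw [reassoc_of% hpre]
      rw [hq, ← GrC.pullQ_comp p h rfl (GrC.qu N k), Category.assoc, Category.assoc, Iso.hom_inv_id_app_assoc,
        ← Iso.eq_inv_comp]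
    obtain ⟨h₀, e₀, he₀⟩ := GrC.exists_cl hk hL s'
    let h : T ⟶ pullback b t := pullback.lift h₀ g (specULiftZIsTerminal.hom_ext _ _)
    have hh₀ : h ≫ p = h₀ := pullback.lift_fst _ _ _
    have hhg : h ≫ π = g := pullback.lift_snd _ _ _
    refine ⟨h, ⟨hhg, ?_⟩, fun h' ⟨hg', e', he'⟩ => ?_⟩
    · have gen : ∀ (h₁ : T ⟶ GrC.Gr0.{u} N k) (w : h ≫ p = h₁) (e₁ : (Scheme.Modules.pullback h₁).obj (GrC.Qu.{u} N k) ≅ L),
          GrC.pullQ h₁ (GrC.qu N k) ≫ e₁.hom = s' →
            GrC.pullQ (h ≫ p) (GrC.qu N k) ≫ ((ModLimH13.cmp h p rfl).inv.app _ ≫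
              ((ModLimH13.cmp h p w).app _ ≪≫ e₁).hom) = s' := by
        rintro _ rfl e₁ he₁
        simpa using he₁
      exact ⟨(ModLimH13.cmp h p hh₀).app _ ≪≫ e₀, (key h hhg _).2 (gen h₀ hh₀ e₀ he₀)⟩
    · refine pullback.hom_ext ?_ (hg'.trans hhg.symm)
      show h' ≫ p = h ≫ p
      rw [hh₀]
      refine GrC.Cl.unique hk hL (s := s') ?_ ⟨e₀, he₀⟩
      exact ⟨((ModLimH13.cmp h' p rfl).app _).symm ≪≫ e', (key h' hg' e').1 he'⟩

variable {S : Scheme.{u}} {G : Scheme.{u}} {V : S.Modules} {r n : ℕ}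

/-- Some Grassmannian of a locally free module has every property of the universal one. -/
theorem exists_isGrass_prop (hV : FlatMod.IsFinLocFreeOfRank n V) (hr : r ≤ n)
    (hP : P (GrC.X0 GrC.RZ.{u} n r).hom) :
    ∃ (G : Over S) (Q : G.left.Modules) (q : (Scheme.Modules.pullback G.hom).obj V ⟶ Q),
      Grass.IsGrass G.hom V r Q q ∧ P G.hom := by
  haveI := isBasisPred_isFreeOn V hV
  have hloc : ∀ U : BaseGlue.Idx (IsFreeOn V n), ∃ (G : Scheme.{u}) (π : G ⟶ U.1.toScheme) (Q : G.Modules)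
      (q : (Scheme.Modules.pullback π).obj ((Scheme.Modules.pullback U.1.ι).obj V) ⟶ Q),
      Grass.IsGrass π ((Scheme.Modules.pullback U.1.ι).obj V) r Q q ∧ P π := fun U => by
    obtain ⟨G, π, Q, q, hG, hp⟩ := exists_isGrass_free_prop P U.1.toScheme hr hP
    exact ⟨G, π, Q, _, isGrass_of_iso hG U.2.some, hp⟩
  choose G π Q q hG hprop using hloc
  let L : BaseGlue.Local (grData V r) (IsFreeOn V n) :=
    { Q := fun U => Over.mk (π U ≫ U.1.ι)
      mem := fun U x => ((π U) x).2
      k := fun U => Subobject.mk (kernel.ι (outQ U.1.ι (π U) (q U)))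
      good := fun U => by
        haveI := (hG U).epi
        haveI : Epi (outQ U.1.ι (π U) (q U)) := epi_comp _ _
        obtain ⟨e⟩ := nonempty_cokernel_mk_kernel (outQ U.1.ι (π U) (q U))
        exact M2.isFinLocFreeOfRank_of_iso e.symm (hG U).rank
      univ := fun U T hT z hz => univ_piece U.1 (hG U) T hT z hz }
  obtain ⟨Q', k, j, hk, hj, hu⟩ := BaseGlue.exists_represented L
  obtain ⟨Q'', q'', hG'⟩ := exists_isGrass_of_rep V r k hk hu
  refine ⟨Q', Q'', q'', hG', ?_⟩
  have hcov : (⨆ U : BaseGlue.Idx (IsFreeOn V n), U.1) = ⊤ := top_le_iff.1 fun x _ => by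
    obtain ⟨W, hW, hxW, -⟩ := Opens.isBasis_iff_nbhd.1 (BaseGlue.IsBasisPred.out (P := IsFreeOn V n)) (U := ⊤) (x := x) trivial
    exact Opens.mem_iSup.2 ⟨⟨W, hW⟩, hxW⟩
  refine IsZariskiLocalAtTarget.of_iSup_eq_top (P := P) (fun U : BaseGlue.Idx (IsFreeOn V n) => U.1) hcov fun U => ?_
  have hq : L.q U = π U := by
    rw [← cancel_mono U.1.ι, L.q_ι]
    rfl
  let i := (hj U).2.isoPullback ≪≫ pullbackRestrictIsoRestrict Q'.hom U.1
  have hw : i.hom ≫ (Q'.hom ∣_ U.1) = L.q U := by
    rw [← cancel_mono U.1.ι, Category.assoc, morphismRestrict_ι, Iso.trans_hom, Category.assoc]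
    erw [pullbackRestrictIsoRestrict_hom_ι_assoc]
    rw [← Category.assoc, IsPullback.isoPullback_hom_fst]
    exact (hj U).2.w
  rw [show Q'.hom ∣_ U.1 = i.inv ≫ L.q U by rw [← hw, Iso.inv_hom_id_assoc]]
  rw [hq, MorphismProperty.cancel_left_of_respectsIso P]
  exact hprop U

/-- Every Grassmannian of a locally free module has the properties of the universal one. -/
theorem prop_of_isGrass {π : G ⟶ S} {Q : G.Modules} {q : (Scheme.Modules.pullback π).obj V ⟶ Q}
    (hG : Grass.IsGrass π V r Q q) (hV : FlatMod.IsFinLocFreeOfRank n V) (hr : r ≤ n)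
    (hP : P (GrC.X0 GrC.RZ.{u} n r).hom) : P π := by
  obtain ⟨G₀, Q₀, q₀, hG₀, hp⟩ := exists_isGrass_prop P hV hr hP
  haveI := hG.epi
  haveI := hG₀.epi
  let a := hG₀.lift π Q hG.rank q hG.epi
  let b := hG.lift G₀.hom Q₀ hG₀.rank q₀ hG₀.epi
  have ha : a ≫ G₀.hom = π := hG₀.lift_comp _ _ _ _ _
  have hb : b ≫ π = G₀.hom := hG.lift_comp _ _ _ _ _
  have h1 : a ≫ b = 𝟙 G :=
    eq_id_of_quotBC hG ha hb (hG₀.liftIso π Q hG.rank q hG.epi) (hG₀.quotBC_liftIso π Q hG.rank q hG.epi)
      (hG.liftIso G₀.hom Q₀ hG₀.rank q₀ hG₀.epi) (hG.quotBC_liftIso G₀.hom Q₀ hG₀.rank q₀ hG₀.epi)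
  have h2 : b ≫ a = 𝟙 G₀.left :=
    eq_id_of_quotBC hG₀ hb ha (hG.liftIso G₀.hom Q₀ hG₀.rank q₀ hG₀.epi)
      (hG.quotBC_liftIso G₀.hom Q₀ hG₀.rank q₀ hG₀.epi) (hG₀.liftIso π Q hG.rank q hG.epi)
      (hG₀.quotBC_liftIso π Q hG.rank q hG.epi)
  haveI : IsIso a := ⟨b, h1, h2⟩
  rw [← ha, MorphismProperty.cancel_left_of_respectsIso P]
  exact hp

end Transfer

/-- Grassmannians of locally free modules are smooth. -/
theorem smooth_of_isGrass {S G : Scheme.{u}} {V : S.Modules} {r n : ℕ} {π : G ⟶ S} {Q : G.Modules}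
    {q : (Scheme.Modules.pullback π).obj V ⟶ Q}
    (hG : Grass.IsGrass π V r Q q) (hV : FlatMod.IsFinLocFreeOfRank n V) (hr : r < n) :
    SmoothOfRelativeDimension (r * (n - r)) π :=
  haveI : IsZariskiLocalAtTarget (@SmoothOfRelativeDimension.{u} (r * (n - r))) := inferInstance
  haveI : MorphismProperty.IsStableUnderBaseChange (@SmoothOfRelativeDimension.{u} (r * (n - r))) :=
    smoothOfRelativeDimension_isStableUnderBaseChange _
  prop_of_isGrass (@SmoothOfRelativeDimension (r * (n - r))) hG hV hr.le (smooth_X0 GrC.RZ.{u} hr)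

/-- Grassmannians of locally free modules are geometrically irreducible. -/
theorem geometricallyIrreducible_of_isGrass {S G : Scheme.{u}} {V : S.Modules} {r n : ℕ} {π : G ⟶ S} {Q : G.Modules}
    {q : (Scheme.Modules.pullback π).obj V ⟶ Q}
    (hG : Grass.IsGrass π V r Q q) (hV : FlatMod.IsFinLocFreeOfRank n V) (hr : r ≤ n) :
    GeometricallyIrreducible π := by
  haveI : IsZariskiLocalAtTarget @GeometricallyIrreducible.{u} :=
    GeometricallyIrreducible.eq_geometrically ▸ inferInstance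
  exact prop_of_isGrass @GeometricallyIrreducible hG hV hr (geometricallyIrreducible_X0 GrC.RZ.{u} hr)

end Groth.Agent.KS29Gr
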