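import Mathlib.RingTheory.Polynomial.Basic
import Mathlib.Algebra.Polynomial.Div
import Mathlib.RingTheory.PrincipalIdealDomain
import Mathlib.RingTheory.IntegralClosure.IsIntegral.Basic
import Mathlib.RingTheory.IntegralClosure.Algebra.Basic
import Mathlib.RingTheory.Polynomial.Ideal
import Mathlib.LinearAlgebra.FiniteDimensional.Lemmas
import Mathlib.LinearAlgebra.Dimension.Finite
import Mathlib.RingTheory.Noetherian.Basic
import Mathlib.RingTheory.Ideal.Quotient.Operations

/-!
# Homomorphisms out of an ideal of finite colength, by leading coefficient filtrations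

For an ideal `L` of finite colength of `k[x][y]` and a finite length module `M` generated by `m`
elements, `dim Hom (L, M) ≤ dim M + m * dim (R/L)`; iterating once more, for an ideal `J` of finite
colength `d` of `k[x][y][z]` containing a polynomial monic of degree `q` in `z`,
`dim Hom (J, P/J) ≤ (2 q + 1) d`.
-/

set_option autoImplicit false
set_option maxHeartbeats 400000
universe u v w

open Polynomial
open scoped BigOperators

noncomputable section

namespace Groth.Agent.KS29.HomBound

section Slice

variable {A : Type u} [CommRing A] (J : Ideal A[X])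

/-- The members of `J` of degree less than `i`. -/
def slice (i : ℕ) : Submodule A A[X] := J.restrictScalars A ⊓ degreeLT A i

/-- The leading coefficients in degree `i`. -/
def lead (i : ℕ) : Ideal A := (slice J (i + 1)).map (lcoeff A i)

theorem mem_slice {i : ℕ} {p : A[X]} : p ∈ slice J i ↔ p ∈ J ∧ ∀ m, i ≤ m → p.coeff m = 0 := by
  simp only [slice, Submodule.mem_inf, Submodule.restrictScalars_mem, mem_degreeLT, degree_lt_iff_coeff_zero]

theorem slice_zero : slice J 0 = ⊥ := by
  refine eq_bot_iff.2 fun p hp => ?_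
  rw [Submodule.mem_bot]
  exact Polynomial.ext fun m => by rw [((mem_slice J).1 hp).2 m (Nat.zero_le m), coeff_zero]

theorem slice_mono {i j : ℕ} (h : i ≤ j) : slice J i ≤ slice J j := fun _ hp =>
  (mem_slice J).2 ⟨((mem_slice J).1 hp).1, fun m hm => ((mem_slice J).1 hp).2 m (h.trans hm)⟩

theorem mem_lead {i : ℕ} {a : A} : a ∈ lead J i ↔ ∃ p ∈ slice J (i + 1), p.coeff i = a := Iff.rfl

theorem X_mul_mem_slice {i : ℕ} {p : A[X]} (hp : p ∈ slice J i) : X * p ∈ slice J (i + 1) := by
  refine (mem_slice J).2 ⟨J.mul_mem_left _ ((mem_slice J).1 hp).1, fun m hm => ?_⟩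
  obtain ⟨m, rfl⟩ : ∃ m', m = m' + 1 := ⟨m - 1, by omega⟩
  rw [coeff_X_mul]
  exact ((mem_slice J).1 hp).2 m (by omega)

theorem lead_mono (i : ℕ) : lead J i ≤ lead J (i + 1) := by
  intro a ha
  obtain ⟨p, hp, rfl⟩ := (mem_lead J).1 ha
  exact (mem_lead J).2 ⟨X * p, X_mul_mem_slice J hp, coeff_X_mul p i⟩

theorem mem_slice_of_coeff_eq_zero {i : ℕ} {p : A[X]} (hp : p ∈ slice J (i + 1)) (h : p.coeff i = 0) :
    p ∈ slice J i :=
  (mem_slice J).2 ⟨((mem_slice J).1 hp).1, fun m hm => by
    rcases eq_or_lt_of_le hm with h' | h'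
    · rw [← h', h]
    · exact ((mem_slice J).1 hp).2 m h'⟩

theorem lead_eq_top {f : A[X]} {q : ℕ} (hf : f ∈ J) (hm : f.Monic) (hq : f.natDegree = q) :
    lead J q = ⊤ := by
  refine (Ideal.eq_top_iff_one _).2 ((mem_lead J).2 ⟨f, (mem_slice J).2 ⟨hf, fun m hm' => ?_⟩, ?_⟩)
  · exact coeff_eq_zero_of_natDegree_lt (by omega)
  · rw [← hq]; exact hm

theorem exists_decomp {f : A[X]} {q : ℕ} (hf : f ∈ J) (hm : f.Monic) (hq : f.natDegree = q)
    {p : A[X]} (hp : p ∈ J) : ∃ r a, r ∈ slice J q ∧ p = r + f * a := by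
  refine ⟨p %ₘ f, p /ₘ f, (mem_slice J).2 ⟨?_, fun m hm' => ?_⟩, (modByMonic_add_div p f).symm⟩
  · have : p %ₘ f = p - f * (p /ₘ f) := eq_sub_of_add_eq (modByMonic_add_div p f)
    rw [this]
    exact J.sub_mem hp (J.mul_mem_right _ hf)
  · nontriviality A
    exact coeff_eq_zero_of_degree_lt ((degree_modByMonic_lt p hm).trans_le
      (by rw [degree_eq_natDegree hm.ne_zero, hq]; exact_mod_cast hm'))

variable (k : Type v) [Field k] [Algebra k A] [Module.Finite k (A[X] ⧸ J)]

theorem finite_and_sum_lead_le (q : ℕ) : (∀ i, Module.Finite k (A ⧸ lead J i)) ∧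
    ∑ i ∈ Finset.range q, Module.finrank k (A ⧸ lead J i) ≤ Module.finrank k (A[X] ⧸ J) := by
  let U : ℕ → Submodule k (A[X] ⧸ J) := fun i =>
    ((degreeLT A i).restrictScalars k).map (Ideal.Quotient.mkₐ k J).toLinearMap
  have hU : Monotone U := fun i j h => Submodule.map_mono fun p hp => degreeLT_mono h hp
  have key : ∀ i, Module.Finite k (A ⧸ lead J i) ∧
      Module.finrank k (A ⧸ lead J i) + Module.finrank k (U i) ≤ Module.finrank k (U (i + 1)) := by
    intro i
    let ψ : A →ₗ[k] (A[X] ⧸ J) ⧸ U i :=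
      (U i).mkQ.comp ((Ideal.Quotient.mkₐ k J).toLinearMap.comp ((monomial i : A →ₗ[A] A[X]).restrictScalars k))
    have hker : LinearMap.ker ψ = (lead J i).restrictScalars k := by
      ext a
      show Submodule.Quotient.mk (Ideal.Quotient.mk J (monomial i a)) = 0 ↔ _
      rw [Submodule.Quotient.mk_eq_zero]
      constructor
      · rintro ⟨p, hp, hpe⟩
        replace hpe : Ideal.Quotient.mk J p = Ideal.Quotient.mk J (monomial i a) := hpe
        have hd : monomial i a - p ∈ J := Ideal.Quotient.eq.1 hpe.symm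
        have hp' : ∀ m, i ≤ m → p.coeff m = 0 := (degree_lt_iff_coeff_zero _ _).1 (mem_degreeLT.1 hp)
        refine (mem_lead J).2 ⟨monomial i a - p, (mem_slice J).2 ⟨hd, fun m hm => ?_⟩, ?_⟩
        · rw [coeff_sub, hp' m (by omega), coeff_monomial, if_neg (by omega), sub_zero]
        · rw [coeff_sub, hp' i le_rfl, coeff_monomial, if_pos rfl, sub_zero]
      · intro ha
        obtain ⟨p, hp, rfl⟩ := (mem_lead J).1 ha
        refine ⟨monomial i (p.coeff i) - p, ?_, ?_⟩
        · show _ ∈ degreeLT A i
          rw [mem_degreeLT, degree_lt_iff_coeff_zero]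
          intro m hm
          rw [coeff_sub, coeff_monomial]
          rcases eq_or_lt_of_le hm with h | h
          · rw [if_pos h, ← h, sub_self]
          · rw [if_neg (by omega), ((mem_slice J).1 hp).2 m h, sub_zero]
        · show Ideal.Quotient.mk J _ = Ideal.Quotient.mk J _
          rw [map_sub, Ideal.Quotient.eq_zero_iff_mem.2 ((mem_slice J).1 hp).1, sub_zero]
    have hrange : LinearMap.range ψ ≤ (U (i + 1)).map (U i).mkQ := by
      rintro _ ⟨a, rfl⟩
      exact ⟨_, ⟨monomial i a, mem_degreeLT.2 ((degree_monomial_le i a).trans_lt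
        (WithBot.coe_lt_coe.2 (Nat.lt_succ_self i))), rfl⟩, rfl⟩
    let e : (A ⧸ lead J i) ≃ₗ[k] LinearMap.range ψ :=
      ((Submodule.Quotient.restrictScalarsEquiv k (lead J i)).symm.trans
        (Submodule.quotEquivOfEq _ _ hker.symm)).trans ψ.quotKerEquivRange
    refine ⟨Module.Finite.equiv e.symm, ?_⟩
    have h1 := LinearMap.finrank_range_add_finrank_ker ((U i).mkQ.domRestrict (U (i + 1)))
    have h2 : LinearMap.range ((U i).mkQ.domRestrict (U (i + 1))) = (U (i + 1)).map (U i).mkQ := by
      rw [LinearMap.range_domRestrict]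
    have h3 : LinearMap.ker ((U i).mkQ.domRestrict (U (i + 1))) = (U i).comap (U (i + 1)).subtype := by
      ext x
      simp
    have h5 : Module.finrank k ↥((U i).comap (U (i + 1)).subtype) = Module.finrank k (U i) :=
      (Submodule.comapSubtypeEquivOfLe (hU (Nat.le_succ i))).finrank_eq
    rw [h2, h3, h5] at h1
    have h4 := Submodule.finrank_mono hrange
    rw [e.finrank_eq]
    omega
  refine ⟨fun i => (key i).1, ?_⟩
  have : ∀ n, ∑ i ∈ Finset.range n, Module.finrank k (A ⧸ lead J i) ≤ Module.finrank k (U n) := by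
    intro n
    induction n with
    | zero => simp
    | succ n ih =>
      rw [Finset.sum_range_succ]
      have := (key n).2
      omega
  exact (this q).trans (Submodule.finrank_le _)

end Slice

theorem finite_hom (k : Type v) [Field k] {R : Type u} [CommRing R] [Algebra k R] (N : Type w) [AddCommGroup N]
    [Module R N] [Module.Finite R N] (M : Type*) [AddCommGroup M] [Module R M] [Module k M]
    [IsScalarTower k R M] [Module.Finite k M] : Module.Finite k (N →ₗ[R] M) := by
  obtain ⟨n, s, hs⟩ := Module.Finite.exists_fin (R := R) (M := N)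
  let ev : (N →ₗ[R] M) →ₗ[k] (Fin n → M) :=
    LinearMap.pi fun i =>
      { toFun := fun φ => φ (s i), map_add' := fun _ _ => rfl, map_smul' := fun _ _ => rfl }
  refine Module.Finite.of_injective ev fun φ ψ h => LinearMap.ext_on_range hs fun i => congrFun h i

theorem finrank_le_add_of_le_span_sup (k : Type v) [Field k] {A : Type u} [CommRing A] [Algebra k A]
    {C : Type w} [AddCommGroup C] [Module A C] [Module k C] [IsScalarTower k A C] [Module.Finite k C]
    (I : Ideal A) [Module.Finite k (A ⧸ I)] {m : ℕ} (w : Fin m → C) (G F : Submodule A C)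
    (hI : ∀ h ∈ I, ∀ l, h • w l ∈ G) (hF : F ≤ Submodule.span A (Set.range w) ⊔ G) :
    Module.finrank k (F.restrictScalars k) ≤
      m * Module.finrank k (A ⧸ I) + Module.finrank k (G.restrictScalars k) := by
  obtain ⟨W, hW⟩ := Submodule.exists_isCompl (I.restrictScalars k)
  let eW := ((Submodule.quotientEquivOfIsCompl _ _ hW).symm.trans (Submodule.Quotient.restrictScalarsEquiv k I))
  haveI : Module.Finite k W := Module.Finite.equiv eW.symm
  let Ψ : ((Fin m → W) × G.restrictScalars k) →ₗ[k] C :=
    LinearMap.coprod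
      (∑ l : Fin m, ((LinearMap.toSpanSingleton A C (w l)).restrictScalars k).comp
        (W.subtype.comp (LinearMap.proj l)))
      (G.restrictScalars k).subtype
  have hΨ : ∀ (a : Fin m → W) (z : G.restrictScalars k),
      Ψ (a, z) = (∑ l, ((a l : A) • w l)) + z := fun a z => by
    simp [Ψ, LinearMap.sum_apply]
  have hle : F.restrictScalars k ≤ LinearMap.range Ψ := by
    intro y hy
    obtain ⟨s, hs, z, hz, rfl⟩ := Submodule.mem_sup.1 (hF hy)
    obtain ⟨a, rfl⟩ := (Submodule.mem_span_range_iff_exists_fun A).1 hs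
    have hd : ∀ l, ∃ b : W, a l - b ∈ I := fun l => by
      obtain ⟨b, hb, b', hb', hbb⟩ := Submodule.mem_sup.1 (hW.sup_eq_top ▸ Submodule.mem_top (x := a l))
      exact ⟨⟨b', hb'⟩, by rw [← hbb, add_sub_cancel_right]; exact hb⟩
    choose b hb using hd
    have hrest : ∑ l, (a l - b l) • w l + z ∈ G :=
      add_mem (sum_mem fun l _ => hI _ (hb l) l) hz
    refine ⟨(b, ⟨_, hrest⟩), ?_⟩
    rw [hΨ]
    simp only [sub_smul, Finset.sum_sub_distrib]
    abel
  have h3 := Submodule.finrank_mono hle
  have h4 := LinearMap.finrank_range_le Ψ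
  rw [Module.finrank_prod, Module.finrank_pi_fintype, Finset.sum_const, Finset.card_univ, Fintype.card_fin,
    smul_eq_mul, eW.finrank_eq] at h4
  omega

section Two

variable (k : Type v) [Field k] {A : Type u} [CommRing A] [IsDomain A] [IsPrincipalIdealRing A] [Algebra k A]

set_option maxHeartbeats 1000000 in
theorem finrank_hom_le (L : Ideal A[X]) [Module.Finite k (A[X] ⧸ L)] {f : A[X]} {e : ℕ} (hfL : f ∈ L)
    (hfm : f.Monic) (hfe : f.natDegree = e)
    {M : Type w} [AddCommGroup M] [Module A[X] M] [Module A M] [IsScalarTower A A[X] M] [Module k M] [IsScalarTower k A M] [IsScalarTower k A[X] M] [Module.Finite k M]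
    {m : ℕ} (v : Fin m → M) (hv : Submodule.span A[X] (Set.range v) = ⊤) :
    Module.finrank k (L →ₗ[A[X]] M) ≤ Module.finrank k M + m * Module.finrank k (A[X] ⧸ L) := by
  -- generators with generating leading coefficients
  have hg : ∀ i, ∃ p ∈ slice L (i + 1), lead L i = Ideal.span {p.coeff i} := by
    intro i
    obtain ⟨a, ha⟩ := (IsPrincipalIdealRing.principal (lead L i)).principal
    have ha' : lead L i = Ideal.span {a} := ha
    have : a ∈ lead L i := ha' ▸ Ideal.mem_span_singleton_self a
    obtain ⟨p, hp, hpa⟩ := (mem_lead L).1 this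
    exact ⟨p, hp, hpa ▸ ha'⟩
  choose g hgmem hglead using hg
  have hspan : ∀ (i : ℕ) (p : A[X]), p ∈ slice L i → p ∈ Submodule.span A (g '' {j | j < i}) := by
    intro i
    induction i with
    | zero => intro p hp; rw [slice_zero, Submodule.mem_bot] at hp; rw [hp]; exact zero_mem _
    | succ i ih =>
      intro p hp
      have hc : p.coeff i ∈ lead L i := (mem_lead L).2 ⟨p, hp, rfl⟩
      rw [hglead i, Ideal.mem_span_singleton'] at hc
      obtain ⟨a, ha⟩ := hc
      have h1 : p - a • g i ∈ slice L i :=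
        mem_slice_of_coeff_eq_zero L (sub_mem hp ((slice L (i + 1)).smul_mem a (hgmem i)))
          (by rw [coeff_sub, coeff_smul, smul_eq_mul, ha, sub_self])
      have h2 : p = (p - a • g i) + a • g i := by abel
      rw [h2]
      refine add_mem (Submodule.span_mono (Set.image_mono fun j (hj : j < i) => Nat.lt_succ_of_lt hj) (ih _ h1))
        (Submodule.smul_mem _ a (Submodule.subset_span ⟨i, Nat.lt_succ_self i, rfl⟩))
  have hδ : ∀ i, ∃ δ : A, δ * (g (i + 1)).coeff (i + 1) = (g i).coeff i := by
    intro i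
    have : (g i).coeff i ∈ lead L (i + 1) :=
      lead_mono L i ((hglead i).symm ▸ Ideal.mem_span_singleton_self _)
    rw [hglead (i + 1), Ideal.mem_span_singleton'] at this
    exact this
  choose δ hδ using hδ
  have hc : ∀ i, ∃ c : ℕ →₀ A, c ∈ Finsupp.supported A A {j | j < i + 1} ∧
      Finsupp.linearCombination A g c = X * g i - δ i • g (i + 1) := by
    intro i
    refine (Finsupp.mem_span_image_iff_linearCombination A).1 (hspan (i + 1) _ ?_)
    refine mem_slice_of_coeff_eq_zero L (sub_mem (X_mul_mem_slice L (hgmem i))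
      ((slice L (i + 2)).smul_mem _ (hgmem (i + 1)))) ?_
    rw [coeff_sub, coeff_X_mul, coeff_smul, smul_eq_mul, hδ, sub_self]
  choose c hcsupp hceq using hc
  have hczero : ∀ i j, i < j → c i j = 0 := by
    intro i j hij
    by_contra h
    have := (Finsupp.mem_supported A (c i)).1 (hcsupp i) (Finsupp.mem_support_iff.2 h)
    simp only [Set.mem_setOf_eq] at this
    omega
  -- the map to the kernel of the relations
  let Λ : (Fin (e + 1) → M) →ₗ[A[X]] (Fin e → M) := LinearMap.pi fun i =>
    (X : A[X]) • LinearMap.proj i.castSucc - C (δ i) • LinearMap.proj i.succ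
      - ∑ j : Fin (e + 1), C (c i j) • LinearMap.proj j
  have hΛ : ∀ (b : Fin (e + 1) → M) (i : Fin e), Λ b i = (X : A[X]) • b i.castSucc - C (δ i) • b i.succ
      - ∑ j : Fin (e + 1), C (c i j) • b j := fun b i => by simp [Λ, LinearMap.sum_apply]
  have hgL : ∀ i, g i ∈ L := fun i => ((mem_slice L).1 (hgmem i)).1
  let Θ : (L →ₗ[A[X]] M) →ₗ[k] (Fin (e + 1) → M) :=
    LinearMap.pi fun j =>
      { toFun := fun φ => φ ⟨g j, hgL j⟩, map_add' := fun _ _ => rfl, map_smul' := fun _ _ => rfl }
  have hΘ : ∀ (φ : L →ₗ[A[X]] M) (j : Fin (e + 1)), Θ φ j = φ ⟨g j, hgL j⟩ := fun _ _ => rfl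
  have hinj : Function.Injective Θ := by
    rw [injective_iff_map_eq_zero]
    intro φ hφ
    let K : Submodule A[X] A[X] := (LinearMap.ker φ).map (Submodule.subtype L)
    have hgK : ∀ j, j < e + 1 → g j ∈ K := fun j hj => ⟨⟨g j, hgL j⟩, congrFun hφ ⟨j, hj⟩, rfl⟩
    have hsl : ∀ p ∈ slice L (e + 1), p ∈ K := by
      intro p hp
      have := hspan (e + 1) p hp
      refine (Submodule.span_le (p := K.restrictScalars A)).2 ?_ this
      rintro _ ⟨j, hj, rfl⟩
      exact hgK j hj
    refine LinearMap.ext fun ⟨p, hp⟩ => ?_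
    obtain ⟨r, a, hr, hpe⟩ := exists_decomp L hfL hfm hfe hp
    have hmem : p ∈ K := by
      rw [hpe]
      refine K.add_mem (hsl r (slice_mono L (Nat.le_succ e) hr)) ?_
      rw [mul_comm]
      refine K.smul_mem a (hsl f ((mem_slice L).2 ⟨hfL, fun j hj => ?_⟩))
      exact coeff_eq_zero_of_natDegree_lt (by omega)
    obtain ⟨y, hy, hye⟩ := hmem
    have : y = ⟨p, hp⟩ := Subtype.ext hye
    rw [← this]; exact hy
  have hrangeΘ : LinearMap.range Θ ≤ LinearMap.ker (Λ.restrictScalars k) := by
    rintro _ ⟨φ, rfl⟩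
    show Λ (Θ φ) = 0
    funext i
    simp only [hΛ, hΘ, ← map_smul, ← map_sum, ← map_sub, Pi.zero_apply]
    convert map_zero φ
    apply Subtype.ext
    simp only [Submodule.coe_sub, Submodule.coe_smul, Submodule.coe_sum, Submodule.coe_zero, smul_eq_mul,
      Fin.val_castSucc, Fin.val_succ]
    rw [sub_eq_zero, ← smul_eq_C_mul, ← hceq i, Finsupp.linearCombination_apply,
      Finsupp.sum_of_support_subset (c i) (s := Finset.range (e + 1)) (fun j hj => ?_) (fun j a => a • g j)
        (fun _ _ => zero_smul _ _),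
      ← Fin.sum_univ_eq_sum_range (fun j => c i j • g j)]
    · simp only [smul_eq_C_mul]
    · rw [Finset.mem_range]
      by_contra h
      exact Finsupp.mem_support_iff.1 hj (hczero i j (by omega))
  -- the cokernel of the relations
  let π := (LinearMap.range Λ).mkQ
  let u : Fin (e + 1) → M →ₗ[A[X]] ((Fin e → M) ⧸ LinearMap.range Λ) :=
    Fin.snoc (fun i => π.comp (LinearMap.single A[X] (fun _ => M) i)) 0
  have hu : ∀ i : Fin e, u i.castSucc = π.comp (LinearMap.single A[X] (fun _ => M) i) :=
    fun i => by simp [u]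
  have hulast : u (Fin.last e) = 0 := by simp [u]
  have hrel : ∀ (j : Fin (e + 1)) (x : M), (X : A[X]) • u j x =
      (∑ i : Fin e, if i.succ = j then C (δ i) • u i.castSucc x else 0)
        + ∑ i : Fin e, C (c i j) • u i.castSucc x := by
    intro j x
    have hΛs : Λ (Pi.single j x) = ∑ i : Fin e, Pi.single i
        ((if i.castSucc = j then (X : A[X]) • x else 0) - (if i.succ = j then C (δ i) • x else 0)
          - C (c i j) • x) := by
      funext i
      rw [hΛ, Finset.sum_apply, Finset.sum_eq_single i (fun b _ hb => Pi.single_eq_of_ne' hb _)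
        (fun h => absurd (Finset.mem_univ i) h), Pi.single_eq_same]
      simp only [Pi.single_apply, smul_ite, smul_zero, Finset.sum_ite_eq', Finset.mem_univ, if_true]
    have h0 : π (Λ (Pi.single j x)) = 0 := (Submodule.Quotient.mk_eq_zero _).2 ⟨_, rfl⟩
    rw [hΛs, map_sum] at h0
    have h1 : ∀ (i : Fin e) (y : M), π (Pi.single i y) = u i.castSucc y := fun i y => by rw [hu]; rfl
    have h2 : ∀ (i : Fin e) (P : Prop) [Decidable P] (y : M),
        u i.castSucc (if P then y else 0) = if P then u i.castSucc y else 0 := fun i P _ y => by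
      split_ifs <;> simp
    simp only [h1, map_sub, h2, map_smul, Finset.sum_sub_distrib] at h0
    rw [sub_sub, sub_eq_zero] at h0
    induction j using Fin.lastCases with
    | last => simpa [hulast] using h0
    | cast j => simpa using h0
  let F : ℕ → Submodule A ((Fin e → M) ⧸ LinearMap.range Λ) := fun j =>
    Submodule.span A (Set.image2 (fun (i : Fin e) (l : Fin m) => u i.castSucc (v l)) {i | j ≤ i} Set.univ)
  have hF : ∀ (j : ℕ) (i : Fin (e + 1)) (l : Fin m), j ≤ (i : ℕ) → u i (v l) ∈ F j := by
    intro j i l hji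
    induction i using Fin.lastCases with
    | last => rw [hulast]; exact zero_mem _
    | cast i => exact Submodule.subset_span ⟨i, hji, l, Set.mem_univ l, rfl⟩
  have hC : ∀ (a : A) (y : (Fin e → M) ⧸ LinearMap.range Λ), C a • y = a • y := fun a y => by
    rw [Polynomial.C_eq_algebraMap, algebraMap_smul]
  have hY : ∀ j : ℕ, ∀ y ∈ F j, (X : A[X]) • y ∈ F (j - 1) := by
    intro j y hy
    have hle : F j ≤ (F (j - 1)).comap ((LinearMap.lsmul A[X] _ (X : A[X])).restrictScalars A) := by
      refine Submodule.span_le.2 ?_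
      rintro _ ⟨i, hi, l, -, rfl⟩
      show (X : A[X]) • u i.castSucc (v l) ∈ F (j - 1)
      rw [hrel i.castSucc (v l)]
      refine add_mem (sum_mem fun i' _ => ?_) (sum_mem fun i' _ => ?_)
      · split_ifs with hi'
        · rw [hC]
          refine Submodule.smul_mem _ _ (hF _ _ _ ?_)
          have := congrArg Fin.val hi'
          simp only [Fin.val_succ, Fin.val_castSucc, Set.mem_setOf_eq] at this hi ⊢
          omega
        · exact zero_mem _
      · rcases lt_or_ge (i' : ℕ) (i : ℕ) with hlt | hge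
        · rw [Fin.val_castSucc, hczero _ _ hlt, map_zero, zero_smul]
          exact zero_mem _
        · rw [hC]
          refine Submodule.smul_mem _ _ (hF _ _ _ ?_)
          simp only [Fin.val_castSucc, Set.mem_setOf_eq] at hi ⊢
          omega
    exact hle hy
  have hhu : ∀ (j : Fin (e + 1)) (l : Fin m), (g j).coeff j • u j (v l) ∈ F (j + 1) := by
    intro j l
    induction j using Fin.reverseInduction with
    | last => rw [hulast, LinearMap.zero_apply, smul_zero]; exact zero_mem _
    | cast i ih =>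
      have hz : (g i.succ).coeff i.succ • ((X : A[X]) • u i.succ (v l)) ∈ F (i + 1) := by
        rw [smul_comm]
        have := hY _ _ ih
        simpa using this
      rw [hrel i.succ (v l), smul_add, Finset.sum_eq_single i
        (fun b _ hb => if_neg fun h => hb (Fin.succ_inj.1 h)) (fun h => absurd (Finset.mem_univ i) h),
        if_pos rfl, hC, smul_smul, mul_comm, Fin.val_succ, hδ] at hz
      refine (Submodule.add_mem_iff_left _ ?_).1 hz
      rw [Finset.smul_sum]
      refine sum_mem fun i' _ => ?_
      rcases lt_or_ge (i' : ℕ) ((i : ℕ) + 1) with hlt | hge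
      · rw [hczero _ _ hlt, map_zero, zero_smul, smul_zero]
        exact zero_mem _
      · rw [hC]
        exact Submodule.smul_mem _ _ (Submodule.smul_mem _ _ (hF _ _ _ hge))
  have hF0 : F 0 = ⊤ := by
    have hX : ∀ (p : A[X]) (y : (Fin e → M) ⧸ LinearMap.range Λ), y ∈ F 0 → p • y ∈ F 0 := by
      intro p
      induction p using Polynomial.induction_on with
      | C a => intro y hy; rw [hC]; exact Submodule.smul_mem _ a hy
      | add p q hp hq => intro y hy; rw [add_smul]; exact add_mem (hp y hy) (hq y hy)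
      | monomial n a ih =>
        intro y hy
        rw [pow_succ, ← mul_assoc, mul_smul]
        exact ih _ (hY 0 y hy)
    let F' : Submodule A[X] ((Fin e → M) ⧸ LinearMap.range Λ) :=
      { carrier := F 0, add_mem' := fun ha hb => add_mem ha hb, zero_mem' := zero_mem _,
        smul_mem' := fun p y hy => hX p y hy }
    refine eq_top_iff.2 fun z _ => ?_
    obtain ⟨b, rfl⟩ := Submodule.Quotient.mk_surjective _ z
    show π b ∈ F'
    rw [← Finset.univ_sum_single b, map_sum]
    refine sum_mem fun i _ => ?_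
    have : Submodule.span A[X] (Set.range v) ≤ F'.comap (u i.castSucc) :=
      Submodule.span_le.2 (by rintro _ ⟨l, rfl⟩; exact hF 0 _ l (Nat.zero_le _))
    rw [hv] at this
    have h := this (Submodule.mem_top (x := b i))
    rw [Submodule.mem_comap, hu] at h
    exact h
  obtain ⟨hfin, hsum⟩ := finite_and_sum_lead_le L k e
  have hdim : ∀ n j : ℕ, j + n = e → Module.finrank k ((F j).restrictScalars k) ≤
      m * ∑ i ∈ Finset.Ico j e, Module.finrank k (A ⧸ lead L i) := by
    intro n
    induction n with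
    | zero =>
      intro j hj
      have hbot : (F j).restrictScalars k = ⊥ := by
        refine eq_bot_iff.2 fun y hy => ?_
        have : F j ≤ ⊥ := Submodule.span_le.2 (by rintro _ ⟨i, hi, -⟩; simp only [Set.mem_setOf_eq] at hi; omega)
        exact this hy
      rw [hbot, finrank_bot]; exact Nat.zero_le _
    | succ n ih =>
      intro j hj
      have hje : j < e := by omega
      haveI := hfin j
      have h4 := finrank_le_add_of_le_span_sup k (lead L j) (fun l => u (Fin.castSucc ⟨j, hje⟩) (v l))
        (F (j + 1)) (F j) (fun h hh l => ?_) ?_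
      · have h5 := ih (j + 1) (by omega)
        rw [Finset.sum_eq_sum_Ico_succ_bot hje, mul_add]
        omega
      · rw [hglead j, Ideal.mem_span_singleton'] at hh
        obtain ⟨b, rfl⟩ := hh
        rw [mul_smul]
        exact Submodule.smul_mem _ _ (hhu (Fin.castSucc ⟨j, hje⟩) l)
      · refine Submodule.span_le.2 ?_
        rintro _ ⟨i, hi, l, -, rfl⟩
        simp only [Set.mem_setOf_eq] at hi
        rcases eq_or_lt_of_le hi with h | h
        · have : i = ⟨j, hje⟩ := Fin.ext h.symm
          rw [this]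
          exact Submodule.mem_sup_left (Submodule.subset_span ⟨l, rfl⟩)
        · exact Submodule.mem_sup_right (Submodule.subset_span ⟨i, h, l, Set.mem_univ l, rfl⟩)
  have hcok : Module.finrank k ((Fin e → M) ⧸ LinearMap.range Λ) ≤ m * Module.finrank k (A[X] ⧸ L) := by
    have := hdim e 0 (zero_add e)
    rw [hF0, Submodule.restrictScalars_top, finrank_top, ← Finset.range_eq_Ico] at this
    exact this.trans (Nat.mul_le_mul_left m hsum)
  have h1 := Submodule.finrank_mono hrangeΘ
  rw [LinearMap.finrank_range_of_inj hinj] at h1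
  have h2 := LinearMap.finrank_range_add_finrank_ker (Λ.restrictScalars k)
  have h3 := Submodule.finrank_quotient_add_finrank ((LinearMap.range Λ).restrictScalars k)
  rw [(Submodule.Quotient.restrictScalarsEquiv k (LinearMap.range Λ)).finrank_eq] at h3
  rw [LinearMap.range_restrictScalars] at h2
  rw [Module.finrank_pi_fintype, Finset.sum_const, Finset.card_univ, Fintype.card_fin, smul_eq_mul] at h2 h3
  rw [Nat.succ_mul] at h2
  omega

end Two

section Three

variable (k : Type v) [Field k] {A : Type u} [CommRing A] [IsDomain A] [IsPrincipalIdealRing A] [Algebra k A]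
  [IsNoetherianRing A]

/-- For an ideal `J` of colength `d` of `A[y][z]` containing a polynomial monic of degree `q` in `z`,
`dim Hom (J, P/J) ≤ (2 q + 1) d`. -/
theorem finrank_hom_quot_le (J : Ideal A[X][X]) [Module.Finite k (A[X][X] ⧸ J)] {f : A[X][X]} {q : ℕ}
    (hfJ : f ∈ J) (hfm : f.Monic) (hfq : f.natDegree = q) :
    Module.finrank k (J →ₗ[A[X][X]] (A[X][X] ⧸ J)) ≤ (2 * q + 1) * Module.finrank k (A[X][X] ⧸ J) := by
  let v : Fin q → A[X][X] ⧸ J := fun l => Ideal.Quotient.mk J (X ^ (l : ℕ))
  have hv : Submodule.span A[X] (Set.range v) = ⊤ := by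
    refine eq_top_iff.2 fun z _ => ?_
    obtain ⟨p, rfl⟩ := Ideal.Quotient.mk_surjective z
    obtain ⟨b, hb⟩ : ∃ b, p = p %ₘ f + f * b := ⟨p /ₘ f, (modByMonic_add_div p f).symm⟩
    have hdeg : ∀ m, q ≤ m → (p %ₘ f).coeff m = 0 := fun m hm => coeff_eq_zero_of_degree_lt
      ((degree_modByMonic_lt p hfm).trans_le (by rw [degree_eq_natDegree hfm.ne_zero, hfq]; exact_mod_cast hm))
    have hz : Ideal.Quotient.mk J p = Ideal.Quotient.mk J (p %ₘ f) := by
      conv_lhs => rw [hb]
      rw [map_add, Ideal.Quotient.eq_zero_iff_mem.2 (J.mul_mem_right _ hfJ), add_zero]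
    rw [hz, as_sum_range_C_mul_X_pow (p %ₘ f), map_sum]
    refine sum_mem fun l _ => ?_
    rcases lt_or_ge l q with h | h
    · have : Ideal.Quotient.mk J (C ((p %ₘ f).coeff l) * X ^ l) = (p %ₘ f).coeff l • v ⟨l, h⟩ := by
        rw [← smul_eq_C_mul]; rfl
      rw [this]
      exact Submodule.smul_mem _ _ (Submodule.subset_span ⟨_, rfl⟩)
    · rw [hdeg l h, map_zero, zero_mul, map_zero]
      exact zero_mem _
  obtain ⟨hfin, hsum⟩ := finite_and_sum_lead_le J k q
  haveI hslice : ∀ i, Module.Finite A[X] (slice J i) := fun i => by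
    haveI : Module.Finite A[X] (degreeLT A[X] i) := Module.Finite.equiv (degreeLTEquiv A[X] i).symm
    exact Module.Finite.of_injective (Submodule.inclusion (inf_le_right : slice J i ≤ degreeLT A[X] i))
      (Submodule.inclusion_injective _)
  haveI hhom : ∀ i, Module.Finite k (slice J i →ₗ[A[X]] (A[X][X] ⧸ J)) :=
    fun i => finite_hom k (slice J i) _
  have hlead : ∀ i, Module.finrank k (lead J i →ₗ[A[X]] (A[X][X] ⧸ J)) ≤
      Module.finrank k (A[X][X] ⧸ J) + q * Module.finrank k (A[X] ⧸ lead J i) := by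
    intro i
    haveI := hfin i
    -- a monic polynomial in the leading ideal, from integrality
    obtain ⟨g, hgm, hg0⟩ := IsIntegral.of_finite k (Ideal.Quotient.mk (lead J i) (X : A[X]))
    have hgL : g.map (algebraMap k A) ∈ lead J i := by
      rw [← Ideal.Quotient.eq_zero_iff_mem]
      have h1 : Ideal.Quotient.mkₐ k (lead J i) (aeval (X : A[X]) g) =
          aeval (Ideal.Quotient.mk (lead J i) (X : A[X])) g :=
        (aeval_algHom_apply _ _ _).symm
      have h2 : aeval (X : A[X]) g = g.map (algebraMap k A) := by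
        rw [← aeval_map_algebraMap A, aeval_X_left_apply]
      rw [← h2]
      exact h1.trans hg0
    exact finrank_hom_le k (lead J i) hgL (hgm.map _) rfl v hv
  have hstep : ∀ n, Module.finrank k (slice J n →ₗ[A[X]] (A[X][X] ⧸ J)) ≤
      ∑ i ∈ Finset.range n, (Module.finrank k (A[X][X] ⧸ J) + q * Module.finrank k (A[X] ⧸ lead J i)) := by
    intro n
    induction n with
    | zero =>
      rw [Finset.range_zero, Finset.sum_empty, Nat.le_zero]
      refine Module.finrank_eq_zero_iff.2 fun φ => ⟨1, one_ne_zero, ?_⟩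
      refine LinearMap.ext fun ⟨x, hx⟩ => ?_
      have : (⟨x, hx⟩ : slice J 0) = 0 := Subtype.ext (by rw [slice_zero, Submodule.mem_bot] at hx; simpa using hx)
      simp [this]
    | succ n ih =>
      let pr : slice J (n + 1) →ₗ[A[X]] lead J n :=
        ((lcoeff A[X] n).comp (slice J (n + 1)).subtype).codRestrict (lead J n)
          fun p => (mem_lead J).2 ⟨p.1, p.2, rfl⟩
      have hpr : Function.Surjective pr := fun ⟨a, ha⟩ => by
        obtain ⟨p, hp, hpa⟩ := (mem_lead J).1 ha
        exact ⟨⟨p, hp⟩, Subtype.ext hpa⟩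
      haveI : Module.Finite A[X] (lead J n) := Module.Finite.of_surjective pr hpr
      haveI : Module.Finite k (lead J n →ₗ[A[X]] (A[X][X] ⧸ J)) := finite_hom k (lead J n) _
      let res : (slice J (n + 1) →ₗ[A[X]] (A[X][X] ⧸ J)) →ₗ[k] (slice J n →ₗ[A[X]] (A[X][X] ⧸ J)) :=
        LinearMap.lcomp k _ (Submodule.inclusion (slice_mono J (Nat.le_succ n)))
      let inf' : (lead J n →ₗ[A[X]] (A[X][X] ⧸ J)) →ₗ[k] (slice J (n + 1) →ₗ[A[X]] (A[X][X] ⧸ J)) :=
        LinearMap.lcomp k _ pr
      have hker : LinearMap.ker res ≤ LinearMap.range inf' := by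
        intro φ hφ
        have hk : LinearMap.ker pr ≤ LinearMap.ker φ := by
          intro p hp
          have hp' : p.1 ∈ slice J n := mem_slice_of_coeff_eq_zero J p.2 (congrArg Subtype.val hp)
          exact LinearMap.congr_fun (LinearMap.mem_ker.1 hφ) ⟨p.1, hp'⟩
        refine ⟨((LinearMap.ker pr).liftQ φ hk).comp (pr.quotKerEquivOfSurjective hpr).symm.toLinearMap, ?_⟩
        refine LinearMap.ext fun p => ?_
        have : (pr.quotKerEquivOfSurjective hpr).symm (pr p) = Submodule.Quotient.mk p :=
          (LinearEquiv.symm_apply_eq _).2 rfl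
        show (LinearMap.ker pr).liftQ φ hk ((pr.quotKerEquivOfSurjective hpr).symm (pr p)) = φ p
        rw [this]; rfl
      have h1 := LinearMap.finrank_range_add_finrank_ker res
      have h2 := Submodule.finrank_le (LinearMap.range res)
      have h3 := (Submodule.finrank_mono hker).trans (LinearMap.finrank_range_le inf')
      have h4 := hlead n
      rw [Finset.sum_range_succ]
      omega
  let Θ : (J →ₗ[A[X][X]] (A[X][X] ⧸ J)) →ₗ[k] (A[X][X] ⧸ J) × (slice J q →ₗ[A[X]] (A[X][X] ⧸ J)) :=
    { toFun := fun φ => (φ ⟨f, hfJ⟩,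
        { toFun := fun p => φ ⟨p.1, ((mem_slice J).1 p.2).1⟩
          map_add' := fun a b => by rw [← map_add]; rfl
          map_smul' := fun a b => by
            rw [RingHom.id_apply, ← IsScalarTower.algebraMap_smul A[X][X] a (φ _), ← map_smul]
            congr 1
            apply Subtype.ext
            simp [Algebra.smul_def] })
      map_add' := fun _ _ => rfl
      map_smul' := fun _ _ => rfl }
  have hΘ : Function.Injective Θ := by
    rw [injective_iff_map_eq_zero]
    intro φ hφ
    refine LinearMap.ext fun ⟨p, hp⟩ => ?_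
    obtain ⟨r, b, hr, hpe⟩ := exists_decomp J hfJ hfm hfq hp
    have e : (⟨p, hp⟩ : J) = ⟨r, ((mem_slice J).1 hr).1⟩ + b • ⟨f, hfJ⟩ :=
      Subtype.ext (by simp [hpe, mul_comm])
    have e1 : φ ⟨f, hfJ⟩ = 0 := congrArg Prod.fst hφ
    have e2 : φ ⟨r, ((mem_slice J).1 hr).1⟩ = 0 := LinearMap.congr_fun (congrArg Prod.snd hφ) ⟨r, hr⟩
    rw [e, map_add, map_smul, e1, e2, smul_zero, add_zero, LinearMap.zero_apply]
  have h1 := LinearMap.finrank_le_finrank_of_injective hΘ
  rw [Module.finrank_prod] at h1
  have h2 := hstep q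
  rw [Finset.sum_add_distrib, Finset.sum_const, Finset.card_range, smul_eq_mul, ← Finset.mul_sum] at h2
  have h3 := Nat.mul_le_mul_left q hsum
  rw [add_mul, one_mul, mul_assoc, two_mul]
  omega

end Three

end Groth.Agent.KS29.HomBound
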