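import Groth.Agent.Lib.HilbPt29.Pow3
import Groth.Agent.Lib.KS29.HomBound
import Mathlib.Algebra.MvPolynomial.Funext
import Mathlib.RingTheory.MvPolynomial.Homogeneous

/-!
# The bound `dim T(I) ≤ (2 q + 1) d` for ideals of `k[x,y,z]`
-/

set_option autoImplicit false
set_option maxHeartbeats 400000
universe u v w

open W4c1hilbpn
open scoped BigOperators

noncomputable section

namespace Groth.Agent.KS29.HomBound

variable {k : Type u} [Field k]

abbrev S3 (k : Type u) [Field k] := MvPolynomial (Fin 3) k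
abbrev P3 (k : Type u) [Field k] := Polynomial (Polynomial (Polynomial k))

/-- The coordinates `x ↦ X, y ↦ Y + a X, z ↦ Z + b X`. -/
def fwd (a b : k) : S3 k →ₐ[k] P3 k :=
  MvPolynomial.aeval (R := k) (S₁ := P3 k) ![(Polynomial.X : P3 k), Polynomial.C Polynomial.X + a • Polynomial.X,
    Polynomial.C (Polynomial.C Polynomial.X) + b • Polynomial.X]

/-- The inverse coordinates. -/
def bwd (a b : k) : P3 k →ₐ[k] S3 k :=
  Polynomial.aevalTower (Polynomial.aevalTower (Polynomial.aeval (MvPolynomial.X 2 - b • MvPolynomial.X 0 : S3 k))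
    (MvPolynomial.X 1 - a • MvPolynomial.X 0)) (MvPolynomial.X 0)

def coord (a b : k) : S3 k ≃ₐ[k] P3 k :=
  AlgEquiv.ofAlgHom (fwd a b) (bwd a b)
    (Polynomial.algHom_ext'
      (Polynomial.algHom_ext' (Polynomial.algHom_ext (by
        simp [fwd, bwd, Polynomial.aevalTower_C] <;> abel))
      (by simp [fwd, bwd, Polynomial.aevalTower_C] <;> abel))
      (by simp [fwd, bwd]))
    (MvPolynomial.algHom_ext fun i => by
      fin_cases i <;> simp [fwd, bwd, Polynomial.aevalTower_C])

theorem coord_natDegree_le_and_coeff (a b : k) (β : Fin 3 →₀ ℕ) (c : k) :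
    (coord a b (MvPolynomial.monomial β c)).natDegree ≤ β.degree ∧
      (coord a b (MvPolynomial.monomial β c)).coeff β.degree =
        algebraMap k (Polynomial (Polynomial k)) (MvPolynomial.eval ![1, a, b] (MvPolynomial.monomial β c)) := by
  have hX : ∀ (t : Polynomial (Polynomial k)) (r : k),
      (Polynomial.C t + r • Polynomial.X : P3 k).natDegree ≤ 1 ∧
        (Polynomial.C t + r • Polynomial.X : P3 k).coeff 1 = algebraMap k _ r := by
    intro t r
    refine ⟨(Polynomial.natDegree_add_le _ _).trans (max_le (by simp)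
      ((Polynomial.natDegree_smul_le r _).trans Polynomial.natDegree_X_le)), ?_⟩
    simp [Algebra.smul_def]
  have e : coord a b (MvPolynomial.monomial β c) = algebraMap k (P3 k) c * (Polynomial.X ^ β 0 *
      ((Polynomial.C Polynomial.X + a • Polynomial.X) ^ β 1 *
        (Polynomial.C (Polynomial.C Polynomial.X) + b • Polynomial.X) ^ β 2)) := by
    show fwd a b _ = _
    rw [fwd, MvPolynomial.aeval_monomial, Finsupp.prod_fintype _ _ (fun i => pow_zero _), Fin.prod_univ_three]
    simp [mul_assoc]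
  have hd : β.degree = β 0 + (β 1 + β 2) := by
    rw [Finsupp.degree_eq_sum, Fin.sum_univ_three, add_assoc]
  have hev : MvPolynomial.eval ![1, a, b] (MvPolynomial.monomial β c) = c * (a ^ β 1 * b ^ β 2) := by
    rw [MvPolynomial.eval_monomial, Finsupp.prod_fintype _ _ (fun i => pow_zero _), Fin.prod_univ_three]
    simp
  obtain ⟨h1, h1'⟩ := hX Polynomial.X a
  obtain ⟨h2, h2'⟩ := hX (Polynomial.C Polynomial.X) b
  have p0 : (Polynomial.X ^ β 0 : P3 k).natDegree ≤ β 0 := Polynomial.natDegree_X_pow_le _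
  have p1 := (Polynomial.natDegree_pow_le (p := (Polynomial.C Polynomial.X + a • Polynomial.X : P3 k)) (n := β 1)).trans
    (Nat.mul_le_mul_left _ h1)
  have p2 := (Polynomial.natDegree_pow_le
    (p := (Polynomial.C (Polynomial.C Polynomial.X) + b • Polynomial.X : P3 k)) (n := β 2)).trans
    (Nat.mul_le_mul_left _ h2)
  rw [mul_one] at p1 p2
  have p12 := Polynomial.natDegree_mul_le_of_le p1 p2
  have c0 : (Polynomial.X ^ β 0 : P3 k).coeff (β 0) = 1 := by simp
  have c1 : ((Polynomial.C Polynomial.X + a • Polynomial.X : P3 k) ^ β 1).coeff (β 1) = algebraMap k _ a ^ β 1 := by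
    have := Polynomial.coeff_pow_of_natDegree_le h1 (m := β 1)
    rw [mul_one, h1'] at this
    exact this
  have c2 : ((Polynomial.C (Polynomial.C Polynomial.X) + b • Polynomial.X : P3 k) ^ β 2).coeff (β 2) =
      algebraMap k _ b ^ β 2 := by
    have := Polynomial.coeff_pow_of_natDegree_le h2 (m := β 2)
    rw [mul_one, h2'] at this
    exact this
  refine ⟨?_, ?_⟩
  · rw [e, hd, ← Algebra.smul_def]
    exact (Polynomial.natDegree_smul_le c _).trans (Polynomial.natDegree_mul_le_of_le p0 p12)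
  · rw [e, hd, ← Algebra.smul_def, Polynomial.coeff_smul, Polynomial.coeff_mul_add_eq_of_natDegree_le p0 p12,
      Polynomial.coeff_mul_add_eq_of_natDegree_le p1 p2, c0, c1, c2, hev, Algebra.smul_def]
    simp [map_mul, map_pow]

theorem coord_natDegree_le_and_coeff_total (a b : k) (f : S3 k) {q : ℕ} (hq : f.totalDegree ≤ q) :
    (coord a b f).natDegree ≤ q ∧ (coord a b f).coeff q =
      algebraMap k (Polynomial (Polynomial k)) (MvPolynomial.eval ![1, a, b] (MvPolynomial.homogeneousComponent q f)) := by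
  have hle : ∀ β ∈ f.support, β.degree ≤ q := fun β hβ => by
    refine le_trans ?_ hq
    exact MvPolynomial.le_totalDegree hβ
  have e : coord a b f = ∑ β ∈ f.support, coord a b (MvPolynomial.monomial β (MvPolynomial.coeff β f)) := by
    rw [← map_sum, ← MvPolynomial.as_sum]
  refine ⟨?_, ?_⟩
  · rw [e]
    exact Polynomial.natDegree_sum_le_of_forall_le _ _ fun β hβ =>
      (coord_natDegree_le_and_coeff a b β _).1.trans (hle β hβ)
  · rw [e, Polynomial.finsetSum_coeff, MvPolynomial.homogeneousComponent_apply, map_sum, map_sum,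
      Finset.sum_filter]
    refine Finset.sum_congr rfl fun β hβ => ?_
    obtain ⟨h1, h2⟩ := coord_natDegree_le_and_coeff a b β (MvPolynomial.coeff β f)
    split_ifs with h
    · rw [← h, h2]
    · exact Polynomial.coeff_eq_zero_of_natDegree_lt (lt_of_le_of_lt h1 (lt_of_le_of_ne (hle β hβ) h))

theorem transport {S P : Type*} [CommRing S] [CommRing P] [IsNoetherianRing P] [Algebra k S] [Algebra k P]
    (e : S ≃ₐ[k] P) (I : Ideal S) [Module.Finite k (S ⧸ I)] :
    Module.Finite k (P ⧸ I.map (e : S →+* P)) ∧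
      Module.finrank k (P ⧸ I.map (e : S →+* P)) = Module.finrank k (S ⧸ I) ∧
      Module.finrank k (I →ₗ[S] (S ⧸ I)) ≤
        Module.finrank k (↥(I.map (e : S →+* P)) →ₗ[P] (P ⧸ I.map (e : S →+* P))) := by
  let ē : (S ⧸ I) ≃ₐ[k] (P ⧸ I.map (e : S →+* P)) := Ideal.quotientEquivAlg I _ e rfl
  haveI hf : Module.Finite k (P ⧸ I.map (e : S →+* P)) := Module.Finite.equiv ē.toLinearEquiv
  refine ⟨hf, ē.toLinearEquiv.finrank_eq.symm, ?_⟩
  haveI : Module.Finite P ↥(I.map (e : S →+* P)) := Module.Finite.iff_fg.2 (IsNoetherian.noetherian _)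
  haveI := finite_hom k (R := P) ↥(I.map (e : S →+* P)) (P ⧸ I.map (e : S →+* P))
  have hmem : ∀ y ∈ I.map (e : S →+* P), e.symm y ∈ I := by
    intro y hy
    obtain ⟨x, hx, rfl⟩ := (Ideal.mem_map_iff_of_surjective (e : S →+* P) e.surjective).1 hy
    simpa using hx
  have hsmul : ∀ (s : S) (z : S ⧸ I), ē (s • z) = e s • ē z := by
    intro s z
    obtain ⟨w, rfl⟩ := Ideal.Quotient.mk_surjective z
    show ē (Ideal.Quotient.mk I (s * w)) = e s • ē (Ideal.Quotient.mk I w)
    simp only [ē, Ideal.quotientEquivAlg_mk, map_mul]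
    rfl
  let Φ : (I →ₗ[S] (S ⧸ I)) →ₗ[k] (↥(I.map (e : S →+* P)) →ₗ[P] (P ⧸ I.map (e : S →+* P))) :=
    { toFun := fun φ =>
        { toFun := fun y => ē (φ ⟨e.symm y, hmem y.1 y.2⟩)
          map_add' := fun y y' => by
            rw [← map_add, ← map_add]; congr 2; exact Subtype.ext (map_add e.symm y.1 y'.1)
          map_smul' := fun p y => by
            have : (⟨e.symm ↑(p • y), hmem _ (p • y).2⟩ : I) = e.symm p • ⟨e.symm y, hmem y.1 y.2⟩ :=
              Subtype.ext (map_mul e.symm p y.1)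
            rw [this, map_smul, hsmul, e.apply_symm_apply]; rfl }
      map_add' := fun φ ψ => LinearMap.ext fun y => map_add ē _ _
      map_smul' := fun c φ => LinearMap.ext fun y => by
        show ē (c • φ _) = c • ē (φ _)
        exact map_smul ē c _ }
  refine LinearMap.finrank_le_finrank_of_injective (f := Φ) fun φ ψ h => LinearMap.ext fun x => ?_
  have h1 : ē (φ ⟨e.symm (e x.1), hmem _ (Ideal.mem_map_of_mem _ x.2)⟩) =
      ē (ψ ⟨e.symm (e x.1), hmem _ (Ideal.mem_map_of_mem _ x.2)⟩) :=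
    LinearMap.congr_fun h ⟨e x.1, Ideal.mem_map_of_mem _ x.2⟩
  simpa using ē.injective h1

/-- The key bound. -/
theorem finrank_tgt_le (I : Ideal (S3 k)) [Module.Finite k (S3 k ⧸ I)] (f : S3 k) {q : ℕ} (hf : f ∈ I)
    (hdeg : f.totalDegree ≤ q) {a b : k}
    (hne : MvPolynomial.eval ![1, a, b] (MvPolynomial.homogeneousComponent q f) ≠ 0) :
    Module.finrank k (Tgt I) ≤ (2 * q + 1) * Module.finrank k (S3 k ⧸ I) := by
  obtain ⟨hfin, hfr, hle⟩ := transport (k := k) (S := S3 k) (P := P3 k) (coord a b) I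
  obtain ⟨h1, h2⟩ := coord_natDegree_le_and_coeff_total a b f hdeg
  set u := MvPolynomial.eval ![1, a, b] (MvPolynomial.homogeneousComponent q f) with hu
  let g : P3 k := u⁻¹ • coord a b f
  have hg1 : g.coeff q = 1 := by
    show (u⁻¹ • coord a b f).coeff q = 1
    rw [Polynomial.coeff_smul, h2, Algebra.smul_def, ← map_mul, inv_mul_cancel₀ hne, map_one]
  have hg2 : g.natDegree ≤ q := (Polynomial.natDegree_smul_le _ _).trans h1
  have hgm : g.Monic := Polynomial.monic_of_natDegree_le_of_coeff_eq_one q hg2 hg1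
  have hgq : g.natDegree = q := le_antisymm hg2 (Polynomial.le_natDegree_of_ne_zero (by rw [hg1]; exact one_ne_zero))
  have hgJ : g ∈ I.map (coord a b : S3 k →+* P3 k) := by
    simp only [g, Algebra.smul_def]
    exact Ideal.mul_mem_left _ _ (Ideal.mem_map_of_mem _ hf)
  haveI := hfin
  rw [← hfr]
  exact hle.trans (finrank_hom_quot_le k _ hgJ hgm hgq)

theorem finrank_tgt_le_of_X_pow (I : Ideal (S3 k)) [Module.Finite k (S3 k ⧸ I)] {p : ℕ}
    (hx : (MvPolynomial.X 0 : S3 k) ^ p ∈ I) :
    Module.finrank k (Tgt I) ≤ (2 * p + 1) * Module.finrank k (S3 k ⧸ I) := by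
  refine finrank_tgt_le I _ (q := p) hx (by simp) (a := 0) (b := 0) ?_
  have h : ((MvPolynomial.X 0 : S3 k) ^ p).IsHomogeneous p := MvPolynomial.isHomogeneous_X_pow 0 p
  rw [MvPolynomial.homogeneousComponent_of_mem h, if_pos rfl]
  simp

theorem exists_mem_totalDegree_le (I : Ideal (S3 k)) [Module.Finite k (S3 k ⧸ I)] {r : ℕ}
    (hd : Module.finrank k (S3 k ⧸ I) < (r + 3).choose 3) :
    ∃ f ∈ I, f ≠ 0 ∧ f.totalDegree ≤ r := by
  classical
  let D : Finset (Fin 3 →₀ ℕ) :=
    (Finset.range (r + 1)).biUnion fun s => (Finset.univ : Finset (Fin 3)).finsuppAntidiag s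
  have hD : ∀ β ∈ D, β.degree ≤ r := by
    intro β hβ
    obtain ⟨s, hs, hβs⟩ := Finset.mem_biUnion.1 hβ
    rw [Finset.mem_finsuppAntidiag] at hβs
    rw [Finsupp.degree_eq_sum, hβs.1]
    exact Nat.lt_succ_iff.1 (Finset.mem_range.1 hs)
  have hcard : (r + 3).choose 3 ≤ D.card := by
    have h1 : D.card = ∑ s ∈ Finset.range (r + 1), ((Finset.univ : Finset (Fin 3)).finsuppAntidiag s).card := by
      refine Finset.card_biUnion fun s _ s' _ hne => Finset.disjoint_left.2 fun β h h' => hne ?_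
      rw [Finset.mem_finsuppAntidiag] at h h'
      exact h.1.symm.trans h'.1
    have h2 : ∀ s : ℕ, ((Finset.univ : Finset (Fin 3)).finsuppAntidiag s).card = (s + 2).choose 2 := by
      intro s
      have h := Groth.Agent.HilbPt29.card_powSet (n := 3) s 0
      have he : Groth.Agent.HilbPt29.powSet s (0 : Fin 3 → ℤ) = (Finset.univ : Finset (Fin 3)).finsuppAntidiag s :=
        Finset.filter_true_of_mem fun β _ i => by simp
      rw [he] at h
      simp at h
      rw [h]
      congr 1
      omega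
    rw [h1, Finset.sum_congr rfl fun s _ => h2 s]
    have h3 := Nat.sum_range_add_choose r 2
    simp only [Nat.reduceAdd, add_assoc] at h3 ⊢
    omega
  let L : (D → k) →ₗ[k] S3 k := Fintype.linearCombination k fun β : D => MvPolynomial.monomial β.1 (1 : k)
  let Λ : (D → k) →ₗ[k] (S3 k ⧸ I) := (Ideal.Quotient.mkₐ k I).toLinearMap.comp L
  have hlt : Module.finrank k (S3 k ⧸ I) < Module.finrank k (D → k) := by
    rw [Module.finrank_fintype_fun_eq_card, Fintype.card_coe]; omega
  obtain ⟨c, hc, hc0⟩ := (Submodule.ne_bot_iff _).1 (Λ.ker_ne_bot_of_finrank_lt hlt)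
  refine ⟨L c, Ideal.Quotient.eq_zero_iff_mem.1 hc, fun h => hc0 ?_, ?_⟩
  · funext β
    have h' := congrArg (MvPolynomial.coeff β.1) h
    rw [Fintype.linearCombination_apply, MvPolynomial.coeff_sum, MvPolynomial.coeff_zero,
      Finset.sum_eq_single β (fun b _ hb => ?_) (fun h => absurd (Finset.mem_univ _) h)] at h'
    · simpa using h'
    · simp [MvPolynomial.coeff_monomial, Subtype.ext_iff.not.1 hb]
  · show (∑ β : D, c β • MvPolynomial.monomial β.1 (1 : k)).totalDegree ≤ r
    refine MvPolynomial.totalDegree_finsetSum_le fun β _ => ?_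
    exact (MvPolynomial.totalDegree_smul_le _ _).trans
      ((MvPolynomial.totalDegree_monomial_le _ _).trans (hD β.1 β.2))

theorem exists_eval_ne_zero [Infinite k] {h : S3 k} {q : ℕ} (hh : h.IsHomogeneous q) (h0 : h ≠ 0) :
    ∃ a b : k, MvPolynomial.eval ![1, a, b] h ≠ 0 := by
  have : h * MvPolynomial.X 0 ≠ 0 := mul_ne_zero h0 (MvPolynomial.X_ne_zero 0)
  obtain ⟨v, hv⟩ : ∃ v : Fin 3 → k, MvPolynomial.eval v (h * MvPolynomial.X 0) ≠ 0 := by
    by_contra hall
    push_neg at hall
    exact this (MvPolynomial.funext fun v => by simp [hall v])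
  rw [map_mul, MvPolynomial.eval_X, mul_ne_zero_iff] at hv
  refine ⟨v 1 / v 0, v 2 / v 0, fun he => hv.1 ?_⟩
  have key : MvPolynomial.eval v h = v 0 ^ q * MvPolynomial.eval ![1, v 1 / v 0, v 2 / v 0] h := by
    rw [MvPolynomial.eval_eq', MvPolynomial.eval_eq', Finset.mul_sum]
    refine Finset.sum_congr rfl fun β hβ => ?_
    have hdeg : β.degree = q := by
      rw [Finsupp.degree_eq_weight_one]
      exact hh (MvPolynomial.mem_support_iff.1 hβ)
    rw [Finsupp.degree_eq_sum, Fin.sum_univ_three] at hdeg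
    rw [Fin.prod_univ_three, Fin.prod_univ_three, ← hdeg, pow_add, pow_add]
    simp [div_pow]
    field_simp
    have := hv.2
    field_simp
  rw [key, he, mul_zero]

theorem arith_pow {d r p T : ℕ} (hd : d ≤ (r + 2).choose 3) (hp : 4 * p ≤ 3 * r + 1)
    (hT : T ≤ (2 * p + 1) * d) : T ≤ (r + 2).choose 2 * (r + 1).choose 2 := by
  have key : 6 * (r + 2).choose 3 = (r + 2) * (r + 1) * r ∧ 2 * (r + 2).choose 2 = (r + 2) * (r + 1) ∧
      2 * (r + 1).choose 2 = (r + 1) * r := by
    clear hd hp hT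
    induction r with
    | zero => simp [Nat.choose]
    | succ r ih =>
      have d1 := Nat.choose_succ_succ' (r + 2) 2
      have d2 := Nat.choose_succ_succ' (r + 2) 1
      rw [Nat.choose_one_right] at d2
      refine ⟨?_, ?_, ?_⟩ <;> nlinarith
  obtain ⟨k1, k2, k3⟩ := key
  have : 2 * (2 * p + 1) ≤ 3 * (r + 1) := by omega
  nlinarith

theorem arith_gen {d r q T : ℕ} (hd : d ≤ (r + 2).choose 3) (hq : q ≤ r)
    (hT : T ≤ (2 * q + 1) * d) : 3 * T ≤ 4 * ((r + 2).choose 2 * (r + 1).choose 2) := by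
  have key : 6 * (r + 2).choose 3 = (r + 2) * (r + 1) * r ∧ 2 * (r + 2).choose 2 = (r + 2) * (r + 1) ∧
      2 * (r + 1).choose 2 = (r + 1) * r := by
    clear hd hq hT
    induction r with
    | zero => simp [Nat.choose]
    | succ r ih =>
      have d1 := Nat.choose_succ_succ' (r + 2) 2
      have d2 := Nat.choose_succ_succ' (r + 2) 1
      rw [Nat.choose_one_right] at d2
      refine ⟨?_, ?_, ?_⟩ <;> nlinarith
  obtain ⟨k1, k2, k3⟩ := key
  nlinarith

theorem three_mul_le [Infinite k] (r : ℕ) (I : Ideal (S3 k)) [Module.Finite k (S3 k ⧸ I)]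
    (hd : Module.finrank k (S3 k ⧸ I) ≤ (r + 2).choose 3) :
    3 * Module.finrank k (Tgt I) ≤ 4 * ((r + 2).choose 2 * (r + 1).choose 2) := by
  have hlt : Module.finrank k (S3 k ⧸ I) < (r + 3).choose 3 := by
    have h1 := Nat.choose_succ_succ' (r + 2) 2
    have h2 : 0 < (r + 2).choose 2 := Nat.choose_pos (by omega)
    simp only [Nat.reduceAdd, add_assoc] at h1
    omega
  obtain ⟨f, hfI, hf0, hfd⟩ := exists_mem_totalDegree_le I hlt
  have hh0 : MvPolynomial.homogeneousComponent f.totalDegree f ≠ 0 := by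
    intro h
    obtain ⟨β, hβ, hβd⟩ := f.support.exists_mem_eq_sup (MvPolynomial.support_nonempty.2 hf0)
      fun s => s.degree
    have := congrArg (MvPolynomial.coeff β) h
    rw [MvPolynomial.coeff_homogeneousComponent, MvPolynomial.coeff_zero, if_pos] at this
    · exact MvPolynomial.mem_support_iff.1 hβ this
    · rw [← hβd]; rfl
  obtain ⟨a, b, hab⟩ := exists_eval_ne_zero (MvPolynomial.homogeneousComponent_isHomogeneous _ f) hh0
  exact arith_gen hd hfd (finrank_tgt_le I f hfI le_rfl hab)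

end Groth.Agent.KS29.HomBound
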