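import Groth.Agent.Lib.FunField.Plane
import Groth.Agent.Lib.FunField.Approx
import Groth.Agent.Lib.FunField.Weights
import Mathlib

/-!
# Intersection multiplicity with a plane curve

The sum of the orders of `g` over the places above a point equals the length of `O / gO`.
-/

set_option autoImplicit false
set_option linter.style.haveILetI false

open MvPolynomial WithZero

namespace Groth.Agent.KS29.InterMult

open FunFld FunField

variable {k K : Type*} [Field k] [Field K] [Algebra k K]

theorem rel_unique {M : Type*} [AddCommGroup M] [Module k M] {p r : Submodule k M} {m n : ℤ}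
    (h₁ : Rel p r m) (h₂ : Rel p r n) : m = n := h₁.eq.symm.trans h₂.eq

theorem rel_sub {M : Type*} [AddCommGroup M] [Module k M] {p q r : Submodule k M} {n : ℤ}
    (hpq : p ≤ q) (hqr : q ≤ r) (h : Rel p r n) :
    (∃ a, Rel p q a) ∧ ∃ b, Rel q r b := by
  haveI := h.fin
  constructor
  · refine ⟨_, ⟨hpq, ?_, rfl⟩⟩
    refine Module.Finite.of_injective
      (Submodule.mapQ (p.comap q.subtype) (p.comap r.subtype) (Submodule.inclusion hqr) fun x hx => hx) ?_
    rw [← LinearMap.ker_eq_bot, eq_bot_iff]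
    intro y hy
    obtain ⟨x, rfl⟩ := Submodule.mkQ_surjective _ y
    have h1 : Submodule.inclusion hqr x ∈ p.comap r.subtype := (Submodule.Quotient.mk_eq_zero _).1 hy
    exact (Submodule.Quotient.mk_eq_zero _).2 h1
  · refine ⟨_, ⟨hqr, ?_, rfl⟩⟩
    exact Module.Finite.of_surjective
      (Submodule.factor (Submodule.comap_mono hpq : p.comap r.subtype ≤ q.comap r.subtype))
      (Submodule.factor_surjective _)

theorem rel_map {M : Type*} [AddCommGroup M] [Module k M] (φ : M →ₗ[k] M) (hφ : Function.Injective φ)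
    {p r : Submodule k M} {n : ℤ} (h : Rel p r n) : Rel (p.map φ) (r.map φ) n := by
  let e : r ≃ₗ[k] r.map φ := Submodule.equivMapOfInjective φ hφ r
  have he : (p.comap r.subtype).map (e : r →ₗ[k] r.map φ) = (p.map φ).comap (r.map φ).subtype := by
    ext z
    constructor
    · rintro ⟨x, hx, rfl⟩
      exact ⟨x, hx, (Submodule.coe_equivMapOfInjective_apply φ hφ r x).symm⟩
    · rintro ⟨x, hx, hxz⟩
      refine ⟨⟨x, h.le hx⟩, hx, Subtype.ext ?_⟩
      exact (Submodule.coe_equivMapOfInjective_apply φ hφ r _).trans hxz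
  let eq := Submodule.Quotient.equiv _ _ e he
  haveI := h.fin
  exact ⟨Submodule.map_mono h.le, Module.Finite.equiv eq, by rw [← eq.finrank_eq]; exact h.eq⟩

theorem aeval_mem_of_centred {x y : K} {a b : k} (P : Place k K) (hx : P.1 (x - algebraMap k K a) < 1)
    (hy : P.1 (y - algebraMap k K b) < 1) (p : MvPolynomial (Fin 2) k) :
    P.1 (aeval ![x, y] p - algebraMap k K (eval ![a, b] p)) < 1 := by
  have hle : ∀ {z : K} {c : k}, P.1 (z - algebraMap k K c) < 1 → P.1 z ≤ 1 := fun {z c} h => by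
    rw [show z = (z - algebraMap k K c) + algebraMap k K c by ring]
    exact P.1.map_add_le h.le (val_const_le P c)
  induction p using MvPolynomial.induction_on with
  | C c => simp
  | add p q hp hq =>
    rw [map_add, map_add, map_add, add_sub_add_comm]
    exact P.1.map_add_lt hp hq
  | mul_X p i hp =>
    have hi : P.1 ((![x, y] i) - algebraMap k K (![a, b] i)) < 1 := by fin_cases i <;> assumption
    rw [map_mul, map_mul, aeval_X, eval_X, map_mul,
      show aeval ![x, y] p * ![x, y] i - algebraMap k K (eval ![a, b] p) * algebraMap k K (![a, b] i) =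
        (aeval ![x, y] p - algebraMap k K (eval ![a, b] p)) * ![x, y] i +
          algebraMap k K (eval ![a, b] p) * (![x, y] i - algebraMap k K (![a, b] i)) by ring]
    refine P.1.map_add_lt ?_ ?_
    · rw [map_mul]
      exact (mul_le_of_le_one_right' (hle hi)).trans_lt hp
    · rw [map_mul]
      exact (mul_le_of_le_one_left' (val_const_le P _)).trans_lt hi

theorem main [IsAlgClosed k] (hK : FunFld.IsFunctionField k K) (x y : K)
    (hxy : IntermediateField.adjoin k ({x, y} : Set K) = ⊤) (f g : MvPolynomial (Fin 2) k)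
    (hf : Irreducible f) (hfxy : MvPolynomial.aeval ![x, y] f = 0)
    (hgxy : MvPolynomial.aeval ![x, y] g ≠ 0) (P : FunFld.Place k K) (c : Fin 2 → k)
    (hc : ∀ i, P.1 (![x, y] i - algebraMap k K (c i)) < 1)
    (M : Ideal (MvPolynomial (Fin 2) k)) [M.IsMaximal]
    (hM : M = Ideal.span {MvPolynomial.X 0 - MvPolynomial.C (c 0),
      MvPolynomial.X 1 - MvPolynomial.C (c 1)}) :
    ∑ᶠ Q ∈ {Q : FunFld.Place k K | FunFld.SameImage ![(1 : K), x, y] P Q},
        Q.ord (MvPolynomial.aeval ![x, y] g) =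
      (Module.finrank k (Localization.AtPrime M ⧸
        Ideal.map (algebraMap (MvPolynomial (Fin 2) k) (Localization.AtPrime M))
          (Ideal.span {f, g})) : ℤ) := by
  classical
  have h := ff hK
  have hp : PlaneModel hK x y := ⟨hxy⟩
  let V := Submodule.span k (Set.range ![(1 : K), x, y])
  let E := FunFld.mapDiv k ![(1 : K), x, y]
  have hG : Gen V E := hp.gen
  have hB : Bir V := hp.bir
  have hd : 0 < E.deg := hp.deg_pos
  have hx : P.1 (x - algebraMap k K (c 0)) < 1 := hc 0
  have hy : P.1 (y - algebraMap k K (c 1)) < 1 := hc 1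
  have hle : ∀ {z : K} {a : k}, P.1 (z - algebraMap k K a) < 1 → P.1 z ≤ 1 := fun {z a} hz => by
    rw [show z = (z - algebraMap k K a) + algebraMap k K a by ring]
    exact P.1.map_add_le hz.le (val_const_le P a)
  have h1P : P.1 (1 : K) = exp (E P) := by
    refine hG.of_span (φ := ![(1 : K), x, y]) (j := 0) fun i => ?_
    fin_cases i
    · exact le_rfl
    · exact (hle hx).trans_eq (map_one _).symm
    · exact (hle hy).trans_eq (map_one _).symm
  have hS : ∀ Q, SameImage ![(1 : K), x, y] P Q ↔ Sm V E 1 P Q := fun Q =>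
    sameImage_iff hK hG hp.one_mem_span h1P
  have hcc : ∀ p : MvPolynomial (Fin 2) k,
      P.1 (aeval ![x, y] p - algebraMap k K (eval c p)) < 1 := fun p => by
    have e : c = ![c 0, c 1] := by ext i; fin_cases i <;> rfl
    rw [e]
    exact aeval_mem_of_centred P hx hy p
  have hmem : ∀ p : MvPolynomial (Fin 2) k, p ∈ M ↔ eval c p = 0 := by
    have hle' : M ≤ RingHom.ker (eval c) := by
      rw [hM, Ideal.span_le]
      rintro p (rfl | rfl) <;> simp
    have heq : M = RingHom.ker (eval c) :=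
      Ideal.IsMaximal.eq_of_le ‹_› (RingHom.ker_ne_top _) hle'
    intro p
    rw [heq, RingHom.mem_ker]
  have hval1 : ∀ p : MvPolynomial (Fin 2) k, p ∉ M → P.1 (aeval ![x, y] p) = 1 := fun p hpM => by
    have h0 : eval c p ≠ 0 := fun h0 => hpM ((hmem p).2 h0)
    rw [Valuation.map_eq_of_sub_lt P.1 (x := algebraMap k K (eval c p))
      (by rw [val_const P h0]; exact hcc p), val_const P h0]
  have hval1' : ∀ p : MvPolynomial (Fin 2) k, P.1 (aeval ![x, y] p) = 1 → p ∉ M := fun p h1 hpM => by
    have := hcc p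
    rw [(hmem p).1 hpM, map_zero, sub_zero, h1] at this
    exact lt_irrefl _ this
  -- the local ring and its parametrisation
  have hunit : ∀ p : M.primeCompl, IsUnit (aeval ![x, y] (p : MvPolynomial (Fin 2) k)) := fun p =>
    isUnit_iff_ne_zero.2 fun h0 => by
      have := hval1 _ p.2
      rw [h0, map_zero] at this
      exact zero_ne_one this
  let Φ : Localization.AtPrime M →ₐ[k] K := IsLocalization.liftAlgHom (M := M.primeCompl) hunit
  have hΦ : ∀ p : MvPolynomial (Fin 2) k,
      Φ (algebraMap _ (Localization.AtPrime M) p) = aeval ![x, y] p := fun p => IsLocalization.lift_eq _ p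
  have hchA : chA V 1 = (aeval (R := k) ![x, y]).range := by
    rw [chA_span]
    refine le_antisymm (Algebra.adjoin_le ?_) ?_
    · rintro _ ⟨i, rfl⟩
      fin_cases i
      · exact ⟨1, by simp⟩
      · exact ⟨X 0, by simp⟩
      · exact ⟨X 1, by simp⟩
    · rintro _ ⟨p, rfl⟩
      induction p using MvPolynomial.induction_on with
      | C a => simp
      | add p q hp hq => rw [map_add]; exact add_mem hp hq
      | mul_X p i hp =>
        rw [map_mul]
        refine mul_mem hp (Algebra.subset_adjoin ?_)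
        fin_cases i
        · exact ⟨1, by simp⟩
        · exact ⟨2, by simp⟩
  let S : Submodule k K := Subalgebra.toSubmodule (locR V 1 P)
  have hrange : ∀ z, z ∈ S ↔ ∃ w, Φ w = z := by
    intro z
    constructor
    · rintro ⟨w, hw, hw1, hzw⟩
      rw [hchA] at hw hzw
      obtain ⟨q, rfl⟩ := hw
      obtain ⟨p, hp⟩ := hzw
      refine ⟨IsLocalization.mk' _ p (⟨q, hval1' q hw1⟩ : M.primeCompl), ?_⟩
      show IsLocalization.lift _ _ = _
      rw [IsLocalization.lift_mk'_spec]
      change aeval ![x, y] p = aeval ![x, y] q * z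
      exact hp.trans (mul_comm _ _)
    · rintro ⟨w, rfl⟩
      obtain ⟨⟨p, q⟩, hpq⟩ := IsLocalization.surj M.primeCompl w
      refine ⟨aeval ![x, y] (q : MvPolynomial (Fin 2) k), by rw [hchA]; exact ⟨_, rfl⟩, hval1 _ q.2, ?_⟩
      rw [hchA]
      refine ⟨p, ?_⟩
      have := congrArg Φ hpq
      rw [map_mul, hΦ, hΦ] at this
      exact this.symm
  -- the fibre
  set G := aeval ![x, y] g with hGdef
  have hne : x - algebraMap k K (c 0) ≠ 0 ∨ y - algebraMap k K (c 1) ≠ 0 := by
    by_contra hcon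
    simp only [not_or, not_ne_iff, sub_eq_zero] at hcon
    obtain ⟨t, ht, -⟩ := h
    have htop : (⊤ : IntermediateField k K) ≤ ⊥ := by
      rw [← hxy, IntermediateField.adjoin_le_iff]
      rintro z (rfl | rfl)
      · exact IntermediateField.mem_bot.2 ⟨c 0, hcon.1.symm⟩
      · exact IntermediateField.mem_bot.2 ⟨c 1, hcon.2.symm⟩
    obtain ⟨a, ha⟩ := IntermediateField.mem_bot.1 (htop (IntermediateField.mem_top (x := t)))
    exact ht (ha ▸ isAlgebraic_algebraMap a)
  have hfin : {Q : Place k K | Sm V E 1 P Q}.Finite := by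
    have key : ∀ Q, Sm V E 1 P Q → ∀ i, Q.1 (![x, y] i - algebraMap k K (c i)) < 1 := by
      rintro Q ⟨-, hQ⟩ i
      have hv : ![x, y] i ∈ V := by
        fin_cases i
        · exact Submodule.subset_span ⟨1, rfl⟩
        · exact Submodule.subset_span ⟨2, rfl⟩
      obtain ⟨a, haP, haQ⟩ := hQ _ hv
      rw [div_one] at haP haQ
      rwa [const_unique P (hc i) haP]
    have hz : ∀ z : K, z ≠ 0 → {Q : Place k K | Q.1 z < 1} ⊆ {Q : Place k K | 0 < Q.ord z} := by
      intro z hz Q hQ
      have hQ' : Q.1 z < 1 := hQ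
      rw [val_eq_exp_neg_ord Q hz, ← exp_zero, exp_lt_exp] at hQ'
      show 0 < Q.ord z
      omega
    rcases hne with hne | hne
    · exact ((finite_zeros h _).subset (hz _ hne)).subset fun Q hQ => key Q hQ 0
    · exact ((finite_zeros h _).subset (hz _ hne)).subset fun Q hQ => key Q hQ 1
  let T := hfin.toFinset
  have hT : ∀ Q, Q ∈ T ↔ Sm V E 1 P Q := fun Q => hfin.mem_toFinset
  obtain ⟨N, hN⟩ := hG.exists_bound hK hd hB hp.one_mem_span h1P
  have hS0 : S ≤ loc T (fun _ => 0) := fun z hz => mem_loc.2 fun Q hQ =>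
    (hG.sm_val ((hT Q).1 hQ) hz).1.trans_eq exp_zero.symm
  have hNS : loc T (fun _ => -(N : ℤ)) ≤ S := fun z hz =>
    hN z fun Q hQ => mem_loc.1 hz Q ((hT Q).2 hQ)
  have hdeg : ∀ Q : Place k K, (Q.deg : ℤ) = 1 := fun Q => by rw [deg_eq_one h Q]; norm_num
  -- multiplication by `G`
  let μ : K →ₗ[k] K := LinearMap.mulLeft k G
  have hμ : Function.Injective μ := fun a b hab => mul_left_cancel₀ hgxy hab
  have hμloc : ∀ a : ℤ, (loc T (fun _ => a)).map μ = loc T (fun Q => a - Q.ord G) := by
    intro a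
    have hval : ∀ (Q : Place k K) (z : K), Q.1 (G * z) ≤ exp (a - Q.ord G) ↔ Q.1 z ≤ exp a := fun Q z => by
      rw [map_mul, val_eq_exp_neg_ord Q hgxy, show a - Q.ord G = -Q.ord G + a by ring, exp_add,
        mul_le_mul_iff_right₀ exp_pos]
    ext z
    constructor
    · rintro ⟨w, hw, rfl⟩
      exact mem_loc.2 fun Q hQ => (hval Q w).2 (mem_loc.1 hw Q hQ)
    · intro hz
      refine ⟨G⁻¹ * z, mem_loc.2 fun Q hQ => (hval Q _).1 ?_, mul_inv_cancel_left₀ hgxy z⟩
      rw [mul_inv_cancel_left₀ hgxy]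
      exact mem_loc.1 hz Q hQ
  have hGS : G ∈ S := (hrange G).2 ⟨_, hΦ g⟩
  have hord : ∀ Q ∈ T, 0 ≤ Q.ord G := fun Q hQ => by
    have := mem_loc.1 (hS0 hGS) Q hQ
    rw [val_eq_exp_neg_ord Q hgxy, exp_le_exp] at this
    omega
  have hμS : S.map μ ≤ S := by
    rintro _ ⟨w, hw, rfl⟩
    exact (locR V 1 P).mul_mem hGS hw
  -- dimensions
  obtain ⟨-, b, hb⟩ := rel_sub hNS hS0
    (rel_loc h T (fun _ => -(N : ℤ)) (fun _ => 0) fun Q _ => by simp)
  have hb' := rel_map μ hμ hb
  have h0G : Rel (loc T fun Q => (0 : ℤ) - Q.ord G) (loc T fun _ => 0) (∑ Q ∈ T, Q.ord G) := by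
    have h1 := rel_loc h T (fun Q => (0 : ℤ) - Q.ord G) (fun _ => 0)
      (fun Q hQ => by have := hord Q hQ; omega)
    rwa [Finset.sum_congr rfl fun Q _ => show ((0 : ℤ) - (0 - Q.ord G)) * (Q.deg : ℤ) = Q.ord G by
      rw [hdeg]; ring] at h1
  rw [hμloc] at hb'
  have htot := hb'.trans h0G
  obtain ⟨⟨a, ha⟩, -⟩ := rel_sub hμS hS0 htot
  have hab := rel_unique (ha.trans hb) htot
  -- the quotient of the local ring
  let I := Ideal.map (algebraMap (MvPolynomial (Fin 2) k) (Localization.AtPrime M)) (Ideal.span {f, g})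
  let Φ' : Localization.AtPrime M →ₗ[k] S := Φ.toLinearMap.codRestrict S fun w => (hrange _).2 ⟨w, rfl⟩
  let ψ : Localization.AtPrime M →ₗ[k] (S ⧸ (S.map μ).comap S.subtype) := (Submodule.mkQ _).comp Φ'
  have hψs : Function.Surjective ψ := by
    intro z
    obtain ⟨⟨s, hs⟩, rfl⟩ := Submodule.mkQ_surjective _ z
    obtain ⟨w, hw⟩ := (hrange s).1 hs
    refine ⟨w, ?_⟩
    show Submodule.Quotient.mk (Φ' w) = _
    exact congrArg Submodule.Quotient.mk (Subtype.ext hw)
  have hkerΦ : ∀ w, Φ w = 0 → w ∈ I := by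
    intro w hw
    obtain ⟨⟨p, q⟩, hpq⟩ := IsLocalization.surj M.primeCompl w
    have h0 := congrArg Φ hpq
    rw [map_mul, hw, zero_mul, hΦ] at h0
    have hpf : p ∈ Ideal.span ({f} : Set (MvPolynomial (Fin 2) k)) := by
      rw [← hp.ker_ev hf hfxy, RingHom.mem_ker]
      exact h0.symm
    have hpI : algebraMap _ (Localization.AtPrime M) p ∈ I :=
      Ideal.mem_map_of_mem _ (Ideal.span_mono (by simp) hpf)
    rw [← hpq] at hpI
    exact (Ideal.mul_unit_mem_iff_mem _ (IsLocalization.map_units _ q)).1 hpI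
  have hker : LinearMap.ker ψ = I.restrictScalars k := by
    ext w
    rw [LinearMap.mem_ker, LinearMap.comp_apply, Submodule.mkQ_apply, Submodule.Quotient.mk_eq_zero,
      Submodule.mem_comap, Submodule.restrictScalars_mem]
    constructor
    · rintro ⟨s, hs, hse⟩
      obtain ⟨w', rfl⟩ := (hrange s).1 hs
      have hsub : w - algebraMap _ (Localization.AtPrime M) g * w' ∈ I := hkerΦ _ (by
        rw [map_sub, map_mul, hΦ, sub_eq_zero]
        exact hse.symm)
      have hg : algebraMap _ (Localization.AtPrime M) g * w' ∈ I :=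
        I.mul_mem_right _ (Ideal.mem_map_of_mem _ (Ideal.subset_span (by simp)))
      simpa using add_mem hsub hg
    · intro hw
      rw [show I = Ideal.span {algebraMap _ (Localization.AtPrime M) f, algebraMap _ (Localization.AtPrime M) g} from by
        simp only [I, Ideal.map_span, Set.image_pair], Ideal.mem_span_pair] at hw
      obtain ⟨u, v, rfl⟩ := hw
      refine ⟨Φ v, (hrange _).2 ⟨v, rfl⟩, ?_⟩
      show G * Φ v = Φ (u * _ + v * _)
      rw [map_add, map_mul, map_mul, hΦ, hΦ, hfxy, mul_zero, zero_add, mul_comm]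
  let e : (Localization.AtPrime M ⧸ I) ≃ₗ[k] (S ⧸ (S.map μ).comap S.subtype) :=
    ((Submodule.Quotient.restrictScalarsEquiv k I).symm.trans (Submodule.quotEquivOfEq _ _ hker.symm)).trans
      (ψ.quotKerEquivOfSurjective hψs)
  show _ = ((Module.finrank k (Localization.AtPrime M ⧸ I) : ℕ) : ℤ)
  rw [e.finrank_eq, ha.eq]
  have hset : {Q : Place k K | SameImage ![(1 : K), x, y] P Q} = (T : Set (Place k K)) :=
    Set.ext fun Q => (hS Q).trans (hT Q).symm
  rw [hset, finsum_mem_coe_finset]
  linarith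

end Groth.Agent.KS29.InterMult
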