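import Mathlib.FieldTheory.IsSepClosed
import Mathlib.FieldTheory.PrimitiveElement
import Mathlib.FieldTheory.Galois.Basic

/-!
# Embeddings of finite subalgebras of a separable closure
-/

universe u

namespace Groth.Agent.KS29

variable {k : Type u} [Field k] (K : Type u) [Field K] [Algebra k K]

attribute [local instance] IsSepClosure.sep_closed in
theorem sepClosure_facts' [IsSepClosure k K] (L : IntermediateField k K) [Module.Finite k L] :
    (∀ τ : L →ₐ[k] K, ∃ σ : K ≃ₐ[k] K, ∀ l : L, σ (l : K) = τ l) ∧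
      Nat.card (L →ₐ[k] K) = Module.finrank k L := by
  haveI : Algebra.IsSeparable k K := IsSepClosure.separable
  haveI : Algebra.IsAlgebraic k K := Algebra.IsSeparable.isAlgebraic k K
  haveI : IsGalois k K := inferInstance
  haveI : Normal k K := IsGalois.to_normal
  refine ⟨fun τ => ?_, AlgHom.natCard_of_splits k L K fun x =>
    IsSepClosed.splits_codomain _ (Algebra.IsSeparable.isSeparable k x)⟩
  exact ⟨AlgEquiv.ofBijective (τ.liftNormal K) (Algebra.IsAlgebraic.algHom_bijective _),
    fun l => τ.liftNormal_commutes K l⟩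

theorem sepClosure_facts [IsSepClosure k K] (A : Subalgebra k K) [hA : Module.Finite k A] :
    (∀ τ : A →ₐ[k] K, ∃ σ : K ≃ₐ[k] K, ∀ l, σ (A.val l) = τ l) ∧
      Nat.card (A →ₐ[k] K) = Module.finrank k A := by
  haveI : Algebra.IsSeparable k K := IsSepClosure.separable
  haveI : Algebra.IsAlgebraic k K := Algebra.IsSeparable.isAlgebraic k K
  obtain ⟨L, rfl⟩ : ∃ L : IntermediateField k K, L.toSubalgebra = A :=
    ⟨A.toIntermediateField fun x hx => A.inv_mem_of_algebraic (x := ⟨x, hx⟩)
      (Algebra.IsAlgebraic.isAlgebraic x), by ext; rfl⟩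
  exact @sepClosure_facts' k _ K _ _ _ L hA

end Groth.Agent.KS29
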