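import Groth.Agent.Lib.KS29.Descent
import Groth.Agent.Lib.CohFound.ProjQuot
import Groth.Agent.Lib.TensorMod.Summand
import Groth.Agent.Lib.Snapper.Main

/-!
# Isotypical modules: uniqueness of the indecomposable and powers
-/

set_option autoImplicit false
set_option linter.style.haveILetI false
set_option linter.unusedSectionVars false
set_option backward.isDefEq.respectTransparency false
set_option backward.isDefEq.respectTransparency.types false
set_option maxHeartbeats 400000

universe u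

open CategoryTheory CategoryTheory.Limits AlgebraicGeometry TopologicalSpace Opposite

noncomputable section

namespace Groth.Agent.KS29

open Groth.Agent W4c1astiltbs12

attribute [local instance] Abelian.hasFiniteBiproducts

variable {k : Type u} [Field k] {X : Scheme.{u}} (p : X ⟶ Spec (CommRingCat.of k))
variable (K : Type u) [Field K] [Algebra k K]

instance additive_bc : (Scheme.Modules.pullback (proj p K)).Additive :=
  (Scheme.Modules.pullbackPushforwardAdjunction (proj p K)).left_adjoint_additive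

variable {K}

/-- Pullback of a decomposition. -/
def Dec.bc {M : X.Modules} {ι : Type} [Fintype ι] {F : ι → X.Modules} (d : Dec M F) :
    Dec (bcMod p K M) (fun i => bcMod p K (F i)) :=
  d.map (Scheme.Modules.pullback (proj p K))

theorem exists_functional_one (k K : Type u) [Field k] [Field K] [Algebra k K] :
    ∃ l : K →ₗ[k] k, l 1 = 1 := by
  obtain ⟨l, hl⟩ := LinearMap.exists_leftInverse_of_injective (Algebra.linearMap k K)
    (LinearMap.ker_eq_bot.2 (FaithfulSMul.algebraMap_injective k K))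
  exact ⟨l, by simpa using LinearMap.congr_fun hl (1 : k)⟩

/-- Base change reflects zero morphisms. -/
theorem eq_zero_of_map_eq_zero {F G : X.Modules} (hG : Coh.IsQCoh G) (f : F ⟶ G)
    (h : (Scheme.Modules.pullback (proj p K)).map f = 0) : f = 0 := by
  obtain ⟨l, hl⟩ := exists_functional_one k K
  have h' : ∑ _u ∈ (Finset.univ : Finset (Fin 1)), bcT p f (1 : K) =
      ∑ x ∈ (Finset.univ : Finset (Fin 0)), bcT p ((Fin.elim0 x : F ⟶ G)) (1 : K) := by
    rw [Fin.sum_univ_one, Fin.sum_univ_zero, bcT, sc_one, Category.comp_id, h]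
  have := comb_congr p hG _ _ _ _ _ _ h' l
  rwa [Fin.sum_univ_one, Fin.sum_univ_zero, hl, sck_one, Category.comp_id] at this

/-- Base change reflects zero objects. -/
theorem isZero_of_bc {F : X.Modules} (hF : Coh.IsQCoh F) (h : IsZero (bcMod p K F)) : IsZero F :=
  (IsZero.iff_id_eq_zero F).2 (eq_zero_of_map_eq_zero (K := K) p hF (𝟙 F) (h.eq_of_src _ _))

theorem isProper_bc [IsProper p] : IsProper (W4bk4gw11416.baseChangeTo p K) :=
  MorphismProperty.pullback_snd p _ ‹IsProper p›

/-- Indecomposable coherent modules that become powers of the same module are isomorphic. -/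
theorem indec_unique [IsProper p] [Algebra.IsAlgebraic k K] {W : (W4bk4gw11416.baseChange p K).Modules}
    {E E' : X.Modules} (hE : Coh.IsCoh E) (hE' : Coh.IsCoh E') (hi : Indec E) (hi' : Indec E') {r s : ℕ}
    (e : bcMod p K E ≅ pow W r) (e' : bcMod p K E' ≅ pow W s) : Nonempty (E ≅ E') := by
  haveI := CohFound.isNoetherian_of_isProper p
  let d : Dec (bcMod p K E) (fun _ : Fin r => W) := Dec.ofCoproduct.trans e.symm
  let d' : Dec (bcMod p K E') (fun _ : Fin s => W) := Dec.ofCoproduct.trans e'.symm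
  have hs : 0 < s := by
    rcases Nat.eq_zero_or_pos s with rfl | h
    · exact absurd (isZero_of_bc (K := K) p hE'.1 d'.isZero) hi'.1
    · exact h
  let dE : Dec (pow E s) (fun _ : Fin s => E) := Dec.ofCoproduct
  let dE' : Dec (pow E' r) (fun _ : Fin r => E') := Dec.ofCoproduct
  let D : Dec (bcMod p K (pow E s)) (fun _ : Σ _ : Fin s, Fin r => W) := (dE.bc p).bind fun _ => d
  let D' : Dec (bcMod p K (pow E' r)) (fun _ : Σ _ : Fin r, Fin s => W) := (dE'.bc p).bind fun _ => d'
  let σ : (Σ _ : Fin s, Fin r) ≃ (Σ _ : Fin r, Fin s) :=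
    ⟨fun x => ⟨x.2, x.1⟩, fun x => ⟨x.2, x.1⟩, fun _ => rfl, fun _ => rfl⟩
  have hP : Coh.IsCoh (pow E s) := CohGab13.isCoh_sigma hE s
  obtain ⟨ε⟩ := iso_of_bc_iso p hP (CohGab13.isCoh_sigma hE' r)
    (D.isoBiproduct ≪≫ (D'.reindex σ).isoBiproduct.symm)
  obtain ⟨f, hf⟩ := coh_dec_unique p hP dE (dE'.trans ε.symm) (fun _ => hi) (fun _ => hi')
  exact hf ⟨0, hs⟩

/-- An isotypical module is a power of an indecomposable one. -/
theorem exists_pow_indec [IsProper p] [Algebra.IsAlgebraic k K] {E : X.Modules} (hE : FlatMod.IsFinLocFree E)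
    (hE0 : ¬ IsZero E) {L : (W4bk4gw11416.baseChange p K).Modules} (hLi : Indec L)
    {r : ℕ} (e : bcMod p K E ≅ pow L r) :
    (∃ (G : X.Modules) (n : ℕ), FlatMod.IsFinLocFree G ∧ Indec G ∧ Nonempty (E ≅ pow G n)) ∧
    (∀ (G G' : X.Modules) (n m : ℕ), Indec G → Indec G' → Nonempty (E ≅ pow G n) →
      Nonempty (E ≅ pow G' m) → Nonempty (G ≅ G')) := by
  haveI := CohFound.isNoetherian_of_isProper p
  haveI := isProper_bc (K := K) p
  haveI := CohFound.isNoetherian_of_isProper (W4bk4gw11416.baseChangeTo p K)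
  have hEc : Coh.IsCoh E := CohFound.isCoh_of_isFinLocFree hE
  refine ⟨?_, fun G G' n m hG hG' ⟨ε⟩ ⟨ε'⟩ => ?_⟩
  · obtain ⟨N, Gs, hGs, ⟨dG⟩⟩ := coh_exists_dec p hEc
    rcases Nat.eq_zero_or_pos N with rfl | hN
    · exact absurd dG.isZero hE0
    have hGc : ∀ i, Coh.IsCoh (Gs i) := dG.isCoh hEc
    choose m Hs hHs dH using fun i =>
      coh_exists_dec (W4bk4gw11416.baseChangeTo p K) (M1.isCoh_pullback (proj p K) (hGc i))
    obtain ⟨f, hf⟩ := coh_dec_unique (W4bk4gw11416.baseChangeTo p K) (M1.isCoh_pullback (proj p K) hEc)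
      ((dG.bc p).bind fun i => (dH i).some) (Dec.ofCoproduct.trans e.symm) (fun x => hHs x.1 x.2) (fun _ => hLi)
    have hiso : ∀ i, Nonempty (bcMod p K (Gs i) ≅ pow L (m i)) := fun i =>
      ⟨(((dH i).some).congr fun a => (hf ⟨i, a⟩).some).isoCoproduct⟩
    let i₀ : Fin N := ⟨0, hN⟩
    have hall : ∀ i, Nonempty (Gs i ≅ Gs i₀) := fun i =>
      indec_unique p (hGc i) (hGc i₀) (hGs i) (hGs i₀) (hiso i).some (hiso i₀).some
    exact ⟨Gs i₀, N, M2.isFinLocFree_of_retract hE (dG.inj i₀) (dG.prj i₀) (dG.inj_prj i₀), hGs i₀,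
      ⟨(dG.congr fun i => (hall i).some).isoCoproduct⟩⟩
  · obtain ⟨f, hf⟩ := coh_dec_unique p hEc (Dec.ofCoproduct.trans ε.symm) (Dec.ofCoproduct.trans ε'.symm)
      (fun _ => hG) (fun _ => hG')
    rcases Nat.eq_zero_or_pos n with rfl | hn
    · exact absurd (IsZero.of_iso ((IsZero.iff_id_eq_zero _).2 (Sigma.hom_ext _ _ fun i => i.elim0)) ε) hE0
    exact hf ⟨0, hn⟩

end Groth.Agent.KS29
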