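import Groth.Agent.Lib.KS29.SplitExist
import Groth.Agent.Lib.KS29.Isotypical
import Groth.Agent.Lib.ThetaGrp19.Scalar
import Groth.Agent.Lib.RegExt.P1

/-!
# Indecomposable absolutely split modules on a form of projective space
-/

set_option autoImplicit false
set_option linter.style.haveILetI false
set_option linter.unusedSectionVars false
set_option backward.isDefEq.respectTransparency false
set_option backward.isDefEq.respectTransparency.types false
set_option maxHeartbeats 800000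

universe u

open CategoryTheory CategoryTheory.Limits AlgebraicGeometry

noncomputable section

namespace Groth.Agent.KS29

open Groth.Agent

attribute [local instance] Abelian.hasFiniteBiproducts

/-- Invertible modules on integral schemes are indecomposable. -/
theorem indec_of_isInvertible {Y : Scheme.{u}} [IsIntegral Y] {L : Y.Modules} (hL : PicF.IsInvertible L) :
    Indec L := by
  haveI hne : Nonempty (⊤ : Y.Opens) := ⟨⟨Classical.arbitrary Y, trivial⟩⟩
  refine ⟨fun h => ?_, fun A B ⟨ε⟩ => ?_⟩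
  · have h01 : ThetaGrp19.smulHom L (1 : Γ(Y, ⊤)) = ThetaGrp19.smulHom L 0 := h.eq_of_src _ _
    exact one_ne_zero (α := Γ(Y, ⊤)) (ThetaGrp19.smulHom_injective hL h01)
  · let e : L ⟶ L := ε.hom ≫ biprod.fst ≫ biprod.inl ≫ ε.inv
    have he : e ≫ e = e := by simp [e]
    obtain ⟨c, hc, -⟩ := ThetaGrp19.existsUnique_smulHom hL e
    rw [hc, ThetaGrp19.smulHom_comp] at he
    have hc2 : c * c = c := ThetaGrp19.smulHom_injective hL he
    rcases eq_or_ne c 0 with rfl | hc0
    · refine Or.inl ((IsZero.iff_id_eq_zero A).2 ?_)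
      have he0 : e = 0 := by
        rw [hc]
        exact Scheme.Modules.hom_ext _ _ fun V => by ext s; rw [ThetaGrp19.smulHom_app, map_zero, zero_smul]; rfl
      simpa [e] using congrArg (fun φ => biprod.inl ≫ ε.inv ≫ φ ≫ ε.hom ≫ biprod.fst) he0
    · refine Or.inr ((IsZero.iff_id_eq_zero B).2 ?_)
      have hc1 : c = 1 := mul_left_cancel₀ hc0 (by rw [hc2, mul_one])
      have he1 : e = 𝟙 L := by rw [hc, hc1, ThetaGrp19.smulHom_one]
      have := congrArg (fun φ => biprod.inr ≫ ε.inv ≫ φ ≫ ε.hom ≫ biprod.snd) he1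
      simpa [e] using this.symm

variable {k : Type u} [Field k] {X : Scheme.{u}} {p : X ⟶ Spec (CommRingCat.of k)}
variable {K : Type u} [Field K] [Algebra k K]

/-- The base change of a summand is a sum of some of the indecomposable summands upstairs. -/
theorem exists_summand_bc [IsProper p] {E : X.Modules} (hE : Coh.IsCoh E) {N s : ℕ} {Gs : Fin N → X.Modules}
    (dG : Dec E Gs) {Ls : Fin s → (W4bk4gw11416.baseChange p K).Modules}
    (dL : Dec (W4c1astiltbs12.bcMod p K E) Ls) (hLs : ∀ a, Indec (Ls a)) (i : Fin N) :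
    ∃ (m : ℕ) (σ : Fin m → Fin s), Nonempty (W4c1astiltbs12.bcMod p K (Gs i) ≅ ∐ fun a => Ls (σ a)) := by
  haveI := CohFound.isNoetherian_of_isProper p
  haveI := isProper_bc (K := K) p
  have hGc : ∀ i, Coh.IsCoh (Gs i) := dG.isCoh hE
  choose m Hs hHs dH using fun i =>
    coh_exists_dec (W4bk4gw11416.baseChangeTo p K) (M1.isCoh_pullback (W4c1astiltbs12.proj p K) (hGc i))
  obtain ⟨f, hf⟩ := coh_dec_unique (W4bk4gw11416.baseChangeTo p K)
    (M1.isCoh_pullback (W4c1astiltbs12.proj p K) hE) ((dG.bc p).bind fun i => (dH i).some) dL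
    (fun x => hHs x.1 x.2) hLs
  exact ⟨m i, fun a => f ⟨i, a⟩, ⟨(((dH i).some).congr fun a => (hf ⟨i, a⟩).some).isoCoproduct⟩⟩

variable {n : ℕ} (e : BrSev.Splitting p K n)

include e in
theorem isIntegral_bc : IsIntegral (BrSev.bc p K) := by
  haveI : IsIntegral (CohB1.ProjSpace n K) := RegExt.isIntegral_projSpace n K
  haveI : Nonempty (BrSev.bc p K) := ⟨e.iso.inv (Classical.arbitrary _)⟩
  exact isIntegral_of_isOpenImmersion e.iso.hom

theorem isInvertible_twist (j : ℤ) : PicF.IsInvertible (e.twist j) :=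
  Twist.isInvertible_pullback _ (Twist.isInvertible_twistProjSpace n K j)

theorem indec_twist (j : ℤ) : Indec (e.twist j) :=
  haveI := isIntegral_bc e
  indec_of_isInvertible (isInvertible_twist e j)

/-- Invertible modules on the split scheme are twists. -/
theorem exists_iso_twist {L : (BrSev.bc p K).Modules} (hL : PicF.IsInvertible L) :
    ∃ j : ℤ, Nonempty (L ≅ e.twist j) := by
  obtain ⟨d, ⟨φ⟩⟩ := PicPn.exists_iso_twist (n := n) (R := K)
    (Twist.isInvertible_pullback e.iso.inv hL : PicF.IsInvertible _)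
  exact ⟨d, ⟨((Scheme.Modules.pullbackId _).app L).symm ≪≫
    (Scheme.Modules.pullbackCongr e.iso.hom_inv_id).symm.app L ≪≫
    ((Scheme.Modules.pullbackComp e.iso.hom e.iso.inv).app L).symm ≪≫
    (Scheme.Modules.pullback e.iso.hom).mapIso φ⟩⟩

/-- Indecomposable modules becoming powers of `O(j)` exist. -/
theorem exists_indec_twPow [IsProper p] (j : ℤ) :
    ∃ (W : X.Modules) (r : ℕ), FlatMod.IsFinLocFree W ∧ Indec W ∧ 0 < r ∧ BrSev.IsTwPow e j r W := by
  haveI := CohFound.isNoetherian_of_isProper p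
  obtain ⟨V, d, hV, hd, ⟨φ⟩⟩ := exists_twPow e j
  have hVc := CohFound.isCoh_of_isFinLocFree hV
  obtain ⟨N, Gs, hGs, ⟨dG⟩⟩ := coh_exists_dec p hVc
  let dL : Dec (W4c1astiltbs12.bcMod p K V) (fun _ : Fin d => e.twist j) := Dec.ofCoproduct.trans φ.symm
  rcases Nat.eq_zero_or_pos N with rfl | hN
  · exact absurd ((dG.bc (K := K) p).isZero) fun h => (indec_twist e j).1 (dL.isZero_summand h ⟨0, hd⟩)
  obtain ⟨m, σ, ⟨ψ⟩⟩ := exists_summand_bc hVc dG dL (fun _ => indec_twist e j) ⟨0, hN⟩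
  refine ⟨Gs ⟨0, hN⟩, m, M2.isFinLocFree_of_retract hV _ _ (dG.inj_prj _), hGs _, ?_, ⟨ψ⟩⟩
  rcases Nat.eq_zero_or_pos m with rfl | hm
  · exact absurd (isZero_of_bc (K := K) p (dG.isCoh hVc ⟨0, hN⟩).1
      ((Dec.ofCoproduct.trans ψ.symm).isZero)) (hGs _).1
  · exact hm

/-- An indecomposable module split by invertible modules is isotypical. -/
theorem exists_isTwPow_of_split [IsProper p] [IsAlgClosure k K] {E : X.Modules} (hE : FlatMod.IsFinLocFree E)
    (hEi : Indec E) {s : ℕ} {Ls : Fin s → (BrSev.bc p K).Modules} (hLs : ∀ i, PicF.IsInvertible (Ls i))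
    (hsplit : Nonempty (BrSev.bcMod p K E ≅ ∐ Ls)) :
    ∃ (j : ℤ) (r : ℕ), 0 < r ∧ BrSev.IsTwPow e j r E := by
  classical
  haveI := CohFound.isNoetherian_of_isProper p
  obtain ⟨φ⟩ := hsplit
  choose js hjs using fun i => exists_iso_twist e (hLs i)
  choose W rW hW hWi hrW hWt using exists_indec_twPow e
  have hEc := CohFound.isCoh_of_isFinLocFree hE
  let dE : Dec (BrSev.bcMod p K E) (fun i => e.twist (js i)) :=
    (Dec.ofCoproduct.trans φ.symm).congr fun i => (hjs i).some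
  rcases Nat.eq_zero_or_pos s with rfl | hs
  · exact absurd (isZero_of_bc (K := K) p hEc.1 dE.isZero) hEi.1
  let R : ℕ := ∏ i, rW (js i)
  let q : Fin s → ℕ := fun i => R / rW (js i)
  have hq : ∀ i, q i * rW (js i) = R := fun i =>
    Nat.div_mul_cancel (Finset.dvd_prod_of_mem (fun i => rW (js i)) (Finset.mem_univ i))
  have hR : 0 < R := Finset.prod_pos fun i _ => hrW (js i)
  let ε := Fintype.equivFin (Σ i, Fin (q i))
  let F : Fin (Fintype.card (Σ i, Fin (q i))) → X.Modules := fun m => W (js (ε.symm m).1)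
  let dP : Dec (⨁ F) F := Dec.ofBiproduct
  have hP : Coh.IsCoh (⨁ F) :=
    CohFound.isCoh_of_isFinLocFree (KFlat.Sch.isFinLocFree_biproduct F fun m => hW _)
  let dP' : Dec (BrSev.bcMod p K (⨁ F))
      (fun x : Σ m : Fin (Fintype.card (Σ i, Fin (q i))), Fin (rW (js (ε.symm m).1)) =>
        e.twist (js (ε.symm x.1).1)) :=
    (dP.bc p).bind fun m => Dec.ofCoproduct.trans (hWt (js (ε.symm m).1)).some.symm
  let dER : Dec (BrSev.pow E R) (fun _ : Fin R => E) := Dec.ofCoproduct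
  let dER' : Dec (BrSev.bcMod p K (BrSev.pow E R)) (fun x : Σ _ : Fin R, Fin s => e.twist (js x.2)) :=
    (dER.bc p).bind fun _ => dE
  let τ : (Σ m : Fin (Fintype.card (Σ i, Fin (q i))), Fin (rW (js (ε.symm m).1))) ≃ (Σ _ : Fin R, Fin s) :=
    (Equiv.sigmaCongrLeft (β := fun x : Σ i, Fin (q i) => Fin (rW (js x.1))) ε.symm).trans
      ((Equiv.sigmaAssoc (γ := fun i (_ : Fin (q i)) => Fin (rW (js i)))).trans
        ((Equiv.sigmaCongrRight fun i => (Equiv.sigmaEquivProd (Fin (q i)) (Fin (rW (js i)))).trans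
          (finProdFinEquiv.trans (finCongr (hq i)))).trans
          ((Equiv.sigmaEquivProd (Fin s) (Fin R)).trans
            ((Equiv.prodComm _ _).trans (Equiv.sigmaEquivProd (Fin R) (Fin s)).symm))))
  have hτ : ∀ x, js (τ x).2 = js (ε.symm x.1).1 := fun x => by
    obtain ⟨m, a⟩ := x
    simp [τ, Equiv.sigmaCongrLeft, Equiv.sigmaAssoc]
  obtain ⟨ι⟩ := iso_of_bc_iso p (K := K) hP (CohGab13.isCoh_sigma hEc R)
    ((dP'.congr fun x => eqToIso (congrArg e.twist (hτ x).symm)).isoBiproduct ≪≫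
      (dER'.reindex τ).isoBiproduct.symm)
  obtain ⟨g, hg⟩ := coh_dec_unique p hP dP (dER.trans ι.symm) (fun m => hWi _) (fun _ => hEi)
  obtain ⟨θ⟩ := hg (g.symm ⟨0, hR⟩)
  exact ⟨_, _, hrW _, ⟨(Scheme.Modules.pullback (BrSev.proj p K)).mapIso θ.symm ≪≫ (hWt _).some⟩⟩

/-- An absolutely split module is a sum of indecomposable isotypical modules. -/
theorem exists_decomposition_twPow [IsProper p] [IsAlgClosure k K] {E : X.Modules} (hE : FlatMod.IsFinLocFree E)
    {s : ℕ} {Ls : Fin s → (BrSev.bc p K).Modules} (hLs : ∀ i, PicF.IsInvertible (Ls i))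
    (hsplit : Nonempty (BrSev.bcMod p K E ≅ ∐ Ls)) :
    ∃ (t : ℕ) (Ms : Fin t → X.Modules) (js : Fin t → ℤ) (rs : Fin t → ℕ),
      (∀ i, FlatMod.IsFinLocFree (Ms i) ∧ Indec (Ms i) ∧ 0 < rs i ∧ BrSev.IsTwPow e (js i) (rs i) (Ms i)) ∧
      Nonempty (E ≅ ∐ Ms) := by
  obtain ⟨φ⟩ := hsplit
  haveI := CohFound.isNoetherian_of_isProper p
  have hEc := CohFound.isCoh_of_isFinLocFree hE
  obtain ⟨N, Gs, hGs, ⟨dG⟩⟩ := coh_exists_dec p hEc
  haveI := isIntegral_bc e
  have hG : ∀ i, ∃ (j : ℤ) (r : ℕ), 0 < r ∧ BrSev.IsTwPow e j r (Gs i) := fun i => by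
    obtain ⟨m, σ, hψ⟩ := exists_summand_bc hEc dG (Dec.ofCoproduct.trans φ.symm)
      (fun a => indec_of_isInvertible (hLs a)) i
    exact exists_isTwPow_of_split e (M2.isFinLocFree_of_retract hE _ _ (dG.inj_prj i)) (hGs i)
      (fun a => hLs (σ a)) hψ
  choose js rs hr ht using hG
  exact ⟨N, Gs, js, rs, fun i => ⟨M2.isFinLocFree_of_retract hE _ _ (dG.inj_prj i), hGs i, hr i, ht i⟩,
    ⟨dG.isoCoproduct⟩⟩

end Groth.Agent.KS29
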