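import Groth.Agent.Lib.KS29.TwistAut
import Groth.Agent.Lib.KS29.Squares
import Groth.Agent.Lib.CohFound.PolyBC
import Groth.Agent.Lib.ParaFDesc27.QcqsBC
import Groth.Agent.Lib.ModM1.Fpqc
import Groth.Agent.Lib.KFlat.FinLocFree

/-!
# A locally free module becoming a power of `O(j)` over the splitting field
-/

set_option autoImplicit false
set_option linter.style.haveILetI false
set_option linter.unusedSectionVars false
set_option backward.isDefEq.respectTransparency false
set_option backward.isDefEq.respectTransparency.types false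
set_option maxHeartbeats 800000

universe u

open CategoryTheory CategoryTheory.Limits AlgebraicGeometry TensorProduct

noncomputable section

namespace Groth.Agent.KS29

open Groth.Agent

variable {k : Type u} [Field k] {X : Scheme.{u}} {p : X ⟶ Spec (CommRingCat.of k)}

attribute [local instance] Abelian.hasFiniteBiproducts

theorem isFinLocFree_pow {Y : Scheme.{u}} {M : Y.Modules} (h : FlatMod.IsFinLocFree M) (r : ℕ) :
    FlatMod.IsFinLocFree (BrSev.pow M r) :=
  M2.isFinLocFree_of_iso (biproduct.isoCoproduct _) (KFlat.Sch.isFinLocFree_biproduct (fun _ : Fin r => M) fun _ => h)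

/-- The pullback of `O(j)` of a splitting to a base change. -/
theorem nonempty_pullback_twist_trivR {L R : Type u} [Field L] [CommRing R] [Algebra k L] [Algebra k R]
    [Algebra L R] [IsScalarTower k L R] {n : ℕ} (ε : BrSev.Splitting p L n)
    (a : bcR p R ≅ CohB1.ProjSpace n R)
    (ha : a.hom ≫ ProjSpace.map n (algebraMap L R) = bcW p L R ≫ ε.iso.hom) (j : ℤ) :
    Nonempty ((Scheme.Modules.pullback (bcW p L R)).obj (ε.twist j) ≅
      (Scheme.Modules.pullback a.hom).obj (_root_.Twist.twistProjSpace n R j)) := by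
  obtain ⟨t⟩ := CohFound.nonempty_pullback_twistProjSpace n (algebraMap L R) j
  exact ⟨(Scheme.Modules.pullbackComp (bcW p L R) ε.iso.hom).app _ ≪≫
    (Scheme.Modules.pullbackCongr ha.symm).app _ ≪≫
    ((Scheme.Modules.pullbackComp a.hom _).app _).symm ≪≫ (Scheme.Modules.pullback a.hom).mapIso t⟩

/-- Two splittings give the same `O(j)` over a common Artinian extension. -/
theorem nonempty_twist_compare {L L' R : Type u} [Field L] [Field L'] [CommRing R] [IsArtinianRing R]
    [Algebra k L] [Algebra k L'] [Algebra k R]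
    [Algebra L R] [IsScalarTower k L R] [Algebra L' R] [IsScalarTower k L' R]
    {n : ℕ} (ε : BrSev.Splitting p L n) (ε' : BrSev.Splitting p L' n) (j : ℤ) :
    Nonempty ((Scheme.Modules.pullback (bcW p L R)).obj (ε.twist j) ≅
      (Scheme.Modules.pullback (bcW p L' R)).obj (ε'.twist j)) := by
  obtain ⟨a, has, ha⟩ := exists_trivR (R := R) ε.iso ε.comm
  obtain ⟨a', has', ha'⟩ := exists_trivR (R := R) ε'.iso ε'.comm
  obtain ⟨t⟩ := nonempty_pullback_twist_trivR ε a ha j
  obtain ⟨t'⟩ := nonempty_pullback_twist_trivR ε' a' ha' j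
  obtain ⟨s⟩ := nonempty_pullback_twist_artinian (a'.symm ≪≫ a) (by
    show (a'.inv ≫ a.hom) ≫ _ = _
    rw [Category.assoc, has, ← has', Iso.inv_hom_id_assoc]) j
  exact ⟨t ≪≫ (Scheme.Modules.pullbackCongr (show a.hom = a'.hom ≫ (a'.symm ≪≫ a).hom by simp)).app _ ≪≫
    ((Scheme.Modules.pullbackComp a'.hom _).app _).symm ≪≫ (Scheme.Modules.pullback a'.hom).mapIso s ≪≫ t'.symm⟩

/-- Some finite locally free module on `X` becomes a positive power of `O(j)` over the splitting field. -/
theorem exists_twPow [IsProper p] {n : ℕ} {K : Type u} [Field K] [Algebra k K] (e : BrSev.Splitting p K n)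
    (j : ℤ) : ∃ (V : X.Modules) (d : ℕ), FlatMod.IsFinLocFree V ∧ 0 < d ∧ BrSev.IsTwPow e j d V := by
  classical
  obtain ⟨k', _, _, _, ⟨e'⟩⟩ := exists_finite_splitting (p := p) e
  let R := K ⊗[k] k'
  letI : Algebra k' R := Algebra.TensorProduct.rightAlgebra
  haveI : IsScalarTower k k' R := IsScalarTower.of_algebraMap_eq fun x => by
    rw [Algebra.TensorProduct.algebraMap_apply]
    exact Algebra.TensorProduct.tmul_one_eq_one_tmul x
  haveI : Module.Finite K R := Module.Finite.base_change k K k'
  haveI : IsArtinianRing R := IsArtinianRing.of_finite K R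
  haveI : Nontrivial R :=
    (Algebra.TensorProduct.includeLeft_injective (S := k) (R := k) (A := K) (B := k')
      (FaithfulSMul.algebraMap_injective k k')).nontrivial
  have H := isPullback_bc_tensor p (R := R) K k' (CommRingCat.isPushout_tensorProduct k K k')
  let π' := BrSev.proj p k'
  haveI : IsFinite (Spec.map (CommRingCat.ofHom (algebraMap k k'))) :=
    (IsFinite.SpecMap_iff _).2 (RingHom.finite_algebraMap.2 inferInstance)
  haveI : IsFinite π' := MorphismProperty.pullback_fst p _ ‹_›
  haveI : Flat (Spec.map (CommRingCat.ofHom (algebraMap k K))) :=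
    (HasRingHomProperty.Spec_iff (P := @Flat)).2 (RingHom.flat_algebraMap_iff.2 inferInstance)
  haveI : Flat (BrSev.proj p K) := MorphismProperty.pullback_fst p _ ‹_›
  have hL : PicF.IsInvertible (e'.twist j) :=
    Twist.isInvertible_pullback _ (Twist.isInvertible_twistProjSpace n k' j)
  let L := e'.twist j
  haveI hLq : Coh.IsQCoh L := M1.isFP_isQCoh (M1.isFP_of_isFinLocFree (M2.isFinLocFree_of_isInvertible hL))
  let V := (Scheme.Modules.pushforward π').obj L
  haveI hVq : Coh.IsQCoh V := M1.isQCoh_push π' hLq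
  haveI := ParaFDesc27.isIso_bc0_of_flat H L
  haveI hMq : Coh.IsQCoh (e.twist j) := M1.isFP_isQCoh (M1.isFP_of_isFinLocFree (M2.isFinLocFree_of_isInvertible
    (Twist.isInvertible_pullback _ (Twist.isInvertible_twistProjSpace n K j))))
  obtain ⟨c⟩ := nonempty_twist_compare (R := R) e' e j
  let b := Module.finBasis K R
  let b' : Module.Basis (ULift.{u} (Fin (Module.finrank K R))) K R := b.reindex Equiv.ulift.symm
  haveI := CohFound.isIso_basisDesc_spec (pullback.snd p (Spec.map (CommRingCat.ofHom (algebraMap k R))))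
    (bcW p K R) (isPullback_bcW p K R).flip (e.twist j) b'
  have hV : BrSev.IsTwPow e j (Module.finrank K R) V :=
    ⟨asIso (CohBC.bc0 π' (BrSev.proj p K) (bcW p K R) (bcW p k' R) H.w L) ≪≫
      (Scheme.Modules.pushforward (bcW p K R)).mapIso c ≪≫
      (asIso (CohFound.basisDesc (pullback.snd p (Spec.map (CommRingCat.ofHom (algebraMap k R)))) (bcW p K R)
        (e.twist j) fun i => (Scheme.ΓSpecIso (CommRingCat.of R)).inv (b' i))).symm ≪≫
      Sigma.whiskerEquiv (f := fun _ : ULift.{u} (Fin (Module.finrank K R)) => e.twist j)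
        (g := fun _ : Fin (Module.finrank K R) => e.twist j) Equiv.ulift (fun _ => Iso.refl _)⟩
  refine ⟨V, Module.finrank K R, ?_, Module.finrank_pos, hV⟩
  haveI : Surjective (Spec.map (CommRingCat.ofHom (algebraMap k K))) :=
    ⟨fun x => ⟨(default : Spec (CommRingCat.of K)), Subsingleton.elim (α := PrimeSpectrum k) _ _⟩⟩
  haveI : Surjective (BrSev.proj p K) := MorphismProperty.pullback_fst p _ ‹_›
  obtain ⟨φ⟩ := hV
  refine M1.isFinLocFree_of_pullback_fpqc (BrSev.proj p K) hVq ?_
  exact M2.isFinLocFree_of_iso φ.symm (isFinLocFree_pow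
    (M2.isFinLocFree_of_isInvertible (Twist.isInvertible_pullback _ (Twist.isInvertible_twistProjSpace n K j))) _)

end Groth.Agent.KS29
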