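import Groth.Agent.Lib.KS29.DisjGlue
import Groth.Agent.Lib.KS29.SplitExist
import Groth.Agent.Lib.KS29.SplitApps
import Groth.Agent.Lib.FieldExt12.Model
import Groth.Agent.Lib.ModLimH13.LocFree
import Groth.Agent.S4788
import Groth.Agent.Lib.KS29.SepFacts
import Mathlib.FieldTheory.IsSepClosed
import Mathlib.FieldTheory.PrimitiveElement

/-!
# Galois invariant modules over a separable closure
-/

set_option autoImplicit false
set_option linter.style.haveILetI false
set_option linter.unusedSectionVars false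
set_option backward.isDefEq.respectTransparency false
set_option backward.isDefEq.respectTransparency.types false
set_option maxHeartbeats 800000

universe u

open CategoryTheory CategoryTheory.Limits AlgebraicGeometry TensorProduct

noncomputable section

namespace Groth.Agent.KS29

open Groth.Agent W4c1astiltbs12

variable {k : Type u} [Field k] {X : Scheme.{u}} (p : X ⟶ Spec (CommRingCat.of k))

section bcMap

variable {L R S : Type u} [CommRing L] [CommRing R] [CommRing S] [Algebra k L] [Algebra k R] [Algebra k S]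

theorem spec_algHom (φ : L →ₐ[k] R) :
    Spec.map (CommRingCat.ofHom φ.toRingHom) ≫ Spec.map (CommRingCat.ofHom (algebraMap k L)) =
      Spec.map (CommRingCat.ofHom (algebraMap k R)) := by
  rw [← Spec.map_comp, ← CommRingCat.ofHom_comp]
  exact congrArg (fun f => Spec.map (CommRingCat.ofHom f)) (RingHom.ext fun x => φ.commutes x)

/-- The map of base changes along an algebra homomorphism. -/
def bcMap (φ : L →ₐ[k] R) : bcR p R ⟶ bcR p L :=
  pullback.lift (pullback.fst _ _) (pullback.snd _ _ ≫ Spec.map (CommRingCat.ofHom φ.toRingHom))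
    (by rw [Category.assoc, spec_algHom]; exact pullback.condition)

@[reassoc (attr := simp)]
theorem bcMap_fst (φ : L →ₐ[k] R) : bcMap p φ ≫ pullback.fst _ _ = pullback.fst _ _ := pullback.lift_fst _ _ _

@[reassoc (attr := simp)]
theorem bcMap_snd (φ : L →ₐ[k] R) : bcMap p φ ≫ pullback.snd _ _ =
    pullback.snd _ _ ≫ Spec.map (CommRingCat.ofHom φ.toRingHom) := pullback.lift_snd _ _ _

theorem bcMap_comp (φ : L →ₐ[k] R) (ψ : R →ₐ[k] S) : bcMap p ψ ≫ bcMap p φ = bcMap p (ψ.comp φ) := by
  apply pullback.hom_ext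
  · simp
  · simp only [Category.assoc, bcMap_snd, bcMap_snd_assoc]
    rw [← Spec.map_comp, ← CommRingCat.ofHom_comp]
    rfl

theorem bcMap_id : bcMap p (AlgHom.id k L) = 𝟙 _ := by
  apply pullback.hom_ext
  · simp
  · simp only [bcMap_snd, Category.id_comp]
    rw [show (CommRingCat.ofHom (AlgHom.id k L).toRingHom) = 𝟙 _ from rfl, Spec.map_id, Category.comp_id]

theorem bcW_eq [Algebra L R] [IsScalarTower k L R] : bcW p L R = bcMap p (IsScalarTower.toAlgHom k L R) := by
  apply pullback.hom_ext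
  · simp
  · simp only [bcW_snd, bcMap_snd]
    rfl

theorem galAct_eq {K : Type u} [Field K] [Algebra k K] (σ : K ≃ₐ[k] K) :
    galAct p K σ = bcMap p σ.toAlgHom := by
  apply pullback.hom_ext
  · rw [bcMap_fst]
    exact (pullback.lift_fst _ _ _).trans (Category.comp_id _)
  · rw [bcMap_snd]
    exact pullback.lift_snd _ _ _

theorem isPullback_bcMap (φ : L →ₐ[k] R) :
    IsPullback (bcMap p φ) (pullback.snd p (Spec.map (CommRingCat.ofHom (algebraMap k R))))
      (pullback.snd p (Spec.map (CommRingCat.ofHom (algebraMap k L))))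
      (Spec.map (CommRingCat.ofHom φ.toRingHom)) := by
  refine IsPullback.of_right ?_ (bcMap_snd p φ) (IsPullback.of_hasPullback p _)
  rw [bcMap_fst, spec_algHom]
  exact IsPullback.of_hasPullback p _

/-- Base changes along the projections of a product decomposition form a disjoint open cover. -/
theorem exists_pieces {ι : Type u} [Finite ι] (ψ : ι → (R →ₐ[k] S))
    (hψ : Function.Bijective fun r a => ψ a r) :
    (∀ a, IsOpenImmersion (bcMap p (ψ a))) ∧ (∀ y, ∃ a, y ∈ Set.range (bcMap p (ψ a))) ∧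
      ∀ a b, a ≠ b → Disjoint (Set.range (bcMap p (ψ a))) (Set.range (bcMap p (ψ b))) := by
  let Φ : R ≃+* (ι → S) := RingEquiv.ofBijective (Pi.ringHom fun a => (ψ a).toRingHom) hψ
  let E : Spec (CommRingCat.of (ι → S)) ⟶ Spec (CommRingCat.of R) := Spec.map Φ.toCommRingCatIso.hom
  let G : ι → Scheme.{u} := fun _ => Spec (CommRingCat.of S)
  let T : (∐ G) ⟶ Spec (CommRingCat.of R) := sigmaSpec (fun _ : ι => CommRingCat.of S) ≫ E
  have hfac : ∀ a, Sigma.ι G a ≫ T = Spec.map (CommRingCat.ofHom (ψ a).toRingHom) := fun a => by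
    simp only [T, E, G, ι_sigmaSpec_assoc]
    rw [← Spec.map_comp]
    rfl
  haveI : IsIso T := by
    haveI : IsIso E := inferInstance
    exact IsIso.comp_isIso
  have hop : ∀ a, IsOpenImmersion (Spec.map (CommRingCat.ofHom (ψ a).toRingHom)) := fun a => by
    rw [← hfac]; infer_instance
  have hTbij : Function.Bijective T := T.homeomorph.bijective
  refine ⟨fun a => MorphismProperty.of_isPullback (isPullback_bcMap p (ψ a)).flip (hop a), fun y => ?_, ?_⟩
  · obtain ⟨z, hz⟩ := hTbij.2 (pullback.snd p _ y)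
    obtain ⟨a, w, rfl⟩ : ∃ a w, Sigma.ι G a w = z := by
      obtain ⟨a, w, hw⟩ := (sigmaOpenCover G).exists_eq z
      exact ⟨a, w, hw⟩
    rw [← Scheme.Hom.comp_apply, hfac] at hz
    obtain ⟨x, hx, -⟩ := Scheme.exists_preimage_of_isPullback (isPullback_bcMap p (ψ a)) y w hz.symm
    exact ⟨a, x, hx⟩
  · intro a b hab
    rw [Set.disjoint_iff_forall_ne]
    rintro _ ⟨x, rfl⟩ _ ⟨x', rfl⟩ h
    have h' : pullback.snd p _ (bcMap p (ψ a) x) = pullback.snd p _ (bcMap p (ψ b) x') := congrArg _ h
    rw [← Scheme.Hom.comp_apply, ← Scheme.Hom.comp_apply, bcMap_snd, bcMap_snd, Scheme.Hom.comp_apply,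
      Scheme.Hom.comp_apply, ← hfac, ← hfac, Scheme.Hom.comp_apply, Scheme.Hom.comp_apply] at h'
    have e := hTbij.1 h'
    exact (disjoint_opensRange_sigmaι G a b hab).le_bot ⟨⟨_, rfl⟩, ⟨_, e.symm⟩⟩

end bcMap

variable (K : Type u) [Field K] [Algebra k K]

/-- A finite locally free module over an algebraic extension is defined over a finite subalgebra. -/
theorem exists_finite_model [IsProper p] [Algebra.IsAlgebraic k K]
    (W : (W4bk4gw11416.baseChange p K).Modules) (hW : FlatMod.IsFinLocFree W) :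
    ∃ (A : Subalgebra k K) (_ : Module.Finite k A)
      (WA : (bcR p A).Modules),
      FlatMod.IsFinLocFree WA ∧ Nonempty ((Scheme.Modules.pullback (bcMap p A.val)).obj WA ≅ W) := by
  haveI : CompactSpace X := QuasiCompact.compactSpace_of_compactSpace p
  haveI : QuasiSeparatedSpace X := quasiSeparatedSpace_of_quasiSeparated p
  let D := Descend.pbDiagram (FieldExt12.sys k K) (FieldExt12.str k K) p
  let φ := Spec.map (CommRingCat.ofHom (algebraMap k K))
  let c := Descend.pbCone (FieldExt12.sys k K) (FieldExt12.str k K) p (FieldExt12.cone k K)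
    (FieldExt12.cone_str k K) (IsPullback.of_hasPullback p φ)
  have hc : IsLimit c := Descend.pbIsLimit (FieldExt12.sys k K) (FieldExt12.str k K) p (FieldExt12.cone k K)
    (FieldExt12.cone_str k K) (IsPullback.of_hasPullback p φ) (FieldExt12.isLimitCone k K)
  haveI : ∀ (i j : (FieldExt12.Idx k K)ᵒᵖ) (f : i ⟶ j), IsAffineHom (D.map f) := fun i j f =>
    Descend.pb_isAffineHom_map (FieldExt12.sys k K) (FieldExt12.str k K) p f
  haveI : ∀ i, CompactSpace (D.obj i) := fun i =>
    Descend.pb_compactSpace (FieldExt12.sys k K) (FieldExt12.str k K) p i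
  haveI : ∀ i, QuasiSeparatedSpace (D.obj i) := fun i =>
    Descend.pb_quasiSeparatedSpace (FieldExt12.sys k K) (FieldExt12.str k K) p i
  obtain ⟨i₀⟩ := IsCofiltered.nonempty (C := (FieldExt12.Idx k K)ᵒᵖ)
  have hFP : CohB1.IsFP W := ((M1.isFinLocFree_iff W).1 hW).1
  haveI : Coh.IsQCoh W := M1.isFP_isQCoh hFP
  obtain ⟨i, -, Fi, -, hFi, ⟨e⟩⟩ := Groth.Agent.S4788.result D c hc i₀ W hFP
  obtain ⟨j, ψ, hj⟩ := (ModLimH13.isFinLocFree_iff_eventually hc hFi).1 (M2.isFinLocFree_of_iso e.symm hW)
  let A := j.unop.1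
  haveI : Algebra.FiniteType k A := (Subalgebra.fg_iff_finiteType A).1 j.unop.2
  haveI : Algebra.IsIntegral k A := Algebra.IsIntegral.of_injective A.val Subtype.val_injective
  haveI : Module.Finite k A := Algebra.IsIntegral.finite
  refine ⟨A, ‹Module.Finite k A›, (Scheme.Modules.pullback (D.map ψ)).obj Fi, hj, ⟨?_⟩⟩
  refine (Scheme.Modules.pullbackCongr (show bcMap p A.val = c.π.app j from ?_)).app _ ≪≫
    (ModLimH13.cmp (c.π.app j) (D.map ψ) (c.w ψ)).app Fi ≪≫ e
  apply pullback.hom_ext
  · rw [bcMap_fst]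
    exact (Descend.pbCone_fst (FieldExt12.sys k K) (FieldExt12.str k K) p (FieldExt12.cone k K)
      (FieldExt12.cone_str k K) (IsPullback.of_hasPullback p φ) j).symm
  · rw [bcMap_snd]
    exact (Descend.pbCone_snd (FieldExt12.sys k K) (FieldExt12.str k K) p (FieldExt12.cone k K)
      (FieldExt12.cone_str k K) (IsPullback.of_hasPullback p φ) j).symm

/-- A Galois invariant finite locally free module with a model over a finite algebra gives a module on the
scheme becoming a power of it. -/
theorem exists_pow_of_model [IsProper p] (W : (W4bk4gw11416.baseChange p K).Modules) (hW : FlatMod.IsFinLocFree W)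
    (hinv : ∀ σ : K ≃ₐ[k] K, Nonempty ((Scheme.Modules.pullback (galAct p K σ)).obj W ≅ W))
    {L : Type u} [CommRing L] [Nontrivial L] [Algebra k L] [Module.Finite k L] (ι : L →ₐ[k] K)
    (hext : ∀ τ : L →ₐ[k] K, ∃ σ : K ≃ₐ[k] K, ∀ l, σ (ι l) = τ l)
    (hcard : Nat.card (L →ₐ[k] K) = Module.finrank k L)
    {WL : (bcR p L).Modules} (hWL : FlatMod.IsFinLocFree WL)
    (e₀ : (Scheme.Modules.pullback (bcMap p ι)).obj WL ≅ W) :
    ∃ (V : X.Modules) (d : ℕ), FlatMod.IsFinLocFree V ∧ 0 < d ∧ Nonempty (bcMod p K V ≅ pow W d) := by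
  classical
  let R := K ⊗[k] L
  letI : Algebra L R := Algebra.TensorProduct.rightAlgebra
  haveI : IsScalarTower k L R := IsScalarTower.of_algebraMap_eq fun x => by
    rw [Algebra.TensorProduct.algebraMap_apply]
    exact Algebra.TensorProduct.tmul_one_eq_one_tmul x
  haveI : Module.Finite K R := Module.Finite.base_change k K L
  haveI : Nontrivial R :=
    (Algebra.TensorProduct.includeLeft_injective (S := k) (R := k) (A := K) (B := L)
      (FaithfulSMul.algebraMap_injective k L)).nontrivial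
  let N := Nat.card (L →ₐ[k] K)
  let τ : Fin N ≃ (L →ₐ[k] K) := (Finite.equivFin _).symm
  let ψK : Fin N → (R →ₐ[K] K) := fun a =>
    Algebra.TensorProduct.lift (Algebra.ofId K K) (τ a) fun _ _ => Commute.all _ _
  let ψ : Fin N → (R →ₐ[k] K) := fun a => (ψK a).restrictScalars k
  have hψK : ∀ a l, ψK a (1 ⊗ₜ l) = τ a l := fun a l => by
    show Algebra.TensorProduct.lift _ _ _ _ = _
    rw [Algebra.TensorProduct.lift_tmul, map_one, one_mul]
  have hbij : Function.Bijective fun r a => ψ a r := by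
    let Φ : R →ₗ[K] (Fin N → K) := LinearMap.pi fun a => (ψK a).toLinearMap
    have hsurj : LinearMap.range Φ = ⊤ := by
      by_contra hne
      obtain ⟨f, hf0, hf⟩ := Submodule.exists_le_ker_of_lt_top _ (lt_top_iff_ne_top.2 hne)
      have hli := (linearIndependent_algHom_toLinearMap k L K).comp _ τ.injective
      have hz := Fintype.linearIndependent_iff.1 hli (fun a => f (Pi.single a 1)) (LinearMap.ext fun l => by
        have h0 : f (Φ (1 ⊗ₜ l)) = 0 := LinearMap.mem_ker.1 (hf ⟨_, rfl⟩)
        rw [pi_eq_sum_univ (Φ (1 ⊗ₜ l)) (R := K), map_sum] at h0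
        simp only [map_smul, smul_eq_mul] at h0
        simp only [LinearMap.coe_sum, Finset.sum_apply, LinearMap.smul_apply, Function.comp_apply,
          AlgHom.toLinearMap_apply, smul_eq_mul, LinearMap.zero_apply]
        rw [← h0]
        refine Finset.sum_congr rfl fun a _ => ?_
        rw [mul_comm]
        congr 1
        · exact (hψK a l).symm
        · exact congrArg f (funext fun b => by simp [Pi.single_apply, eq_comm]))
      exact hf0 (LinearMap.pi_ext' fun a => LinearMap.ext_ring (by simpa using hz a))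
    have hdim : Module.finrank K R = Module.finrank K (Fin N → K) := by
      rw [Module.finrank_fin_fun, Module.finrank_baseChange]
      exact hcard.symm
    exact ⟨(LinearMap.injective_iff_surjective_of_finrank_eq_finrank hdim).2 (LinearMap.range_eq_top.1 hsurj),
      LinearMap.range_eq_top.1 hsurj⟩
  obtain ⟨hopen, hcov, hdisj⟩ := exists_pieces p (fun a : ULift.{u} (Fin N) => ψ a.down)
    ⟨fun r r' h => hbij.1 (funext fun a => congrFun h ⟨a⟩), fun f =>
      let ⟨r, hr⟩ := hbij.2 fun a => f ⟨a⟩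
      ⟨r, funext fun a => congrFun hr a.down⟩⟩
  haveI : ∀ a, IsOpenImmersion (bcMap p (ψ a)) := fun a => hopen ⟨a⟩
  obtain ⟨c⟩ : Nonempty ((Scheme.Modules.pullback (bcW p L R)).obj WL ≅
      (Scheme.Modules.pullback (bcW p K R)).obj W) := by
    refine nonempty_iso_of_pieces (fun a => bcMap p (ψ a))
      (fun y => let ⟨a, ha⟩ := hcov y; ⟨a.down, ha⟩)
      (fun a b hab => disjoint_iff_inf_le.2 fun z hz =>
        (hdisj ⟨a⟩ ⟨b⟩ fun h => hab (congrArg ULift.down h)).le_bot hz) fun a => ?_
    obtain ⟨σ, hσ⟩ := hext (τ a)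
    have h1 : bcMap p (ψ a) ≫ bcW p L R = galAct p K σ ≫ bcMap p ι := by
      rw [bcW_eq, galAct_eq, bcMap_comp, bcMap_comp]
      congr 1
      refine AlgHom.ext fun l => ?_
      exact (hψK a l).trans (hσ l).symm
    have h2 : bcMap p (ψ a) ≫ bcW p K R = 𝟙 _ := by
      rw [bcW_eq, bcMap_comp, ← bcMap_id]
      congr 1
      refine AlgHom.ext fun x => ?_
      show ψK a (algebraMap K R x) = x
      rw [AlgHom.commutes]
      rfl
    exact ⟨(Scheme.Modules.pullbackComp _ _).app WL ≪≫ (Scheme.Modules.pullbackCongr h1).app WL ≪≫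
      ((Scheme.Modules.pullbackComp (galAct p K σ) (bcMap p ι)).app WL).symm ≪≫
      (Scheme.Modules.pullback (galAct p K σ)).mapIso e₀ ≪≫ (hinv σ).some ≪≫
      ((Scheme.Modules.pullbackId _).app W).symm ≪≫ (Scheme.Modules.pullbackCongr h2).symm.app W ≪≫
      ((Scheme.Modules.pullbackComp _ _).app W).symm⟩
  have H := isPullback_bc_tensor p (R := R) K L (CommRingCat.isPushout_tensorProduct k K L)
  let π' : bcR p L ⟶ X := pullback.fst p _
  haveI : IsFinite (Spec.map (CommRingCat.ofHom (algebraMap k L))) :=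
    (IsFinite.SpecMap_iff _).2 (RingHom.finite_algebraMap.2 inferInstance)
  haveI : IsFinite π' := MorphismProperty.pullback_fst p _ ‹_›
  haveI : Flat (Spec.map (CommRingCat.ofHom (algebraMap k K))) :=
    (HasRingHomProperty.Spec_iff (P := @Flat)).2 (RingHom.flat_algebraMap_iff.2 inferInstance)
  haveI : Flat (proj p K) := MorphismProperty.pullback_fst p _ ‹_›
  haveI hLq : Coh.IsQCoh WL := M1.isFP_isQCoh (M1.isFP_of_isFinLocFree hWL)
  haveI hVq : Coh.IsQCoh ((Scheme.Modules.pushforward π').obj WL) := M1.isQCoh_push π' hLq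
  haveI := ParaFDesc27.isIso_bc0_of_flat H WL
  haveI hMq : Coh.IsQCoh W := M1.isFP_isQCoh (M1.isFP_of_isFinLocFree hW)
  let b := Module.finBasis K R
  let b' : Module.Basis (ULift.{u} (Fin (Module.finrank K R))) K R := b.reindex Equiv.ulift.symm
  haveI := CohFound.isIso_basisDesc_spec (pullback.snd p (Spec.map (CommRingCat.ofHom (algebraMap k R))))
    (bcW p K R) (isPullback_bcW p K R).flip W b'
  let φ : bcMod p K ((Scheme.Modules.pushforward π').obj WL) ≅ pow W (Module.finrank K R) :=
    asIso (CohBC.bc0 π' (proj p K) (bcW p K R) (bcW p L R) H.w WL) ≪≫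
      (Scheme.Modules.pushforward (bcW p K R)).mapIso c ≪≫
      (asIso (CohFound.basisDesc (pullback.snd p (Spec.map (CommRingCat.ofHom (algebraMap k R)))) (bcW p K R)
        W fun i => (Scheme.ΓSpecIso (CommRingCat.of R)).inv (b' i))).symm ≪≫
      Sigma.whiskerEquiv (f := fun _ : ULift.{u} (Fin (Module.finrank K R)) => W)
        (g := fun _ : Fin (Module.finrank K R) => W) Equiv.ulift (fun _ => Iso.refl _)
  refine ⟨_, _, ?_, Module.finrank_pos, ⟨φ⟩⟩
  haveI : Surjective (Spec.map (CommRingCat.ofHom (algebraMap k K))) :=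
    ⟨fun x => ⟨(default : Spec (CommRingCat.of K)), Subsingleton.elim (α := PrimeSpectrum k) _ _⟩⟩
  haveI : Surjective (proj p K) := MorphismProperty.pullback_fst p _ ‹_›
  refine M1.isFinLocFree_of_pullback_fpqc (proj p K) hVq ?_
  exact M2.isFinLocFree_of_iso φ.symm (isFinLocFree_pow hW _)

/-- A Galois invariant finite locally free module gives a module on the scheme becoming a power of it. -/
theorem exists_pow_of_invariant [IsProper p] [IsSepClosure k K]
    (W : (W4bk4gw11416.baseChange p K).Modules) (hW : FlatMod.IsFinLocFree W)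
    (hinv : ∀ σ : K ≃ₐ[k] K, Nonempty ((Scheme.Modules.pullback (galAct p K σ)).obj W ≅ W)) :
    ∃ (V : X.Modules) (d : ℕ), FlatMod.IsFinLocFree V ∧ 0 < d ∧ Nonempty (bcMod p K V ≅ pow W d) := by
  haveI : Algebra.IsSeparable k K := IsSepClosure.separable
  haveI : Algebra.IsAlgebraic k K := Algebra.IsSeparable.isAlgebraic k K
  obtain ⟨A, hfin, WA, hWA, ⟨e₀⟩⟩ := exists_finite_model p K W hW
  haveI := hfin
  obtain ⟨hext, hcard⟩ := sepClosure_facts K A
  exact exists_pow_of_model p K W hW hinv A.val hext hcard hWA e₀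

/-- An indecomposable summand of a module becoming a power of an indecomposable `W`. -/
theorem exists_indec_of_pow [IsProper p] {W : (W4bk4gw11416.baseChange p K).Modules} (hWi : Indec W)
    {V : X.Modules} (hV : FlatMod.IsFinLocFree V) {d : ℕ} (hd : 0 < d) (φ : bcMod p K V ≅ pow W d) :
    ∃ (M : X.Modules) (r : ℕ), FlatMod.IsFinLocFree M ∧ Indec M ∧ 0 < r ∧ Nonempty (bcMod p K M ≅ pow W r) := by
  haveI := CohFound.isNoetherian_of_isProper p
  have hVc := CohFound.isCoh_of_isFinLocFree hV
  obtain ⟨N, Gs, hGs, ⟨dG⟩⟩ := coh_exists_dec p hVc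
  let dL : Dec (bcMod p K V) (fun _ : Fin d => W) := Dec.ofCoproduct.trans φ.symm
  rcases Nat.eq_zero_or_pos N with rfl | hN
  · exact absurd ((dG.bc (K := K) p).isZero) fun h => hWi.1 (dL.isZero_summand h ⟨0, hd⟩)
  obtain ⟨m, σ, ⟨ψ⟩⟩ := exists_summand_bc hVc dG dL (fun _ => hWi) ⟨0, hN⟩
  refine ⟨Gs ⟨0, hN⟩, m, M2.isFinLocFree_of_retract hV _ _ (dG.inj_prj _), hGs _, ?_, ⟨ψ⟩⟩
  rcases Nat.eq_zero_or_pos m with rfl | hm
  · exact absurd (isZero_of_bc (K := K) p (dG.isCoh hVc ⟨0, hN⟩).1
      ((Dec.ofCoproduct.trans ψ.symm).isZero)) (hGs _).1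
  · exact hm

end Groth.Agent.KS29
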