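import Groth.Agent.Lib.KS29.SplitApps
import Groth.Agent.Lib.TwPow29.Basic
import Groth.Prelude.Def_PicGrp
import Groth.Agent.Lib.TensorMod.Invertible

/-!
# Isotypical modules by Picard class
-/

set_option autoImplicit false
set_option linter.style.haveILetI false
set_option linter.unusedSectionVars false
set_option backward.isDefEq.respectTransparency false
set_option backward.isDefEq.respectTransparency.types false
set_option maxHeartbeats 800000

universe u

open CategoryTheory CategoryTheory.Limits AlgebraicGeometry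

noncomputable section

namespace Groth.Agent.KS29

open Groth.Agent W4c1astiltbs12

attribute [local instance] Abelian.hasFiniteBiproducts

/-- A connected scheme has no nontrivial idempotent functions. -/
theorem eq_zero_or_one_of_idem {Y : Scheme.{u}} [ConnectedSpace Y] {c : Γ(Y, ⊤)} (hc : IsIdempotentElem c) :
    c = 0 ∨ c = 1 := by
  have hinf : Y.basicOpen c ⊓ Y.basicOpen (1 - c) = ⊥ := by
    rw [← Scheme.basicOpen_mul, mul_sub, mul_one, hc.eq, sub_self, Scheme.basicOpen_zero]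
  have hsup : Y.basicOpen c ⊔ Y.basicOpen (1 - c) = ⊤ := by
    refine eq_top_iff.2 fun x _ => ?_
    have hu : ∀ d : Γ(Y, ⊤), x ∉ Y.basicOpen d → ¬ IsUnit (Y.presheaf.germ ⊤ x trivial d) :=
      fun d hd h => hd ((Y.mem_basicOpen' d ⟨x, trivial⟩).2 h)
    by_contra hx
    refine (IsLocalRing.nonunits_add (hu c fun h => hx (Or.inl h)) (hu (1 - c) fun h => hx (Or.inr h))) ?_
    rw [← map_add, add_sub_cancel, map_one]
    exact isUnit_one
  have hcl : IsClopen (Y.basicOpen c : Set Y) := by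
    refine ⟨?_, (Y.basicOpen c).isOpen⟩
    have : (Y.basicOpen c : Set Y) = (Y.basicOpen (1 - c) : Set Y)ᶜ := by
      ext x
      refine ⟨fun h h' => ?_, fun h => ?_⟩
      · have h'' : x ∈ Y.basicOpen c ⊓ Y.basicOpen (1 - c) := ⟨h, h'⟩
        rw [hinf] at h''
        exact h''
      · have h'' : x ∈ Y.basicOpen c ⊔ Y.basicOpen (1 - c) := by rw [hsup]; trivial
        exact h''.resolve_right h
    rw [this]
    exact (Y.basicOpen (1 - c)).isOpen.isClosed_compl
  have hunit : ∀ d : Γ(Y, ⊤), IsIdempotentElem d → Y.basicOpen d = ⊤ → d = 1 := fun d hd h => by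
    have hu : IsUnit d := RingedSpace.isUnit_of_isUnit_germ _ _ _
      fun x hx => (Y.mem_basicOpen' d ⟨x, hx⟩).1 (by rw [h]; trivial)
    exact hu.mul_left_cancel ((show d * d = d from hd).trans (mul_one d).symm)
  rcases isClopen_iff.1 hcl with h | h
  · refine Or.inl ?_
    have h' : Y.basicOpen c = ⊥ := TopologicalSpace.Opens.ext h
    rw [h', bot_sup_eq] at hsup
    have := hunit _ hc.one_sub hsup
    rwa [sub_eq_self] at this
  · exact Or.inr (hunit c hc (TopologicalSpace.Opens.ext h))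

/-- Invertible modules on connected schemes are indecomposable. -/
theorem indec_of_isInvertible' {Y : Scheme.{u}} [ConnectedSpace Y] {L : Y.Modules} (hL : PicF.IsInvertible L) :
    Indec L := by
  haveI hne : Nonempty (⊤ : Y.Opens) := ⟨⟨Classical.arbitrary Y, trivial⟩⟩
  refine ⟨fun h => ?_, fun A B ⟨ε⟩ => ?_⟩
  · have h01 : ThetaGrp19.smulHom L (1 : Γ(Y, ⊤)) = ThetaGrp19.smulHom L 0 := h.eq_of_src _ _
    exact one_ne_zero (α := Γ(Y, ⊤)) (ThetaGrp19.smulHom_injective hL h01)
  · let e : L ⟶ L := ε.hom ≫ biprod.fst ≫ biprod.inl ≫ ε.inv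
    have he : e ≫ e = e := by simp [e]
    obtain ⟨c, hc, -⟩ := ThetaGrp19.existsUnique_smulHom hL e
    rw [hc, ThetaGrp19.smulHom_comp] at he
    have hc2 : c * c = c := ThetaGrp19.smulHom_injective hL he
    rcases eq_zero_or_one_of_idem hc2 with rfl | rfl
    · refine Or.inl ((IsZero.iff_id_eq_zero A).2 ?_)
      have he0 : e = 0 := by
        rw [hc]
        exact Scheme.Modules.hom_ext _ _ fun V => by ext s; rw [ThetaGrp19.smulHom_app, map_zero, zero_smul]; rfl
      simpa [e] using congrArg (fun φ => biprod.inl ≫ ε.inv ≫ φ ≫ ε.hom ≫ biprod.fst) he0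
    · refine Or.inr ((IsZero.iff_id_eq_zero B).2 ?_)
      have he1 : e = 𝟙 L := by rw [hc, ThetaGrp19.smulHom_one]
      have := congrArg (fun φ => biprod.inr ≫ ε.inv ≫ φ ≫ ε.hom ≫ biprod.snd) he1
      simpa [e] using this.symm

variable {k : Type u} [Field k] {X : Scheme.{u}} {p : X ⟶ Spec (CommRingCat.of k)}
variable {K : Type u} [Field K] [Algebra k K]

/-- An indecomposable module split by modules carrying indecomposable isotypical modules is isotypical. -/
theorem exists_iso_of_split [IsProper p] [Algebra.IsAlgebraic k K] {E : X.Modules} (hE : Coh.IsCoh E)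
    (hEi : Indec E) {s : ℕ} {Ls : Fin s → (W4bk4gw11416.baseChange p K).Modules}
    (hsplit : bcMod p K E ≅ ∐ Ls) (W : Fin s → X.Modules) (hW : ∀ i, FlatMod.IsFinLocFree (W i))
    (hWi : ∀ i, Indec (W i)) (rW : Fin s → ℕ) (hrW : ∀ i, 0 < rW i)
    (hWt : ∀ i, Nonempty (bcMod p K (W i) ≅ pow (Ls i) (rW i))) : ∃ i, Nonempty (E ≅ W i) := by
  classical
  haveI := CohFound.isNoetherian_of_isProper p
  let dE : Dec (bcMod p K E) Ls := Dec.ofCoproduct.trans hsplit.symm
  rcases Nat.eq_zero_or_pos s with rfl | hs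
  · exact absurd (isZero_of_bc (K := K) p hE.1 dE.isZero) hEi.1
  let R : ℕ := ∏ i, rW i
  let q : Fin s → ℕ := fun i => R / rW i
  have hq : ∀ i, q i * rW i = R := fun i =>
    Nat.div_mul_cancel (Finset.dvd_prod_of_mem rW (Finset.mem_univ i))
  have hR : 0 < R := Finset.prod_pos fun i _ => hrW i
  let ε := Fintype.equivFin (Σ i, Fin (q i))
  let F : Fin (Fintype.card (Σ i, Fin (q i))) → X.Modules := fun m => W (ε.symm m).1
  let dP : Dec (⨁ F) F := Dec.ofBiproduct
  have hP : Coh.IsCoh (⨁ F) :=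
    CohFound.isCoh_of_isFinLocFree (KFlat.Sch.isFinLocFree_biproduct F fun m => hW _)
  let dP' : Dec (bcMod p K (⨁ F))
      (fun x : Σ m : Fin (Fintype.card (Σ i, Fin (q i))), Fin (rW (ε.symm m).1) => Ls (ε.symm x.1).1) :=
    (dP.bc p).bind fun m => Dec.ofCoproduct.trans (hWt (ε.symm m).1).some.symm
  let dER : Dec (pow E R) (fun _ : Fin R => E) := Dec.ofCoproduct
  let dER' : Dec (bcMod p K (pow E R)) (fun x : Σ _ : Fin R, Fin s => Ls x.2) :=
    (dER.bc p).bind fun _ => dE
  let τ : (Σ m : Fin (Fintype.card (Σ i, Fin (q i))), Fin (rW (ε.symm m).1)) ≃ (Σ _ : Fin R, Fin s) :=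
    (Equiv.sigmaCongrLeft (β := fun x : Σ i, Fin (q i) => Fin (rW x.1)) ε.symm).trans
      ((Equiv.sigmaAssoc (γ := fun i (_ : Fin (q i)) => Fin (rW i))).trans
        ((Equiv.sigmaCongrRight fun i => (Equiv.sigmaEquivProd (Fin (q i)) (Fin (rW i))).trans
          (finProdFinEquiv.trans (finCongr (hq i)))).trans
          ((Equiv.sigmaEquivProd (Fin s) (Fin R)).trans
            ((Equiv.prodComm _ _).trans (Equiv.sigmaEquivProd (Fin R) (Fin s)).symm))))
  have hτ : ∀ x, (τ x).2 = (ε.symm x.1).1 := fun x => by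
    obtain ⟨m, a⟩ := x
    simp [τ, Equiv.sigmaCongrLeft, Equiv.sigmaAssoc]
  obtain ⟨ι⟩ := iso_of_bc_iso p (K := K) hP (CohGab13.isCoh_sigma hE R)
    ((dP'.congr fun x => eqToIso (congrArg Ls (hτ x).symm)).isoBiproduct ≪≫
      (dER'.reindex τ).isoBiproduct.symm)
  obtain ⟨g, hg⟩ := coh_dec_unique p hP dP (dER.trans ι.symm) (fun m => hWi _) (fun _ => hEi)
  obtain ⟨θ⟩ := hg (g.symm ⟨0, hR⟩)
  exact ⟨_, ⟨θ.symm⟩⟩

/-- Some indecomposable module has type the given invertible module as soon as some nonzero one does. -/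
theorem exists_indec_isotypical [IsProper p] [Algebra.IsAlgebraic k K] [ConnectedSpace (W4bk4gw11416.baseChange p K)]
    {V : X.Modules} (hV : FlatMod.IsFinLocFree V) {N : (W4bk4gw11416.baseChange p K).Modules}
    (hN : PicF.IsInvertible N) {d : ℕ} (hd : 0 < d) (φ : bcMod p K V ≅ pow N d) :
    ∃ (G : X.Modules) (g : ℕ), FlatMod.IsFinLocFree G ∧ Indec G ∧ 0 < g ∧ Nonempty (bcMod p K G ≅ pow N g) := by
  haveI := CohFound.isNoetherian_of_isProper p
  have hVc := CohFound.isCoh_of_isFinLocFree hV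
  obtain ⟨s, Gs, hGs, ⟨dG⟩⟩ := coh_exists_dec p hVc
  let dL : Dec (bcMod p K V) (fun _ : Fin d => N) := Dec.ofCoproduct.trans φ.symm
  rcases Nat.eq_zero_or_pos s with rfl | hs
  · exact absurd ((dG.bc (K := K) p).isZero) fun h => (indec_of_isInvertible' hN).1 (dL.isZero_summand h ⟨0, hd⟩)
  obtain ⟨m, σ, ⟨ψ⟩⟩ := exists_summand_bc hVc dG dL (fun _ => indec_of_isInvertible' hN) ⟨0, hs⟩
  refine ⟨Gs ⟨0, hs⟩, m, M2.isFinLocFree_of_retract hV _ _ (dG.inj_prj _), hGs _, ?_, ⟨ψ⟩⟩
  rcases Nat.eq_zero_or_pos m with rfl | hm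
  · exact absurd (isZero_of_bc (K := K) p (dG.isCoh hVc ⟨0, hs⟩).1
      ((Dec.ofCoproduct.trans ψ.symm).isZero)) (hGs _).1
  · exact hm

/-- Two isotypical decompositions of one nonzero module have the same type. -/
theorem iso_of_pow_iso_pow {Y : Scheme.{u}} {K : Type u} [Field K] (q : Y ⟶ Spec (CommRingCat.of K))
    [IsProper q] [ConnectedSpace Y] {N N' : Y.Modules} (hN : PicF.IsInvertible N) (hN' : PicF.IsInvertible N')
    {d d' : ℕ} (hd : 0 < d) (φ : pow N d ≅ pow N' d') : Nonempty (N ≅ N') := by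
  haveI := CohFound.isNoetherian_of_isProper q
  obtain ⟨σ, hσ⟩ := coh_dec_unique q
    (CohGab13.isCoh_sigma (CohFound.isCoh_of_isFinLocFree (M2.isFinLocFree_of_isInvertible hN)) d)
    (Dec.ofCoproduct (F := fun _ : Fin d => N)) ((Dec.ofCoproduct (F := fun _ : Fin d' => N')).trans φ.symm)
    (fun _ => indec_of_isInvertible' hN) (fun _ => indec_of_isInvertible' hN')
  exact hσ ⟨0, hd⟩

/-- Twisting by an invertible module preserves indecomposability. -/
theorem Indec.tensor {M : X.Modules} (hM : Indec M) {J J' : X.Modules}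
    (ε : CohB1.tensorMod J J' ≅ Coh.structureModule X) : Indec (CohB1.tensorMod M J) := by
  have back : ∀ A : X.Modules, CohB1.tensorMod (CohB1.tensorMod A J) J' ≅ A := fun A =>
    M2.tensorAssoc A J J' ≪≫ M2.tensorIso (Iso.refl A) ε ≪≫ M2.tensorRUnit A
  have back' : ∀ A : X.Modules, CohB1.tensorMod (CohB1.tensorMod A J') J ≅ A := fun A =>
    M2.tensorAssoc A J' J ≪≫ M2.tensorIso (Iso.refl A) (M2.tensorComm J' J ≪≫ ε) ≪≫ M2.tensorRUnit A
  refine ⟨fun h => hM.1 (((M2.tensorR J').map_isZero h).of_iso (back M).symm), fun A B ⟨φ⟩ => ?_⟩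
  haveI : HasBinaryBiproducts X.Modules := HasBinaryBiproducts.of_hasBinaryProducts
  haveI := preservesBinaryBiproducts_of_preservesBiproducts (M2.tensorR J')
  let ψ : M ≅ CohB1.tensorMod A J' ⊞ CohB1.tensorMod B J' :=
    (back M).symm ≪≫ (M2.tensorR J').mapIso φ ≪≫ (M2.tensorR J').mapBiprod A B
  rcases hM.2 _ _ ⟨ψ⟩ with h | h
  · exact Or.inl (((M2.tensorR J).map_isZero h).of_iso (back' A).symm)
  · exact Or.inr (((M2.tensorR J).map_isZero h).of_iso (back' B).symm)

/-- The tensor product of isotypical modules. -/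
def bcTensorPow {M M' : X.Modules} {N N' : (W4bk4gw11416.baseChange p K).Modules} {d d' : ℕ}
    (φ : bcMod p K M ≅ pow N d) (φ' : bcMod p K M' ≅ pow N' d') :
    bcMod p K (CohB1.tensorMod M M') ≅ pow (CohB1.tensorMod N N') (d * d') :=
  M2.pullTensorIso (proj p K) M M' ≪≫ M2.tensorIso φ φ' ≪≫ TwPow29.powTensorIso N N' d d'

/-- A module is a one-fold power of itself. -/
def powOne {Y : Scheme.{u}} (N : Y.Modules) : pow N 1 ≅ N where
  hom := Sigma.desc fun _ => 𝟙 N
  inv := Sigma.ι (fun _ : Fin 1 => N) 0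
  hom_inv_id := Sigma.hom_ext _ _ fun i => by
    obtain rfl := Subsingleton.elim i 0
    simp
  inv_hom_id := by simp

end Groth.Agent.KS29
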