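import Groth.Agent.Lib.KS29.InvDescent
import Groth.Agent.Lib.KS29.PicType

/-!
# Indecomposable modules split by Galois invariant invertible modules
-/

set_option autoImplicit false
set_option linter.style.haveILetI false
set_option linter.unusedSectionVars false
set_option backward.isDefEq.respectTransparency false
set_option backward.isDefEq.respectTransparency.types false
set_option maxHeartbeats 800000

universe u

open CategoryTheory CategoryTheory.Limits AlgebraicGeometry

noncomputable section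

namespace Groth.Agent.KS29

open Groth.Agent W4c1astiltbs12

attribute [local instance] Abelian.hasFiniteBiproducts

variable {k : Type u} [Field k] {X : Scheme.{u}} (p : X ⟶ Spec (CommRingCat.of k))
variable (K : Type u) [Field K] [Algebra k K]

/-- An indecomposable module whose base change is a sum of modules, each of which has a power defined
downstairs by an indecomposable module, is one of those modules. -/
theorem exists_iso_of_split_pow [IsProper p] [Algebra.IsAlgebraic k K] {M : X.Modules} (hM : FlatMod.IsFinLocFree M)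
    (hMi : Indec M) {s : ℕ} (hs : 0 < s) {Ls : Fin s → (W4bk4gw11416.baseChange p K).Modules}
    (φ : bcMod p K M ≅ ∐ Ls) {W : Fin s → X.Modules} {rW : Fin s → ℕ} (hW : ∀ i, FlatMod.IsFinLocFree (W i))
    (hWi : ∀ i, Indec (W i)) (hrW : ∀ i, 0 < rW i) (hWt : ∀ i, Nonempty (bcMod p K (W i) ≅ pow (Ls i) (rW i))) :
    ∃ i, Nonempty (M ≅ W i) := by
  classical
  haveI := CohFound.isNoetherian_of_isProper p
  have hMc := CohFound.isCoh_of_isFinLocFree hM
  let dE : Dec (bcMod p K M) Ls := Dec.ofCoproduct.trans φ.symm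
  let R : ℕ := ∏ i, rW i
  let q : Fin s → ℕ := fun i => R / rW i
  have hq : ∀ i, q i * rW i = R := fun i => Nat.div_mul_cancel (Finset.dvd_prod_of_mem rW (Finset.mem_univ i))
  have hR : 0 < R := Finset.prod_pos fun i _ => hrW i
  let ε := Fintype.equivFin (Σ i, Fin (q i))
  let F : Fin (Fintype.card (Σ i, Fin (q i))) → X.Modules := fun m => W (ε.symm m).1
  let dP : Dec (⨁ F) F := Dec.ofBiproduct
  have hP : Coh.IsCoh (⨁ F) :=
    CohFound.isCoh_of_isFinLocFree (KFlat.Sch.isFinLocFree_biproduct F fun m => hW _)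
  let dP' : Dec (bcMod p K (⨁ F))
      (fun x : Σ m : Fin (Fintype.card (Σ i, Fin (q i))), Fin (rW (ε.symm m).1) => Ls (ε.symm x.1).1) :=
    (dP.bc p).bind fun m => Dec.ofCoproduct.trans (hWt (ε.symm m).1).some.symm
  let dER : Dec (pow M R) (fun _ : Fin R => M) := Dec.ofCoproduct
  let dER' : Dec (bcMod p K (pow M R)) (fun x : Σ _ : Fin R, Fin s => Ls x.2) :=
    (dER.bc p).bind fun _ => dE
  let τ : (Σ m : Fin (Fintype.card (Σ i, Fin (q i))), Fin (rW (ε.symm m).1)) ≃ (Σ _ : Fin R, Fin s) :=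
    (Equiv.sigmaCongrLeft (β := fun x : Σ i, Fin (q i) => Fin (rW x.1)) ε.symm).trans
      ((Equiv.sigmaAssoc (γ := fun i (_ : Fin (q i)) => Fin (rW i))).trans
        ((Equiv.sigmaCongrRight fun i => (Equiv.sigmaEquivProd (Fin (q i)) (Fin (rW i))).trans
          (finProdFinEquiv.trans (finCongr (hq i)))).trans
          ((Equiv.sigmaEquivProd (Fin s) (Fin R)).trans
            ((Equiv.prodComm _ _).trans (Equiv.sigmaEquivProd (Fin R) (Fin s)).symm))))
  have hτ : ∀ x, (τ x).2 = (ε.symm x.1).1 := fun x => by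
    obtain ⟨m, a⟩ := x
    simp [τ, Equiv.sigmaCongrLeft, Equiv.sigmaAssoc]
  obtain ⟨ι⟩ := iso_of_bc_iso p (K := K) hP (CohGab13.isCoh_sigma hMc R)
    ((dP'.congr fun x => eqToIso (congrArg Ls (hτ x).symm)).isoBiproduct ≪≫
      (dER'.reindex τ).isoBiproduct.symm)
  obtain ⟨g, hg⟩ := coh_dec_unique p hP dP (dER.trans ι.symm) (fun m => hWi _) (fun _ => hMi)
  obtain ⟨θ⟩ := hg (g.symm ⟨0, hR⟩)
  exact ⟨_, ⟨θ.symm⟩⟩

/-- An indecomposable module split by Galois invariant invertible modules is isotypical, and the invertible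
module is unique. -/
theorem exists_isotypical_of_invariant [IsProper p] [IsSepClosure k K] [ConnectedSpace ↥(W4bk4gw11416.baseChange p K)]
    {M : X.Modules} (hM : FlatMod.IsFinLocFree M) (hMi : Indec M)
    {n : ℕ} {Ls : Fin n → (W4bk4gw11416.baseChange p K).Modules} (hLs : ∀ i, PicF.IsInvertible (Ls i))
    (hinv : ∀ (σ : K ≃ₐ[k] K) (i : Fin n),
      Nonempty ((Scheme.Modules.pullback (galAct p K σ)).obj (Ls i) ≅ Ls i))
    (e : Nonempty (bcMod p K M ≅ ∐ Ls)) :
    ∃ (L : (W4bk4gw11416.baseChange p K).Modules) (r : ℕ), PicF.IsInvertible L ∧ 0 < r ∧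
      Nonempty (bcMod p K M ≅ pow L r) ∧
      ∀ (L' : (W4bk4gw11416.baseChange p K).Modules) (r' : ℕ), PicF.IsInvertible L' →
        Nonempty (bcMod p K M ≅ pow L' r') → Nonempty (L' ≅ L) := by
  haveI : Algebra.IsSeparable k K := IsSepClosure.separable
  haveI : Algebra.IsAlgebraic k K := Algebra.IsSeparable.isAlgebraic k K
  haveI := CohFound.isNoetherian_of_isProper p
  haveI := isProper_bc (K := K) p
  obtain ⟨φ⟩ := e
  have hMc := CohFound.isCoh_of_isFinLocFree hM
  rcases Nat.eq_zero_or_pos n with rfl | hn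
  · exact absurd (isZero_of_bc (K := K) p hMc.1 ((Dec.ofCoproduct.trans φ.symm).isZero)) hMi.1
  have hW : ∀ i, ∃ (W : X.Modules) (r : ℕ), FlatMod.IsFinLocFree W ∧ Indec W ∧ 0 < r ∧
      Nonempty (bcMod p K W ≅ pow (Ls i) r) := fun i => by
    obtain ⟨V, d, hV, hd, ⟨ψ⟩⟩ := exists_pow_of_invariant p K (Ls i) (M2.isFinLocFree_of_isInvertible (hLs i))
      fun σ => hinv σ i
    exact exists_indec_of_pow p K (indec_of_isInvertible' (hLs i)) hV hd ψ
  choose W rW hW hWi hrW hWt using hW
  obtain ⟨i, ⟨θ⟩⟩ := exists_iso_of_split_pow p K hM hMi hn φ hW hWi hrW hWt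
  let ω : bcMod p K M ≅ pow (Ls i) (rW i) := (Scheme.Modules.pullback (proj p K)).mapIso θ ≪≫ (hWt i).some
  refine ⟨Ls i, rW i, hLs i, hrW i, ⟨ω⟩, fun L' r' hL' ⟨ω'⟩ => ?_⟩
  obtain ⟨f, hf⟩ := coh_dec_unique (W4bk4gw11416.baseChangeTo p K) (M1.isCoh_pullback (proj p K) hMc)
    (Dec.ofCoproduct.trans ω.symm) (Dec.ofCoproduct.trans ω'.symm)
    (fun _ => indec_of_isInvertible' (hLs i)) (fun _ => indec_of_isInvertible' hL')
  exact ⟨(hf ⟨0, hrW i⟩).some.symm⟩

end Groth.Agent.KS29
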