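import Groth.Agent.Lib.KS29.NFHilbertMain
import Groth.Agent.Lib.ModM1.Stalk
import Groth.Agent.Lib.Cyc26.Frac
import Groth.Agent.Lib.FormalH7.LocFree
import Groth.Agent.Lib.PtSet.Components
import Mathlib

/-!
# The ranks of the graded pieces of a normally flat module are locally constant
-/

set_option autoImplicit false
set_option linter.style.haveILetI false
universe u

open CategoryTheory AlgebraicGeometry TopologicalSpace IsLocalRing

namespace Groth.Agent.KS29.NFH

theorem freeAt_localized {A A' : Type u} [CommRing A] [IsLocalRing A] [CommRing A'] [IsLocalRing A'] [Algebra A A']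
    (S : Submonoid A) [IsLocalization S A'] {M M' : Type u} [AddCommGroup M] [Module A M] [AddCommGroup M']
    [Module A M'] [Module A' M'] [IsScalarTower A A' M'] (f : M →ₗ[A] M') [IsLocalizedModule S f]
    (K : Ideal A) {i r : ℕ} {p : Fin r → M} (hp : Submodule.span A (Set.range p) = K ^ i • ⊤)
    (hfree : FreeAt K p i) :
    Submodule.span A' (Set.range (f ∘ p)) = (K.map (algebraMap A A')) ^ i • ⊤ ∧
      FreeAt (K.map (algebraMap A A')) (f ∘ p) i := by
  have hloc : ∀ I : Ideal A, (I • (⊤ : Submodule A M)).localized' A' S f =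
      I.map (algebraMap A A') • (⊤ : Submodule A' M') := fun I => by
    rw [Submodule.localized'_smul, Submodule.localized'_top,
      show Submodule.localized' A' S (Algebra.linearMap A A') I = I.map (algebraMap A A') from
        (Submodule.localized'_eq_span A' S _ I).trans rfl]
  constructor
  · rw [← Ideal.map_pow, ← hloc, ← hp, Submodule.localized'_span, Set.range_comp]
  · classical
    intro x hx j
    obtain ⟨s, hs⟩ := IsLocalization.exist_integer_multiples_of_finset S (Finset.univ.image x)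
    choose y hy using fun j => hs (x j) (Finset.mem_image_of_mem x (Finset.mem_univ j))
    have hsum : f (∑ j, y j • p j) = algebraMap A A' s • ∑ j, x j • (f ∘ p) j := by
      rw [map_sum, Finset.smul_sum]
      refine Finset.sum_congr rfl fun j _ => ?_
      rw [map_smul, ← algebraMap_smul A' (y j), hy j, Algebra.smul_def, mul_smul]
      rfl
    have hmem : f (∑ j, y j • p j) ∈ (K ^ (i + 1) • (⊤ : Submodule A M)).localized' A' S f := by
      rw [hloc, Ideal.map_pow, hsum]
      exact Submodule.smul_mem _ _ hx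
    obtain ⟨m, hm, t, ht⟩ := hmem
    have h2 : f (∑ j, (t : A) • y j • p j) = f m := by
      rw [← Finset.smul_sum, map_smul, ← ht]
      exact IsLocalizedModule.mk'_cancel' f m t
    obtain ⟨c, hc⟩ := IsLocalizedModule.exists_of_eq (S := S) h2
    have h3 : ∑ j, ((c : A) * ((t : A) * y j)) • p j ∈ K ^ (i + 1) • (⊤ : Submodule A M) := by
      simp only [mul_smul, ← Finset.smul_sum] at hc ⊢
      rw [show (c : A) • (t : A) • ∑ j, y j • p j = (c : A) • m from hc]
      exact Submodule.smul_mem _ _ hm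
    have h4 := Ideal.mem_map_of_mem (algebraMap A A') (hfree _ h3 j)
    rw [map_mul, map_mul, hy j, Algebra.smul_def] at h4
    rw [Ideal.unit_mul_mem_iff_mem _ (IsLocalization.map_units A' c),
      Ideal.unit_mul_mem_iff_mem _ (IsLocalization.map_units A' t),
      Ideal.unit_mul_mem_iff_mem _ (IsLocalization.map_units A' s)] at h4
    exact h4

theorem isLocalizedModule_of_triangle {R A A' : Type u} [CommRing R] [CommRing A] [CommRing A'] [Algebra R A]
    [Algebra R A'] [Algebra A A'] [IsScalarTower R A A'] (T : Submonoid R)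
    [IsLocalization T A'] {N M M' : Type u} [AddCommGroup N] [Module R N] [AddCommGroup M] [Module R M] [Module A M]
    [IsScalarTower R A M] [AddCommGroup M'] [Module R M'] [Module A M'] [Module A' M'] [IsScalarTower A A' M']
    [IsScalarTower R A M'] (g : N →ₗ[R] M) (g' : N →ₗ[R] M') [IsLocalizedModule T g'] (f : M →ₗ[A] M')
    (hfg : ∀ n, f (g n) = g' n) (hsurj : ∀ m, ∃ n : N, ∃ a : R, IsUnit (algebraMap R A a) ∧ a • m = g n) :
    IsLocalizedModule (T.map (algebraMap R A)) f where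
  map_units := by
    rintro ⟨_, a, ha, rfl⟩
    have hu : IsUnit (algebraMap A A' (algebraMap R A a)) := by
      rw [← IsScalarTower.algebraMap_apply]
      exact IsLocalization.map_units A' ⟨a, ha⟩
    rw [Module.End.isUnit_iff]
    obtain ⟨u, hu⟩ := hu
    refine Function.bijective_iff_has_inverse.mpr ⟨fun m => (↑u⁻¹ : A') • m, fun m => ?_, fun m => ?_⟩
    · show (↑u⁻¹ : A') • (algebraMap R A a • m) = m
      rw [← algebraMap_smul A' (algebraMap R A a) m, ← hu, ← mul_smul, Units.inv_mul, one_smul]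
    · show algebraMap R A a • ((↑u⁻¹ : A') • m) = m
      rw [← algebraMap_smul A' (algebraMap R A a), ← hu, ← mul_smul, Units.mul_inv, one_smul]
  surj y := by
    obtain ⟨⟨n, t⟩, hn⟩ := IsLocalizedModule.surj T g' y
    refine ⟨⟨g n, ⟨_, Submonoid.mem_map_of_mem _ t.2⟩⟩, ?_⟩
    show algebraMap R A (t : R) • y = f (g n)
    rw [hfg, ← hn, algebraMap_smul]
    rfl
  exists_of_eq {m₁ m₂} h := by
    obtain ⟨n, a, hu, hn⟩ := hsurj (m₁ - m₂)
    have h0 : g' n = g' 0 := by
      rw [map_zero, ← hfg, ← hn, ← algebraMap_smul A a (m₁ - m₂), map_smul, map_sub, h, sub_self, smul_zero]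
    obtain ⟨t, ht⟩ := IsLocalizedModule.exists_of_eq (S := T) h0
    refine ⟨⟨_, Submonoid.mem_map_of_mem _ t.2⟩, ?_⟩
    show algebraMap R A (t : R) • m₁ = algebraMap R A (t : R) • m₂
    obtain ⟨v, hv⟩ := hu
    have h1 : algebraMap R A a • algebraMap R A (t : R) • (m₁ - m₂) = 0 := by
      rw [algebraMap_smul, algebraMap_smul, smul_comm, hn, ← map_smul,
        show (t : R) • n = (t : R) • 0 from ht, smul_zero, map_zero]
    rw [← hv] at h1
    have h2 := congrArg ((↑v⁻¹ : A) • ·) h1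
    simp only [← mul_smul, ← mul_assoc, Units.inv_mul, one_mul, one_smul, smul_zero, smul_sub, sub_eq_zero] at h2
    exact h2

variable {X : Scheme.{u}}

/-- The rank of the `i`-th graded piece at `y`. -/
noncomputable def grRank (𝓘 : X.IdealSheafData) (F : X.Modules) (y : ↥𝓘.subscheme) (i : ℕ) : ℕ :=
  Module.finrank (↑(X.presheaf.stalk (𝓘.subschemeι y)) ⧸ maximalIdeal ↑(X.presheaf.stalk (𝓘.subschemeι y)))
    (NormFlat6.GrR (RingHom.ker (𝓘.subschemeι.stalkMap y).hom) ↑(F.presheaf.stalk (𝓘.subschemeι y)) i ⧸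
      (maximalIdeal ↑(X.presheaf.stalk (𝓘.subschemeι y)) • (⊤ : Submodule ↑(X.presheaf.stalk (𝓘.subschemeι y))
        (NormFlat6.GrR (RingHom.ker (𝓘.subschemeι.stalkMap y).hom) ↑(F.presheaf.stalk (𝓘.subschemeι y)) i))))

theorem grRank_eq_of_specializes [IsLocallyNoetherian X] (𝓘 : X.IdealSheafData) (F : X.Modules) (hF : Coh.IsCoh F)
    (hnf : ∀ y : ↥𝓘.subscheme, EGA4.IsNormallyFlat (RingHom.ker (𝓘.subschemeι.stalkMap y).hom)
      ↑(F.presheaf.stalk (𝓘.subschemeι y)))
    {y y' : ↥𝓘.subscheme} (h : y' ⤳ y) (i : ℕ) : grRank 𝓘 F y' i = grRank 𝓘 F y i := by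
  haveI : F.IsQuasicoherent := hF.1
  haveI := M1.finite_stalk hF.1 hF.2 (𝓘.subschemeι y)
  haveI := M1.finite_stalk hF.1 hF.2 (𝓘.subschemeι y')
  let x := 𝓘.subschemeι y
  let x' := 𝓘.subschemeι y'
  have hs : x' ⤳ x := h.map 𝓘.subschemeι.continuous
  obtain ⟨U, hU, hxU, -⟩ := exists_isAffineOpen_mem_and_subset (x := x) (U := ⊤) trivial
  have hxU' : x' ∈ U := hs.mem_open U.isOpen hxU
  letI : Algebra Γ(X, U) (X.presheaf.stalk x) := (X.presheaf.germ U x hxU).hom.toAlgebra
  letI : Algebra Γ(X, U) (X.presheaf.stalk x') := (X.presheaf.germ U x' hxU').hom.toAlgebra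
  letI : Algebra (X.presheaf.stalk x) (X.presheaf.stalk x') := (X.presheaf.stalkSpecializes hs).hom.toAlgebra
  haveI : IsScalarTower Γ(X, U) (X.presheaf.stalk x) (X.presheaf.stalk x') :=
    IsScalarTower.of_algebraMap_eq fun r =>
      (TopCat.Presheaf.germ_stalkSpecializes_apply X.presheaf hxU hs r).symm
  haveI hlx := hU.isLocalization_stalk ⟨x, hxU⟩
  haveI hlx' := hU.isLocalization_stalk ⟨x', hxU'⟩
  letI mx : Module Γ(X, U) (F.presheaf.stalk x : Type u) := M1.stalkModule F hxU
  haveI : IsScalarTower Γ(X, U) (X.presheaf.stalk x) (F.presheaf.stalk x : Type u) :=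
    IsScalarTower.of_algebraMap_smul fun _ _ => rfl
  letI mx' : Module Γ(X, U) (F.presheaf.stalk x' : Type u) := M1.stalkModule F hxU'
  haveI : IsScalarTower Γ(X, U) (X.presheaf.stalk x') (F.presheaf.stalk x' : Type u) :=
    IsScalarTower.of_algebraMap_smul fun _ _ => rfl
  letI mA : Module (X.presheaf.stalk x) (F.presheaf.stalk x' : Type u) :=
    Module.compHom _ (algebraMap (X.presheaf.stalk x) (X.presheaf.stalk x'))
  haveI : IsScalarTower (X.presheaf.stalk x) (X.presheaf.stalk x') (F.presheaf.stalk x' : Type u) :=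
    IsScalarTower.of_algebraMap_smul fun _ _ => rfl
  haveI : IsScalarTower Γ(X, U) (X.presheaf.stalk x) (F.presheaf.stalk x' : Type u) :=
    IsScalarTower.of_algebraMap_smul fun r m => by
      show algebraMap (X.presheaf.stalk x) (X.presheaf.stalk x') (algebraMap Γ(X, U) _ r) • m = r • m
      rw [← IsScalarTower.algebraMap_apply, algebraMap_smul]
  haveI hgx := M1.isLocalizedModule_germ F hU hxU
  haveI hgx' := M1.isLocalizedModule_germ F hU hxU'
  let f : (F.presheaf.stalk x : Type u) →ₗ[X.presheaf.stalk x] (F.presheaf.stalk x' : Type u) :=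
    { toFun := fun m => F.presheaf.stalkSpecializes hs m
      map_add' := map_add (F.presheaf.stalkSpecializes hs).hom
      map_smul' := fun r m => Cyc26.stalkSpecializes_smul F hs r m }
  let T := (hU.primeIdealOf ⟨x', hxU'⟩).asIdeal.primeCompl
  haveI hf : IsLocalizedModule (T.map (algebraMap Γ(X, U) (X.presheaf.stalk x))) f :=
    isLocalizedModule_of_triangle (A' := X.presheaf.stalk x') T (M1.germₗ F hxU) (M1.germₗ F hxU') f
      (fun n => TopCat.Presheaf.germ_stalkSpecializes_apply F.presheaf hxU hs n) fun m => by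
        obtain ⟨⟨n, a⟩, hn⟩ := IsLocalizedModule.surj (hU.primeIdealOf ⟨x, hxU⟩).asIdeal.primeCompl (M1.germₗ F hxU) m
        exact ⟨n, a, IsLocalization.map_units _ a, hn⟩
  haveI : IsLocalization (T.map (algebraMap Γ(X, U) (X.presheaf.stalk x))) (X.presheaf.stalk x') := by
    refine IsLocalization.isLocalization_of_submonoid_le (X.presheaf.stalk x) (X.presheaf.stalk x')
      (hU.primeIdealOf ⟨x, hxU⟩).asIdeal.primeCompl T ?_
    intro r hr hr'
    exact hr ((VarDim.primeIdealOf_le_iff hU ⟨x', hxU'⟩ ⟨x, hxU⟩).2 hs hr')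
  let K := RingHom.ker (𝓘.subschemeι.stalkMap y).hom
  let K' := RingHom.ker (𝓘.subschemeι.stalkMap y').hom
  have hKK : K.map (algebraMap (X.presheaf.stalk x) (X.presheaf.stalk x')) = K' := by
    show Ideal.map _ (RingHom.ker _) = RingHom.ker _
    rw [FormalH7.ker_stalkMap_subscheme 𝓘 ⟨U, hU⟩ y hxU, FormalH7.ker_stalkMap_subscheme 𝓘 ⟨U, hU⟩ y' hxU',
      Ideal.map_map]
    exact congrArg (fun φ => Ideal.map φ (𝓘.ideal ⟨U, hU⟩))
      (RingHom.ext fun r => TopCat.Presheaf.germ_stalkSpecializes_apply X.presheaf hxU hs r)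
  have hK : K ≤ maximalIdeal _ := le_maximalIdeal (RingHom.ker_ne_top _)
  have hK' : K' ≤ maximalIdeal _ := le_maximalIdeal (RingHom.ker_ne_top _)
  haveI : Module.Flat (↑(X.presheaf.stalk x) ⧸ K) (NormFlat6.GrR K ↑(F.presheaf.stalk x) i) := hnf y i
  obtain ⟨p, hp, hfree⟩ := exists_gens_of_flat (M := (F.presheaf.stalk x : Type u)) hK i
  obtain ⟨hp', hfree'⟩ := freeAt_localized (A' := X.presheaf.stalk x')
    (T.map (algebraMap Γ(X, U) (X.presheaf.stalk x))) f K hp hfree
  rw [hKK] at hp' hfree'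
  exact finrank_of_freeAt hp' hK' hfree'

/-- A function invariant under specialization on a connected locally Noetherian space is constant. -/
theorem eq_of_specializes_invariant {Y : Scheme.{u}} [IsLocallyNoetherian Y] [PreconnectedSpace ↥Y] {β : Type*}
    (φ : ↥Y → β) (hφ : ∀ {a b : ↥Y}, a ⤳ b → φ a = φ b) (a b : ↥Y) : φ a = φ b := by
  let S : Set ↥Y := {z | φ z = φ b}
  have hclosed : ∀ T : Set ↥Y, (∀ {c d : ↥Y}, c ⤳ d → (c ∈ T ↔ d ∈ T)) → IsClosed T := by
    intro T hT
    have e : T = ⋃₀ {Z ∈ irreducibleComponents ↥Y | Z ⊆ T} := by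
      refine Set.Subset.antisymm (fun z hz => ?_) (Set.sUnion_subset fun Z hZ => hZ.2)
      refine Set.mem_sUnion.2 ⟨irreducibleComponent z,
        ⟨irreducibleComponent_mem_irreducibleComponents z, fun w hw => ?_⟩, mem_irreducibleComponent⟩
      have hsp : ∀ v ∈ irreducibleComponent z,
          isIrreducible_irreducibleComponent.genericPoint ⤳ v := fun v hv => by
        refine specializes_iff_mem_closure.2 ?_
        rwa [IsIrreducible.closure_genericPoint isIrreducible_irreducibleComponent isClosed_irreducibleComponent]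
      exact (hT (hsp w hw)).1 ((hT (hsp z mem_irreducibleComponent)).2 hz)
    rw [e]
    refine PtSet.isClosed_sUnion_components (fun z => ?_) fun Z hZ => hZ.1
    obtain ⟨U, hU, hzU, -⟩ := exists_isAffineOpen_mem_and_subset (x := z) (U := ⊤) trivial
    haveI : IsNoetherianRing Γ(Y, U) := IsLocallyNoetherian.component_noetherian ⟨U, hU⟩
    exact ⟨U, U.2.mem_nhds hzU, noetherianSpace_of_isAffineOpen U hU⟩
  have hS : IsClopen S := by
    refine ⟨hclosed S fun {c d} h => by simp [S, hφ h], ?_⟩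
    rw [← isClosed_compl_iff]
    exact hclosed Sᶜ fun {c d} h => by simp [S, hφ h]
  have := hS.eq_univ ⟨b, rfl⟩
  exact (Set.eq_univ_iff_forall.1 this a :)

theorem exists_poincare_numerator [IsLocallyNoetherian X] (𝓘 : X.IdealSheafData) [ConnectedSpace ↥𝓘.subscheme]
    (hreg : ∀ y : ↥𝓘.subscheme, IsRegularLocalRing ↑(𝓘.subscheme.presheaf.stalk y))
    (F : X.Modules) (hF : Coh.IsCoh F)
    (hnf : ∀ y : ↥𝓘.subscheme, EGA4.IsNormallyFlat (RingHom.ker (𝓘.subschemeι.stalkMap y).hom)
      ↑(F.presheaf.stalk (𝓘.subschemeι y))) :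
    ∃ R : ℕ → ℕ, ∀ (y : ↥𝓘.subscheme) (n : ℕ), ringKrullDim ↑(𝓘.subscheme.presheaf.stalk y) = n →
      ∀ h : ℕ, Module.finrank (↑(X.presheaf.stalk (𝓘.subschemeι y)) ⧸ maximalIdeal ↑(X.presheaf.stalk (𝓘.subschemeι y)))
          (↥(maximalIdeal ↑(X.presheaf.stalk (𝓘.subschemeι y)) ^ h • (⊤ : Submodule ↑(X.presheaf.stalk (𝓘.subschemeι y)) ↑(F.presheaf.stalk (𝓘.subschemeι y)))) ⧸
            (maximalIdeal ↑(X.presheaf.stalk (𝓘.subschemeι y)) • (⊤ : Submodule ↑(X.presheaf.stalk (𝓘.subschemeι y)) ↥(maximalIdeal ↑(X.presheaf.stalk (𝓘.subschemeι y)) ^ h • (⊤ : Submodule ↑(X.presheaf.stalk (𝓘.subschemeι y)) ↑(F.presheaf.stalk (𝓘.subschemeι y))))))) =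
        ∑ r ∈ Finset.range (h + 1), Nat.choose (r + n - 1) r * R (h - r) := by
  haveI : F.IsQuasicoherent := hF.1
  haveI : IsLocallyNoetherian 𝓘.subscheme := LocallyOfFiniteType.isLocallyNoetherian 𝓘.subschemeι
  obtain ⟨y₀⟩ := (inferInstance : Nonempty ↥𝓘.subscheme)
  refine ⟨fun i => grRank 𝓘 F y₀ i, fun y n hn h => ?_⟩
  haveI := M1.finite_stalk hF.1 hF.2 (𝓘.subschemeι y)
  let e := RingHom.quotientKerEquivOfSurjective (𝓘.subschemeι.stalkMap_surjective y)
  haveI := hreg y
  haveI : IsRegularLocalRing (_ ⧸ RingHom.ker (𝓘.subschemeι.stalkMap y).hom) := IsRegularLocalRing.of_ringEquiv e.symm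
  have hdim : ringKrullDim (_ ⧸ RingHom.ker (𝓘.subschemeι.stalkMap y).hom) = n := (ringKrullDim_eq_of_ringEquiv e).trans hn
  rw [(isNormallyFlat_iff hdim).1 (hnf y) h]
  refine Finset.sum_congr rfl fun r _ => congrArg (Nat.choose (r + n - 1) r * ·) ?_
  exact eq_of_specializes_invariant (fun z => grRank 𝓘 F z (h - r))
    (fun hs => grRank_eq_of_specializes 𝓘 F hF hnf hs (h - r)) y y₀

end Groth.Agent.KS29.NFH
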