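import Groth.Agent.Lib.FibDepth5.GeomRkOpenApps
import Groth.Agent.Lib.PtInt5.Open
import Groth.Agent.Lib.GeomNormDesc12.Basic
import Groth.Agent.S2730
import Groth.Agent.Lib.Branch14At27.Tensor

/-!
Points where a morphism is normal, and geometric unibranchness along normal morphisms of finite
presentation over an arbitrary base.
-/

universe u

open CategoryTheory CategoryTheory.Limits AlgebraicGeometry TopologicalSpace TensorProduct

set_option backward.isDefEq.respectTransparency false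
set_option backward.isDefEq.respectTransparency.types false
set_option maxHeartbeats 1600000

namespace Groth.Agent.KS29.NormalPt

/-- The local ring is a normal domain. -/
def Nor (X : Scheme.{u}) (x : X) : Prop :=
  IsDomain (X.presheaf.stalk x) ∧ IsIntegrallyClosed (X.presheaf.stalk x)

theorem normal_of_equiv {R S : Type u} [CommRing R] [CommRing S] (e : R ≃+* S)
    (h : IsDomain R ∧ IsIntegrallyClosed R) : IsDomain S ∧ IsIntegrallyClosed S := by
  haveI := h.1
  haveI := h.2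
  exact ⟨e.symm.toMulEquiv.isDomain, IsIntegrallyClosed.of_equiv e⟩

theorem nor_openImmersion_iff {W X : Scheme.{u}} (j : W ⟶ X) [IsOpenImmersion j] (w : W) :
    Nor W w ↔ Nor X (j w) :=
  ⟨normal_of_equiv (asIso (j.stalkMap w)).commRingCatIsoToRingEquiv.symm,
    normal_of_equiv (asIso (j.stalkMap w)).commRingCatIsoToRingEquiv⟩

theorem nor_spec_iff (R : CommRingCat.{u}) (w : Spec R) :
    Nor (Spec R) w ↔
      IsDomain (Localization.AtPrime w.asIdeal) ∧ IsIntegrallyClosed (Localization.AtPrime w.asIdeal) := by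
  letI : Algebra ↑R ↑((Spec R).presheaf.stalk w) := StructureSheaf.stalkAlgebra (↑R) w
  haveI : IsLocalization.AtPrime (↑((Spec R).presheaf.stalk w)) w.asIdeal :=
    StructureSheaf.IsLocalization.to_stalk R w
  let e := (IsLocalization.algEquiv w.asIdeal.primeCompl (↑((Spec R).presheaf.stalk w))
    (Localization.AtPrime w.asIdeal)).toRingEquiv
  exact ⟨normal_of_equiv e, normal_of_equiv e.symm⟩

variable {X Y : Scheme.{u}}

/-- All geometric fibres through the point are normal there. -/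
def PtNor (f : X ⟶ Y) (x : X) : Prop :=
  ∀ (K : Type u) [Field K] (t : Spec (CommRingCat.of K) ⟶ Y) (w : ↥(pullback f t)),
    pullback.fst f t w = x → Nor (pullback f t) w

theorem ptNor_baseChange {X' Y' : Scheme.{u}} {f : X ⟶ Y} {f' : X' ⟶ Y'} {p : X' ⟶ X} {h : Y' ⟶ Y}
    (sq : IsPullback p f' f h) (x' : X') (hn : PtNor f (p x')) : PtNor f' x' := by
  intro K _ t w hw
  let sq' := (IsPullback.of_hasPullback f' t).paste_horiz sq
  refine (nor_openImmersion_iff sq'.isoPullback.hom w).2 (hn K (t ≫ h) _ ?_)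
  rw [← Scheme.Hom.comp_apply, sq'.isoPullback_hom_fst, Scheme.Hom.comp_apply, hw]

theorem ptNor_desc {X' Y' : Scheme.{u}} {f : X ⟶ Y} {f' : X' ⟶ Y'} {p : X' ⟶ X} {h : Y' ⟶ Y}
    (sq : IsPullback p f' f h) (x' : X') (hn : PtNor f' x') : PtNor f (p x') := by
  intro K _ t w hw
  obtain ⟨z, hz1, hz2⟩ := Scheme.Pullback.exists_preimage_pullback (f := p) (g := pullback.fst f t) x' w hw.symm
  let Z := pullback p (pullback.fst f t)
  let i := Z.fromSpecResidueField z
  let a : Spec (Z.residueField z) ⟶ X' := i ≫ pullback.fst _ _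
  let b : Spec (Z.residueField z) ⟶ pullback f t := i ≫ pullback.snd _ _
  let σ : Spec (Z.residueField z) ⟶ Spec (CommRingCat.of K) := b ≫ pullback.snd f t
  let t' : Spec (Z.residueField z) ⟶ Y' := a ≫ f'
  have ht : t' ≫ h = σ ≫ t := by
    simp only [t', σ, a, b, Category.assoc, ← sq.w, ← pullback.condition]
    rw [pullback.condition_assoc]
  haveI : Flat σ := by
    obtain ⟨φ, hφ⟩ := Spec.map_surjective σ
    rw [← hφ, Flat.SpecMap_iff]
    letI : Field (CommRingCat.of K) := ‹Field K›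
    letI := φ.hom.toAlgebra
    exact RingHom.flat_algebraMap_iff.2 inferInstance
  let ρ : pullback f' t' ⟶ pullback f t :=
    pullback.lift (pullback.fst _ _ ≫ p) (pullback.snd _ _ ≫ σ)
      (by rw [Category.assoc, Category.assoc, sq.w, pullback.condition_assoc, ht])
  have hρ : IsPullback ρ (pullback.snd f' t') (pullback.snd f t) σ := by
    refine IsPullback.of_right ?_ (pullback.lift_snd _ _ _) (IsPullback.of_hasPullback f t)
    rw [show ρ ≫ pullback.fst f t = pullback.fst f' t' ≫ p from pullback.lift_fst _ _ _, ← ht]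
    exact (IsPullback.of_hasPullback f' t').paste_horiz sq
  haveI : Flat ρ := MorphismProperty.of_isPullback hρ.flip ‹_›
  let s : Spec (Z.residueField z) ⟶ pullback f' t' := pullback.lift a (𝟙 _) (by rw [Category.id_comp])
  let pt := IsLocalRing.closedPoint (Z.residueField z)
  have hi : i pt = z := Scheme.fromSpecResidueField_apply z _
  have hρs : s ≫ ρ = b := by
    apply pullback.hom_ext
    · simp [s, ρ, a, b, pullback.condition]
    · rw [Category.assoc, pullback.lift_snd, ← Category.assoc, pullback.lift_snd]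
      exact Category.id_comp _
  have h1 : Nor (pullback f' t') (s pt) := hn (Z.residueField z) t' (s pt) (by
    rw [← Scheme.Hom.comp_apply, pullback.lift_fst, Scheme.Hom.comp_apply, hi, hz1])
  have h2 := GeomNormDesc12.normal_stalk_of_flat ρ (s pt) h1
  rwa [← Scheme.Hom.comp_apply, hρs, Scheme.Hom.comp_apply, hi, hz2] at h2

theorem ptNor_openSource {U : Scheme.{u}} (j : U ⟶ X) [IsOpenImmersion j] (f : X ⟶ Y) (u : U)
    (hn : PtNor f (j u)) : PtNor (j ≫ f) u := by
  intro K _ t w hw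
  let m : pullback (j ≫ f) t ⟶ pullback f t :=
    pullback.map _ _ _ _ j (𝟙 _) (𝟙 _) (Category.comp_id _) (by rw [Category.comp_id, Category.id_comp])
  haveI : IsOpenImmersion m := inferInstanceAs (IsOpenImmersion (pullback.map _ _ _ _ _ _ _ _ _))
  refine (nor_openImmersion_iff m w).2 (hn K t _ ?_)
  rw [← Scheme.Hom.comp_apply, pullback.lift_fst, Scheme.Hom.comp_apply, hw]

/-- Comparison with the fibre over the residue field. -/
theorem ptNor_iff (f : X ⟶ Y) (x : X) :
    PtNor f x ↔ ∀ (K : Type u) [Field K] [Algebra (IsLocalRing.ResidueField (Y.presheaf.stalk (f.base x))) K]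
        (x' : ↥(FBase.bc (f.fiberToSpecResidueField (f.base x)) K)),
        (FBase.bcπ (f.fiberToSpecResidueField (f.base x)) K).base x' = f.asFiber x →
          IsDomain ((FBase.bc (f.fiberToSpecResidueField (f.base x)) K).presheaf.stalk x') ∧
            IsIntegrallyClosed ((FBase.bc (f.fiberToSpecResidueField (f.base x)) K).presheaf.stalk x') := by
  constructor
  · intro hn K _ _ x' hx'
    let g := Spec.map (CommRingCat.ofHom (algebraMap (IsLocalRing.ResidueField (Y.presheaf.stalk (f.base x))) K))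
    let e : FBase.bc (f.fiberToSpecResidueField (f.base x)) K ≅ pullback f (g ≫ Y.fromSpecResidueField (f x)) :=
      pullbackLeftPullbackSndIso f (Y.fromSpecResidueField (f x)) g
    refine (nor_openImmersion_iff e.hom x').2 (hn K (g ≫ Y.fromSpecResidueField (f x)) (e.hom x') ?_)
    have he : e.hom ≫ pullback.fst _ _ = FBase.bcπ (f.fiberToSpecResidueField (f.base x)) K ≫ f.fiberι (f x) :=
      pullbackLeftPullbackSndIso_hom_fst _ _ _
    rw [← Scheme.Hom.comp_apply, he, Scheme.Hom.comp_apply, hx', f.fiberι_asFiber]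
  · intro h K _ t w hw
    obtain ⟨⟨y, φ⟩, rfl⟩ := (Scheme.SpecToEquivOfField K Y).symm.surjective t
    obtain rfl : y = f x := by
      have h1 := congrArg (fun g : _ ⟶ Y => g w) (pullback.condition (f := f) (g := (Scheme.SpecToEquivOfField K Y).symm ⟨y, φ⟩))
      simp only [Scheme.Hom.comp_apply] at h1
      rw [hw] at h1
      rw [h1]
      exact (Scheme.fromSpecResidueField_apply _ _).symm
    letI : Algebra (IsLocalRing.ResidueField (Y.presheaf.stalk (f.base x))) K := φ.hom.toAlgebra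
    let e : FBase.bc (f.fiberToSpecResidueField (f.base x)) K ≅
        pullback f (Spec.map φ ≫ Y.fromSpecResidueField (f x)) :=
      pullbackLeftPullbackSndIso f (Y.fromSpecResidueField (f x)) (Spec.map φ)
    refine (nor_openImmersion_iff e.inv w).2 (h K (e.inv w) ?_)
    apply (f.fiberι (f x)).isEmbedding.injective
    have he : e.inv ≫ FBase.bcπ (f.fiberToSpecResidueField (f.base x)) K ≫ f.fiberι (f x) = pullback.fst _ _ := by
      rw [Iso.inv_comp_eq]
      exact (pullbackLeftPullbackSndIso_hom_fst _ _ _).symm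
    rw [← Scheme.Hom.comp_apply, ← Scheme.Hom.comp_apply, he, f.fiberι_asFiber]
    exact hw

theorem ptNor_iff_cond (f : X ⟶ Y) [LocallyOfFinitePresentation f] (x : X) :
    PtNor f x ↔ (∀ y, y ⤳ x → f y = f x → FlatMor.fibreDimAt f y ≤ ((FibDim14.rd f y + 1 : ℕ) : WithBot ℕ∞) →
      y ∉ FibDepth5.fibSing f) ∧ LocCoh.HasSk 2 (CInt.fiberStalk f x) (CInt.fiberStalk f x) :=
  (ptNor_iff f x).trans (FibDepth5.geomNormal_fibre_iff f x)

theorem isOpen_normalLocus (f : X ⟶ Y) [LocallyOfFinitePresentation f] :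
    IsOpen {x : X | (f.stalkMap x).hom.Flat ∧ PtNor f x} :=
  (congrArg IsOpen (Set.ext fun x => and_congr Iff.rfl (ptNor_iff_cond f x).symm)).mp
    (FibDepth5.isOpen_flat_geomNormal f)

/-- The map on affine opens. -/
theorem chart (f : X ⟶ Y) [LocallyOfFinitePresentation f] {V : Y.Opens} (hV : IsAffineOpen V) {U : X.Opens}
    (hU : IsAffineOpen U) (hUV : U ≤ f ⁻¹ᵁ V) (hW : ∀ z ∈ U, (f.stalkMap z).hom.Flat ∧ PtNor f z) :
    Flat (Spec.map (f.appLE V U hUV)) ∧ ∀ z, PtNor (Spec.map (f.appLE V U hUV)) z := by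
  let g := Spec.map (f.appLE V U hUV)
  have hg : g ≫ hV.fromSpec = hU.fromSpec ≫ f := IsAffineOpen.SpecMap_appLE_fromSpec f hV hU hUV
  have hmem : ∀ z, hU.fromSpec z ∈ U := fun z => by
    show hU.fromSpec z ∈ (U : Set X)
    rw [← hU.range_fromSpec]
    exact ⟨z, rfl⟩
  refine ⟨(Flat.iff_flat_stalkMap _).2 fun z => ?_, fun z => ?_⟩
  · have h1 : ((hU.fromSpec ≫ f).stalkMap z).hom.Flat := by
      rw [Scheme.Hom.stalkMap_comp, CommRingCat.hom_comp]
      exact RingHom.Flat.comp (hW _ (hmem z)).1 (Flat.stalkMap hU.fromSpec z)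
    have h2 : ((g ≫ hV.fromSpec).stalkMap z).hom.Flat := by rw [hg]; exact h1
    rw [Scheme.Hom.stalkMap_comp, CommRingCat.hom_comp] at h2
    exact (RingHom.Flat.respectsIso.cancel_left_isIso (hV.fromSpec.stalkMap (g z)) (g.stalkMap z)).1 h2
  · refine ptNor_baseChange (p := 𝟙 _) (f := g ≫ hV.fromSpec) (h := hV.fromSpec)
      (IsPullback.of_horiz_isIso_mono ⟨by rw [Category.id_comp]⟩) z ?_
    rw [hg]
    exact ptNor_openSource hU.fromSpec f z (hW _ (hmem z)).2

/-- A flat morphism between affines with normal geometric fibres is a normal ring map. -/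
theorem isNormalHom {A A' : Type u} [CommRing A] [CommRing A'] [Algebra A A']
    (hflat : Flat (Spec.map (CommRingCat.ofHom (algebraMap A A'))))
    (hn : ∀ z, PtNor (Spec.map (CommRingCat.ofHom (algebraMap A A'))) z) : EGA4.IsNormalHom A A' := by
  refine ⟨RingHom.flat_algebraMap_iff.1 (Flat.SpecMap_iff.1 hflat), fun p _ k' _ _ _ => ?_⟩
  letI : Algebra A k' := ((algebraMap p.ResidueField k').comp (algebraMap A p.ResidueField)).toAlgebra
  haveI : IsScalarTower A p.ResidueField k' := IsScalarTower.of_algebraMap_eq fun _ => rfl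
  refine Branch14.NormalTensor.isNormalRing_of_ringEquiv'
    ((Algebra.TensorProduct.comm A A' k').toRingEquiv.trans
      (Algebra.TensorProduct.cancelBaseChange A p.ResidueField k' k' A').symm.toRingEquiv) ?_
  intro P _
  let z : Spec (CommRingCat.of (A' ⊗[A] k')) := ⟨P, inferInstance⟩
  refine (nor_spec_iff (CommRingCat.of (A' ⊗[A] k')) z).1 ((nor_openImmersion_iff (pullbackSpecIso A A' k').inv z).2 ?_)
  exact hn _ k' _ _ rfl

theorem isGeomUnibranch_stalk (f : X ⟶ Y) [LocallyOfFinitePresentation f] (x : X)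
    (hY : CAlg2.IsGeomUnibranch (Y.presheaf.stalk (f x))) (hflat : (f.stalkMap x).hom.Flat)
    (hn : PtNor f x) : CAlg2.IsGeomUnibranch (X.presheaf.stalk x) := by
  obtain ⟨V, hV, hxV, -⟩ := exists_isAffineOpen_mem_and_subset (X := Y) (x := f x) (U := ⊤) trivial
  obtain ⟨U, hU, hxU, hUW⟩ := exists_isAffineOpen_mem_and_subset (X := X) (x := x)
    (U := ⟨_, isOpen_normalLocus f⟩ ⊓ f ⁻¹ᵁ V) ⟨⟨hflat, hn⟩, hxV⟩
  have hUV : U ≤ f ⁻¹ᵁ V := hUW.trans inf_le_right
  obtain ⟨hfl, hnor⟩ := chart f hV hU hUV (fun z hz => (hUW hz).1)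
  let f₀ := Spec.map (f.appLE V U hUV)
  haveI : Flat f₀ := hfl
  haveI : LocallyOfFinitePresentation f₀ :=
    (HasRingHomProperty.Spec_iff (P := @LocallyOfFinitePresentation)).2
      (LocallyOfFinitePresentation.finitePresentation_appLE f hV hU hUV)
  obtain ⟨S₁, X₁, hS₁, π, u₁, q, sq, _, _, hlfp⟩ := PtInt5.exists_flat_model f₀
  haveI := hS₁
  haveI := hlfp
  obtain ⟨x₀, hx₀⟩ : x ∈ Set.range hU.fromSpec := by rw [hU.range_fromSpec]; exact hxU
  have hq : (u₁.stalkMap (q x₀)).hom.Flat ∧ PtNor u₁ (q x₀) :=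
    ⟨Flat.stalkMap u₁ _, ptNor_desc sq x₀ (hnor x₀)⟩
  obtain ⟨U₁, hU₁, hyU₁, -⟩ := exists_isAffineOpen_mem_and_subset (X := S₁) (x := u₁ (q x₀)) (U := ⊤) trivial
  obtain ⟨V₁, hV₁, hxV₁, hVW⟩ := exists_isAffineOpen_mem_and_subset (X := X₁) (x := q x₀)
    (U := ⟨_, isOpen_normalLocus u₁⟩ ⊓ u₁ ⁻¹ᵁ U₁) ⟨hq, hyU₁⟩
  have hVU₁ : V₁ ≤ u₁ ⁻¹ᵁ U₁ := hVW.trans inf_le_right
  obtain ⟨hfl₁, hnor₁⟩ := chart u₁ hU₁ hV₁ hVU₁ (fun z hz => (hVW hz).1)
  letI : Algebra Γ(S₁, U₁) Γ(X₁, V₁) := (u₁.appLE U₁ V₁ hVU₁).hom.toAlgebra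
  have hNH : EGA4.IsNormalHom Γ(S₁, U₁) Γ(X₁, V₁) := isNormalHom hfl₁ hnor₁
  haveI : IsNoetherianRing Γ(S₁, U₁) := IsLocallyNoetherian.component_noetherian ⟨U₁, hU₁⟩
  haveI : IsLocallyNoetherian X₁ := LocallyOfFiniteType.isLocallyNoetherian u₁
  haveI : IsNoetherianRing Γ(X₁, V₁) := IsLocallyNoetherian.component_noetherian ⟨V₁, hV₁⟩
  -- the local scheme of `Y` at the image
  let B := Y.presheaf.stalk (f x)
  let d : Spec B ⟶ Spec Γ(Y, V) := Spec.map (Y.presheaf.germ V (f x) hxV)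
  letI : Algebra Γ(Y, V) B := (Y.presheaf.germ V (f x) hxV).hom.toAlgebra
  haveI hloc : IsLocalization.AtPrime B (hV.primeIdealOf ⟨f x, hxV⟩).asIdeal := hV.isLocalization_stalk ⟨f x, hxV⟩
  haveI : IsPreimmersion d := IsPreimmersion.of_isLocalization (R := Γ(Y, V)) (S := B)
    (hV.primeIdealOf ⟨f x, hxV⟩).asIdeal.primeCompl
  haveI : Flat d := by
    rw [Flat.SpecMap_iff]
    exact RingHom.flat_algebraMap_iff.2 (IsLocalization.flat B (hV.primeIdealOf ⟨f x, hxV⟩).asIdeal.primeCompl)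
  have hd : d ≫ hV.fromSpec = Y.fromSpecStalk (f x) := hV.fromSpecStalk_eq_fromSpecStalk hxV
  have hd₀ : d (IsLocalRing.closedPoint B) = f₀ x₀ := by
    apply hV.fromSpec.isOpenEmbedding.injective
    rw [← Scheme.Hom.comp_apply, hd, Scheme.fromSpecStalk_closedPoint, ← Scheme.Hom.comp_apply,
      IsAffineOpen.SpecMap_appLE_fromSpec f hV hU hUV, Scheme.Hom.comp_apply, hx₀]
  have hcl : (d ≫ π) (IsLocalRing.closedPoint B) ∈ U₁ := by
    rw [Scheme.Hom.comp_apply, hd₀, ← Scheme.Hom.comp_apply, ← sq.w, Scheme.Hom.comp_apply]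
    exact hyU₁
  have hrange : Set.range (d ≫ π) ⊆ Set.range hU₁.fromSpec := by
    rw [hU₁.range_fromSpec]
    rintro _ ⟨z, rfl⟩
    exact ((IsLocalRing.specializes_closedPoint z).map (d ≫ π).continuous).mem_open U₁.2 hcl
  let φ₀ := IsOpenImmersion.lift hU₁.fromSpec (d ≫ π) hrange
  obtain ⟨ψ, hψ⟩ := Spec.map_surjective φ₀
  letI : Algebra Γ(S₁, U₁) B := ψ.hom.toAlgebra
  let φ : Spec (CommRingCat.of B) ⟶ Spec (CommRingCat.of Γ(S₁, U₁)) :=
    Spec.map (CommRingCat.ofHom (algebraMap Γ(S₁, U₁) B))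
  let g : Spec (CommRingCat.of Γ(X₁, V₁)) ⟶ Spec (CommRingCat.of Γ(S₁, U₁)) :=
    Spec.map (CommRingCat.ofHom (algebraMap Γ(S₁, U₁) Γ(X₁, V₁)))
  have hφ : φ ≫ hU₁.fromSpec = d ≫ π := by
    rw [show φ = φ₀ from hψ]; exact IsOpenImmersion.lift_fac _ _ _
  let k : pullback φ g ⟶ pullback (φ ≫ hU₁.fromSpec) u₁ :=
    pullback.map φ g _ u₁ (𝟙 _) hV₁.fromSpec hU₁.fromSpec (Category.id_comp _).symm
      (IsAffineOpen.SpecMap_appLE_fromSpec u₁ hU₁ hV₁ hVU₁)
  haveI : IsOpenImmersion k := inferInstanceAs (IsOpenImmersion (pullback.map _ _ _ _ _ _ _ _ _))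
  have sqQ : IsPullback (pullback.fst d f₀) (pullback.snd d f₀ ≫ q) (φ ≫ hU₁.fromSpec) u₁ :=
    hφ ▸ (((IsPullback.of_hasPullback d f₀).flip.paste_horiz sq).flip)
  let e := sqQ.isoPullback
  obtain ⟨ω, hω₁, hω₂⟩ := Scheme.Pullback.exists_preimage_pullback (f := d) (g := f₀)
    (IsLocalRing.closedPoint B) x₀ hd₀
  have he₁ : pullback.fst (φ ≫ hU₁.fromSpec) u₁ (e.hom ω) = IsLocalRing.closedPoint B := by
    rw [← Scheme.Hom.comp_apply, sqQ.isoPullback_hom_fst]; exact hω₁
  have he₂ : pullback.snd (φ ≫ hU₁.fromSpec) u₁ (e.hom ω) = q x₀ := by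
    rw [← Scheme.Hom.comp_apply, sqQ.isoPullback_hom_snd, Scheme.Hom.comp_apply, hω₂]
  obtain ⟨z, hz⟩ : e.hom ω ∈ Set.range k := by
    rw [Scheme.Pullback.range_map]
    refine ⟨⟨_, rfl⟩, ?_⟩
    rw [Set.mem_preimage, he₂]
    exact hV₁.range_fromSpec.symm.le hxV₁
  have hz₁ : pullback.fst φ g z = IsLocalRing.closedPoint B := by
    rw [← he₁, ← hz, ← Scheme.Hom.comp_apply, pullback.lift_fst, Category.comp_id]
  let τ : pullback φ g ⟶ X := k ≫ e.inv ≫ pullback.snd d f₀ ≫ hU.fromSpec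
  have hτ : τ z = x := by
    simp only [τ, Scheme.Hom.comp_apply]
    rw [hz, ← Scheme.Hom.comp_apply e.hom e.inv, e.hom_inv_id]
    simp [hω₂, hx₀]
  haveI : IsPreimmersion (pullback.snd d f₀) := MorphismProperty.pullback_snd _ _ inferInstance
  haveI : Flat (pullback.snd d f₀) := MorphismProperty.pullback_snd _ _ inferInstance
  haveI : IsPreimmersion τ := inferInstance
  haveI : Flat τ := inferInstance
  let iso := pullbackSpecIso Γ(S₁, U₁) B Γ(X₁, V₁)
  let w := iso.hom z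
  have hw : w.asIdeal.comap (algebraMap B (B ⊗[Γ(S₁, U₁)] Γ(X₁, V₁))) = IsLocalRing.maximalIdeal B := by
    have h1 : Spec.map (CommRingCat.ofHom (algebraMap B (B ⊗[Γ(S₁, U₁)] Γ(X₁, V₁)))) w =
        IsLocalRing.closedPoint B := by
      rw [← hz₁, ← Scheme.Hom.comp_apply, pullbackSpecIso_hom_fst']
    exact congrArg PrimeSpectrum.asIdeal h1
  obtain ⟨hgu, -⟩ := S2730.result Γ(S₁, U₁) Γ(X₁, V₁) hNH B hY w.asIdeal hw
  -- the stalk of `X`
  letI : Algebra ↑(CommRingCat.of (B ⊗[Γ(S₁, U₁)] Γ(X₁, V₁)))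
      ↑((Spec (CommRingCat.of (B ⊗[Γ(S₁, U₁)] Γ(X₁, V₁)))).presheaf.stalk w) :=
    StructureSheaf.stalkAlgebra (B ⊗[Γ(S₁, U₁)] Γ(X₁, V₁)) w
  haveI : IsLocalization.AtPrime ((Spec (CommRingCat.of (B ⊗[Γ(S₁, U₁)] Γ(X₁, V₁)))).presheaf.stalk w) w.asIdeal :=
    StructureSheaf.IsLocalization.to_stalk _ w
  have h1 : CAlg2.IsGeomUnibranch ((pullback φ g).presheaf.stalk z) :=
    Branch14At27.isGeomUnibranch_of_ringEquiv
      ((IsLocalization.algEquiv w.asIdeal.primeCompl (Localization.AtPrime w.asIdeal)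
        ((Spec (CommRingCat.of (B ⊗[Γ(S₁, U₁)] Γ(X₁, V₁)))).presheaf.stalk w)).toRingEquiv.trans
        (asIso (iso.hom.stalkMap z)).commRingCatIsoToRingEquiv) hgu
  have hbij : Function.Bijective (τ.stalkMap z).hom := by
    refine ⟨?_, τ.stalkMap_surjective z⟩
    letI := (τ.stalkMap z).hom.toAlgebra
    haveI : Module.Flat (X.presheaf.stalk (τ z)) ((pullback φ g).presheaf.stalk z) := Flat.stalkMap τ z
    haveI : IsLocalHom (algebraMap (X.presheaf.stalk (τ z)) ((pullback φ g).presheaf.stalk z)) :=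
      inferInstanceAs (IsLocalHom (τ.stalkMap z).hom)
    haveI := Module.FaithfullyFlat.of_flat_of_isLocalHom
      (A := X.presheaf.stalk (τ z)) (B := (pullback φ g).presheaf.stalk z)
    exact FaithfulSMul.algebraMap_injective _ _
  have h2 : CAlg2.IsGeomUnibranch (X.presheaf.stalk (τ z)) :=
    Branch14At27.isGeomUnibranch_of_ringEquiv (RingEquiv.ofBijective _ hbij).symm h1
  exact hτ ▸ h2

end Groth.Agent.KS29.NormalPt
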