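import Groth.Agent.Lib.CurveCoh17.RegPoint
import Groth.Agent.Lib.CurveCoh17.PairDeg
import Groth.Agent.Lib.CurveAmple18.Basic
import Groth.Agent.Lib.VB17.Duality
import Groth.Agent.Lib.RefHull26.Rank
import Groth.Agent.Lib.Twist.GenLocus
import Groth.Agent.Lib.TensorMod.InvCrit
import Groth.Agent.Lib.GeomRed18.Apps
import Groth.Agent.S1536
import Groth.Agent.S7645
import Groth.Agent.S13308
import Groth.Agent.S13312
import Groth.Prelude.Def_Canon

/-!
# A dualizing module at a regular point
-/

set_option linter.style.haveILetI false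
set_option autoImplicit false
set_option maxHeartbeats 800000
set_option backward.isDefEq.respectTransparency false

universe u

open CategoryTheory TopologicalSpace Opposite CategoryTheory.Limits AlgebraicGeometry TensorProduct

namespace Groth.Agent.KS29.NsPoint

open Groth.Agent.M1 Groth.Agent.M2 Groth.Agent.CurveCoh17

variable {k : Type u} [Field k] {X : Scheme.{u}} [X.Over (Spec (CommRingCat.of k))]

attribute [local instance] stalkMod Curv2.resAlgebra

/-- Coherence of a dualizing module on a proper curve. -/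
theorem isCoh_of_isRDualOver [Infinite k] [IsProper (X ↘ Spec (CommRingCat.of k))] (hdim : topologicalKrullDim X ≤ 1)
    (hfib : ∀ y : ↥(Spec (CommRingCat.of k)),
      topologicalKrullDim ↥((X ↘ Spec (CommRingCat.of k)).fiber y) ≤ ((1 : ℕ) : WithBot ℕ∞))
    {ω : X.Modules} {tr : Coh.HH X ω 1 →ₗ[k] k} (hω : Canon.IsRDualOver k X 1 ω tr) : Coh.IsCoh ω := by
  obtain ⟨n, i, hi, hcomp⟩ := S7645.result k X hdim
  haveI := hi
  obtain ⟨ω', tr', hcoh, h'⟩ := S13312.result k n 1 X i hcomp (by exact_mod_cast hdim)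
  obtain ⟨⟨ρ, hρ, -⟩, hiso⟩ := S13308.result k X 1 hfib ω ω' tr tr' hω h'
  haveI := hiso ρ hρ
  exact CohFound.isCoh_of_iso (asIso ρ) hcoh

/-- Connected reduced proper schemes over an algebraically closed field have only constant functions. -/
theorem h0_one [IsAlgClosed k] [IsProper (X ↘ Spec (CommRingCat.of k))] [IsReduced X] [ConnectedSpace X] :
    Module.finrank k (Coh.HH X (Coh.structureModule X) 0) = 1 := by
  haveI : GeometricallyReduced (X ↘ Spec (CommRingCat.of k)) :=
    GeomRed.geometricallyReduced_of_maximal fun η _ => GeomRed.isGeomReducedAt_of_perfectField η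
  haveI := GeomIrr.geometricallyConnected_of_isSepClosed (X ↘ Spec (CommRingCat.of k))
  exact S1536.result k X

/-- Modules supported at finitely many points have no maps to a dualizing module. -/
theorem eq_zero_of_suppIn {ω : X.Modules} {tr : Coh.HH X ω 1 →ₗ[k] k} (hω : Canon.IsRDualOver k X 1 ω tr)
    {M : X.Modules} (hM : Coh.IsQCoh M) {S : Finset X} (hS : SuppIn M S) (φ : M ⟶ ω) : φ = 0 := by
  haveI := hS.subsingleton_HH 0
  refine (hω.2 M hM).1 (LinearMap.ext fun z => ?_)
  rw [Subsingleton.elim z 0, map_zero, map_zero]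

variable {p : X} {L : X.Modules}

/-- The inclusion `O → O(p)`. -/
theorem exists_ptSection [IsAlgClosed k] [LocallyOfFiniteType (X ↘ Spec (CommRingCat.of k))]
    (hX : CurveLike k X) (hp : IsClosed ({p} : Set X))
    (hL : ClSub.IsInverseOf L (ClSub.idealMod (Scheme.IdealSheafData.vanishingIdeal (⟨{p}, hp⟩ : Closeds X)))) :
    ∃ (Q : X.Modules) (f : Coh.structureModule X ⟶ L) (g : L ⟶ Q) (w : f ≫ g = 0),
      (ShortComplex.mk f g w).ShortExact ∧ SuppIn Q ({p} : Finset X) ∧
      Module.finrank k (Coh.HH X Q 0) = 1 ∧ Module.Finite k (Coh.HH X Q 0) ∧ Coh.IsQCoh Q := by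
  haveI := hX.noetherian
  obtain ⟨e⟩ := hL
  have hinv : PicF.IsInvertible L := isInvertible_of_tensor_iso_unit _ _ e
  have h1 := (isInvertible_iff_isFinLocFreeOfRank_one L).1 hinv
  set Z := Scheme.IdealSheafData.vanishingIdeal (⟨{p}, hp⟩ : Closeds X)
  let S0 := pointSC hp L
  have hS0 : S0.ShortExact := twistSES hinv Z
  let e₁ : S0.X₁ ≅ Coh.structureModule X := tensorComm _ _ ≪≫ e
  let e₂ : S0.X₂ ≅ L := tensorLUnit L
  have hw : (e₁.inv ≫ S0.f ≫ e₂.hom) ≫ (e₂.inv ≫ S0.g) = 0 := by simp [S0.zero]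
  have i : S0 ≅ ShortComplex.mk _ _ hw := ShortComplex.isoMk e₁ e₂ (Iso.refl _) (by simp) (by simp)
  refine ⟨_, _, _, hw, ShortComplex.shortExact_of_iso i hS0, (suppIn_quotMod_point hp).tensor L, ?_, ?_, ?_⟩
  · have := (suppIn_quotMod_point hp).finrank_tensor (hX.fin _ (isCoh_quotMod Z) 0) L (nonempty_stalk_equiv h1)
    rw [finrank_quotMod_point, finrank_residueField hp, one_mul] at this
    exact this
  · exact (suppIn_quotMod_point hp).finite_tensor (hX.fin _ (isCoh_quotMod Z) 0) L (nonempty_stalk_equiv h1)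
  · exact (CurveCoh17.isCoh_tensor (isCoh_quotMod Z) (isCoh_of_ofRank h1)).1

theorem stalkLin_comp {A B C : X.Modules} (f : A ⟶ B) (g : B ⟶ C) (x : X) (a : A.presheaf.stalk x) :
    stalkLin (f ≫ g) x a = stalkLin g x (stalkLin f x a) := by
  rw [stalkLin_apply, Functor.map_comp]
  rfl

theorem eq_zero_of_stalk {A B : X.Modules} (f : A ⟶ B) (h : ∀ x a, stalkLin f x a = 0) : f = 0 := by
  refine Scheme.Modules.hom_ext _ _ fun U => ?_
  ext s
  refine M1.section_ext _ _ fun x hx => ?_
  refine (germ_naturality f U x hx s).symm.trans ((h x _).trans ?_)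
  rw [Scheme.Modules.Hom.zero_app]
  exact (map_zero _).symm

/-- The unit of the stalk of the structure module. -/
noncomputable abbrev one' (x : X) : (Coh.structureModule X).presheaf.stalk x := RH26.str x 1

theorem str_surj (x : X) (a : (Coh.structureModule X).presheaf.stalk x) :
    ∃ r : X.presheaf.stalk x, r • one' x = a :=
  ⟨(RH26.str x).symm a, by rw [← map_smul, smul_eq_mul, mul_one, LinearEquiv.apply_symm_apply]⟩

theorem germ_one' (x : X) : (Coh.structureModule X).presheaf.germ ⊤ x trivial (one ⊤) = one' x := by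
  rw [one', ← map_one (X.presheaf.germ ⊤ x trivial).hom]
  exact (RH26.str_one_germ (W := ⊤) trivial 1).symm

theorem secHom_one' {M : X.Modules} (t : Γ(M, (⊤ : X.Opens))) (x : X) :
    stalkLin (secHom t) x (one' x) = M.presheaf.germ ⊤ x trivial t := by
  rw [← germ_one', stalkLin_apply, germ_naturality, secHom_app_one]

/-- The twisted map `ω → ω ⊗ L` of a map `O → L`. -/
noncomputable def sigma (f : Coh.structureModule X ⟶ L) (ω : X.Modules) :
    CohB1.tensorMod (Coh.structureModule X) ω ⟶ CohB1.tensorMod ω L :=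
  tensorMap f (𝟙 ω) ≫ (tensorComm L ω).hom

theorem stalkLin_id {A : X.Modules} (x : X) (a : A.presheaf.stalk x) : stalkLin (𝟙 A) x a = a := by
  rw [stalkLin_apply, CategoryTheory.Functor.map_id]
  rfl

theorem sigma_stalk (f : Coh.structureModule X ⟶ L) (ω : X.Modules) (x : X)
    (a : (Coh.structureModule X).presheaf.stalk x) (y : ω.presheaf.stalk x) :
    stalkLin (sigma f ω) x ((stalkEquiv _ ω x).symm (a ⊗ₜ y)) = (stalkEquiv ω L x).symm (y ⊗ₜ stalkLin f x a) := by
  rw [sigma, stalkLin_comp, stalkLin_tensorMap_symm, stalkLin_id]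
  exact stalkLin_tensorComm_symm L ω x _ _

theorem exists_one_tmul (ω : X.Modules) (x : X)
    (a : (CohB1.tensorMod (Coh.structureModule X) ω).presheaf.stalk x) :
    ∃ y, (stalkEquiv (Coh.structureModule X) ω x).symm (one' x ⊗ₜ y) = a := by
  obtain ⟨t, rfl⟩ := (stalkEquiv (Coh.structureModule X) ω x).symm.surjective a
  induction t using TensorProduct.induction_on with
  | zero => exact ⟨0, by rw [TensorProduct.tmul_zero]⟩
  | tmul r y =>
    obtain ⟨r, rfl⟩ := str_surj x r
    exact ⟨r • y, by rw [TensorProduct.smul_tmul]⟩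
  | add a b ha hb =>
    obtain ⟨y, hy⟩ := ha
    obtain ⟨z, hz⟩ := hb
    exact ⟨y + z, by rw [TensorProduct.tmul_add, map_add, map_add, hy, hz]⟩

theorem exists_tmul_gen {M : X.Modules} {x : X} {g : L.presheaf.stalk x} (hg : Amp.Gen g) :
    ∃ θ : (CohB1.tensorMod M L).presheaf.stalk x ≃ₗ[X.presheaf.stalk x] M.presheaf.stalk x,
      ∀ y : M.presheaf.stalk x, θ ((stalkEquiv M L x).symm (y ⊗ₜ g)) = y := by
  let l : X.presheaf.stalk x ≃ₗ[X.presheaf.stalk x] L.presheaf.stalk x :=
    LinearEquiv.ofBijective (LinearMap.toSpanSingleton _ _ g) hg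
  refine ⟨(stalkEquiv M L x).trans ((LinearEquiv.lTensor (M.presheaf.stalk x) l.symm).trans (TensorProduct.rid _ _)),
    fun y => ?_⟩
  have : l.symm g = 1 := l.injective (by
    rw [LinearEquiv.apply_symm_apply]
    exact (one_smul (X.presheaf.stalk x) g).symm)
  simp [this]

end Groth.Agent.KS29.NsPoint
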