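import Groth.Agent.Lib.KS29.NsPointMain

/-!
# Generation of the dualizing module at the point
-/

set_option linter.style.haveILetI false
set_option autoImplicit false
set_option maxHeartbeats 1600000
set_option backward.isDefEq.respectTransparency false

universe u

open CategoryTheory TopologicalSpace Opposite CategoryTheory.Limits AlgebraicGeometry TensorProduct

namespace Groth.Agent.KS29.NsPoint

open Groth.Agent.M1 Groth.Agent.M2 Groth.Agent.CurveCoh17

variable {k : Type u} [Field k] {X : Scheme.{u}} [X.Over (Spec (CommRingCat.of k))]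
  {p : X} {L Q ω : X.Modules} {tr : Coh.HH X ω 1 →ₗ[k] k}
  {f : Coh.structureModule X ⟶ L} {g : L ⟶ Q} {w : f ≫ g = 0}

attribute [local instance] stalkMod Curv2.resAlgebra

variable (hω : Canon.IsRDualOver k X 1 ω tr) (hcoh : Coh.IsCoh ω)
  (hS : (ShortComplex.mk f g w).ShortExact) (hQ : SuppIn Q ({p} : Finset X))
  (hQqc : Coh.IsQCoh Q)
  {gL : L.presheaf.stalk p} (hgL : Amp.Gen gL) {c : X.presheaf.stalk p} (hc : stalkLin f p (one' p) = c • gL)
  (hcm : c ∈ IsLocalRing.maximalIdeal (X.presheaf.stalk p)) (hc0 : c ≠ 0)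

include hω hS hQ hQqc hgL hc hcm in
/-- A map from `O(p)` to the dualizing module gives a section vanishing at `p`. -/
theorem subsingleton_of_genLocus
    (h : ∀ s : Coh.structureModule X ⟶ ω, s ≠ 0 → p ∈ CohB1.genLocus ω s) (φ : L ⟶ ω) : φ = 0 := by
  by_contra hne
  have hs : f ≫ φ ≠ 0 := by
    intro h0
    obtain ⟨ψ, hψ⟩ := CokernelCofork.IsColimit.desc' hS.gIsCokernel φ h0
    refine hne (hψ.symm.trans ?_)
    rw [eq_zero_of_suppIn hω hQqc hQ ψ]
    exact comp_zero
  obtain ⟨U, hpU, hU⟩ := Twist.exists_of_mem_genLocus (h _ hs)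
  have hb : Function.Bijective (stalkLin (f ≫ φ) p) :=
    bijective_stalkMap_of_app (f ≫ φ) U ((Twist.isIso_restrict_map_iff _ U).1 hU) hpU
  obtain ⟨a, ha⟩ := hb.2 (stalkLin φ p gL)
  obtain ⟨r, rfl⟩ := str_surj p a
  rw [map_smul, stalkLin_comp, hc, map_smul, smul_smul] at ha
  have h1 : (1 - r * c) • stalkLin φ p gL = 0 := by rw [sub_smul, one_smul, ha, sub_self]
  have hu : IsUnit (1 - r * c) :=
    IsLocalRing.isUnit_one_sub_self_of_mem_nonunits _ (Ideal.mul_mem_left _ r hcm)
  have h2 : stalkLin (f ≫ φ) p (one' p) = 0 := by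
    rw [stalkLin_comp, hc, map_smul, (hu.smul_eq_zero).1 h1, smul_zero]
  exact one_ne_zero ((RH26.str p).map_eq_zero_iff.1 (hb.1 (h2.trans (map_zero _).symm)))

include hω hcoh hS hQ hgL hc hcm hc0 in
/-- If no map from `O(p)` exists, every nonzero section generates at `p`. -/
theorem mem_genLocus_of_subsingleton [IsAlgClosed k] [LocallyOfFiniteType (X ↘ Spec (CommRingCat.of k))]
    [IsDomain (X.presheaf.stalk p)] [IsPrincipalIdealRing (X.presheaf.stalk p)]
    (hX : CurveLike k X) (h0 : Module.finrank k (Coh.HH X (Coh.structureModule X) 0) = 1)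
    (hg : Curv2.genus k X = 1) (hp : IsClosed ({p} : Set X))
    (eL : CohB1.tensorMod L (ClSub.idealMod (Scheme.IdealSheafData.vanishingIdeal (⟨{p}, hp⟩ : Closeds X))) ≅
      Coh.structureModule X)
    (hL1 : Subsingleton (Coh.HH X L 1)) (s : Coh.structureModule X ⟶ ω) (hs : s ≠ 0) :
    p ∈ CohB1.genLocus ω s := by
  haveI := hX.noetherian
  have hL : PicF.IsInvertible L := isInvertible_of_tensor_iso_unit _ _ eL
  haveI := mono_sigma hω hcoh hS hQ hL
  obtain ⟨θ, hθ⟩ := exists_tmul_gen (M := ω) hgL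
  set v := stalkLin s p (one' p)
  have hv : ∀ y, v ≠ c • y := by
    intro y hy
    let τ : CohB1.tensorMod (Coh.structureModule X) L ⟶ CohB1.tensorMod ω L := tensorMap s (𝟙 L)
    have hτ : τ ≫ cokernel.π (sigma f ω) = 0 := by
      refine eq_zero_of_stalk _ fun x a => ?_
      by_cases hx : x = p
      · subst hx
        obtain ⟨l, rfl⟩ := exists_one_tmul L x a
        obtain ⟨r, rfl⟩ := hgL.2 l
        show stalkLin (τ ≫ cokernel.π (sigma f ω)) x ((stalkEquiv _ L x).symm (one' x ⊗ₜ (r • gL))) = 0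
        have e1 : stalkLin τ x ((stalkEquiv _ L x).symm (one' x ⊗ₜ (r • gL))) =
            stalkLin (sigma f ω) x ((stalkEquiv _ ω x).symm (one' x ⊗ₜ (r • y))) := by
          rw [sigma_stalk, stalkLin_tensorMap_symm, stalkLin_id, hc]
          change (stalkEquiv ω L x).symm (v ⊗ₜ (r • gL)) = _
          rw [hy, TensorProduct.smul_tmul, TensorProduct.smul_tmul, smul_smul, smul_smul, mul_comm]
        rw [stalkLin_comp, e1, ← stalkLin_comp, cokernel.condition]
        exact stalkLin_zero' x _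
      · exact (suppIn_cokernel (ω := ω) hS hQ).zero x (by simpa using hx) _
    let φ₀ := Abelian.monoLift (sigma f ω) τ hτ
    have hφ : (tensorLUnit L).inv ≫ φ₀ ≫ (tensorLUnit ω).hom = 0 :=
      (hω.2 L (isCoh_of_ofRank ((isInvertible_iff_isFinLocFreeOfRank_one L).1 hL)).1).1
        (LinearMap.ext fun z => by rw [Subsingleton.elim z 0, map_zero, map_zero])
    have hφ₀ : φ₀ = 0 := (cancel_mono (tensorLUnit ω).hom).1
      (((cancel_epi (tensorLUnit L).inv).1 (hφ.trans comp_zero.symm)).trans zero_comp.symm)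
    haveI := VB17.isEquivalence_tensorR hL
    refine hs ((tensorR L).map_injective (Eq.trans ?_ (Functor.map_zero (tensorR L) _ _).symm))
    show τ = 0
    rw [← Abelian.monoLift_comp (sigma f ω) τ hτ, show Abelian.monoLift (sigma f ω) τ hτ = 0 from hφ₀, zero_comp]
  have hsupp := suppIn_cokernel (ω := ω) hS hQ
  have hfinQ : Module.Finite k (Coh.HH X (cokernel (sigma f ω)) 0) := hX.fin _
    ⟨M1.isQCoh_cokernel (CurveCoh17.isCoh_tensor CurveCoh17.isCoh_structureModule hcoh).1
      (CurveCoh17.isCoh_tensor hcoh (isCoh_of_ofRank ((isInvertible_iff_isFinLocFreeOfRank_one L).1 hL))).1 _,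
      M1.isFT_of_epi (cokernel.π _)
        (CurveCoh17.isCoh_tensor hcoh (isCoh_of_ofRank ((isInvertible_iff_isFinLocFreeOfRank_one L).1 hL))).2⟩ 0
  have hexact : ∀ y, stalkLin (cokernel.π (sigma f ω)) p ((stalkEquiv ω L p).symm (y ⊗ₜ gL)) = 0 →
      ∃ y', y = c • y' := by
    intro y hy
    obtain ⟨a, ha⟩ := (exact_iff_stalk_eq_zero (ShortComplex.mk (sigma f ω) (cokernel.π _) (cokernel.condition _))).1
      (ShortComplex.exact_of_g_is_cokernel _ (cokernelIsCokernel _)) p _ hy
    obtain ⟨y', rfl⟩ := exists_one_tmul ω p a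
    refine ⟨y', ?_⟩
    have := congrArg θ ha
    change θ (stalkLin (sigma f ω) p _) = _ at this
    rw [sigma_stalk, hc, ← TensorProduct.smul_tmul, hθ, hθ] at this
    exact this.symm
  -- one element spans the fibre
  obtain ⟨z₀, hz₀⟩ := (hsupp.h0Equiv k).surjective fun i =>
    (Finset.mem_singleton.1 i.2).symm ▸ stalkLin (cokernel.π (sigma f ω)) p ((stalkEquiv ω L p).symm (v ⊗ₜ gL))
  have hz₀' : h0germ k (cokernel (sigma f ω)) p z₀ =
      stalkLin (cokernel.π (sigma f ω)) p ((stalkEquiv ω L p).symm (v ⊗ₜ gL)) :=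
    congrFun hz₀ ⟨p, Finset.mem_singleton_self p⟩
  have hne : z₀ ≠ 0 := by
    rintro rfl
    rw [map_zero] at hz₀'
    obtain ⟨y, hy⟩ := hexact v hz₀'.symm
    exact hv y hy
  have hspan : ∀ y : ω.presheaf.stalk p, ∃ (a : X.presheaf.stalk p) (y' : ω.presheaf.stalk p), y = a • v + c • y' := by
    intro y
    obtain ⟨z, hz⟩ := (hsupp.h0Equiv k).surjective fun i =>
      (Finset.mem_singleton.1 i.2).symm ▸ stalkLin (cokernel.π (sigma f ω)) p ((stalkEquiv ω L p).symm (y ⊗ₜ gL))
    have hz' : h0germ k (cokernel (sigma f ω)) p z =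
        stalkLin (cokernel.π (sigma f ω)) p ((stalkEquiv ω L p).symm (y ⊗ₜ gL)) :=
      congrFun hz ⟨p, Finset.mem_singleton_self p⟩
    have hr := finrank_cokernel_le hω hcoh hS hQ hX h0 hg hp eL
    haveI : Nontrivial (Coh.HH X (cokernel (sigma f ω)) 0) := ⟨⟨z₀, 0, hne⟩⟩
    have hr1 := Module.finrank_pos (R := k) (M := Coh.HH X (cokernel (sigma f ω)) 0)
    obtain ⟨a, rfl⟩ := exists_smul_eq_of_finrank_eq_one (le_antisymm hr hr1) hne z
    rw [map_smul, hz₀'] at hz'
    refine ⟨stalkRingMap k p a, ?_⟩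
    obtain ⟨y', hy'⟩ := hexact (y - stalkRingMap k p a • v) (by
      rw [TensorProduct.sub_tmul, map_sub, map_sub, ← TensorProduct.smul_tmul', map_smul, map_smul, ← hz']
      exact sub_self _)
    exact ⟨y', by rw [← hy']; abel⟩
  haveI := M1.finite_stalk hcoh.1 (M1.isFP_isFT (M1.isFP_of_isCoh hcoh)) p
  have hgen : Function.Surjective fun r : X.presheaf.stalk p => r • v := by
    have hle : (⊤ : Submodule (X.presheaf.stalk p) (ω.presheaf.stalk p)) ≤ Submodule.span _ {v} :=
      Submodule.le_of_le_smul_of_le_jacobson_bot Module.Finite.fg_top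
        (IsLocalRing.maximalIdeal_le_jacobson ⊥) fun y _ => by
          obtain ⟨a, y', rfl⟩ := hspan y
          exact Submodule.add_mem_sup (Submodule.smul_mem _ a (Submodule.subset_span rfl))
            (Submodule.smul_mem_smul hcm trivial)
    intro y
    exact Submodule.mem_span_singleton.1 (hle (trivial : y ∈ (⊤ : Submodule (X.presheaf.stalk p) _)))
  have hv0 : v ≠ 0 := fun h => hv 0 (by rw [h, smul_zero])
  have hinj : ∀ r : X.presheaf.stalk p, r • v = 0 → r = 0 := by
    intro r hr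
    by_contra hr0
    have hrad : c ∈ (Ideal.span {r}).radical := by
      rw [Ideal.radical_eq_sInf, Submodule.mem_sInf]
      rintro J ⟨hJ, hJp⟩
      have hJ0 : J ≠ ⊥ := fun h => hr0 (by simpa [h] using hJ (Ideal.subset_span (Set.mem_singleton r)))
      rw [IsLocalRing.eq_maximalIdeal (Ideal.IsPrime.isMaximal hJp hJ0)]
      exact hcm
    obtain ⟨m, hm⟩ := hrad
    obtain ⟨b, hb⟩ := Ideal.mem_span_singleton'.1 hm
    have hcv : ∀ m : ℕ, c ^ m • v = 0 → v = 0 := fun m => by
      induction m with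
      | zero => intro h; rwa [pow_zero, one_smul] at h
      | succ m ih => intro h; exact ih (regular_coord hω hcoh hS hQ hgL hc hL (by rwa [smul_smul, ← pow_succ']))
    exact hv0 (hcv m (by rw [← hb, ← smul_smul, hr, smul_zero]))
  have hGen : Amp.Gen v := ⟨fun a b hab => sub_eq_zero.1 (hinj _ (by rw [sub_smul]; exact sub_eq_zero.2 hab)), hgen⟩
  obtain ⟨W, hpW, e, he, heg⟩ := RH26.exists_isGenerator_nhd hcoh hGen
  obtain ⟨t, rfl⟩ : ∃ t : Γ(ω, (⊤ : X.Opens)), s = secHom t := ⟨_, Twist.eq_secHom s⟩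
  have hv' : (ω.presheaf.germ W p hpW e : ω.presheaf.stalk p) = ω.presheaf.germ ⊤ p trivial t :=
    heg.trans (secHom_one' t p)
  obtain ⟨W', hpW', i₁, i₂, hres⟩ := ω.presheaf.germ_eq p (U := W) (V := ⊤) hpW trivial e t hv'
  refine Twist.le_genLocus ((Twist.isIso_restrict_secHom_iff t W').2 fun V hV => ?_) hpW'
  have : M1.mres ω (le_top : V ≤ ⊤) t = M2.res ω (hV.trans i₁.le) e := by
    have h := congrArg (ω.presheaf.map (homOfLE hV).op) hres
    simp only [← ConcreteCategory.comp_apply, ← Functor.map_comp] at h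
    exact h.symm
  rw [this]
  exact he V _

end Groth.Agent.KS29.NsPoint
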