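import Groth.Agent.Lib.KS29.NsPoint

/-!
# A section of the dualizing module at a smooth point in genus one
-/

set_option linter.style.haveILetI false
set_option autoImplicit false
set_option maxHeartbeats 1600000
set_option backward.isDefEq.respectTransparency false

universe u

open CategoryTheory TopologicalSpace Opposite CategoryTheory.Limits AlgebraicGeometry TensorProduct

namespace Groth.Agent.KS29.NsPoint

open Groth.Agent.M1 Groth.Agent.M2 Groth.Agent.CurveCoh17

variable {k : Type u} [Field k] {X : Scheme.{u}} [X.Over (Spec (CommRingCat.of k))]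
  {p : X} {L Q ω : X.Modules} {tr : Coh.HH X ω 1 →ₗ[k] k}
  {f : Coh.structureModule X ⟶ L} {g : L ⟶ Q} {w : f ≫ g = 0}

attribute [local instance] stalkMod Curv2.resAlgebra

theorem surj_off (hS : (ShortComplex.mk f g w).ShortExact) (hQ : SuppIn Q ({p} : Finset X)) {z : X} (hz : z ≠ p) :
    Function.Surjective (stalkLin f z) := fun b =>
  (exact_iff_stalk_eq_zero _).1 hS.exact z b (hQ.zero z (by simpa using hz) _)

theorem stalkLin_zero' {A B : X.Modules} (z : X) (a : A.presheaf.stalk z) : stalkLin (0 : A ⟶ B) z a = 0 := by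
  rw [stalkLin_apply, Functor.map_zero]
  rfl

theorem inj_all (hS : (ShortComplex.mk f g w).ShortExact) (z : X) : Function.Injective (stalkLin f z) := by
  haveI : Mono f := hS.mono_f
  exact (mono_iff_stalk f).1 inferInstance z

/-- The section of `O(p)` vanishes at `p`, to finite order. -/
theorem exists_coord (hS : (ShortComplex.mk f g w).ShortExact) (hQ : SuppIn Q ({p} : Finset X))
    (h1 : Module.finrank k (Coh.HH X Q 0) = 1) {gL : L.presheaf.stalk p} (hgL : Amp.Gen gL) :
    ∃ c : X.presheaf.stalk p, stalkLin f p (one' p) = c • gL ∧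
      c ∈ IsLocalRing.maximalIdeal (X.presheaf.stalk p) ∧ c ≠ 0 := by
  obtain ⟨c, hc⟩ := hgL.2 (stalkLin f p (one' p))
  refine ⟨c, hc.symm, ?_, ?_⟩
  · by_contra hu
    rw [IsLocalRing.mem_maximalIdeal, mem_nonunits_iff, not_not] at hu
    obtain ⟨v, hv⟩ := hu
    have hQ0 : ∀ q : Q.presheaf.stalk p, q = 0 := fun q => by
      haveI : Epi g := hS.epi_g
      obtain ⟨b, rfl⟩ := (epi_iff_stalk g).1 inferInstance p q
      obtain ⟨r, hr⟩ := hgL.2 b
      have hb : stalkLin f p ((r * (↑v⁻¹ : X.presheaf.stalk p)) • one' p) = b := by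
        rw [map_smul, ← hc, smul_smul, mul_assoc, ← hv, Units.inv_mul, mul_one]
        exact hr
      show stalkLin g p b = 0
      rw [← hb, ← stalkLin_comp, w]
      exact stalkLin_zero' p _
    haveI : Subsingleton (Coh.HH X Q 0) := ⟨fun a b => (hQ.h0Equiv k).injective (funext fun i => by
      obtain ⟨i, hi⟩ := i
      obtain rfl := Finset.mem_singleton.1 hi
      exact (hQ0 _).trans (hQ0 _).symm)⟩
    rw [Module.finrank_zero_of_subsingleton] at h1
    exact zero_ne_one h1
  · rintro rfl
    have h0 : one' p = 0 := inj_all hS p (by rw [← hc, map_zero]; exact zero_smul (X.presheaf.stalk p) gL)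
    exact one_ne_zero ((RH26.str p).map_eq_zero_iff.1 h0)

variable (hω : Canon.IsRDualOver k X 1 ω tr) (hcoh : Coh.IsCoh ω)
  (hS : (ShortComplex.mk f g w).ShortExact) (hQ : SuppIn Q ({p} : Finset X))
  {gL : L.presheaf.stalk p} (hgL : Amp.Gen gL) {c : X.presheaf.stalk p} (hc : stalkLin f p (one' p) = c • gL)

include hω hcoh hS hQ in
theorem mono_sigma [IsNoetherian X] (hL : PicF.IsInvertible L) : Mono (sigma f ω) := by
  refine Preadditive.mono_of_kernel_zero ?_
  have hO : Coh.IsCoh (CohB1.tensorMod (Coh.structureModule X) ω) :=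
    CurveCoh17.isCoh_tensor CurveCoh17.isCoh_structureModule hcoh
  have hq : Coh.IsQCoh (kernel (sigma f ω)) := by
    exact M1.isQCoh_kernel hO.1 (CurveCoh17.isCoh_tensor hcoh
      (isCoh_of_ofRank ((isInvertible_iff_isFinLocFreeOfRank_one L).1 hL))).1 _
  have hsupp : SuppIn (kernel (sigma f ω)) ({p} : Finset X) := by
    refine ⟨fun z hz => hQ.closed z hz, fun z hz a => ?_⟩
    refine (mono_iff_stalk (kernel.ι (sigma f ω))).1 inferInstance z ?_
    rw [map_zero]
    have ha : stalkLin (sigma f ω) z (stalkLin (kernel.ι (sigma f ω)) z a) = 0 := by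
      rw [← stalkLin_comp, kernel.condition]
      exact stalkLin_zero' z a
    obtain ⟨y, hy⟩ := exists_one_tmul ω z (stalkLin (kernel.ι (sigma f ω)) z a)
    show stalkLin (kernel.ι (sigma f ω)) z a = 0
    rw [← hy] at ha ⊢
    rw [sigma_stalk] at ha
    let l : (Coh.structureModule X).presheaf.stalk z ≃ₗ[X.presheaf.stalk z] L.presheaf.stalk z :=
      LinearEquiv.ofBijective (stalkLin f z) ⟨inj_all hS z, surj_off hS hQ (by simpa using hz)⟩
    have h2 := congrArg (fun t => (TensorProduct.comm _ _ _)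
      ((LinearEquiv.lTensor (ω.presheaf.stalk z) l.symm) (stalkEquiv ω L z t))) ha
    simp only [LinearEquiv.apply_symm_apply, LinearEquiv.lTensor_tmul, map_zero, TensorProduct.comm_tmul] at h2
    rw [show l.symm (stalkLin f z (one' z)) = one' z from l.symm_apply_apply _] at h2
    rw [h2, map_zero]
  have hn := eq_zero_of_suppIn hω hq hsupp (kernel.ι (sigma f ω) ≫ (tensorLUnit ω).hom)
  rw [← cancel_mono (tensorLUnit ω).hom, hn, zero_comp]

include hω hcoh hS hQ hgL hc in
theorem regular_coord [IsNoetherian X] (hL : PicF.IsInvertible L) {y : ω.presheaf.stalk p} (hy : c • y = 0) : y = 0 := by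
  haveI := mono_sigma hω hcoh hS hQ hL
  have h : stalkLin (sigma f ω) p ((stalkEquiv _ ω p).symm (one' p ⊗ₜ y)) = 0 := by
    rw [sigma_stalk, hc, ← TensorProduct.smul_tmul, hy, TensorProduct.zero_tmul, map_zero]
  have h' := (mono_iff_stalk (sigma f ω)).1 inferInstance p (h.trans (map_zero _).symm)
  replace h' := (LinearEquiv.map_eq_zero_iff _).1 h'
  have h2 := congrArg (fun t => TensorProduct.lid (X.presheaf.stalk p) (ω.presheaf.stalk p)
    ((LinearEquiv.rTensor (ω.presheaf.stalk p) (RH26.str p).symm) t)) h'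
  simpa using h2

include hS hQ in
theorem suppIn_cokernel : SuppIn (cokernel (sigma f ω)) ({p} : Finset X) := by
  refine ⟨fun z hz => hQ.closed z hz, fun z hz a => ?_⟩
  obtain ⟨b, rfl⟩ := (epi_iff_stalk (cokernel.π (sigma f ω))).1 inferInstance z a
  show stalkLin (cokernel.π (sigma f ω)) z b = 0
  obtain ⟨t, rfl⟩ := (stalkEquiv ω L z).symm.surjective b
  induction t using TensorProduct.induction_on with
  | zero => rw [map_zero, map_zero]
  | tmul y l =>
    obtain ⟨a, rfl⟩ := surj_off hS hQ (by simpa using hz) l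
    rw [← sigma_stalk, ← stalkLin_comp, cokernel.condition]
    exact stalkLin_zero' z _
  | add u v hu hv => rw [map_add, map_add, hu, hv, add_zero]

theorem twist_step [IsAlgClosed k] [LocallyOfFiniteType (X ↘ Spec (CommRingCat.of k))]
    (hX : CurveLike k X) (hp : IsClosed ({p} : Set X)) {N : X.Modules} (hN : PicF.IsInvertible N) :
    Module.finrank k (Coh.HH X (CohB1.tensorMod N
      (ClSub.idealMod (Scheme.IdealSheafData.vanishingIdeal (⟨{p}, hp⟩ : Closeds X)))) 0) ≤
      Module.finrank k (Coh.HH X N 0) ∧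
    Curv2.euler k X (CohB1.tensorMod N
      (ClSub.idealMod (Scheme.IdealSheafData.vanishingIdeal (⟨{p}, hp⟩ : Closeds X)))) =
      Curv2.euler k X N - 1 := by
  haveI := hX.noetherian
  have hN1 := (isInvertible_iff_isFinLocFreeOfRank_one N).1 hN
  refine ⟨by rw [(finrank_twist_point hX hN hp).2]; exact Nat.le_add_right _ _, ?_⟩
  have h1 := (suppIn_quotMod_point hp).finrank_tensor
    (hX.fin _ (isCoh_quotMod (Scheme.IdealSheafData.vanishingIdeal (⟨{p}, hp⟩ : Closeds X))) 0) N (nonempty_stalk_equiv hN1)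
  rw [finrank_quotMod_point, finrank_residueField hp, one_mul] at h1
  have hf3 := (suppIn_quotMod_point hp).finite_tensor
    (hX.fin _ (isCoh_quotMod (Scheme.IdealSheafData.vanishingIdeal (⟨{p}, hp⟩ : Closeds X))) 0) N (nonempty_stalk_equiv hN1)
  have hadd := euler_add (S := pointSC hp N) (twistSES hN _)
    (hX.adm (CurveCoh17.isCoh_tensor (isCoh_idealMod _) (isCoh_of_ofRank hN1)))
    (((suppIn_quotMod_point hp).tensor N).adm hf3)
  change Curv2.euler k X (CohB1.tensorMod (Coh.structureModule X) N) = _ + Curv2.euler k X (CohB1.tensorMod _ N) at hadd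
  rw [euler_iso (tensorLUnit N), ((suppIn_quotMod_point hp).tensor N).euler_eq hf3, h1] at hadd
  simp only [Nat.cast_one] at hadd
  rw [euler_iso (tensorComm N _)]
  exact eq_sub_of_add_eq hadd.symm

include hω hcoh hS hQ in
/-- The twisted section bound: the fibre of a dualizing module has dimension at most one. -/
theorem finrank_cokernel_le [IsAlgClosed k] [LocallyOfFiniteType (X ↘ Spec (CommRingCat.of k))]
    (hX : CurveLike k X) (h0 : Module.finrank k (Coh.HH X (Coh.structureModule X) 0) = 1)
    (hg : Curv2.genus k X = 1) (hp : IsClosed ({p} : Set X))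
    (eL : CohB1.tensorMod L (ClSub.idealMod (Scheme.IdealSheafData.vanishingIdeal (⟨{p}, hp⟩ : Closeds X))) ≅
      Coh.structureModule X) :
    Module.finrank k (Coh.HH X (cokernel (sigma f ω)) 0) ≤ 1 := by
  haveI := hX.noetherian
  have hL : PicF.IsInvertible L := isInvertible_of_tensor_iso_unit _ _ eL
  haveI := mono_sigma hω hcoh hS hQ hL
  set Z := Scheme.IdealSheafData.vanishingIdeal (⟨{p}, hp⟩ : Closeds X)
  set I := ClSub.idealMod Z
  have hI : PicF.IsInvertible I := isInvertible_of_tensor_iso_unit _ _ (tensorComm I L ≪≫ eL)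
  have hL1 := (isInvertible_iff_isFinLocFreeOfRank_one L).1 hL
  have hsupp := suppIn_cokernel (ω := ω) hS hQ
  have hcohQ : Coh.IsCoh (cokernel (sigma f ω)) := by
    have h := CurveCoh17.isCoh_tensor hcoh (isCoh_of_ofRank hL1)
    exact ⟨M1.isQCoh_cokernel (CurveCoh17.isCoh_tensor CurveCoh17.isCoh_structureModule hcoh).1 h.1 _,
      M1.isFT_of_epi (cokernel.π _) h.2⟩
  have hfinQ := hX.fin _ hcohQ 0
  let T : ShortComplex X.Modules := ShortComplex.mk (sigma f ω) (cokernel.π _) (cokernel.condition _)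
  have hT : T.ShortExact :=
    { exact := ShortComplex.exact_of_g_is_cokernel _ (cokernelIsCokernel _) }
  set r := Module.finrank k (Coh.HH X (cokernel (sigma f ω)) 0)
  have hχO : Curv2.euler k X (Coh.structureModule X) = 0 := by
    rw [hX.euler_structureModule, h0, hg]; simp
  have key : ∀ n : ℕ, ∃ (N N' : X.Modules), PicF.IsInvertible N ∧ PicF.IsInvertible N' ∧
      Nonempty (CohB1.tensorMod N' N ≅ Coh.structureModule X) ∧
      Module.finrank k (Coh.HH X N 0) ≤ 1 ∧ Curv2.euler k X N = -(n : ℤ) ∧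
      Curv2.euler k X (CohB1.tensorMod ω N') = Curv2.euler k X ω + n * r := by
    intro n
    induction n with
    | zero =>
      exact ⟨_, _, PicLoc.isInvertible_structureModule X, PicLoc.isInvertible_structureModule X,
        ⟨tensorLUnit _⟩, h0.le, by rw [hχO]; simp, by rw [euler_iso (tensorRUnit ω)]; simp⟩
    | succ n ih =>
      obtain ⟨N, N', hN, hN', ⟨e⟩, hh, he, hw'⟩ := ih
      have hN1 := (isInvertible_iff_isFinLocFreeOfRank_one N).1 hN
      have hN'1 := (isInvertible_iff_isFinLocFreeOfRank_one N').1 hN'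
      refine ⟨CohB1.tensorMod N I, CohB1.tensorMod L N', isInvertible_tensor hN hI, isInvertible_tensor hL hN',
        ⟨tensorAssoc L N' (CohB1.tensorMod N I) ≪≫ tensorIso (Iso.refl L)
          ((tensorAssoc N' N I).symm ≪≫ tensorIso e (Iso.refl I) ≪≫ tensorLUnit I) ≪≫ eL⟩,
        (twist_step hX hp hN).1.trans hh, ?_, ?_⟩
      · rw [(twist_step hX hp hN).2, he]
        push_cast
        ring
      · have hT' : (T.map (tensorR N')).ShortExact :=
          shortExact_tensorR hT N' fun x => VB17.flat_stalk_of_rank hN'1 x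
        have hf3 := hsupp.finite_tensor hfinQ N' (nonempty_stalk_equiv hN'1)
        have hh3 := hsupp.finrank_tensor hfinQ N' (nonempty_stalk_equiv hN'1)
        rw [one_mul] at hh3
        have hadd := euler_add hT' (hX.adm (CurveCoh17.isCoh_tensor
          (CurveCoh17.isCoh_tensor CurveCoh17.isCoh_structureModule hcoh) (isCoh_of_ofRank hN'1))) ((hsupp.tensor N').adm hf3)
        change Curv2.euler k X (CohB1.tensorMod (CohB1.tensorMod ω L) N') =
          Curv2.euler k X (CohB1.tensorMod (CohB1.tensorMod (Coh.structureModule X) ω) N') +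
          Curv2.euler k X (CohB1.tensorMod (cokernel (sigma f ω)) N') at hadd
        rw [euler_iso (tensorAssoc ω L N'), euler_iso (tensorIso (tensorLUnit ω) (Iso.refl N')), hw',
          (hsupp.tensor N').euler_eq hf3, hh3] at hadd
        rw [hadd]
        push_cast
        ring
  by_contra hr
  push Not at hr
  obtain ⟨N, N', hN, hN', ⟨e⟩, hh, he, hw'⟩ := key ((Curv2.euler k X ω).natAbs + 2)
  have hN1 := (isInvertible_iff_isFinLocFreeOfRank_one N).1 hN
  have hON := CurveCoh17.isCoh_tensor (CurveCoh17.isCoh_structureModule (X := X)) (isCoh_of_ofRank hN1)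
  haveI := hX.fin _ hON 1
  have hinj : Function.Injective (VB17.pairFun k e ω tr) := by
    rw [injective_iff_map_eq_zero]
    intro z hz
    have hh0 : VB17.homOf e ω z = 0 := (hω.2 _ hON.1).1 (by
      refine Eq.trans ?_ (LinearMap.ext fun x => ?_ : (0 : Coh.HH X _ 1 →ₗ[k] k) = _)
      · exact (VB17.pairFun_apply e ω tr z).symm.trans hz
      · show (0 : k) = tr (hmap k (0 : _ ⟶ ω) 1 x)
        rw [hmap_zero, map_zero])
    have h2 : tensorMap (secHom (CurveCoh17.hh0 (CohB1.tensorMod ω N') z)) (𝟙 N) = 0 :=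
      (cancel_mono (untwist e ω).hom).1 (hh0.trans zero_comp.symm)
    haveI := VB17.isEquivalence_tensorR hN
    have h3 : secHom (CurveCoh17.hh0 (CohB1.tensorMod ω N') z) = 0 := (tensorR N).map_injective (h2.trans (Functor.map_zero (tensorR N) _ _).symm)
    refine (CurveCoh17.hh0 _).injective ?_
    rw [map_zero, ← secHom_app_one (CurveCoh17.hh0 _ z), h3]
    rfl
  have hle := (LinearMap.finrank_le_finrank_of_injective hinj).trans_eq Subspace.dual_finrank_eq
  rw [(hequiv k (tensorLUnit N) 1).finrank_eq] at hle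
  have hA := (hX.adm (CurveCoh17.isCoh_tensor hcoh
    (isCoh_of_ofRank ((isInvertible_iff_isFinLocFreeOfRank_one N').1 hN')))).euler_eq
  rw [(hX.adm (isCoh_of_ofRank hN1)).euler_eq] at he
  rw [hw'] at hA
  have h5 := Nat.mul_le_mul_left ((Curv2.euler k X ω).natAbs + 2) (show 2 ≤ r from hr)
  have h6 := Int.le_natAbs (a := -Curv2.euler k X ω)
  rw [Int.natAbs_neg] at h6
  generalize (Curv2.euler k X ω).natAbs = a at h5 h6 he hA
  zify at h5 hle hh
  push_cast at he hA h5 h6
  linarith

end Groth.Agent.KS29.NsPoint
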