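import Groth.Agent.Lib.KS29.PicType

/-!
# Picard classes carried by isotypical modules
-/

set_option autoImplicit false
set_option linter.style.haveILetI false
set_option linter.unusedSectionVars false
set_option backward.isDefEq.respectTransparency false
set_option backward.isDefEq.respectTransparency.types false

universe u

open CategoryTheory CategoryTheory.Limits AlgebraicGeometry

noncomputable section

namespace Groth.Agent.KS29

open Groth.Agent W4c1astiltbs12

variable {k : Type u} [Field k] {X : Scheme.{u}} {p : X ⟶ Spec (CommRingCat.of k)}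
variable {K : Type u} [Field K] [Algebra k K]
variable [PicGrp.Law X] [PicGrp.Law (W4bk4gw11416.baseChange p K)]

variable (p K) in
/-- The classes upstairs carried by a nonzero isotypical module downstairs. -/
def Carried (c : PicLoc.PicSet (W4bk4gw11416.baseChange p K)) : Prop :=
  ∃ (N : (W4bk4gw11416.baseChange p K).Modules) (hN : PicF.IsInvertible N) (V : X.Modules) (d : ℕ),
    PicGrp.cls N hN = c ∧ FlatMod.IsFinLocFree V ∧ 0 < d ∧ Nonempty (bcMod p K V ≅ pow N d)

theorem carried_pullHom (hπ : PicGrp.PullMul (proj p K)) (c : PicLoc.PicSet X) :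
    Carried p K (PicGrp.pullHom (proj p K) hπ c) := by
  obtain ⟨J, hJ, rfl⟩ := PicGrp.exists_eq_cls c
  exact ⟨bcMod p K J, PicLoc.isInvertible_pullback (proj p K) hJ, J, 1, (PicGrp.pullHom_cls _ hπ J hJ).symm,
    M2.isFinLocFree_of_isInvertible hJ, one_pos, ⟨(powOne _).symm⟩⟩

theorem Carried.mul {c c' : PicLoc.PicSet (W4bk4gw11416.baseChange p K)} (h : Carried p K c) (h' : Carried p K c') :
    Carried p K (c * c') := by
  obtain ⟨N, hN, V, d, rfl, hV, hd, ⟨φ⟩⟩ := h
  obtain ⟨N', hN', V', d', rfl, hV', hd', ⟨φ'⟩⟩ := h'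
  refine ⟨CohB1.tensorMod N N', M2.isInvertible_tensor hN hN', CohB1.tensorMod V V', d * d', ?_,
    M2.isFinLocFree_tensor hV hV', Nat.mul_pos hd hd', ⟨bcTensorPow φ φ'⟩⟩
  exact Subtype.ext (PicGrp.cls_mul_cls_val hN hN').symm

theorem Carried.pow (hπ : PicGrp.PullMul (proj p K)) {c : PicLoc.PicSet (W4bk4gw11416.baseChange p K)}
    (h : Carried p K c) : ∀ n : ℕ, Carried p K (c ^ n)
  | 0 => by rw [pow_zero, ← map_one (PicGrp.pullHom (proj p K) hπ)]; exact carried_pullHom hπ 1
  | n + 1 => by rw [pow_succ]; exact (Carried.pow hπ h n).mul h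

/-- If a generator is carried and a positive power of it descends, every class is carried. -/
theorem carried_zpow (hπ : PicGrp.PullMul (proj p K)) {c : PicLoc.PicSet (W4bk4gw11416.baseChange p K)}
    (h : Carried p K c) {r : ℕ} (hr : 1 ≤ r) {cJ : PicLoc.PicSet X}
    (hJ : PicGrp.pullHom (proj p K) hπ cJ = c ^ r) (m : ℤ) : Carried p K (c ^ m) := by
  have e : c ^ m = c ^ (m % r).toNat * PicGrp.pullHom (proj p K) hπ (cJ ^ (m / r)) := by
    rw [map_zpow, hJ, ← zpow_natCast c, ← zpow_natCast c r, ← zpow_mul, ← zpow_add,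
      Int.toNat_of_nonneg (Int.emod_nonneg _ (by omega)), Int.emod_add_mul_ediv]
  rw [e]
  exact (h.pow hπ _).mul (carried_pullHom hπ _)

/-- An indecomposable module split by invertible modules of carried classes is isotypical. -/
theorem exists_isotypical_of_split [IsProper p] [Algebra.IsAlgebraic k K]
    [ConnectedSpace (W4bk4gw11416.baseChange p K)] {E : X.Modules} (hE : FlatMod.IsFinLocFree E) (hEi : Indec E)
    {s : ℕ} {Ls : Fin s → (W4bk4gw11416.baseChange p K).Modules} (hLs : ∀ i, PicF.IsInvertible (Ls i))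
    (hsplit : Nonempty (bcMod p K E ≅ ∐ Ls)) (hc : ∀ c, Carried p K c) :
    ∃ (N : (W4bk4gw11416.baseChange p K).Modules) (d : ℕ), PicF.IsInvertible N ∧ 0 < d ∧
      Nonempty (bcMod p K E ≅ pow N d) := by
  haveI := CohFound.isNoetherian_of_isProper p
  have hG : ∀ i, ∃ (G : X.Modules) (g : ℕ), FlatMod.IsFinLocFree G ∧ Indec G ∧ 0 < g ∧
      Nonempty (bcMod p K G ≅ W4c1astiltbs12.pow (Ls i) g) := fun i => by
    obtain ⟨N, hN, V, d, hcls, hV, hd, ⟨φ⟩⟩ := hc (PicGrp.cls (Ls i) (hLs i))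
    obtain ⟨θ⟩ := (PicGrp.cls_eq_cls_iff hN (hLs i)).1 hcls
    exact exists_indec_isotypical hV (hLs i) hd (φ ≪≫ Sigma.mapIso fun _ => θ)
  choose G g hGf hGi hg hGt using hG
  obtain ⟨i, ⟨θ⟩⟩ := exists_iso_of_split (CohFound.isCoh_of_isFinLocFree hE) hEi hsplit.some G hGf hGi g hg hGt
  exact ⟨Ls i, g i, hLs i, hg i, ⟨(Scheme.Modules.pullback (proj p K)).mapIso θ ≪≫ (hGt i).some⟩⟩

end Groth.Agent.KS29
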