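import Groth.Agent.Lib.KS29.PicClass
import Groth.Agent.Lib.KS29.SBIndex
import Groth.Agent.Lib.Cyc26.ChernDual
import Groth.Agent.Lib.EnriquesSeveri11.DualSeq

/-!
# Duals of isotypical modules and the symmetry of the rank function
-/

set_option autoImplicit false
set_option linter.style.haveILetI false
set_option linter.unusedSectionVars false
set_option backward.isDefEq.respectTransparency false
set_option backward.isDefEq.respectTransparency.types false
set_option maxHeartbeats 800000

universe u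

open CategoryTheory CategoryTheory.Limits AlgebraicGeometry

noncomputable section

namespace Groth.Agent.KS29

open Groth.Agent W4c1astiltbs12

attribute [local instance] Abelian.hasFiniteBiproducts

/-- A decomposition dualises. -/
def decDual {Y : Scheme.{u}} {M : Y.Modules} {ι : Type} [Fintype ι] {F : ι → Y.Modules} (d : Dec M F) :
    Dec (CohMop.dual M) (fun i => CohMop.dual (F i)) where
  inj i := CohMop.ihomMap (d.prj i) _
  prj i := CohMop.ihomMap (d.inj i) _
  inj_prj i := by rw [CohMop.ihomMap_comp, d.inj_prj, CohMop.ihomMap_id]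
  inj_prj_ne h := by rw [CohMop.ihomMap_comp, d.inj_prj_ne (Ne.symm h), CohMop.ihomMap_zero]
  total := by
    simp only [CohMop.ihomMap_comp]
    rw [← CohMop.ihomMap_id, ← d.total]
    exact (map_sum (AddMonoidHom.mk' (fun g : M ⟶ M => CohMop.ihomMap g (Coh.structureModule Y))
      fun a b => CohMop.ihomMap_add a b _) _ _).symm

variable {k : Type u} [Field k] {X : Scheme.{u}} (p : X ⟶ Spec (CommRingCat.of k))
variable {K : Type u} [Field K] [Algebra k K]

theorem exists_dual_isotypical {W : X.Modules} (hW : FlatMod.IsFinLocFree W)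
    {N N' : (W4bk4gw11416.baseChange p K).Modules} (hN : PicF.IsInvertible N)
    (ε : CohB1.tensorMod N N' ≅ Coh.structureModule _) {d : ℕ} (φ : bcMod p K W ≅ pow N d) :
    Nonempty (bcMod p K (CohMop.dual W) ≅ pow N' d) := by
  haveI := HilbObs3.hasSheafHom W
  obtain ⟨c⟩ := Cyc26A.nonempty_pullback_sheafHom_iso (proj p K) hW
  obtain ⟨δ⟩ := ES11.nonempty_dual_iso_of_inverse hN ε
  let i : bcMod p K (CohMop.dual W) ≅ CohMop.dual (bcMod p K W) :=
    (Scheme.Modules.pullback (proj p K)).mapIso ((Cyc26A.sheafHomIhomIso' W).app _).symm ≪≫ c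
  exact ⟨((((decDual (Dec.ofCoproduct.trans φ.symm)).trans i.symm)).congr fun _ => δ).isoCoproduct⟩

variable [IsProper p] [Algebra.IsAlgebraic k K] [ConnectedSpace (W4bk4gw11416.baseChange p K)]

theorem pos_of_isotypical {W : X.Modules} (hW : FlatMod.IsFinLocFree W) (hW0 : ¬ IsZero W)
    {N : (W4bk4gw11416.baseChange p K).Modules} {d : ℕ} (φ : bcMod p K W ≅ pow N d) : 0 < d := by
  rcases Nat.eq_zero_or_pos d with rfl | h
  · exact absurd (isZero_of_bc (K := K) p (isCoh_of_flf p hW).1 (Dec.ofCoproduct.trans φ.symm).isZero) hW0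
  · exact h

/-- The rank of the indecomposable module of a type divides that of any module of that type. -/
theorem rank_dvd {E W : X.Modules} (hE : FlatMod.IsFinLocFree E) (hW : FlatMod.IsFinLocFree W) (hWi : Indec W)
    {N : (W4bk4gw11416.baseChange p K).Modules} (hN : PicF.IsInvertible N) {d d' : ℕ} (hd : 0 < d)
    (φ : bcMod p K E ≅ pow N d) (φ' : bcMod p K W ≅ pow N d') : d' ∣ d := by
  haveI := CohFound.isNoetherian_of_isProper p
  haveI := isProper_bc (K := K) p
  haveI := CohFound.isNoetherian_of_isProper (W4bk4gw11416.baseChangeTo p K)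
  have hNi := indec_of_isInvertible' hN
  let dL : Dec (bcMod p K E) (fun _ : Fin d => N) := Dec.ofCoproduct.trans φ.symm
  have hE0 : ¬ IsZero E := fun h => by
    haveI : (Scheme.Modules.pullback (proj p K)).Additive :=
      (Scheme.Modules.pullbackPushforwardAdjunction (proj p K)).left_adjoint_additive
    exact hNi.1 (dL.isZero_summand (Functor.map_isZero (Scheme.Modules.pullback (proj p K)) h) ⟨0, hd⟩)
  obtain ⟨G, t, hG, hGi, ⟨θ⟩⟩ := (exists_pow_indec p hE hE0 hNi φ).1
  let dG : Dec E (fun _ : Fin t => G) := Dec.ofCoproduct.trans θ.symm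
  have ht : 0 < t := by
    rcases Nat.eq_zero_or_pos t with rfl | h
    · exact absurd dG.isZero hE0
    · exact h
  obtain ⟨g, σ, ⟨ψ⟩⟩ := exists_summand_bc (isCoh_of_flf p hE) dG dL (fun _ => hNi) ⟨0, ht⟩
  obtain ⟨ι⟩ := indec_unique p (isCoh_of_flf p hG) (isCoh_of_flf p hW) hGi hWi ψ φ'
  let D : Dec (bcMod p K E) (fun _ : Σ _ : Fin t, Fin d' => N) :=
    ((dG.congr fun _ => ι).bc p).bind fun _ => (Dec.ofCoproduct.trans φ'.symm)
  obtain ⟨f, -⟩ := coh_dec_unique (W4bk4gw11416.baseChangeTo p K)
    (M1.isCoh_pullback (proj p K) (isCoh_of_flf p hE)) dL D (fun _ => hNi) (fun _ => hNi)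
  have h := Fintype.card_congr f
  simp only [Fintype.card_fin, Fintype.card_sigma, Finset.sum_const, Finset.card_univ, smul_eq_mul] at h
  exact h ▸ Dvd.intro_left t rfl

/-- Inverse types have the same rank. -/
theorem rank_eq_of_inverse {W W' : X.Modules} (hW : FlatMod.IsFinLocFree W) (hW' : FlatMod.IsFinLocFree W')
    (hWi : Indec W) (hW'i : Indec W') {N N' : (W4bk4gw11416.baseChange p K).Modules} (hN : PicF.IsInvertible N)
    (hN' : PicF.IsInvertible N') (ε : CohB1.tensorMod N N' ≅ Coh.structureModule _) {d d' : ℕ}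
    (φ : bcMod p K W ≅ pow N d) (φ' : bcMod p K W' ≅ pow N' d') : d = d' := by
  obtain ⟨ψ⟩ := exists_dual_isotypical p hW hN ε φ
  obtain ⟨ψ'⟩ := exists_dual_isotypical p hW' hN' (M2.tensorComm N' N ≪≫ ε) φ'
  exact Nat.dvd_antisymm
    (rank_dvd p (CohMop.isFinLocFree_dual hW') hW hWi hN (pos_of_isotypical p hW' hW'i.1 φ') ψ' φ)
    (rank_dvd p (CohMop.isFinLocFree_dual hW) hW' hW'i hN' (pos_of_isotypical p hW hWi.1 φ) ψ φ')

end Groth.Agent.KS29

end
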