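import Groth.Agent.Lib.VB17.Slope
import Groth.Agent.Lib.VB17.Line

/-!
# The positive line subbundle of a degree zero rank two bundle
-/

set_option linter.style.haveILetI false
set_option autoImplicit false
set_option maxHeartbeats 800000

universe u

open CategoryTheory CategoryTheory.Limits AlgebraicGeometry

namespace Groth.Agent.KS29.PosSub

open Groth.Agent.M1 Groth.Agent.M2 Groth.Agent.CurveCoh17 Groth.Agent.VB17

variable {k : Type u} [Field k] {X : Scheme.{u}} [X.Over (Spec (CommRingCat.of k))] (hX : RegCurve k X)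
include hX

theorem one_of {N : X.Modules} (h : PicF.IsInvertible N) : FlatMod.IsFinLocFreeOfRank 1 N :=
  (isInvertible_iff_isFinLocFreeOfRank_one N).1 h

/-- A non-zero map of invertible modules is injective and does not lower the degree. -/
theorem line_map {N M : X.Modules} (hN : PicF.IsInvertible N) (hM : PicF.IsInvertible M) (f : N ⟶ M) (hf : f ≠ 0) :
    Mono f ∧ Curv2.deg k X N 1 ≤ Curv2.deg k X M 1 := by
  haveI := hX.integral
  obtain ⟨rK, rI, dK, dI, hK, hI, -, -, -, hr, hle, h0, hm, -, -, -⟩ := map_data hX (one_of hX hN) (one_of hX hM) f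
  have : rI ≠ 0 := fun h => hf (h0.1 h)
  haveI : Mono f := hm.1 (by omega)
  exact ⟨inferInstance, (deg_le_of_mono hX.like (one_of hX hN) (one_of hX hM) f).1⟩

theorem main (S : ShortComplex X.Modules) (hS : S.ShortExact)
    (hE : FlatMod.IsFinLocFreeOfRank 2 S.X₂) (hE0 : Curv2.deg k X S.X₂ 2 = 0)
    (hL : PicF.IsInvertible S.X₁) (hM : PicF.IsInvertible S.X₃) (hpos : 0 < Curv2.deg k X S.X₁ 1) :
    (∀ (N : X.Modules), PicF.IsInvertible N → ∀ j : N ⟶ S.X₂, j ≠ 0 →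
        Curv2.deg k X N 1 ≤ Curv2.deg k X S.X₁ 1) ∧
    (∀ (N : X.Modules), PicF.IsInvertible N → ∀ (j : N ⟶ S.X₂), Mono j →
        PicF.IsInvertible (cokernel j) → 0 < Curv2.deg k X N 1 → ∃ φ : N ≅ S.X₁, φ.hom ≫ S.f = j) ∧
    (∀ (N N' : X.Modules), PicF.IsInvertible N → PicF.IsInvertible N' →
        Curv2.deg k X N 1 = 0 → Curv2.deg k X N' 1 = 0 →
        ∀ (a : N ⟶ S.X₂) (b : S.X₂ ⟶ N') (w : a ≫ b = 0), ¬ (ShortComplex.mk a b w).ShortExact) := by
  haveI := hX.integral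
  haveI := hS.mono_f
  have hadd := deg_add hX.like hS (one_of hX hL) hE (one_of hX hM)
  have hLne : S.f ≠ 0 := by
    intro h
    haveI : Mono (0 : S.X₁ ⟶ S.X₂) := h ▸ hS.mono_f
    have hz : IsZero S.X₁ := IsZero.of_mono_zero S.X₁ S.X₂
    obtain ⟨r, hr, hfr⟩ : ∃ r, r = 1 ∧ FlatMod.IsFinLocFreeOfRank r S.X₁ := ⟨1, rfl, one_of hX hL⟩
    have hmono : Mono (0 : S.X₁ ⟶ S.X₁) := ⟨fun _ _ _ => hz.eq_of_tgt _ _⟩
    obtain ⟨rK, rI, dK, dI, hK, hI, -, -, -, hr', hle, h0, hm, -, -, -⟩ :=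
      map_data hX hfr hfr (0 : S.X₁ ⟶ S.X₁)
    have h1 : rK = 0 := hm.2 hmono
    have h2 : rI = 0 := h0.2 rfl
    omega
  have lift : ∀ {N : X.Modules} (j : N ⟶ S.X₂), j ≫ S.g = 0 → ∃ φ : N ⟶ S.X₁, φ ≫ S.f = j :=
    fun j h => ⟨_, hS.exact.lift_f j h⟩
  have key : ∀ (N : X.Modules), PicF.IsInvertible N → ∀ j : N ⟶ S.X₂, j ≠ 0 →
      Curv2.deg k X N 1 ≤ Curv2.deg k X S.X₁ 1 := by
    intro N hN j hj
    by_cases h : j ≫ S.g = 0
    · obtain ⟨φ, hφ⟩ := lift j h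
      exact (line_map hX hN hL φ (by rintro rfl; exact hj (by rw [← hφ, zero_comp]))).2
    · have := (line_map hX hN hM _ h).2
      omega
  refine ⟨key, ?_, ?_⟩
  · intro N hN j hj hC hNpos
    haveI := hj
    let T := ShortComplex.mk j (cokernel.π j) (cokernel.condition j)
    have hT : T.ShortExact := { exact := ShortComplex.exact_of_g_is_cokernel _ (cokernelIsCokernel _) }
    have hadd' := deg_add hX.like hT (one_of hX hN) hE (one_of hX hC)
    have hz1 : j ≫ S.g = 0 := by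
      by_contra h
      have := (line_map hX hN hM _ h).2
      omega
    obtain ⟨φ, hφ⟩ := lift j hz1
    have hz2 : S.f ≫ cokernel.π j = 0 := by
      by_contra h
      have := (line_map hX hL hC _ h).2
      simp only [T] at hadd'
      omega
    obtain ⟨ψ, hψ⟩ : ∃ ψ : S.X₁ ⟶ N, ψ ≫ j = S.f := ⟨_, hT.exact.lift_f S.f hz2⟩
    have e1 : φ ≫ ψ = 𝟙 N := by rw [← cancel_mono j, Category.assoc, hψ, hφ, Category.id_comp]
    have e2 : ψ ≫ φ = 𝟙 S.X₁ := by rw [← cancel_mono S.f, Category.assoc, hφ, hψ, Category.id_comp]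
    exact ⟨⟨φ, ψ, e1, e2⟩, hφ⟩
  · intro N N' hN hN' hd hd' a b w hT
    haveI := hT.mono_f
    have hz : S.f ≫ b = 0 := by
      by_contra h
      have := (line_map hX hL hN' _ h).2
      omega
    obtain ⟨ψ, hψ⟩ : ∃ ψ : S.X₁ ⟶ N, ψ ≫ a = S.f := ⟨_, hT.exact.lift_f S.f hz⟩
    have := (line_map hX hL hN ψ (by rintro rfl; exact hLne (by rw [← hψ, zero_comp]))).2
    omega

end Groth.Agent.KS29.PosSub
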