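import Groth.Agent.Lib.KS29.WRLimit
import Groth.Agent.Lib.CI2.RImmBC
import Groth.Agent.Lib.LimH13.KerFG
import Groth.Agent.Lib.Descend.Stage
import Groth.Prelude.Def_RegImm

/-!
# Regular immersions on a limit with flat transition maps
-/

universe u

set_option autoImplicit false
set_option backward.isDefEq.respectTransparency false
set_option backward.isDefEq.respectTransparency.types false
set_option linter.style.haveILetI false

open CategoryTheory CategoryTheory.Limits AlgebraicGeometry TopologicalSpace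
open RingTheory.Sequence

namespace Groth.Agent.KS29.RegLimit

variable {Z X : Scheme.{u}}

/-- A weakly regular generating sequence on an affine open around the point gives regularity at the point. -/
theorem regAt_of_wr (i : Z ⟶ X) (z : Z) {U : X.Opens} (hU : IsAffineOpen U) (hz : i z ∈ U)
    (hcl : IsClosedImmersion (i ∣_ U)) (rs : List Γ(X, U)) (hwr : IsWeaklyRegular Γ(X, U) rs)
    (hker : RingHom.ker (i.app U).hom = Ideal.ofList rs) :
    RegImm.IsRegularImmersionAt RegImm.Kind.regular i z := by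
  refine ⟨⟨U, hU⟩, hz, hcl, rs, ⟨hwr, ?_⟩, hker⟩
  rw [smul_eq_mul, Ideal.mul_top]
  intro htop
  have h1 : (1 : Γ(X, U)) ∈ RingHom.ker (i.app U).hom := by
    rw [hker]; exact (htop ▸ Submodule.mem_top : (1 : Γ(X, U)) ∈ Ideal.ofList rs)
  rw [RingHom.mem_ker, map_one] at h1
  haveI : Nontrivial Γ(Z, i ⁻¹ᵁ U) := (Z.presheaf.germ _ z hz).hom.domain_nontrivial
  exact one_ne_zero h1

/-- The kernel on a smaller affine open. -/
theorem ker_app_le (i : Z ⟶ X) {U W : X.Opens} (hU : IsAffineOpen U) [IsClosedImmersion (i ∣_ U)]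
    (hW : IsAffineOpen W) (hle : W ≤ U) :
    RingHom.ker (i.app W).hom = (RingHom.ker (i.app U).hom).map ((𝟙 X : X ⟶ X).appLE U W hle).hom :=
  CI2.ker_app_of_isPullback i (𝟙 X) i (𝟙 Z) (IsPullback.of_horiz_isIso ⟨by simp⟩) hU hW hle

/-- Closed immersion over a smaller open. -/
theorem isClosedImmersion_le (i : Z ⟶ X) [IsImmersion i] {U W : X.Opens} [IsClosedImmersion (i ∣_ U)]
    (hle : W ≤ U) : IsClosedImmersion (i ∣_ W) :=
  CI2.isClosedImmersion_restrict_of_isPullback i (𝟙 X) i (𝟙 Z) (U := U)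
    (IsPullback.of_horiz_isIso ⟨by simp⟩) hle

/-- The locus of regularity of an immersion is open. -/
theorem isOpen_regAt (i : Z ⟶ X) :
    IsOpen {z : Z | RegImm.IsRegularImmersionAt RegImm.Kind.regular i z} := by
  refine isOpen_iff_forall_mem_open.2 ?_
  rintro z ⟨U, hzU, hrest⟩
  exact ⟨i ⁻¹' (U.1 : Set X), fun y hy => ⟨U, hy, hrest⟩, U.1.2.preimage i.continuous, hzU⟩

/-- Regularity at a point is stable under flat base change. -/
theorem regAt_baseChange {Z' X' : Scheme.{u}} (i : Z ⟶ X) (g : X' ⟶ X) (i' : Z' ⟶ X') (g' : Z' ⟶ Z)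
    [Flat g] [IsImmersion i] [IsImmersion i'] (hsq : IsPullback g' i' i g) (z : Z')
    (h : RegImm.IsRegularImmersionAt RegImm.Kind.regular i (g' z)) :
    RegImm.IsRegularImmersionAt RegImm.Kind.regular i' z := by
  obtain ⟨U, hzU, hcl, rs, hrs, hker⟩ := h
  haveI := hcl
  have hzg : i' z ∈ g ⁻¹ᵁ U.1 := by
    rw [Scheme.Hom.mem_preimage, ← Scheme.Hom.comp_apply, ← hsq.w, Scheme.Hom.comp_apply]; exact hzU
  obtain ⟨_, ⟨V, hV, rfl⟩, hzV, hVU⟩ := X'.isBasis_affineOpens.exists_subset_of_mem_open hzg (g ⁻¹ᵁ U.1).2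
  refine regAt_of_wr i' z hV hzV (CI2.isClosedImmersion_restrict_of_isPullback i g i' g' hsq hVU)
    (rs.map (g.appLE U.1 V hVU).hom) ?_ ?_
  · letI := (g.appLE U.1 V hVU).hom.toAlgebra
    haveI : Module.Flat Γ(X, U.1) Γ(X', V) := Scheme.Hom.flat_appLE g U.2 hV hVU
    exact hrs.toIsWeaklyRegular.of_flat
  · rw [CI2.ker_app_of_isPullback i g i' g' hsq U.2 hV hVU, hker, Ideal.map_ofList]

variable {I : Type u} [SmallCategory I] {D : I ⥤ Scheme.{u}} (c : Cone D) {k : I} (V : (D.obj k).Opens)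

/-- The preimage of an open at a further stage. -/
abbrev Vs {m : I} (b : m ⟶ k) : (D.obj m).Opens := D.map b ⁻¹ᵁ V

lemma top_le {m : I} (b : m ⟶ k) : c.π.app k ⁻¹ᵁ V ≤ c.π.app m ⁻¹ᵁ (Vs V b) := by
  intro x hx
  show D.map b (c.π.app m x) ∈ V
  rw [LimH13.map_π_apply b x]
  exact hx

lemma le_top' {m : I} (b : m ⟶ k) : c.π.app m ⁻¹ᵁ (Vs V b) ≤ c.π.app k ⁻¹ᵁ V := by
  intro x hx
  show c.π.app k x ∈ V
  rw [← LimH13.map_π_apply b x]
  exact hx

lemma trans_le {n m : I} (e : n ⟶ m) (b : m ⟶ k) (b' : n ⟶ k) (h : e ≫ b = b') :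
    Vs V b' ≤ D.map e ⁻¹ᵁ Vs V b := by
  intro x hx
  show D.map b (D.map e x) ∈ V
  have hx' : D.map b' x ∈ V := hx
  rwa [← h, D.map_comp] at hx'

/-- From a stage to the limit. -/
noncomputable abbrev toLim {m : I} (b : m ⟶ k) : Γ(D.obj m, Vs V b) →+* Γ(c.pt, c.π.app k ⁻¹ᵁ V) :=
  ((c.π.app m).appLE (Vs V b) (c.π.app k ⁻¹ᵁ V) (top_le c V b)).hom

/-- From a stage to a further stage. -/
noncomputable abbrev trans {n m : I} (e : n ⟶ m) (b : m ⟶ k) (b' : n ⟶ k) (h : e ≫ b = b') :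
    Γ(D.obj m, Vs V b) →+* Γ(D.obj n, Vs V b') :=
  ((D.map e).appLE (Vs V b) (Vs V b') (trans_le V e b b' h)).hom

lemma toLim_trans {n m : I} (e : n ⟶ m) (b : m ⟶ k) (b' : n ⟶ k) (h : e ≫ b = b') (s : Γ(D.obj m, Vs V b)) :
    toLim c V b' (trans V e b b' h s) = toLim c V b s := by
  show ((D.map e).appLE _ _ _ ≫ (c.π.app n).appLE _ _ _) s = _
  rw [Scheme.Hom.appLE_comp_appLE]
  simp only [c.w e]
  rfl

lemma trans_trans {p n m : I} (e' : p ⟶ n) (e : n ⟶ m) (b : m ⟶ k) (b' : n ⟶ k) (h : e ≫ b = b')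
    (b'' : p ⟶ k) (h' : e' ≫ b' = b'') (s : Γ(D.obj m, Vs V b)) :
    trans V e' b' b'' h' (trans V e b b' h s) =
      trans V (e' ≫ e) b b'' (by rw [Category.assoc, h, h']) s := by
  show ((D.map e).appLE _ _ _ ≫ (D.map e').appLE _ _ _) s = _
  rw [Scheme.Hom.appLE_comp_appLE]
  simp only [← D.map_comp]

variable [IsCofiltered I] [∀ (i j : I) (f : i ⟶ j), IsAffineHom (D.map f)]

lemma exists_zero (hc : IsLimit c) (hV : IsAffineOpen V) {m : I} (b : m ⟶ k) (x : Γ(D.obj m, Vs V b))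
    (hx : toLim c V b x = 0) :
    ∃ (n : I) (e : n ⟶ m), trans V e b (e ≫ b) rfl x = 0 := by
  haveI : ∀ {i j} (f : i ⟶ j), IsAffineHom (D.map f) := fun f => ‹∀ (i j : I) (f : i ⟶ j), IsAffineHom (D.map f)› _ _ f
  obtain ⟨n, e, he⟩ := exists_app_map_eq_zero_of_isLimit D c hc (hV.preimage (D.map b)).isCompact x (by
    have h1 : (c.π.app m).app (Vs V b) = (c.π.app m).appLE (Vs V b) _ (top_le c V b) ≫
        c.pt.presheaf.map (homOfLE (le_top' c V b)).op := by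
      rw [Scheme.Hom.app_eq_appLE]
      exact (Scheme.Hom.appLE_map (c.π.app m) (top_le c V b) (homOfLE (le_top' c V b)).op).symm
    show (c.π.app m).app (Vs V b) x = 0
    rw [h1, CommRingCat.comp_apply]
    exact (congrArg _ hx).trans (map_zero _))
  refine ⟨n, e, ?_⟩
  show ((D.map e).app (Vs V b) ≫ (D.obj n).presheaf.map _) x = 0
  rw [CommRingCat.comp_apply, he, map_zero]

lemma exists_lift (hc : IsLimit c) (hV : IsAffineOpen V) :
    ∀ L : List Γ(c.pt, c.π.app k ⁻¹ᵁ V), ∃ (m : I) (b : m ⟶ k) (L' : List Γ(D.obj m, Vs V b)),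
      L'.map (toLim c V b) = L
  | [] => ⟨k, 𝟙 k, [], rfl⟩
  | r :: L => by
    haveI : ∀ {i j} (f : i ⟶ j), IsAffineHom (D.map f) := fun f => ‹∀ (i j : I) (f : i ⟶ j), IsAffineHom (D.map f)› _ _ f
    obtain ⟨m, b, L', hL⟩ := exists_lift hc hV L
    obtain ⟨j, a, s, e, hs⟩ := LimH13.exists_section_of_isLimit hc V hV r
    obtain ⟨n, h₁, h₂, h⟩ := IsCofiltered.cospan b a
    refine ⟨n, h₁ ≫ b, trans V h₂ a (h₁ ≫ b) h.symm s :: L'.map (trans V h₁ b (h₁ ≫ b) rfl), ?_⟩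
    rw [List.map_cons, List.map_map, toLim_trans, ← hL]
    congr 1
    refine List.map_congr_left fun t _ => ?_
    exact toLim_trans c V h₁ b _ rfl t

lemma exists_mem (hc : IsLimit c) (hV : IsAffineOpen V) :
    ∀ (N : ℕ) {m : I} (b : m ⟶ k) (L : List Γ(D.obj m, Vs V b)) (x : Γ(D.obj m, Vs V b)), L.length = N →
      toLim c V b x ∈ Ideal.ofList (L.map (toLim c V b)) →
      ∃ (n : I) (e : n ⟶ m), trans V e b (e ≫ b) rfl x ∈ Ideal.ofList (L.map (trans V e b (e ≫ b) rfl)) := by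
  intro N
  induction N with
  | zero =>
    intro m b L x hL hx
    rw [List.length_eq_zero_iff] at hL
    subst hL
    rw [List.map_nil, Ideal.ofList_nil, Ideal.mem_bot] at hx
    obtain ⟨n, e, he⟩ := exists_zero c V hc hV b x hx
    exact ⟨n, e, by rw [he]; exact Ideal.zero_mem _⟩
  | succ N ih =>
    intro m b L x hL hx
    obtain _ | ⟨r, L⟩ := L
    · simp at hL
    rw [List.map_cons, Ideal.ofList_cons, Submodule.mem_sup] at hx
    obtain ⟨_, hy, w, hw, hsum⟩ := hx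
    obtain ⟨a, rfl⟩ := Ideal.mem_span_singleton'.1 hy
    obtain ⟨m₁, b₁, A', hA⟩ := exists_lift c V hc hV [a]
    obtain ⟨a', rfl⟩ : ∃ a', A' = [a'] := by
      match A', hA with
      | [a'], _ => exact ⟨a', rfl⟩
    rw [List.map_singleton, List.cons.injEq] at hA
    obtain ⟨n, h₁, h₂, h⟩ := IsCofiltered.cospan b b₁
    let τ := trans V h₁ b (h₁ ≫ b) rfl
    let x' := τ x - trans V h₂ b₁ (h₁ ≫ b) h.symm a' * τ r
    obtain ⟨p, e, he⟩ := ih (h₁ ≫ b) (L.map τ) x'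
      (by simpa using hL)
      (by
        rw [List.map_map, map_sub, map_mul, toLim_trans, toLim_trans, toLim_trans, hA.1]
        have : toLim c V b x - a * toLim c V b r = w := sub_eq_of_eq_add' hsum.symm
        rw [this]
        convert hw using 3
        exact funext fun t => toLim_trans c V h₁ b _ rfl t)
    refine ⟨p, e ≫ h₁, ?_⟩
    have hcast : ∀ t : Γ(D.obj m, Vs V b),
        trans V e (h₁ ≫ b) ((e ≫ h₁) ≫ b) (Category.assoc _ _ _).symm (τ t) =
          trans V (e ≫ h₁) b ((e ≫ h₁) ≫ b) rfl t := fun t => trans_trans V e h₁ b _ rfl _ _ t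
    have he' : trans V e (h₁ ≫ b) ((e ≫ h₁) ≫ b) (Category.assoc _ _ _).symm x' ∈
        Ideal.ofList ((L.map τ).map (trans V e (h₁ ≫ b) ((e ≫ h₁) ≫ b) (Category.assoc _ _ _).symm)) := by
      have : ∀ (b'' : p ⟶ k) (hb : e ≫ h₁ ≫ b = b''), trans V e (h₁ ≫ b) b'' hb x' ∈
          Ideal.ofList ((L.map τ).map (trans V e (h₁ ≫ b) b'' hb)) := by
        rintro _ rfl
        exact he
      exact this _ _
    rw [List.map_cons, Ideal.ofList_cons]
    rw [map_sub, map_mul, hcast, hcast, List.map_map] at he'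
    have he'' := he'
    rw [show ((trans V e (h₁ ≫ b) ((e ≫ h₁) ≫ b) (Category.assoc _ _ _).symm : _ → _) ∘ (τ : _ → _)) =
      (trans V (e ≫ h₁) b ((e ≫ h₁) ≫ b) rfl : _ → _) from funext hcast] at he''
    rw [← sub_add_cancel (trans V (e ≫ h₁) b ((e ≫ h₁) ≫ b) rfl x)
      (trans V e (h₁ ≫ b) ((e ≫ h₁) ≫ b) (Category.assoc _ _ _).symm (trans V h₂ b₁ (h₁ ≫ b) h.symm a') *
        trans V (e ≫ h₁) b ((e ≫ h₁) ≫ b) rfl r)]
    exact Ideal.add_mem _ (Ideal.mem_sup_right he'')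
      (Ideal.mem_sup_left (Ideal.mul_mem_left _ _ (Ideal.mem_span_singleton_self _)))

lemma exists_mem_list (hc : IsLimit c) (hV : IsAffineOpen V) {m : I} (b : m ⟶ k) (L : List Γ(D.obj m, Vs V b)) :
    ∀ xs : List Γ(D.obj m, Vs V b), (∀ x ∈ xs, toLim c V b x ∈ Ideal.ofList (L.map (toLim c V b))) →
      ∃ (n : I) (e : n ⟶ m), ∀ (b' : n ⟶ k) (h : e ≫ b = b'), ∀ x ∈ xs,
        trans V e b b' h x ∈ Ideal.ofList (L.map (trans V e b b' h))
  | [], _ => ⟨m, 𝟙 m, fun _ _ _ hx => absurd hx List.not_mem_nil⟩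
  | x :: xs, hxs => by
    obtain ⟨n₁, e₁, h₁⟩ := exists_mem_list hc hV b L xs fun y hy => hxs y (List.mem_cons_of_mem _ hy)
    obtain ⟨n₂, e₂, h₂⟩ := exists_mem c V hc hV _ b L x rfl (hxs x List.mem_cons_self)
    obtain ⟨n, g₁, g₂, hg⟩ := IsCofiltered.cospan e₁ e₂
    have push : ∀ {q : I} (f : q ⟶ m) (g : n ⟶ q) (hgf : g ≫ f = g₁ ≫ e₁) (b' : n ⟶ k) (h : (g₁ ≫ e₁) ≫ b = b')
        (t : Γ(D.obj m, Vs V b)), trans V f b (f ≫ b) rfl t ∈ Ideal.ofList (L.map (trans V f b (f ≫ b) rfl)) →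
        trans V (g₁ ≫ e₁) b b' h t ∈ Ideal.ofList (L.map (trans V (g₁ ≫ e₁) b b' h)) := by
      intro q f g hgf b' h t ht
      have hg' : g ≫ f ≫ b = b' := by rw [← Category.assoc, hgf, h]
      have hh : ∀ s, trans V g (f ≫ b) b' hg' (trans V f b (f ≫ b) rfl s) = trans V (g₁ ≫ e₁) b b' h s := by
        intro s
        rw [trans_trans]
        simp only [hgf]
      have h2 := Ideal.mem_map_of_mem (trans V g (f ≫ b) b' hg') ht
      rw [Ideal.map_ofList, List.map_map, hh] at h2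
      rwa [show ((trans V g (f ≫ b) b' hg' : _ → _) ∘ (trans V f b (f ≫ b) rfl : _ → _)) =
        (trans V (g₁ ≫ e₁) b b' h : _ → _) from funext hh] at h2
    refine ⟨n, g₁ ≫ e₁, fun b' h y hy => ?_⟩
    rcases List.mem_cons.1 hy with rfl | hy
    · exact push e₂ g₂ hg.symm b' h _ h₂
    · exact push e₁ g₁ rfl b' h _ (h₁ _ rfl y hy)

end Groth.Agent.KS29.RegLimit
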