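import Groth.Agent.Lib.KS29.RegLimit

/-!
# Descent of regular immersions to a stage
-/

universe u

set_option autoImplicit false
set_option backward.isDefEq.respectTransparency false
set_option backward.isDefEq.respectTransparency.types false
set_option linter.style.haveILetI false

open CategoryTheory CategoryTheory.Limits AlgebraicGeometry TopologicalSpace
open RingTheory.Sequence

namespace Groth.Agent.KS29.RegLimit

variable {I : Type u} [SmallCategory I] [IsCofiltered I] {D : I ⥤ Scheme.{u}}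
  [∀ (i j : I) (f : i ⟶ j), IsAffineHom (D.map f)]

/-- A point at which the limit immersion is regular has an image at some stage with the same property. -/
theorem exists_stage_regAt (c : Cone D) (hc : IsLimit c) (hflat : ∀ (i j : I) (f : i ⟶ j), Flat (D.map f))
    (i₀ : I) {X₀ : Scheme.{u}} (j₀ : X₀ ⟶ D.obj i₀) [IsImmersion j₀]
    (hcase : (∀ i : I, IsLocallyNoetherian (D.obj i)) ∨
      ((∀ (i j : I) (f : i ⟶ j), Surjective (D.map f)) ∧ LocallyOfFinitePresentation j₀))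
    {Z : Scheme.{u}} {q : Z ⟶ X₀} {i : Z ⟶ c.pt} (hsq : IsPullback q i j₀ (c.π.app i₀)) [IsImmersion i] (z : Z)
    (hz : RegImm.IsRegularImmersionAt RegImm.Kind.regular i z) :
    ∃ (j : I) (φ : j ⟶ i₀), ∀ w : (pullback j₀ (D.map φ) : Scheme.{u}),
      pullback.snd j₀ (D.map φ) w = c.π.app j (i z) →
        RegImm.IsRegularImmersionAt RegImm.Kind.regular (pullback.snd j₀ (D.map φ)) w := by
  classical
  haveI : ∀ {i j} (f : i ⟶ j), IsAffineHom (D.map f) := fun f => ‹∀ (i j : I) (f : i ⟶ j), IsAffineHom (D.map f)› _ _ f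
  obtain ⟨U, hzU, hclU, rs, hrs, hker⟩ := hz
  haveI := hclU
  have hq : j₀ (q z) = c.π.app i₀ (i z) := by
    rw [← Scheme.Hom.comp_apply, hsq.w, Scheme.Hom.comp_apply]
    rfl
  obtain ⟨V₀, hV₀, hxV₀, -, hcl₀⟩ := CI2.exists_affine_closed j₀ (q z) (V := ⊤) trivial
  haveI := hcl₀
  rw [hq] at hxV₀
  have hfg : (RingHom.ker (j₀.app V₀).hom).FG := by
    rcases hcase with hN | ⟨-, hfp⟩
    · haveI := hN i₀
      haveI : IsNoetherianRing Γ(D.obj i₀, V₀) := IsLocallyNoetherian.component_noetherian ⟨V₀, hV₀⟩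
      exact IsNoetherian.noetherian _
    · obtain ⟨hW, hs⟩ := CI2.surjective_app_of_closed j₀ hV₀
      have h1 := LocallyOfFinitePresentation.finitePresentation_appLE (f := j₀) hV₀ hW le_rfl
      rw [← Scheme.Hom.app_eq_appLE] at h1
      exact LimH13.ker_fg_of_surjective _ hs h1
  obtain ⟨gs, hgs⟩ := hfg
  -- an affine stage open inside `U` and over `V₀`
  obtain ⟨_, ⟨_, ⟨i₁, V₁, hV₁, rfl⟩, rfl⟩, hxV₁, hV₁U⟩ :=
    (isBasis_preimage_isAffineOpen D c hc).exists_subset_of_mem_open hzU U.1.2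
  let k := IsCofiltered.min i₀ i₁
  let a : k ⟶ i₀ := IsCofiltered.minToLeft i₀ i₁
  let a₁ : k ⟶ i₁ := IsCofiltered.minToRight i₀ i₁
  have hxk : c.π.app k (i z) ∈ D.map a ⁻¹ᵁ V₀ ⊓ D.map a₁ ⁻¹ᵁ V₁ :=
    ⟨show D.map a (c.π.app k (i z)) ∈ V₀ by rw [LimH13.map_π_apply a]; exact hxV₀,
      show D.map a₁ (c.π.app k (i z)) ∈ V₁ by rw [LimH13.map_π_apply a₁]; exact hxV₁⟩
  obtain ⟨_, ⟨V, hV, rfl⟩, hxV, hVle⟩ :=
    (D.obj k).isBasis_affineOpens.exists_subset_of_mem_open hxk (D.map a ⁻¹ᵁ V₀ ⊓ D.map a₁ ⁻¹ᵁ V₁).2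
  have hVV₀ : V ≤ D.map a ⁻¹ᵁ V₀ := fun y hy => (hVle hy).1
  have hle₀ : c.π.app k ⁻¹ᵁ V ≤ c.π.app i₀ ⁻¹ᵁ V₀ := fun y hy => by
    show c.π.app i₀ y ∈ V₀
    rw [← LimH13.map_π_apply a y]; exact (hVle hy).1
  have hleU : c.π.app k ⁻¹ᵁ V ≤ U.1 := fun y hy => hV₁U (by
    show c.π.app i₁ y ∈ V₁
    rw [← LimH13.map_π_apply a₁ y]; exact (hVle hy).2)
  haveI : IsAffineHom (c.π.app k) := isAffineHom_π_app D c hc k
  have hVlim : IsAffineOpen (c.π.app k ⁻¹ᵁ V) := hV.preimage (c.π.app k)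
  -- the sequence on the smaller open
  let rs' : List Γ(c.pt, c.π.app k ⁻¹ᵁ V) :=
    rs.map ((𝟙 c.pt : c.pt ⟶ c.pt).appLE U.1 (c.π.app k ⁻¹ᵁ V) hleU).hom
  have hwr' : IsWeaklyRegular Γ(c.pt, c.π.app k ⁻¹ᵁ V) rs' := by
    letI := ((𝟙 c.pt : c.pt ⟶ c.pt).appLE U.1 (c.π.app k ⁻¹ᵁ V) hleU).hom.toAlgebra
    haveI : Module.Flat Γ(c.pt, U.1) Γ(c.pt, c.π.app k ⁻¹ᵁ V) :=
      Scheme.Hom.flat_appLE (𝟙 c.pt) U.2 hVlim hleU
    exact hrs.toIsWeaklyRegular.of_flat
  have hker' : RingHom.ker (i.app (c.π.app k ⁻¹ᵁ V)).hom = Ideal.ofList rs' := by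
    rw [ker_app_le i U.2 hVlim hleU, hker, Ideal.map_ofList]
  have hker₀ : Ideal.ofList rs' =
      Ideal.ofList (gs.toList.map ((c.π.app i₀).appLE V₀ (c.π.app k ⁻¹ᵁ V) hle₀).hom) := by
    rw [← hker', CI2.ker_app_of_isPullback j₀ (c.π.app i₀) i q hsq hV₀ hVlim hle₀, ← hgs, ← Ideal.map_ofList]
    congr 1
    simp [Ideal.ofList]
  -- lift to a stage
  obtain ⟨m, b, rs₁, hrs₁⟩ := exists_lift c V hc hV rs'
  have hle_m : ∀ {n : I} (b' : n ⟶ k), Vs V b' ≤ D.map (b' ≫ a) ⁻¹ᵁ V₀ := fun b' => by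
    intro y hy
    show D.map (b' ≫ a) y ∈ V₀
    rw [D.map_comp]
    exact hVV₀ hy
  let G : ∀ {n : I} (b' : n ⟶ k), List Γ(D.obj n, Vs V b') := fun b' =>
    gs.toList.map ((D.map (b' ≫ a)).appLE V₀ (Vs V b') (hle_m b')).hom
  have hGlim : ∀ {n : I} (b' : n ⟶ k), (G b').map (toLim c V b') =
      gs.toList.map ((c.π.app i₀).appLE V₀ (c.π.app k ⁻¹ᵁ V) hle₀).hom := fun {n} b' => by
    rw [List.map_map]
    refine List.map_congr_left fun t _ => ?_
    show ((D.map (b' ≫ a)).appLE _ _ _ ≫ (c.π.app n).appLE _ _ _) t = _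
    rw [Scheme.Hom.appLE_comp_appLE]
    simp only [c.w (b' ≫ a)]
    rfl
  have hGtrans : ∀ {n n' : I} (e : n' ⟶ n) (b' : n ⟶ k) (b'' : n' ⟶ k) (h : e ≫ b' = b''),
      (G b').map (trans V e b' b'' h) = G b'' := fun {n n'} e b' b'' h => by
    rw [List.map_map]
    refine List.map_congr_left fun t _ => ?_
    show ((D.map (b' ≫ a)).appLE _ _ _ ≫ (D.map e).appLE _ _ _) t = _
    rw [Scheme.Hom.appLE_comp_appLE]
    simp only [← D.map_comp, ← Category.assoc, h]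
  obtain ⟨m₁, e₁, he₁⟩ := exists_mem_list c V hc hV b (G b) rs₁ (fun x hx => by
    rw [hGlim]
    refine hker₀.le (Ideal.subset_span ?_)
    rw [← hrs₁]
    exact List.mem_map_of_mem hx)
  obtain ⟨m₂, e₂, he₂⟩ := exists_mem_list c V hc hV b rs₁ (G b) (fun x hx => by
    rw [hrs₁, hker₀]
    exact Ideal.subset_span ((hGlim b) ▸ List.mem_map_of_mem hx))
  obtain ⟨n, g₁, g₂, hg⟩ := IsCofiltered.cospan e₁ e₂
  let bn : n ⟶ k := (g₁ ≫ e₁) ≫ b
  let rsn : List Γ(D.obj n, Vs V bn) := rs₁.map (trans V (g₁ ≫ e₁) b bn rfl)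
  have hVn : IsAffineOpen (Vs V bn) := hV.preimage (D.map bn)
  have hrsn : rsn.map (toLim c V bn) = rs' := by
    rw [List.map_map, ← hrs₁]
    exact List.map_congr_left fun t _ => toLim_trans c V (g₁ ≫ e₁) b bn rfl t
  have hideal : Ideal.ofList rsn = Ideal.ofList (G bn) := by
    refine le_antisymm (Ideal.span_le.2 fun x hx => ?_) (Ideal.span_le.2 fun x hx => ?_)
    · obtain ⟨x, hx1, rfl⟩ := List.mem_map.1 (show _ ∈ rsn from hx)
      have h2 := Ideal.mem_map_of_mem (trans V g₁ (e₁ ≫ b) bn (Category.assoc _ _ _).symm) (he₁ _ rfl x hx1)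
      rw [Ideal.map_ofList, hGtrans, hGtrans, trans_trans] at h2
      exact h2
    · have hx' : x ∈ (G b).map (trans V (g₁ ≫ e₁) b bn rfl) := by rw [hGtrans]; exact hx
      obtain ⟨x, hx1, rfl⟩ := List.mem_map.1 hx'
      have hb : g₂ ≫ e₂ ≫ b = bn := by rw [← Category.assoc, ← hg]
      have h2 := Ideal.mem_map_of_mem (trans V g₂ (e₂ ≫ b) bn hb) (he₂ _ rfl x hx1)
      rw [Ideal.map_ofList, List.map_map, trans_trans] at h2
      have hfun : ∀ t, trans V g₂ (e₂ ≫ b) bn hb (trans V e₂ b (e₂ ≫ b) rfl t) =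
          trans V (g₁ ≫ e₁) b bn rfl t := fun t => by
        rw [trans_trans]; simp only [← hg]
      rw [show ((trans V g₂ (e₂ ≫ b) bn hb : _ → _) ∘ (trans V e₂ b (e₂ ≫ b) rfl : _ → _)) =
        (trans V (g₁ ≫ e₁) b bn rfl : _ → _) from funext hfun] at h2
      simp only [← hg] at h2
      exact h2
  refine ⟨n, bn ≫ a, fun w hw => ?_⟩
  have hcln : IsClosedImmersion (pullback.snd j₀ (D.map (bn ≫ a)) ∣_ Vs V bn) :=
    CI2.isClosedImmersion_restrict_of_isPullback j₀ (D.map (bn ≫ a)) _ _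
      (IsPullback.of_hasPullback j₀ (D.map (bn ≫ a))) (hle_m bn)
  haveI := hcln
  have hkern : RingHom.ker ((pullback.snd j₀ (D.map (bn ≫ a))).app (Vs V bn)).hom = Ideal.ofList rsn := by
    rw [hideal, CI2.ker_app_of_isPullback j₀ (D.map (bn ≫ a)) _ _
      (IsPullback.of_hasPullback j₀ (D.map (bn ≫ a))) hV₀ hVn (hle_m bn), ← hgs, ← Ideal.map_ofList]
    congr 1
    simp [Ideal.ofList]
  have hxn : c.π.app n (i z) ∈ Vs V bn := by
    show D.map bn (c.π.app n (i z)) ∈ V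
    rw [LimH13.map_π_apply bn]; exact hxV
  haveI : Flat (c.π.app n) := LimH13.flat_π hc n fun j φ => hflat j n φ
  have hdesc : ∀ (y : c.pt) (hy : y ∈ c.π.app k ⁻¹ᵁ V), IsWeaklyRegular ((D.obj n).presheaf.stalk (c.π.app n y))
      (rsn.map ((D.obj n).presheaf.germ (Vs V bn) (c.π.app n y) (top_le c V bn hy)).hom) := fun y hy => by
    refine (WR.wr_germ_iff (c.π.app n) (top_le c V bn) rsn y hy).1 ?_
    have h1 := (WR.wr_sections_iff hVlim _).1 hwr' y hy
    rw [← hrsn] at h1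
    exact h1
  obtain ⟨W, hWV, hW, hxW, hWwr⟩ : ∃ (W : (D.obj n).Opens) (hWV : W ≤ Vs V bn), IsAffineOpen W ∧
      c.π.app n (i z) ∈ W ∧ ∀ (y : D.obj n) (hy : y ∈ W), IsWeaklyRegular ((D.obj n).presheaf.stalk y)
        (rsn.map ((D.obj n).presheaf.germ (Vs V bn) y (hWV hy)).hom) := by
    rcases hcase with hN | ⟨hS, -⟩
    · haveI := hN n
      exact WR.exists_open_wr hVn rsn _ hxn (hdesc (i z) (le_top' c V bn hxn))
    · haveI : Surjective (c.π.app n) := (LimH13.surjective_π_iff hc n).2 fun j φ => hS j n φ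
      refine ⟨Vs V bn, le_rfl, hVn, hxn, fun y hy => ?_⟩
      obtain ⟨y', rfl⟩ := (c.π.app n).surjective y
      exact hdesc y' (le_top' c V bn hy)
  refine regAt_of_wr _ w hW (hw ▸ hxW) (isClosedImmersion_le _ hWV)
    (rsn.map ((𝟙 (D.obj n) : D.obj n ⟶ D.obj n).appLE (Vs V bn) W hWV).hom) ?_ ?_
  · rw [WR.wr_sections_iff hW]
    intro y hy
    exact (WR.wr_germ_iff (𝟙 (D.obj n)) hWV rsn y hy).2 (hWwr y hy)
  · rw [ker_app_le _ hVn hW hWV, hkern, Ideal.map_ofList]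

/-- Regular immersions on a limit with flat transition maps come from a stage. -/
theorem regular_limit_iff (c : Cone D) (hc : IsLimit c) (hflat : ∀ (i j : I) (f : i ⟶ j), Flat (D.map f))
    (i₀ : I) {X₀ : Scheme.{u}} (j₀ : X₀ ⟶ D.obj i₀) [CompactSpace X₀] [IsImmersion j₀]
    (hcase : (∀ i : I, IsLocallyNoetherian (D.obj i)) ∨
      ((∀ (i j : I) (f : i ⟶ j), Surjective (D.map f)) ∧ LocallyOfFinitePresentation j₀)) :
    RegImm.IsRegularImmersion RegImm.Kind.regular (pullback.snd j₀ (c.π.app i₀)) ↔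
      ∃ (j : I) (φ : j ⟶ i₀),
        RegImm.IsRegularImmersion RegImm.Kind.regular (pullback.snd j₀ (D.map φ)) := by
  haveI : ∀ {i j} (f : i ⟶ j), IsAffineHom (D.map f) := fun f => ‹∀ (i j : I) (f : i ⟶ j), IsAffineHom (D.map f)› _ _ f
  haveI : IsImmersion (pullback.snd j₀ (c.π.app i₀)) :=
    MorphismProperty.pullback_snd (P := @IsImmersion) _ _ ‹_›
  haveI : ∀ {j : I} (φ : j ⟶ i₀), IsImmersion (pullback.snd j₀ (D.map φ)) := fun φ =>
    MorphismProperty.pullback_snd (P := @IsImmersion) _ _ ‹_›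
  have hsq := IsPullback.of_hasPullback j₀ (c.π.app i₀)
  constructor
  · intro h
    let c' := c.whisker (Over.forget i₀)
    have hc' : IsLimit c' := (Functor.Initial.isLimitWhiskerEquiv (Over.forget i₀) c).symm hc
    have hq : ∀ k, c'.π.app k ≫ (Descend.overT D i₀).app k = c.π.app i₀ := fun k => c.w k.hom
    let T := Descend.overT D i₀
    let cZ := Descend.pbCone _ T j₀ c' hq hsq
    have hlim : IsLimit cZ := Descend.pbIsLimit _ T j₀ c' hq hsq hc'
    haveI : ∀ {k l : Over i₀} (g : k ⟶ l), IsAffineHom ((Descend.pbDiagram _ T j₀).map g) := fun g => inferInstance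
    haveI : ∀ k : Over i₀, CompactSpace ((Descend.pbDiagram _ T j₀).obj k) := fun k => inferInstance
    let R : ∀ k : Over i₀, ((Descend.pbDiagram _ T j₀).obj k).Opens := fun k =>
      ⟨_, isOpen_regAt (pullback.snd j₀ (T.app k))⟩
    have hpoint : ∀ z : cZ.pt, ∃ k : Over i₀, cZ.π.app k z ∈ R k := fun z => by
      obtain ⟨j, φ, hj⟩ := exists_stage_regAt c hc hflat i₀ j₀ hcase hsq z (h.2 z)
      refine ⟨Over.mk φ, hj (cZ.π.app (Over.mk φ) z) ?_⟩
      have e := Descend.pbCone_snd _ T j₀ c' hq hsq (Over.mk φ)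
      exact (Scheme.Hom.comp_apply _ _ _).symm.trans ((congrArg (fun m => m z) e).trans (Scheme.Hom.comp_apply _ _ _))
    have hmono : ∀ {k l : Over i₀} (g : k ⟶ l), (Descend.pbDiagram _ T j₀).map g ⁻¹ᵁ R l ≤ R k := by
      intro k l g y hy
      haveI : Flat ((Over.forget i₀ ⋙ D).map g) := hflat _ _ _
      exact regAt_baseChange _ ((Over.forget i₀ ⋙ D).map g) _ _
        (Descend.pbMap_isPullback _ T j₀ g) y hy
    haveI : CompactSpace cZ.pt := Scheme.compactSpace_of_isLimit _ cZ hlim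
    choose kz hkz using hpoint
    obtain ⟨s, hs⟩ := (isCompact_univ (X := cZ.pt)).elim_finite_subcover
      (fun z => ((cZ.π.app (kz z) ⁻¹ᵁ R (kz z) : cZ.pt.Opens) : Set cZ.pt))
      (fun z => (cZ.π.app (kz z) ⁻¹ᵁ R (kz z)).2)
      (fun z _ => Set.mem_iUnion.2 ⟨z, hkz z⟩)
    classical
    obtain ⟨K, hK⟩ := IsCofiltered.inf_objs_exists (s.image kz)
    have htop : cZ.π.app K ⁻¹ᵁ R K = ⊤ := by
      refine top_le_iff.1 fun y _ => ?_
      obtain ⟨z, hzs, hyz⟩ := Set.mem_iUnion₂.1 (hs (Set.mem_univ y))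
      obtain ⟨g⟩ := hK (Finset.mem_image_of_mem kz hzs)
      refine hmono g ?_
      show (Descend.pbDiagram _ T j₀).map g (cZ.π.app K y) ∈ R (kz z)
      rw [LimH13.map_π_apply g y]
      exact hyz
    obtain ⟨K', g, hg⟩ := exists_map_eq_top _ cZ hlim (R K) htop
    refine ⟨K'.left, K'.hom, inferInstance, fun w => hmono g ?_⟩
    rw [hg]
    trivial
  · rintro ⟨j, φ, hj⟩
    haveI : Flat (c.π.app j) := LimH13.flat_π hc j fun j' ψ => hflat j' j ψ
    let t : pullback j₀ (c.π.app i₀) ⟶ pullback j₀ (D.map φ) :=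
      pullback.lift (pullback.fst _ _) (pullback.snd _ _ ≫ c.π.app j)
        (by rw [Category.assoc, c.w φ]; exact pullback.condition)
    refine ⟨inferInstance, fun z => regAt_baseChange (pullback.snd j₀ (D.map φ)) (c.π.app j)
      (pullback.snd j₀ (c.π.app i₀)) t ?_ z (hj.2 _)⟩
    refine IsPullback.of_right ?_ (pullback.lift_snd _ _ _) (IsPullback.of_hasPullback j₀ (D.map φ))
    rw [pullback.lift_fst, c.w φ]
    exact hsq

end Groth.Agent.KS29.RegLimit
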