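import Groth.Agent.Lib.FormalH7.OshSurj
import Mathlib.AlgebraicGeometry.Morphisms.Smooth
import Mathlib.RingTheory.Smooth.Basic
/-!
A square-zero thickening of a smooth affine scheme over a field is split.
-/
universe u
open CategoryTheory CategoryTheory.Limits AlgebraicGeometry TopologicalSpace

namespace Groth.Agent.KS29.Ribbon

theorem exists_retraction (k : Type u) [Field k] (C : Scheme.{u}) (f : C ⟶ Spec (CommRingCat.of k))
    (I : C.IdealSheafData) (hI : I ^ 2 = ⊥) [IsAffine I.subscheme] [Smooth (I.subschemeι ≫ f)] :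
    ∃ r : C ⟶ I.subscheme, I.subschemeι ≫ r = 𝟙 I.subscheme ∧ r ≫ I.subschemeι ≫ f = f := by
  have hsq : ∀ V : C.affineOpens, I.ideal V ^ 2 = ⊥ := fun V => congrArg (fun J : C.IdealSheafData => J.ideal V) hI
  haveI : Surjective I.subschemeι := ⟨fun x => by
    obtain ⟨V, hV, hxV, -⟩ := exists_isAffineOpen_mem_and_subset (Opens.mem_top x)
    have : x ∈ (I.support : Set C) := by
      have h1 : x ∈ C.zeroLocus (U := V) (I.ideal ⟨V, hV⟩) ∩ (V : Set C) := by
        refine ⟨?_, hxV⟩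
        refine (C.mem_zeroLocus_iff (U := V) _ x).2 fun s hs hx => ?_
        have hs2 : s * s = 0 := (Submodule.mem_bot _).1
          ((hsq ⟨V, hV⟩).le (by rw [pow_two]; exact Ideal.mul_mem_mul hs hs))
        have hz : C.basicOpen (s * s) = ⊥ := by rw [hs2, Scheme.basicOpen_zero]
        rw [Scheme.basicOpen_mul, inf_idem] at hz
        rw [hz] at hx
        exact hx
      rw [← I.coe_support_inter ⟨V, hV⟩] at h1
      exact h1.1
    rwa [← I.range_subschemeι] at this⟩
  haveI : IsAffine C := FormalH7.isAffine_of_locally_nilpotent I.subschemeι fun V => by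
    rw [Scheme.IdealSheafData.ker_subschemeι]
    exact ⟨2, hsq V⟩
  let D := I.subscheme
  let a : CommRingCat.of k ⟶ Γ(C, ⊤) := (Scheme.ΓSpecIso (CommRingCat.of k)).inv ≫ f.appTop
  letI : Algebra k Γ(C, ⊤) := a.hom.toAlgebra
  letI : Algebra k Γ(D, ⊤) := (a ≫ I.subschemeι.appTop).hom.toAlgebra
  haveI : Algebra.Smooth k Γ(D, ⊤) := by
    refine RingHom.smooth_algebraMap.1 ?_
    show ((Scheme.ΓSpecIso (CommRingCat.of k)).inv ≫ f.appTop ≫ I.subschemeι.appTop).hom.Smooth
    rw [← Scheme.Hom.comp_appTop]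
    exact RingHom.Smooth.respectsIso.2 (I.subschemeι ≫ f).appTop.hom
      (Scheme.ΓSpecIso (CommRingCat.of k)).symm.commRingCatIsoToRingEquiv
      (HasRingHomProperty.appTop (P := @Smooth) _ inferInstance)
  let π : Γ(C, ⊤) →ₐ[k] Γ(D, ⊤) := { toRingHom := I.subschemeι.appTop.hom, commutes' := fun _ => rfl }
  have hπ : Function.Surjective π := (IsClosedImmersion.isAffine_surjective_of_isAffine I.subschemeι).2
  have hker : IsNilpotent (RingHom.ker (π : Γ(C, ⊤) →+* Γ(D, ⊤))) := by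
    refine ⟨2, ?_⟩
    have := I.ker_subschemeι_app ⟨⊤, isAffineOpen_top C⟩
    show RingHom.ker I.subschemeι.appTop.hom ^ 2 = ⊥
    rw [show RingHom.ker I.subschemeι.appTop.hom = I.ideal ⟨⊤, isAffineOpen_top C⟩ from this]
    exact hsq _
  let σ := Algebra.FormallySmooth.liftOfSurjective (AlgHom.id k Γ(D, ⊤)) π hπ hker
  have hσ : ∀ x, π (σ x) = x := fun x => Algebra.FormallySmooth.liftOfSurjective_apply _ π hπ hker x
  let r : C ⟶ D := C.toSpecΓ ≫ Spec.map (CommRingCat.ofHom σ.toRingHom) ≫ D.isoSpec.inv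
  have hr : r.appTop = CommRingCat.ofHom σ.toRingHom := by
    have : D.isoSpec.inv.appTop = (Scheme.ΓSpecIso Γ(D, ⊤)).inv := by
      haveI : IsIso D.isoSpec.hom.appTop := inferInstanceAs (IsIso ((Scheme.Γ).map D.isoSpec.hom.op))
      rw [← cancel_mono D.isoSpec.hom.appTop, ← Scheme.Hom.comp_appTop]
      simp [Scheme.isoSpec_hom, Scheme.toSpecΓ_appTop]
    rw [Scheme.Hom.comp_appTop, Scheme.Hom.comp_appTop, this, Scheme.toSpecΓ_appTop, Category.assoc,
      Scheme.ΓSpecIso_naturality]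
    exact Iso.inv_hom_id_assoc _ _
  refine ⟨r, ext_of_isAffine ?_, ext_of_isAffine ?_⟩
  · rw [Scheme.Hom.comp_appTop, hr, Scheme.Hom.id_appTop]
    exact CommRingCat.hom_ext (RingHom.ext hσ)
  · rw [Scheme.Hom.comp_appTop, Scheme.Hom.comp_appTop, hr]
    refine (cancel_epi (Scheme.ΓSpecIso (CommRingCat.of k)).inv).1 (CommRingCat.hom_ext (RingHom.ext fun x => ?_))
    exact σ.commutes x

end Groth.Agent.KS29.Ribbon
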