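import Groth.Agent.S11486
import Groth.Agent.Lib.KS29.SBClass
import Groth.Agent.Lib.CohBC18.Field
import Groth.Agent.Lib.CMReg18.InfField
import Groth.Agent.Lib.ProjDual12.Serre
import Groth.Agent.Lib.TwPow29.Basic

/-!
# Split modules on a form of projective space and vanishing of middle cohomology
-/

set_option autoImplicit false
set_option linter.style.haveILetI false
set_option linter.unusedSectionVars false
set_option backward.isDefEq.respectTransparency false
set_option backward.isDefEq.respectTransparency.types false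
set_option maxHeartbeats 800000

universe u

open CategoryTheory CategoryTheory.Limits AlgebraicGeometry TensorProduct

noncomputable section

namespace Groth.Agent.KS29

open Groth.Agent

variable {k : Type u} [Field k] {X : Scheme.{u}} (f : X ⟶ Spec (CommRingCat.of k))
variable {K : Type u} [Field K] [Algebra k K] {d : ℕ} (e : BrSev.Splitting f K d)

/-- Transport of modules from `X_K` to projective space. -/
abbrev toPn : (BrSev.bc f K).Modules ⥤ (CohB1.ProjSpace d K).Modules := Scheme.Modules.pullback e.iso.inv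

/-- The twist on projective space. -/
def toPnTwist (m : ℤ) : (toPn f e).obj (e.twist m) ≅ _root_.Twist.twistProjSpace d K m :=
  (Scheme.Modules.pullbackComp e.iso.inv e.iso.hom).app _ ≪≫
    (Scheme.Modules.pullbackCongr e.iso.inv_hom_id).app _ ≪≫ (Scheme.Modules.pullbackId _).app _

/-- Back from projective space. -/
def fromPn (M : (BrSev.bc f K).Modules) : (Scheme.Modules.pullback e.iso.hom).obj ((toPn f e).obj M) ≅ M :=
  (Scheme.Modules.pullbackComp e.iso.hom e.iso.inv).app _ ≪≫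
    (Scheme.Modules.pullbackCongr e.iso.hom_inv_id).app _ ≪≫ (Scheme.Modules.pullbackId _).app _

theorem subsingleton_HH_toPn (M : (BrSev.bc f K).Modules) (hM : Coh.IsQCoh M) (i : ℕ) :
    Subsingleton (Coh.HH (BrSev.bc f K) M i) ↔
      Subsingleton (Coh.HH (CohB1.ProjSpace d K) ((toPn f e).obj M) i) := by
  let j := e.iso.inv
  letI : (BrSev.bc f K).Over (Spec (CommRingCat.of K)) := ⟨BrSev.bcTo f K⟩
  have hsnd : j ≫ (BrSev.bc f K ↘ Spec (CommRingCat.of K)) = CohB1.ProjSpace.toSpec d K := by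
    show e.iso.inv ≫ BrSev.bcTo f K = _
    rw [← e.comm, Iso.inv_hom_id_assoc]
  haveI : IsIso ((Scheme.Modules.pullbackPushforwardAdjunction j).unit.app M) :=
    M1.isIso_unit_of_ker_smul j M hM fun U a ha s => by
      rw [j.ker_eq_bot_of_isIso] at ha
      rw [show a = 0 by simpa using ha, zero_smul]
  haveI : ((Scheme.Modules.pullback j).obj M).IsQuasicoherent := M1.isQCoh_pullback j hM
  obtain ⟨e1⟩ := CurveCoh17.nonempty_hequiv_push K j hsnd ((Scheme.Modules.pullback j).obj M) i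
  let e2 := CurveCoh17.hequiv K (asIso ((Scheme.Modules.pullbackPushforwardAdjunction j).unit.app M)) i
  exact (e2.trans e1).toEquiv.subsingleton_congr

theorem subsingleton_HH_bc [CompactSpace X] [QuasiSeparatedSpace X] (M : X.Modules) (hM : Coh.IsQCoh M) (i : ℕ) :
    Subsingleton (Coh.HH X M i) ↔ Subsingleton (Coh.HH (BrSev.bc f K) (BrSev.bcMod f K M) i) := by
  letI : X.Over (Spec (CommRingCat.of k)) := ⟨f⟩
  letI : (Curv2.bc k X K).Over (Spec (CommRingCat.of K)) := ⟨Curv2.bcSnd k X K⟩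
  obtain ⟨e3⟩ := CohBC18.nonempty_HH_bc (k := k) X K M hM i
  refine Iff.trans ⟨fun h => ?_, fun h => ?_⟩ e3.toEquiv.subsingleton_congr
  · refine subsingleton_of_forall_eq 0 fun z => ?_
    induction z using TensorProduct.induction_on with
    | zero => rfl
    | tmul a b => rw [Subsingleton.elim b 0, TensorProduct.tmul_zero]
    | add a b ha hb => rw [ha, hb, add_zero]
  · haveI := h
    exact Module.FaithfullyFlat.lTensor_reflects_triviality k K (Coh.HH X M i)

/-- A nonempty sum vanishes iff the summand does. -/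
theorem subsingleton_HH_coprod_iff {Y : Scheme.{u}} (L : Type u) [Field L] [Y.Over (Spec (CommRingCat.of L))]
    (G : Y.Modules) (r : ℕ) (hr : 0 < r) (i : ℕ) :
    Subsingleton (Coh.HH Y (∐ fun _ : Fin r => G) i) ↔ Subsingleton (Coh.HH Y G i) := by
  refine ⟨fun h => subsingleton_of_forall_eq 0 fun x => ?_, fun h => ProjDual12.subsingleton_HH_coprod L r h⟩
  have h1 : Sigma.ι (fun _ : Fin r => G) ⟨0, hr⟩ ≫ Sigma.desc (fun _ => 𝟙 G) = 𝟙 G := Sigma.ι_desc _ _
  rw [← CurveCoh17.hmap_id L G i x, ← h1, CurveCoh17.hmap_comp,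
    Subsingleton.elim (CurveCoh17.hmap L (Sigma.ι (fun _ : Fin r => G) ⟨0, hr⟩) i x) 0, map_zero]

variable {f}

/-- Vanishing for a tensor product with an isotypical module. -/
theorem subsingleton_HH_twPow_iff [IsProper f] {E N : X.Modules} (hE : FlatMod.IsFinLocFree E)
    (hN : FlatMod.IsFinLocFree N) {m : ℤ} {r : ℕ} (hr : 0 < r) (hNt : BrSev.IsTwPow e m r N) (i : ℕ) :
    Subsingleton (Coh.HH X (CohB1.tensorMod E N) i) ↔
      Subsingleton (Coh.HH (CohB1.ProjSpace d K)
        ((CMReg18.projData K d).tw ((toPn f e).obj (BrSev.bcMod f K E)) m) i) := by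
  haveI := CohFound.isNoetherian_of_isProper f
  have hq : Coh.IsQCoh (CohB1.tensorMod E N) := (CohFound.isCoh_of_isFinLocFree (M2.isFinLocFree_tensor hE hN)).1
  rw [subsingleton_HH_bc (K := K) f _ hq, subsingleton_HH_toPn f e _ (M1.isQCoh_pullback _ hq)]
  let G := (toPn f e).obj (BrSev.bcMod f K E)
  let ν : (toPn f e).obj (BrSev.bcMod f K N) ≅ ∐ fun _ : Fin r => _root_.Twist.twistProjSpace d K m :=
    (toPn f e).mapIso hNt.some ≪≫ PreservesCoproduct.iso (toPn f e) _ ≪≫
      Sigma.mapIso fun _ => toPnTwist f e m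
  let φ : (toPn f e).obj (BrSev.bcMod f K (CohB1.tensorMod E N)) ≅
      ∐ fun _ : Fin r => (CMReg18.projData K d).tw G m :=
    (toPn f e).mapIso (M2.pullTensorIso (BrSev.proj f K) E N) ≪≫ M2.pullTensorIso e.iso.inv _ _ ≪≫
      M2.tensorIso (Iso.refl G) ν ≪≫ TwPow29.tensorCoprodIso' G _
  rw [(CurveCoh17.hequiv K φ i).toEquiv.subsingleton_congr]
  exact subsingleton_HH_coprod_iff K _ r hr i

theorem split_iff_isSum {E : X.Modules} :
    (∃ (s : ℕ) (Ls : Fin s → (BrSev.bc f K).Modules), (∀ i, PicF.IsInvertible (Ls i)) ∧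
        Nonempty (BrSev.bcMod f K E ≅ ∐ Ls)) ↔ Horrocks11.IsSum K d ((toPn f e).obj (BrSev.bcMod f K E)) := by
  constructor
  · rintro ⟨s, Ls, hLs, ⟨φ⟩⟩
    choose a ha using fun i => exists_iso_twist e (hLs i)
    exact ⟨s, a, ⟨(toPn f e).mapIso φ ≪≫ PreservesCoproduct.iso (toPn f e) _ ≪≫
      Sigma.mapIso fun i => (toPn f e).mapIso (ha i).some ≪≫ toPnTwist f e (a i)⟩⟩
  · rintro ⟨r, a, ⟨φ⟩⟩
    exact ⟨r, fun i => e.twist (a i), fun i => isInvertible_twist e (a i),
      ⟨(fromPn f e _).symm ≪≫ (Scheme.Modules.pullback e.iso.hom).mapIso φ ≪≫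
        PreservesCoproduct.iso (Scheme.Modules.pullback e.iso.hom) _⟩⟩

theorem isSum_of_zero {G : (CohB1.ProjSpace 0 K).Modules} (hG : FlatMod.IsFinLocFree G) :
    Horrocks11.IsSum K 0 G := by
  haveI : IsIntegral (CohB1.ProjSpace 0 K) := RegExt.isIntegral_projSpace 0 K
  obtain ⟨U, r, hU, ⟨φ⟩⟩ := hG (genericPoint (CohB1.ProjSpace 0 K))
  haveI := (CMReg18.isAmple_twistOne K (n := 0)).2.1
  have hone : ∀ x : CohB1.ProjSpace 0 K, x = genericPoint (CohB1.ProjSpace 0 K) := by
    haveI := CMReg18.isProper_projSpace K (n := 0)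
    haveI : AlgebraicGeometry.IsNoetherian (CohB1.ProjSpace 0 K) :=
      CohFound.isNoetherian_of_isProper (CohB1.ProjSpace 0 K ↘ Spec (CommRingCat.of K))
    intro x
    have h1 := (VB17.ringKrullDim_stalk_le_topologicalKrullDim x).trans (S10829.result K 0).le
    rw [ringKrullDim_stalk_eq_coheight] at h1
    have h2 : Order.coheight x = 0 := nonpos_iff_eq_zero.1 (by exact_mod_cast h1)
    exact ((AlgebraicGeometry.Scheme.le_iff_specializes.1 (Order.coheight_eq_zero.1 h2
      (AlgebraicGeometry.Scheme.le_iff_specializes.2 (genericPoint_specializes x)))).antisymm (genericPoint_specializes x)).eq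
  obtain rfl : U = ⊤ := TopologicalSpace.Opens.ext (Set.eq_univ_of_forall fun x => by rw [hone x]; exact hU)
  obtain ⟨z⟩ := Twist.nonempty_twist_zero_iso (CohB1.polyGrading 0 K)
  obtain ⟨v⟩ := S11486.nonempty_iso_of_restrict_top G r φ
  exact ⟨r, fun _ => 0, ⟨v ≪≫ Sigma.mapIso fun _ => z.symm⟩⟩

/-- Vanishing against all the isotypical modules of a given type detects the vanishing upstairs. -/
theorem isSum_iff_forall [IsProper f] {E : X.Modules} (hE : FlatMod.IsFinLocFree E) :
    Horrocks11.IsSum K d ((toPn f e).obj (BrSev.bcMod f K E)) ↔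
      ∀ (i : ℕ), 1 ≤ i → i < d → ∀ m : ℤ, Subsingleton (Coh.HH (CohB1.ProjSpace d K)
        ((CMReg18.projData K d).tw ((toPn f e).obj (BrSev.bcMod f K E)) m) i) := by
  refine ⟨fun h i hi hid m => (Horrocks11.van_of_isSum h).2 m i hi hid, fun h => ?_⟩
  have hG : FlatMod.IsFinLocFree ((toPn f e).obj (BrSev.bcMod f K E)) :=
    M2.isFinLocFree_pullback e.iso.inv (M2.isFinLocFree_pullback (BrSev.proj f K) hE)
  obtain rfl | hd := Nat.eq_zero_or_pos d
  · exact isSum_of_zero hG
  haveI := CMReg18.isProper_projSpace K (n := d)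
  haveI : IsNoetherian (CohB1.ProjSpace d K) :=
    CohFound.isNoetherian_of_isProper (CohB1.ProjSpace d K ↘ Spec (CommRingCat.of K))
  refine (Horrocks11.isSum_iff hd (CohFound.isCoh_of_isFinLocFree hG)).2 ⟨?_, fun m i h1 h2 => h i h1 h2 m⟩
  obtain ⟨m₀, hm⟩ := ES11.negVan_of_isFinLocFree (k := K) (r := d) 0 hd hG
  refine ⟨-m₀, fun m hm' => ?_⟩
  have h' := hm (-m) (by omega)
  rwa [neg_neg] at h'

variable {A : Type u} [Ring A] [Algebra k A] [Algebra.IsCentral k A] [IsSimpleRing A]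

/-- The criterion. -/
theorem split_iff_vanishing {n : ℕ} (hn : 0 < n) (hA : Module.finrank k A = n * n) [IsProper f]
    (hX : BrSev.IsSBOf k A (n * n - n) f) [IsAlgClosure k K] (e : BrSev.Splitting f K (n - 1))
    {p : ℕ} (hp : CSAGal.IsPeriod k A p) {E : X.Modules} (hE : FlatMod.IsFinLocFree E) :
    (∃ (s : ℕ) (Ls : Fin s → (BrSev.bc f K).Modules), (∀ i, PicF.IsInvertible (Ls i)) ∧
        Nonempty (BrSev.bcMod f K E ≅ ∐ Ls)) ↔
      (∀ (i : ℕ), 0 < i → i + 1 < n → ∀ (a : ℤ) (L : X.Modules), PicF.IsInvertible L →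
        BrSev.IsTwPow e (a * (p : ℤ)) 1 L → ∀ (j : ℤ), 0 ≤ j → j < (p : ℤ) →
        ∀ (W : X.Modules), FlatMod.IsFinLocFree W → Indec W →
        ∀ (r : ℕ), 0 < r → BrSev.IsTwPow e j r W →
        Subsingleton (Coh.HH X (CohB1.tensorMod (CohB1.tensorMod E L) W) i)) := by
  haveI := finite_of_finrank hn hA
  haveI := IsAlgClosure.isAlgebraic (R := k) (K := K)
  letI : X.Over (Spec (CommRingCat.of k)) := ⟨f⟩
  rw [split_iff_isSum e, isSum_iff_forall e hE]
  constructor
  · intro h i hi hin a L hL hLt j hj hjp W hW hWi r hr hWt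
    refine (CurveCoh17.hequiv k (M2.tensorAssoc E L W) i).toEquiv.subsingleton_congr.2 ?_
    have hr' : 0 < 1 * r := by omega
    exact (subsingleton_HH_twPow_iff e hE (M2.isFinLocFree_tensor (M2.isFinLocFree_of_isInvertible hL) hW) hr'
      (TwPow29.isTwPow_tensorMod e _ _ 1 r L W hLt hWt) i).2 (h i hi (by omega) _)
  · intro h i hi hid m
    have hx := Brauer25.isPeriod_iff.1 hp
    have hp0 : (0 : ℤ) < p := by exact_mod_cast hp.1
    obtain ⟨W, r, hW, hWi, hr, hWt⟩ := exists_indec_twPow e (m % p)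
    obtain ⟨L, r', hLf, hLi, hr', hLt⟩ := exists_indec_twPow e (m / p * p)
    obtain rfl : r' = 1 := by
      rw [multiplicity_eq hn hA hX e hLf hLi hr' hLt]
      have : Brauer25.cls (k := k) A ^ (m / (p : ℤ) * p).natAbs = 1 := by
        rw [← orderOf_dvd_iff_pow_eq_one, hx, ← Int.natCast_dvd]
        exact dvd_mul_left _ _
      rw [this, Brauer25.ind_one]
    have h1 := h i hi (by omega) (m / p) L (isInvertible_of_twPow_one f e hLf hLt) hLt (m % p)
      (Int.emod_nonneg _ hp0.ne') (Int.emod_lt_of_pos _ hp0) W hW hWi r hr hWt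
    have h2 := (CurveCoh17.hequiv k (M2.tensorAssoc E L W) i).toEquiv.subsingleton_congr.1 h1
    have h3 := (subsingleton_HH_twPow_iff e hE (M2.isFinLocFree_tensor hLf hW) (by omega : 0 < 1 * r)
      (TwPow29.isTwPow_tensorMod e _ _ 1 r L W hLt hWt) i).1 h2
    rwa [Int.mul_comm, Int.mul_ediv_add_emod] at h3

end Groth.Agent.KS29
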