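import Groth.Agent.Lib.KS29.SBClass
import Groth.Agent.Lib.FpqcDesc.Basic

/-!
# Extending splittings to larger fields
-/

set_option autoImplicit false
set_option linter.style.haveILetI false
set_option linter.unusedSectionVars false
set_option backward.isDefEq.respectTransparency false
set_option backward.isDefEq.respectTransparency.types false

universe u

open CategoryTheory CategoryTheory.Limits AlgebraicGeometry

noncomputable section

namespace Groth.Agent.KS29

open Groth.Agent

attribute [local instance] Abelian.hasFiniteBiproducts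

variable {k : Type u} [Field k] {X : Scheme.{u}} {p : X ⟶ Spec (CommRingCat.of k)}
variable {K : Type u} [Field K] [Algebra k K] {n : ℕ}

/-- A form of projective space is proper. -/
theorem isProper_of_splitting (e : BrSev.Splitting p K n) : IsProper p := by
  haveI : IsProper (CohB1.ProjSpace.toSpec n K) := ProjSpace.isProper_toSpec n K
  haveI : IsProper (BrSev.bcTo p K) := e.comm ▸ inferInstance
  haveI : Flat (Spec.map (CommRingCat.ofHom (algebraMap k K))) :=
    (HasRingHomProperty.Spec_iff (P := @Flat)).2 (RingHom.flat_algebraMap_iff.2 inferInstance)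
  haveI : Surjective (Spec.map (CommRingCat.ofHom (algebraMap k K))) :=
    ⟨fun x => ⟨(default : Spec (CommRingCat.of K)), Subsingleton.elim (α := PrimeSpectrum k) _ _⟩⟩
  haveI := FpqcDesc.descendsAlong_isProper.{u}
  exact MorphismProperty.of_isPullback_of_descendsAlong (P := @IsProper)
    (Q := @Surjective ⊓ @Flat ⊓ @QuasiCompact) (IsPullback.of_hasPullback p _).flip
    ⟨⟨‹_›, ‹_›⟩, inferInstance⟩ ‹IsProper (BrSev.bcTo p K)›

variable (L : Type u) [Field L] [Algebra k L] [Algebra K L] [IsScalarTower k K L]

/-- A splitting extends to a larger field compatibly with the twists. -/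
theorem exists_splitting_ext (e : BrSev.Splitting p K n) :
    ∃ e' : BrSev.Splitting p L n, ∀ j : ℤ,
      Nonempty ((Scheme.Modules.pullback (bcW p K L)).obj (e.twist j) ≅ e'.twist j) := by
  obtain ⟨a, has, ha⟩ := exists_trivR (R := L) e.iso e.comm
  exact ⟨⟨a, has⟩, fun j => nonempty_pullback_twist_trivR e a ha j⟩

/-- Being a power of `O(j)` persists in a larger field. -/
theorem isTwPow_ext (e : BrSev.Splitting p K n) (e' : BrSev.Splitting p L n) {j : ℤ}
    (t : (Scheme.Modules.pullback (bcW p K L)).obj (e.twist j) ≅ e'.twist j) {r : ℕ} {M : X.Modules}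
    (h : BrSev.IsTwPow e j r M) : BrSev.IsTwPow e' j r M := by
  obtain ⟨φ⟩ := h
  haveI : (Scheme.Modules.pullback (bcW p K L)).Additive :=
    (Scheme.Modules.pullbackPushforwardAdjunction (bcW p K L)).left_adjoint_additive
  let i : (Scheme.Modules.pullback (bcW p K L)).obj (BrSev.bcMod p K M) ≅ BrSev.bcMod p L M :=
    (Scheme.Modules.pullbackComp _ _).app M ≪≫ (Scheme.Modules.pullbackCongr (bcW_fst p K L)).app M
  exact ⟨((((Dec.ofCoproduct.trans φ.symm).map (Scheme.Modules.pullback (bcW p K L))).trans i).congr
    fun _ => t).isoCoproduct⟩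

/-- Twists determine their degree up to isomorphism. -/
theorem eq_of_twist_iso (e : BrSev.Splitting p K n) {i j : ℤ} (hn : 0 < n) (φ : e.twist i ≅ e.twist j) : i = j :=
  PicPn.twist_injective hn
    (((Scheme.Modules.pullbackId _).app _).symm ≪≫ (Scheme.Modules.pullbackCongr e.iso.inv_hom_id).symm.app _ ≪≫
      ((Scheme.Modules.pullbackComp e.iso.inv e.iso.hom).app _).symm ≪≫
      (Scheme.Modules.pullback e.iso.inv).mapIso φ ≪≫ (Scheme.Modules.pullbackComp e.iso.inv e.iso.hom).app _ ≪≫
      (Scheme.Modules.pullbackCongr e.iso.inv_hom_id).app _ ≪≫ (Scheme.Modules.pullbackId _).app _)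

end Groth.Agent.KS29
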