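import Groth.Agent.Lib.AmpleFib.DescVA
import Groth.Agent.Lib.AmpleFib.GenProd
import Groth.Agent.Lib.KS29.SBHorrocks
import Groth.Agent.Lib.CMReg18.EulerBinom
import Groth.Agent.Lib.Brauer25.PeriodIndex
import Groth.Agent.Lib.KS29.SplitExt
import Groth.Agent.S3572

/-!
# Closed embeddings of forms of projective space by descended twists
-/

set_option autoImplicit false
set_option linter.style.haveILetI false
set_option linter.unusedSectionVars false
set_option backward.isDefEq.respectTransparency false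
set_option backward.isDefEq.respectTransparency.types false
set_option maxHeartbeats 800000

universe u v

open CategoryTheory CategoryTheory.Limits AlgebraicGeometry TopologicalSpace Opposite

noncomputable section

namespace Groth.Agent.KS29

open Groth.Agent
open Groth.Agent.VA11
open Groth.Agent.AmpleFib
open Groth.Agent.M1 (ores mres)

section va

variable {X : Scheme.{u}} {L L' : X.Modules} {W : X.Opens}

theorem gl_smul_le (a : Γ(X, W)) (s : Γ(L, W)) : gl (a • s) ≤ gl s := fun x hx => by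
  have h1 := cf_smul_right (a • s) s a
  rw [cf_self] at h1
  have h2 : IsUnit (X.presheaf.germ _ x hx (cf (a • s) s)) :=
    isUnit_of_mul_isUnit_right (x := X.presheaf.germ _ x hx (ores (gl_le (a • s)) a))
      (by rw [← map_mul, ← h1, map_one]; exact isUnit_one)
  exact ((gl_inf_gl (a • s) s).ge ((Scheme.mem_basicOpen X _ x hx).2 h2)).2

theorem cf_right_zero (s : Γ(L, W)) : cf s (0 : Γ(L, W)) = 0 := by
  have h := cf_add s (0 : Γ(L, W)) 0
  rwa [add_zero, left_eq_add] at h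

variable {R : Type u} [CommRing R] {κ μ : Type v} {ρ : R →+* Γ(X, W)}

/-- The new family sees a section. -/
def Sees (ρ : R →+* Γ(X, W)) (σ : μ → Γ(L, W)) (t : Γ(L, W)) : Prop :=
  gl t ≤ ⨆ l, gl (σ l) ∧ ∀ i, cf (σ i) t ∈ ratSub ρ σ i

variable {σ : μ → Γ(L, W)}

theorem sees_self (l : μ) : Sees ρ σ (σ l) :=
  ⟨le_iSup (fun l => gl (σ l)) l, fun _ => cf_mem_ratSub l⟩

theorem sees_zero : Sees ρ σ (0 : Γ(L, W)) :=
  ⟨fun _ hx => absurd hx not_mem_gl_zero, fun i => by rw [cf_right_zero]; exact zero_mem _⟩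

theorem sees_add {a b : Γ(L, W)} (ha : Sees ρ σ a) (hb : Sees ρ σ b) : Sees ρ σ (a + b) :=
  ⟨(gl_add_le a b).trans (sup_le ha.1 hb.1), fun i => by rw [cf_add]; exact add_mem (ha.2 i) (hb.2 i)⟩

theorem sees_smul (c : R) {a : Γ(L, W)} (ha : Sees ρ σ a) : Sees ρ σ (ρ c • a) :=
  ⟨(gl_smul_le _ a).trans ha.1, fun i => by
    rw [cf_smul_right]; exact mul_mem (base_mem_ratSub c) (ha.2 i)⟩

/-- A family seeing a separating family separates. -/
theorem vaat_of_sees {τ : κ → Γ(L, W)} {x : X} (h : VAat ρ τ x) (hτ : ∀ k, Sees ρ σ (τ k)) :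
    VAat ρ σ x := by
  obtain ⟨e, b, hb, hxb, hA, hfr⟩ := h
  obtain ⟨i, hi⟩ := Opens.mem_iSup.1 ((hτ e).1 (X.basicOpen_le b hxb))
  refine vaat_of_cf ⟨e, b, hb, hxb, hA, hfr⟩ i hi (σ i) rfl fun k => ?_
  rw [M1.ores_id]
  exact (hτ k).2 i

theorem vaat_app_iso {τ : κ → Γ(L, W)} {x : X} (ν : L ≅ L') (h : VAat ρ τ x) :
    VAat ρ (fun k => ν.hom.app W (τ k)) x := by
  refine h.mono fun e he => ⟨e, (gl_app_iso ν (τ e)).le, (gl_app_iso ν (τ e)).ge he, fun r => ?_, fun k => ?_⟩
  · rw [M1.ores_ores]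
    exact base_mem_ratSub (σ := fun k => ν.hom.app W (τ k)) (e := e) r
  · rw [← cf_app_iso]
    exact cf_mem_ratSub (σ := fun k => ν.hom.app W (τ k)) (e := e) k

end va

/-- A morphism to projective space whose coordinate sections separate after a faithfully flat base change is a
closed immersion. -/
theorem isClosedImmersion_of_vaat_bc {R R' : Type u} [CommRing R] [CommRing R'] (φ : R →+* R')
    [Flat (Spec.map (CommRingCat.ofHom φ))] [Surjective (Spec.map (CommRingCat.ofHom φ))]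
    {X X' : Scheme.{u}} (q : X ⟶ Spec (CommRingCat.of R)) [IsProper q] {g : X' ⟶ X}
    {q' : X' ⟶ Spec (CommRingCat.of R')} (sq : IsPullback g q' q (Spec.map (CommRingCat.ofHom φ)))
    {L : X.Modules} (hL : PicF.IsInvertible L) {n : ℕ} (j : X ⟶ CohB1.ProjSpace n R)
    (hj : j ≫ CohB1.ProjSpace.toSpec n R = q)
    (τ : (Scheme.Modules.pullback j).obj (_root_.Twist.twistProjSpace n R 1) ≅ L)
    (hva : ∀ x', VAat (W := g ⁻¹ᵁ ⊤) (Coh.toGlobal q') (fun l => M2.pullSec g L (coordSec j τ l)) x') :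
    IsClosedImmersion j := by
  classical
  let φS := Spec.map (CommRingCat.ofHom φ)
  let 𝒜 := CohB1.polyGrading n R
  let σ : ULift.{u} (Fin (n + 1)) → Γ((Scheme.Modules.pullback g).obj L, g ⁻¹ᵁ ⊤) :=
    fun l => M2.pullSec g L (coordSec j τ l.down)
  have hva' : ∀ x', VAat (W := g ⁻¹ᵁ ⊤) (Coh.toGlobal q') σ x' := fun x' =>
    vaat_relabel (fun l => M2.pullSec g L (coordSec j τ l)) ULift.down ULift.down_surjective (hva x')
  let π := CohB1.ProjSpace.toSpec n R
  haveI : IsProper q' := MorphismProperty.of_isPullback (P := @IsProper) sq inferInstance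
  let p := pullback.fst π φS
  let p₂ := pullback.snd π φS
  let rT := pullback.lift (f := π) (g := φS) (g ≫ j) q' (by rw [Category.assoc, hj]; exact sq.w)
  have hp : rT ≫ p = g ≫ j := pullback.lift_fst _ _ _
  have hq : rT ≫ p₂ = q' := pullback.lift_snd _ _ _
  haveI : IsAffineHom φS := inferInstance
  haveI : IsAffineHom p := MorphismProperty.pullback_fst (P := @IsAffineHom) _ _ inferInstance
  let D : ULift.{u} (Fin (n + 1)) → (CohB1.ProjSpace n R).Opens :=
    fun l => Proj.basicOpen 𝒜 (MvPolynomial.X l.down)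
  have hgw : ∀ l, gl (σ l) = g ⁻¹ᵁ gl (W := (⊤ : X.Opens)) (coordSec j τ l.down) := fun l =>
    gl_pullSec g hL (coordSec j τ l.down)
  have hjpre : ∀ l, j ⁻¹ᵁ D l = gl (W := (⊤ : X.Opens)) (coordSec j τ l.down) := fun l =>
    (gl_coordSec j τ hL l.down).symm
  have hpre : ∀ l, rT ⁻¹ᵁ (p ⁻¹ᵁ D l) = gl (σ l) := fun l => by
    rw [← Scheme.Hom.comp_preimage, hp, Scheme.Hom.comp_preimage, hjpre, hgw]
  haveI : IsImmersion rT := by
    refine isImmersion_of_vaat σ hva' rT (fun l => p ⁻¹ᵁ D l)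
      (fun l => (Proj.isAffineOpen_basicOpen 𝒜 _ (X_mem_one l.down) one_pos).preimage p) hpre
      (fun l c => ⟨p₂.appLE ⊤ (p ⁻¹ᵁ D l) le_top ((Scheme.ΓSpecIso (CommRingCat.of R')).inv c), ?_⟩)
      (fun l i => ?_)
    · have hc : ∀ {h' : X' ⟶ Spec (CommRingCat.of R')} (_ : h' = q') (h : gl (σ l) ≤ h' ⁻¹ᵁ ⊤),
          h'.appLE ⊤ (gl (σ l)) h ((Scheme.ΓSpecIso (CommRingCat.of R')).inv c) =
            ores (gl_le (σ l)) (Coh.toGlobal q' c) := by
        rintro h' rfl h; rfl
      show rT.appLE _ _ _ (p₂.appLE ⊤ _ _ _) = _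
      rw [← CommRingCat.comp_apply, Scheme.Hom.appLE_comp_appLE]
      exact hc hq _
    · let d : Γ(CohB1.ProjSpace n R, D l) := Proj.awayToSection 𝒜 (MvPolynomial.X l.down)
        (EGA2.dehom 𝒜 (X_mem_one l.down) (MvPolynomial.X i.down))
      have hd : j.appLE (D l) (gl (W := (⊤ : X.Opens)) (coordSec j τ l.down)) (hjpre l).ge d =
          cf (W := (⊤ : X.Opens)) (coordSec j τ l.down) (coordSec j τ i.down) :=
        cf_coordSec j τ hL l.down i.down
      refine ⟨p.appLE (D l) (p ⁻¹ᵁ D l) le_rfl d, ?_⟩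
      have hc : ∀ {U : (CohB1.ProjSpace n R).Opens} {h' h'' : X' ⟶ _} (_ : h' = h'') (e e') (d),
          h'.appLE U (gl (σ l)) e d = h''.appLE U (gl (σ l)) e' d := by
        rintro U h' _ rfl e e' d; rfl
      show rT.appLE _ _ _ (p.appLE _ _ _ d) = cf (σ l) (σ i)
      rw [← CommRingCat.comp_apply, Scheme.Hom.appLE_comp_appLE]
      refine (hc hp _ ((hgw l).le.trans (by rw [Scheme.Hom.comp_preimage, hjpre])) d).trans ?_
      rw [← Scheme.Hom.appLE_comp_appLE g j (D l) _ (gl (σ l)) (hjpre l).ge (hgw l).le]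
      show g.appLE _ _ _ (j.appLE _ _ _ d) = _
      refine (congrArg _ hd).trans ?_
      exact (cf_pullSec g hL (W := (⊤ : X.Opens)) _ _).symm
  haveI : IsProper (rT ≫ p₂) := hq ▸ inferInstance
  haveI : UniversallyClosed rT := UniversallyClosed.of_comp_of_isSeparated rT p₂
  have hcl : IsClosedImmersion rT := IsClosedImmersion.of_isPreimmersion rT rT.isClosedMap.isClosed_range
  have sq' : IsPullback g rT j p := by
    refine IsPullback.of_bot ?_ hp.symm (IsPullback.of_hasPullback π φS)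
    rw [hj, show rT ≫ pullback.snd π φS = q' from hq]
    exact sq
  haveI := FpqcDesc.descendsAlong_isClosedImmersion.{u}
  refine MorphismProperty.of_isPullback_of_descendsAlong (P := @IsClosedImmersion)
    (Q := @Surjective ⊓ @Flat ⊓ @QuasiCompact) sq'.flip ?_ hcl
  exact ⟨⟨MorphismProperty.pullback_fst (P := @Surjective) _ _ inferInstance,
    MorphismProperty.pullback_fst (P := @Flat) _ _ inferInstance⟩,
    MorphismProperty.pullback_fst (P := @QuasiCompact) _ _ inferInstance⟩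

variable {k : Type u} [Field k] {X : Scheme.{u}} (f : X ⟶ Spec (CommRingCat.of k))
variable {K : Type u} [Field K] [Algebra k K] {m : ℕ} (e : BrSev.Splitting f K m)

/-- Positive twists have separating families of sections. -/
theorem exists_vaat_twist (d : ℕ) :
    ∃ (κ : Type u) (σ : κ → Γ(e.twist ((d : ℤ) + 1), (⊤ : (BrSev.bc f K).Opens))),
      ∀ x, VAat (Coh.toGlobal (BrSev.bcTo f K)) σ x := by
  have hinv : ∀ j : ℤ, PicF.IsInvertible (e.twist j) := fun j =>
    PicLoc.isInvertible_pullback _ (Twist.isInvertible_twistProjSpace m K j)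
  let τ1 : (Scheme.Modules.pullback e.iso.hom).obj (_root_.Twist.twistProjSpace m K 1) ≅ e.twist 1 := Iso.refl _
  have h1 : ∀ x, VAat (Coh.toGlobal (BrSev.bcTo f K))
      (fun l : ULift.{u} (Fin (m + 1)) => coordSec e.iso.hom τ1 l.down) x := fun x =>
    vaat_relabel (coordSec e.iso.hom τ1) ULift.down ULift.down_surjective
      (vaat_coordSec e.iso.hom τ1 (hinv 1) (ρ := Coh.toGlobal (BrSev.bcTo f K))
        (fun c => by rw [e.comm]; rfl) x)
  induction d with
  | zero =>
    let ν : e.twist 1 ≅ e.twist (((0 : ℕ) : ℤ) + 1) := eqToIso (congrArg e.twist (by simp))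
    exact ⟨ULift.{u} (Fin (m + 1)), fun l => ν.hom.app ⊤ (coordSec e.iso.hom τ1 l.down),
      fun x => vaat_app_iso ν (h1 x)⟩
  | succ d ih =>
    obtain ⟨κ, σ, hσ⟩ := ih
    obtain ⟨c⟩ := Twist.nonempty_tensor_iso (CohB1.polyGrading m K) ((d : ℤ) + 1) 1
      (Twist.iSup_basicOpen_one m K)
    let μ : CohB1.tensorMod (e.twist ((d : ℤ) + 1)) (e.twist 1) ≅ e.twist (((d + 1 : ℕ) : ℤ) + 1) :=
      (M2.pullTensorIso e.iso.hom _ _).symm ≪≫ (Scheme.Modules.pullback e.iso.hom).mapIso c ≪≫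
        eqToIso (congrArg e.twist (by push_cast; ring))
    let s1 : ULift.{u} (Fin (m + 1)) → Γ(e.twist 1, (⊤ : (BrSev.bc f K).Opens)) :=
      fun l => coordSec e.iso.hom τ1 l.down
    let s2 : κ × ULift.{u} (Fin (m + 1)) → Γ(CohB1.tensorMod (e.twist ((d : ℤ) + 1)) (e.twist 1),
      (⊤ : (BrSev.bc f K).Opens)) := fun p => prodSec (σ p.1) (s1 p.2)
    have h2 : ∀ x, VAat (Coh.toGlobal (BrSev.bcTo f K)) s2 x := fun x => by
      refine vaat_prodSec (hinv _) (hinv 1) σ s1 (hσ x) ?_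
      obtain ⟨l, b, -, hb, -⟩ := h1 x
      exact ⟨l, Scheme.basicOpen_le _ b hb⟩
    exact ⟨κ × ULift.{u} (Fin (m + 1)), fun p => μ.hom.app ⊤ (s2 p), fun x => vaat_app_iso μ (h2 x)⟩

/-- The dimension of a cohomology group is computed on projective space. -/
theorem finrank_HH_toPn [CompactSpace X] [QuasiSeparatedSpace X] (M : X.Modules) (hM : Coh.IsQCoh M) (i : ℕ) :
    letI : X.Over (Spec (CommRingCat.of k)) := ⟨f⟩
    Module.finrank k (Coh.HH X M i) =
      Module.finrank K (Coh.HH (CohB1.ProjSpace m K) ((toPn f e).obj (BrSev.bcMod f K M)) i) := by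
  letI : X.Over (Spec (CommRingCat.of k)) := ⟨f⟩
  letI : (BrSev.bc f K).Over (Spec (CommRingCat.of K)) := ⟨BrSev.bcTo f K⟩
  letI : (Curv2.bc k X K).Over (Spec (CommRingCat.of K)) := ⟨Curv2.bcSnd k X K⟩
  obtain ⟨e3⟩ := CohBC18.nonempty_HH_bc (k := k) X K M hM i
  let j := e.iso.inv
  let N := BrSev.bcMod f K M
  have hN : Coh.IsQCoh N := M1.isQCoh_pullback _ hM
  have hsnd : j ≫ (BrSev.bc f K ↘ Spec (CommRingCat.of K)) = CohB1.ProjSpace.toSpec m K := by
    show e.iso.inv ≫ BrSev.bcTo f K = _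
    rw [← e.comm, Iso.inv_hom_id_assoc]
  haveI : IsIso ((Scheme.Modules.pullbackPushforwardAdjunction j).unit.app N) :=
    M1.isIso_unit_of_ker_smul j N hN fun U a ha s => by
      rw [j.ker_eq_bot_of_isIso] at ha
      rw [show a = 0 by simpa using ha, zero_smul]
  haveI : ((Scheme.Modules.pullback j).obj N).IsQuasicoherent := M1.isQCoh_pullback j hN
  obtain ⟨e1⟩ := CurveCoh17.nonempty_hequiv_push K j hsnd ((Scheme.Modules.pullback j).obj N) i
  let e2 := CurveCoh17.hequiv K (asIso ((Scheme.Modules.pullbackPushforwardAdjunction j).unit.app N)) i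
  rw [← Module.finrank_baseChange (R := K) (S := k) (M' := Coh.HH X M i)]
  exact e3.finrank_eq.trans (e2.trans e1).finrank_eq

theorem toGlobal_bc (c : k) :
    (BrSev.proj f K).app ⊤ (Coh.toGlobal f c) = Coh.toGlobal (BrSev.bcTo f K) (algebraMap k K c) := by
  show (f.appTop ≫ (BrSev.proj f K).appTop) ((Scheme.ΓSpecIso (CommRingCat.of k)).inv c) = _
  rw [← Scheme.Hom.comp_appTop, pullback.condition, Scheme.Hom.comp_appTop]
  show (BrSev.bcTo f K).appTop ((Spec.map (CommRingCat.ofHom (algebraMap k K))).appTop _) = _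
  exact congrArg (fun z => (BrSev.bcTo f K).appTop z)
    (ConcreteCategory.congr_hom (Scheme.ΓSpecIso_inv_naturality (CommRingCat.ofHom (algebraMap k K))) c).symm

/-- An invertible module becoming a positive twist embeds the form by a basis of its sections. -/
theorem exists_embedding (L : X.Modules) (hL : PicF.IsInvertible L) (d : ℕ) (hd : 0 < d)
    (ψ : BrSev.bcMod f K L ≅ e.twist (d : ℤ)) :
    ∃ (N : ℕ) (ρ : X ⟶ CohB1.ProjSpace N k), N + 1 = (m + d).choose d ∧ IsClosedImmersion ρ ∧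
      ρ ≫ CohB1.ProjSpace.toSpec N k = f ∧
      Nonempty ((Scheme.Modules.pullback ρ).obj (_root_.Twist.twistProjSpace N k 1) ≅ L) := by
  haveI := isProper_of_splitting e
  haveI := CohFound.isNoetherian_of_isProper f
  letI : X.Over (Spec (CommRingCat.of k)) := ⟨f⟩
  haveI : IsProper (X ↘ Spec (CommRingCat.of k)) := ‹IsProper f›
  have hLc : Coh.IsCoh L := Snapper.isCoh_of_isInvertible hL
  haveI : Module.Finite k (Coh.HH X L 0) := CohFound.finite_HH_of_isProper (A := k) _ hLc 0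
  have hdim : Module.finrank k (Coh.HH X L 0) = (m + d).choose d := by
    rw [finrank_HH_toPn f e L hLc.1 0,
      (CurveCoh17.hequiv K ((toPn f e).mapIso ψ ≪≫ toPnTwist f e (d : ℤ)) 0).finrank_eq]
    exact (CMReg18.finrank_h0_twist d).trans Nat.choose_symm_add
  obtain ⟨N, hN⟩ : ∃ N, N + 1 = (m + d).choose d :=
    ⟨_, Nat.succ_pred_eq_of_pos (Nat.choose_pos (Nat.le_add_left d m))⟩
  let b : Module.Basis (Fin (N + 1)) k (Coh.HH X L 0) := Module.finBasisOfFinrankEq k _ (hdim.trans hN.symm)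
  let w : Fin (N + 1) → ProjUP.Γm L := fun l => CurveCoh17.hh0 L (b l)
  let g := BrSev.proj f K
  let L' := (Scheme.Modules.pullback g).obj L
  let ρ' : K →+* Γ(BrSev.bc f K, g ⁻¹ᵁ ⊤) := Coh.toGlobal (BrSev.bcTo f K)
  let σ : Fin (N + 1) → Γ(L', g ⁻¹ᵁ ⊤) := fun l => M2.pullSec g L (w l)
  have hsec : ∀ t : Γ(L, ⊤), Sees ρ' σ (M2.pullSec g L t) := fun t => by
    obtain ⟨z, rfl⟩ := (CurveCoh17.hh0 L).surjective t
    induction b.mem_span z using Submodule.span_induction with
    | mem z hz =>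
      obtain ⟨l, rfl⟩ := hz
      exact sees_self l
    | zero =>
      rw [map_zero]
      convert sees_zero (ρ := ρ') (σ := σ) using 1
      exact map_zero _
    | add a c _ _ ha hc =>
      rw [map_add, M2.pullSec_add]
      exact sees_add ha hc
    | smul c a _ ha =>
      rw [show c • a = Coh.toGlobal f c • a from rfl, CurveCoh17.hh0_smul, M2.pullSec_smul]
      erw [toGlobal_bc f c]
      exact sees_smul (ρ := ρ') _ ha
  have hall : ∀ t : Γ(L', g ⁻¹ᵁ ⊤), Sees ρ' σ t :=
    bc_section_induction (k := k) X K L hLc.1 sees_zero (fun _ _ => sees_add) fun a t => by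
      have he : ores (le_top : g ⁻¹ᵁ ⊤ ≤ ⊤) (Coh.toGlobal (BrSev.bcTo f K) a) = ρ' a := M1.ores_id _ _
      exact (congrArg (fun c => Sees ρ' σ (c • M2.pullSec g L t)) he).mpr (sees_smul a (hsec t))
  obtain ⟨d', rfl⟩ : ∃ d', d = d' + 1 := ⟨d - 1, (Nat.succ_pred_eq_of_pos hd).symm⟩
  obtain ⟨κ, s, hs⟩ := exists_vaat_twist f e d'
  let ν : e.twist ((d' : ℤ) + 1) ≅ L' := eqToIso (congrArg e.twist (Nat.cast_succ d').symm) ≪≫ ψ.symm
  have hva : ∀ x', VAat ρ' (fun l : ULift.{u} (Fin (N + 1)) => σ l.down) x' := fun x' =>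
    vaat_of_sees (vaat_app_iso ν (hs x')) fun q =>
      ⟨(hall _).1.trans (iSup_le fun l => le_iSup (fun l : ULift.{u} (Fin (N + 1)) => gl (σ l.down)) ⟨l⟩),
        fun i => by
          have h := (hall (ν.hom.app ⊤ (s q))).2 i.down
          refine (?_ : ratSub ρ' σ i.down ≤ ratSub ρ' (fun l : ULift.{u} (Fin (N + 1)) => σ l.down) i) h
          refine Subring.closure_mono (Set.union_subset_union_right _ ?_)
          rintro _ ⟨l, rfl⟩
          exact ⟨⟨l⟩, rfl⟩⟩
  haveI : Surjective g := surjective_proj f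
  have hgen : ProjUP.GeneratedBy L w := fun x => by
    obtain ⟨x', rfl⟩ := g.surjective x
    obtain ⟨l, c, -, hc, -⟩ := hva x'
    have hl := (gl_pullSec g hL (W := (⊤ : X.Opens)) (w l.down)).le (Scheme.basicOpen_le _ c hc)
    have hgn := (mem_gl_iff hL (W := (⊤ : X.Opens)) (Opens.mem_top _)).1 hl
    refine top_le_iff.1 fun a _ => ?_
    obtain ⟨r, rfl⟩ := hgn.2 a
    exact Submodule.smul_mem _ r (Submodule.subset_span ⟨l.down, rfl⟩)
  obtain ⟨r, hr, τ, hτ⟩ := S3572.result N f L hL w hgen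
  have hw : coordSec r τ = w := funext hτ
  haveI : Flat (Spec.map (CommRingCat.ofHom (algebraMap k K))) :=
    (HasRingHomProperty.Spec_iff (P := @Flat)).2 (RingHom.flat_algebraMap_iff.2 inferInstance)
  haveI : Surjective (Spec.map (CommRingCat.ofHom (algebraMap k K))) :=
    ⟨fun y => ⟨Classical.arbitrary _, Subsingleton.elim _ _⟩⟩
  refine ⟨N, r, hN, isClosedImmersion_of_vaat_bc (algebraMap k K) f (g := g)
    (IsPullback.of_hasPullback f _) hL r hr τ (fun x' => ?_), hr, ⟨τ⟩⟩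
  rw [hw]
  exact vaat_relabel (fun l : ULift.{u} (Fin (N + 1)) => σ l.down) ULift.up ULift.up_surjective (hva x')

end Groth.Agent.KS29

end
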