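import Groth.Prelude.Def_BrSev2
import Groth.Agent.Lib.Grass.Descent
import Groth.Agent.Lib.ResDesc11.Basic
import Mathlib.AlgebraicGeometry.AffineScheme

/-!
# The sheaf of left ideals of a Severi–Brauer scheme
-/

set_option autoImplicit false
set_option linter.style.haveILetI false
set_option linter.unusedSectionVars false
set_option backward.isDefEq.respectTransparency false
set_option backward.isDefEq.respectTransparency.types false
set_option maxHeartbeats 400000

universe u

open CategoryTheory CategoryTheory.Limits AlgebraicGeometry TopologicalSpace Opposite TensorProduct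

noncomputable section

namespace Groth.Agent.KS29

open Groth.Agent GrassLib

section ev

variable {Y : Scheme.{u}}

/-- Evaluation of functions at an affine test point. -/
def ev {R : Type u} [CommRing R] (g : Spec (CommRingCat.of R) ⟶ Y) {V : Y.Opens}
    (hV : ⊤ ≤ g ⁻¹ᵁ V) : Γ(Y, V) →+* R :=
  (g.appLE V ⊤ hV ≫ (Scheme.ΓSpecIso (CommRingCat.of R)).hom).hom

variable {R : Type u} [CommRing R] (g : Spec (CommRingCat.of R) ⟶ Y)

theorem ev_res {V W : Y.Opens} (h : W ≤ V) (hW : ⊤ ≤ g ⁻¹ᵁ W) (r : Γ(Y, V)) :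
    ev g hW (Y.presheaf.map (homOfLE h).op r) = ev g (hW.trans (g.preimage_mono h)) r :=
  congrArg (Scheme.ΓSpecIso (CommRingCat.of R)).hom
    (ConcreteCategory.congr_hom (Scheme.Hom.map_appLE g hW (homOfLE h).op) r)

theorem ev_comp {S : Type u} [CommRing S] (φ : R →+* S) {V : Y.Opens} (hV : ⊤ ≤ g ⁻¹ᵁ V)
    (hV' : ⊤ ≤ (Spec.map (CommRingCat.ofHom φ) ≫ g) ⁻¹ᵁ V) (r : Γ(Y, V)) :
    ev (Spec.map (CommRingCat.ofHom φ) ≫ g) hV' r = φ (ev g hV r) := by
  have h1 : g.appLE V ⊤ hV ≫ (Spec.map (CommRingCat.ofHom φ)).appLE ⊤ ⊤ le_top =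
      (Spec.map (CommRingCat.ofHom φ) ≫ g).appLE V ⊤ hV' := Scheme.Hom.appLE_comp_appLE _ _ _ _ _ _ _
  have h2 : (Spec.map (CommRingCat.ofHom φ)).appLE ⊤ ⊤ le_top ≫ (Scheme.ΓSpecIso (CommRingCat.of S)).hom =
      (Scheme.ΓSpecIso (CommRingCat.of R)).hom ≫ CommRingCat.ofHom φ := by
    rw [Scheme.Hom.appLE]
    simp
  show (((Spec.map (CommRingCat.ofHom φ) ≫ g).appLE V ⊤ hV') ≫ (Scheme.ΓSpecIso (CommRingCat.of S)).hom) r = _
  rw [← h1, Category.assoc, h2]
  rfl

theorem ev_preimage {X : Scheme.{u}} (π : Y ⟶ X) {V : X.Opens} {W : Y.Opens} (e : W ≤ π ⁻¹ᵁ V)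
    (hW : ⊤ ≤ g ⁻¹ᵁ W) (hV : ⊤ ≤ (g ≫ π) ⁻¹ᵁ V) (r : Γ(X, V)) :
    ev g hW (π.appLE V W e r) = ev (g ≫ π) hV r := by
  show (π.appLE V W e ≫ g.appLE W ⊤ hW ≫ _) r = _
  rw [← Category.assoc, Scheme.Hom.appLE_comp_appLE]
  rfl

theorem top_le_fromSpec {W : Y.Opens} (hW : IsAffineOpen W) : ⊤ ≤ hW.fromSpec ⁻¹ᵁ W := by
  rw [hW.fromSpec_preimage_self]

theorem ev_fromSpec {W : Y.Opens} (hW : IsAffineOpen W) (r : Γ(Y, W)) :
    ev (R := Γ(Y, W)) hW.fromSpec (top_le_fromSpec hW) r = r := by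
  show (hW.fromSpec.appLE W ⊤ _ ≫ (Scheme.ΓSpecIso Γ(Y, W)).hom) r = _
  rw [Scheme.Hom.appLE, hW.fromSpec_app_self, Category.assoc, Category.assoc, ← Functor.map_comp_assoc]
  show ((Scheme.ΓSpecIso Γ(Y, W)).inv ≫ (Spec Γ(Y, W)).presheaf.map (𝟙 (op ⊤)) ≫ _) r = _
  rw [CategoryTheory.Functor.map_id, Category.id_comp, Iso.inv_hom_id]
  rfl

theorem eq_specMap_ev_fromSpec {W : Y.Opens} (hW : IsAffineOpen W) (hV : ⊤ ≤ g ⁻¹ᵁ W) :
    Spec.map (CommRingCat.ofHom (ev g hV)) ≫ hW.fromSpec = g := by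
  show Spec.map (g.appLE W ⊤ hV ≫ (Scheme.ΓSpecIso (CommRingCat.of R)).hom) ≫ _ = _
  rw [Spec.map_comp, Category.assoc, IsAffineOpen.SpecMap_appLE_fromSpec g hW (isAffineOpen_top _) hV,
    IsAffineOpen.fromSpec_top, Scheme.isoSpec_Spec_inv, ← Category.assoc, ← Spec.map_comp]
  simp

end ev

variable {k : Type u} [Field k] {A : Type u} [Ring A] [Algebra k A] {c : ℕ}
variable {X : Scheme.{u}} {f : X ⟶ Spec (CommRingCat.of k)}
variable {Y : Scheme.{u}} (π : Y ⟶ X)

/-- The `k`-algebra structure on functions on an open of a scheme over `X`. -/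
@[reducible] def algS (f : X ⟶ Spec (CommRingCat.of k)) (V : Y.Opens) : Algebra k Γ(Y, V) :=
  ((π ≫ f).appLE ⊤ V le_top).hom.comp (Scheme.ΓSpecIso (CommRingCat.of k)).inv.hom |>.toAlgebra

theorem algebraMap_algS (V : Y.Opens) (t : k) :
    letI := algS π f V
    algebraMap k Γ(Y, V) t = (π ≫ f).appLE ⊤ V le_top ((Scheme.ΓSpecIso (CommRingCat.of k)).inv t) := rfl

/-- Restriction as an algebra map. -/
def resₐ (f : X ⟶ Spec (CommRingCat.of k)) {V W : Y.Opens} (h : W ≤ V) :
    letI := algS π f V; letI := algS π f W; Γ(Y, V) →ₐ[k] Γ(Y, W) :=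
  letI := algS π f V; letI := algS π f W
  { (Y.presheaf.map (homOfLE h).op).hom with
    commutes' := fun t => ConcreteCategory.congr_hom (Scheme.Hom.appLE_map (π ≫ f) le_top (homOfLE h).op) _ }

/-- A test point over `k`. -/
abbrev IsOver (f : X ⟶ Spec (CommRingCat.of k)) {R : Type u} [CommRing R] [Algebra k R]
    (g : Spec (CommRingCat.of R) ⟶ Y) : Prop :=
  g ≫ π ≫ f = Spec.map (CommRingCat.ofHom (algebraMap k R))

/-- Evaluation as an algebra map. -/
def evₐ {R : Type u} [CommRing R] [Algebra k R] (g : Spec (CommRingCat.of R) ⟶ Y) (hg : IsOver π f g)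
    {V : Y.Opens} (hV : ⊤ ≤ g ⁻¹ᵁ V) :
    letI := algS π f V; Γ(Y, V) →ₐ[k] R :=
  letI := algS π f V
  { ev g hV with
    commutes' := fun t => by
      show (((π ≫ f).appLE ⊤ V le_top ≫ g.appLE V ⊤ hV) ≫ (Scheme.ΓSpecIso (CommRingCat.of R)).hom)
        ((Scheme.ΓSpecIso (CommRingCat.of k)).inv t) = _
      rw [Scheme.Hom.appLE_comp_appLE]
      simp only [show g ≫ π ≫ f = Spec.map (CommRingCat.ofHom (algebraMap k R)) from hg]
      show ((Scheme.ΓSpecIso (CommRingCat.of k)).inv ≫ _ ≫ _) t = _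
      rw [Scheme.Hom.appLE]
      simp }

/-- An affine open as a test point. -/
theorem isOver_fromSpec {W : Y.Opens} (hW : IsAffineOpen W) :
    letI := algS π f W; IsOver π f (R := Γ(Y, W)) hW.fromSpec := by
  letI := algS π f W
  show hW.fromSpec ≫ π ≫ f = Spec.map ((Scheme.ΓSpecIso (CommRingCat.of k)).inv ≫ (π ≫ f).appLE ⊤ W le_top)
  rw [Spec.map_comp, ← IsAffineOpen.SpecMap_appLE_fromSpec (π ≫ f) (isAffineOpen_top _) hW le_top,
    IsAffineOpen.fromSpec_top, Scheme.isoSpec_Spec_inv]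

section fam

variable [FiniteDimensional k A] (st : BrSev.SBStr k A c f)

/-- The element with given coordinates. -/
def el (R : Type u) [CommRing R] [Algebra k R] : (Fin (Module.finrank k A) → R) →ₗ[R] R ⊗[k] A :=
  lc R (Module.finBasis k A)

/-- The coordinates of an element. -/
def co (R : Type u) [CommRing R] [Algebra k R] (z : R ⊗[k] A) : Fin (Module.finrank k A) → R :=
  fun i => (Algebra.TensorProduct.basis R (Module.finBasis k A)).repr z i

theorem el_co (R : Type u) [CommRing R] [Algebra k R] (z : R ⊗[k] A) : el R (co R z) = z := by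
  conv_rhs => rw [← (Algebra.TensorProduct.basis R (Module.finBasis k A)).sum_repr z]
  rw [el, lc_apply]
  simp [co, TensorProduct.smul_tmul']

theorem co_el (R : Type u) [CommRing R] [Algebra k R] (s : Fin (Module.finrank k A) → R) :
    co R (el (A := A) R s) = s := by
  funext i
  show (Algebra.TensorProduct.basis R (Module.finBasis k A)).repr (el R s) i = s i
  rw [el, lc_apply]
  simp [Finsupp.single_apply]

theorem el_injective (R : Type u) [CommRing R] [Algebra k R] : Function.Injective (el (k := k) (A := A) R) :=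
  Function.LeftInverse.injective (co_el R)

theorem tm_el {R S : Type u} [CommRing R] [Algebra k R] [CommRing S] [Algebra k S] (φ : R →ₐ[k] S)
    (s : Fin (Module.finrank k A) → R) : tm φ (el (A := A) R s) = el S fun i => φ (s i) :=
  tm_lc φ _ s

/-- The left ideal at a test point. -/
def pt {R : Type u} [CommRing R] [Algebra k R] (g : Spec (CommRingCat.of R) ⟶ Y) (hg : IsOver π f g) :
    Pt k A c R :=
  (st.bij R ⟨g ≫ π, by rw [Category.assoc]; exact hg⟩).1

theorem isOver_comp {R S : Type u} [CommRing R] [Algebra k R] [CommRing S] [Algebra k S] (φ : R →ₐ[k] S)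
    {g : Spec (CommRingCat.of R) ⟶ Y} (hg : IsOver π f g) :
    IsOver π f (Spec.map (CommRingCat.ofHom φ.toRingHom) ≫ g) := by
  show (_ ≫ g) ≫ π ≫ f = _
  rw [Category.assoc, show g ≫ π ≫ f = _ from hg]
  exact BrSev.specMap_comp_specMap_algebraMap φ

theorem pt_congr {R : Type u} [CommRing R] [Algebra k R] {g g' : Spec (CommRingCat.of R) ⟶ Y}
    (h : g = g') (hg : IsOver π f g) (hg' : IsOver π f g') : pt π st g hg = pt π st g' hg' := by
  subst h; rfl

theorem pt_natural {R S : Type u} [CommRing R] [Algebra k R] [CommRing S] [Algebra k S] (φ : R →ₐ[k] S)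
    (g : Spec (CommRingCat.of R) ⟶ Y) (hg : IsOver π f g) :
    pt π st (Spec.map (CommRingCat.ofHom φ.toRingHom) ≫ g) (isOver_comp π φ hg) = gmap φ (pt π st g hg) := by
  refine Module.Grassmannian.ext ?_
  have := st.natural R S φ ⟨g ≫ π, by rw [Category.assoc]; exact hg⟩
  refine Eq.trans ?_ this
  refine congrArg (fun q : BrSev.Pts f S => (st.bij S q).1.toSubmodule) (Subtype.ext ?_)
  exact Category.assoc _ _ _

/-- Membership in the sheaf of left ideals. -/
def Mem (V : Y.Opens) (s : Fin (Module.finrank k A) → Γ(Y, V)) : Prop :=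
  ∀ (R : Type u) [CommRing R] [Algebra k R] (g : Spec (CommRingCat.of R) ⟶ Y) (hg : IsOver π f g)
    (hV : ⊤ ≤ g ⁻¹ᵁ V), el R (fun i => ev g hV (s i)) ∈ (pt π st g hg).toSubmodule

/-- Sections of the sheaf of left ideals. -/
def secs (V : Y.Opens) : Submodule Γ(Y, V) (Fin (Module.finrank k A) → Γ(Y, V)) where
  carrier := {s | Mem π st V s}
  add_mem' {s t} hs ht R _ _ g hg hV := by
    have := add_mem (hs R g hg hV) (ht R g hg hV)
    rw [← map_add] at this
    convert this using 2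
    funext i
    exact map_add _ _ _
  zero_mem' R _ _ g hg hV := by
    convert zero_mem (pt π st g hg).toSubmodule
    rw [← map_zero (el (A := A) R)]
    congr 1
    funext i
    exact map_zero _
  smul_mem' r s hs R _ _ g hg hV := by
    have := Submodule.smul_mem _ (ev g hV r) (hs R g hg hV)
    rw [← map_smul] at this
    convert this using 2
    funext i
    exact map_mul _ _ _

theorem mem_res {V W : Y.Opens} (h : W ≤ V) {s : Fin (Module.finrank k A) → Γ(Y, V)} (hs : s ∈ secs π st V) :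
    (fun i => Y.presheaf.map (homOfLE h).op (s i)) ∈ secs π st W := fun R _ _ g hg hW => by
  simp only [ev_res g h hW]
  exact hs R g hg _

theorem exists_away_cover {R : Type u} [CommRing R] {ι : Type*} (O : ι → (Spec (CommRingCat.of R)).Opens)
    (hO : ⊤ ≤ ⨆ i, O i) :
    Ideal.span {a : R | ∃ i, (PrimeSpectrum.basicOpen a : Set (PrimeSpectrum R)) ⊆ ((O i : Set (Spec (CommRingCat.of R))) : Set (PrimeSpectrum R))} = ⊤ := by
  by_contra hne
  obtain ⟨M, hM, hle⟩ := Ideal.exists_le_maximal _ hne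
  obtain ⟨i, hi⟩ := Opens.mem_iSup.1 (hO (show (⟨M, hM.isPrime⟩ : PrimeSpectrum R) ∈ (⊤ : Opens _) from trivial))
  obtain ⟨_, ⟨a, rfl⟩, hpa, ha⟩ :=
    PrimeSpectrum.isTopologicalBasis_basic_opens.exists_subset_of_mem_open hi (O i).2
  exact hpa (hle (Ideal.subset_span ⟨i, ha⟩))

/-- Membership is local. -/
theorem mem_of_locally {ι : Type*} {U : ι → Y.Opens} {V : Y.Opens} (hUV : ∀ i, U i ≤ V) (hV : V ≤ ⨆ i, U i)
    {s : Fin (Module.finrank k A) → Γ(Y, V)}
    (hs : ∀ i, (fun l => Y.presheaf.map (homOfLE (hUV i)).op (s l)) ∈ secs π st (U i)) : s ∈ secs π st V := by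
  intro R _ _ g hg hgV
  have hcov : ⊤ ≤ ⨆ i, g ⁻¹ᵁ U i := by
    rw [← Scheme.Hom.preimage_iSup]
    exact hgV.trans (g.preimage_mono hV)
  refine Submodule.mem_of_span_eq_top_of_smul_pow_mem _ _ (exists_away_cover _ hcov) _ fun a => ?_
  obtain ⟨i, hi⟩ := a.2
  refine (tm_mem_gmap_iff (B := Localization.Away a.1) a.1 (pt π st g hg) _).mp ?_
  let φ := IsScalarTower.toAlgHom k R (Localization.Away a.1)
  rw [show IsScalarTower.toAlgHom k R (Localization.Away a.1) = φ from rfl, ← pt_natural, tm_el]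
  have hU : ⊤ ≤ (Spec.map (CommRingCat.ofHom φ.toRingHom) ≫ g) ⁻¹ᵁ U i := fun z _ =>
    hi ((PrimeSpectrum.localization_away_comap_range (Localization.Away a.1) a.1).le ⟨z, rfl⟩)
  convert hs i _ _ (isOver_comp π φ hg) hU using 2
  funext l
  rw [ev_res, ev_comp g φ.toRingHom hgV]
  rfl

theorem eq_zero_of_affine {V : Y.Opens} (r : Γ(Y, V))
    (h : ∀ (W : Y.Opens) (hW : W ≤ V), IsAffineOpen W → Y.presheaf.map (homOfLE hW).op r = 0) : r = 0 := by
  refine TopCat.Presheaf.section_ext Y.sheaf V r 0 fun x hx => ?_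
  obtain ⟨W, hW, hxW, hWV⟩ :=
    Y.isBasis_affineOpens.exists_subset_of_mem_open (show x ∈ (V : Set Y) from hx) V.2
  obtain ⟨W, hWa, rfl⟩ := hW
  rw [map_zero]
  refine ((Y.presheaf.germ_res_apply (homOfLE hWV) x hxW r).symm.trans ?_)
  rw [h W hWV hWa, map_zero]

/-- The presheaf of sections. -/
def famAb : Y.Opensᵒᵖ ⥤ Ab.{u} where
  obj V := AddCommGrpCat.of (secs π st V.unop)
  map {V W} i := AddCommGrpCat.ofHom
    { toFun := fun s => ⟨fun l => Y.presheaf.map i (s.1 l), mem_res π st i.unop.le s.2⟩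
      map_zero' := Subtype.ext (funext fun _ => map_zero _)
      map_add' := fun s t => Subtype.ext (funext fun _ => map_add _ _ _) }
  map_id V := by
    refine AddCommGrpCat.ext fun s => Subtype.ext (funext fun l => ?_)
    show Y.presheaf.map (𝟙 V) (s.1 l) = s.1 l
    rw [CategoryTheory.Functor.map_id]; rfl
  map_comp {V W Z} i j := by
    refine AddCommGrpCat.ext fun s => Subtype.ext (funext fun l => ?_)
    show Y.presheaf.map (i ≫ j) (s.1 l) = Y.presheaf.map j (Y.presheaf.map i (s.1 l))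
    rw [CategoryTheory.Functor.map_comp]; rfl

theorem isSheaf_famAb : TopCat.Presheaf.IsSheaf (X := Y.toTopCat) (famAb π st) := by
  refine (TopCat.Presheaf.isSheaf_iff_isSheafUniqueGluing (famAb π st)).2 fun ι U sf hsf => ?_
  have hg : ∀ l, ∃! r : Γ(Y, iSup U), ∀ i, Y.presheaf.map (Opens.leSupr U i).op r = (sf i).1 l := fun l =>
    Y.sheaf.existsUnique_gluing U (fun i => (sf i).1 l)
      fun i j => congrFun (congrArg Subtype.val (hsf i j)) l
  choose r hr hu using hg
  refine ⟨⟨r, mem_of_locally π st (U := U) (fun i => le_iSup U i) le_rfl fun i => ?_⟩,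
    fun i => Subtype.ext (funext fun l => hr l i), fun t ht => Subtype.ext (funext fun l => ?_)⟩
  · convert (sf i).2 using 1
    funext l
    exact hr l i
  · exact hu l (t.1 l) fun i => congrFun (congrArg Subtype.val (ht i)) l

/-- The sheaf of left ideals. -/
def fam : Y.Modules where
  val := @PresheafOfModules.ofPresheaf _ _ Y.ringCatSheaf.obj (famAb π st)
    (fun V => inferInstanceAs (Module Γ(Y, V.unop) (secs π st V.unop)))
    (fun _ _ i r s => Subtype.ext (funext fun l => map_mul (Y.presheaf.map i).hom r (s.1 l)))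
  isSheaf := isSheaf_famAb π st

/-- The coordinates of a section. -/
def secVal {V : Y.Opens} (s : Γ(fam π st, V)) : Fin (Module.finrank k A) → Γ(Y, V) := Subtype.val s

theorem secVal_mem {V : Y.Opens} (s : Γ(fam π st, V)) : secVal π st s ∈ secs π st V := Subtype.property s

/-- A section with given coordinates. -/
def secMk {V : Y.Opens} (v : Fin (Module.finrank k A) → Γ(Y, V)) (hv : v ∈ secs π st V) : Γ(fam π st, V) := ⟨v, hv⟩

theorem secVal_mk {V : Y.Opens} (v : Fin (Module.finrank k A) → Γ(Y, V)) (hv : v ∈ secs π st V) :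
    secVal π st (secMk π st v hv) = v := rfl

theorem secVal_ext {V : Y.Opens} {s t : Γ(fam π st, V)} (h : secVal π st s = secVal π st t) : s = t := Subtype.ext h

theorem secVal_smul {V : Y.Opens} (r : Γ(Y, V)) (s : Γ(fam π st, V)) : secVal π st (r • s) = r • secVal π st s := rfl

theorem secVal_add {V : Y.Opens} (s t : Γ(fam π st, V)) : secVal π st (s + t) = secVal π st s + secVal π st t := rfl

theorem secVal_zero {V : Y.Opens} : secVal π st (0 : Γ(fam π st, V)) = 0 := rfl

theorem secVal_sum {V : Y.Opens} {ι : Type*} (t : Finset ι) (s : ι → Γ(fam π st, V)) :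
    secVal π st (∑ j ∈ t, s j) = ∑ j ∈ t, secVal π st (s j) :=
  map_sum (AddMonoidHom.mk' (secVal π st (V := V)) (secVal_add π st)) s t

theorem secVal_mres {V W : Y.Opens} (h : W ≤ V) (s : Γ(fam π st, V)) :
    secVal π st (M1.mres (fam π st) h s) = fun l => Y.presheaf.map (homOfLE h).op (secVal π st s l) := rfl

/-- A chart: equations cutting out the left ideals over `U`. -/
structure Chart (U : Y.Opens) where
  /-- constants forming a basis of the quotient -/
  x : Fin c → A
  /-- the quotient coordinates -/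
  L : Fin c → Fin (Module.finrank k A) → Γ(Y, U)
  L_x : ∀ (R : Type u) [CommRing R] [Algebra k R] (g : Spec (CommRingCat.of R) ⟶ Y) (_ : IsOver π f g)
    (hU : ⊤ ≤ g ⁻¹ᵁ U) (l l' : Fin c),
      ∑ i, ev g hU (L l i) * algebraMap k R ((Module.finBasis k A).repr (x l') i) = if l = l' then 1 else 0
  spec : ∀ (R : Type u) [CommRing R] [Algebra k R] (g : Spec (CommRingCat.of R) ⟶ Y) (hg : IsOver π f g)
    (hU : ⊤ ≤ g ⁻¹ᵁ U) (v : Fin (Module.finrank k A) → R),
      el R v ∈ (pt π st g hg).toSubmodule ↔ ∀ l, ∑ i, ev g hU (L l i) * v i = 0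

variable {π st}

theorem Chart.mem_iff {U : Y.Opens} (C : Chart π st U) {V : Y.Opens} (hV : V ≤ U)
    (s : Fin (Module.finrank k A) → Γ(Y, V)) :
    s ∈ secs π st V ↔ ∀ l, ∑ i, Y.presheaf.map (homOfLE hV).op (C.L l i) * s i = 0 := by
  constructor
  · intro hs l
    refine eq_zero_of_affine _ fun W hW hWa => ?_
    letI := algS π f W
    have hWU : ⊤ ≤ hWa.fromSpec ⁻¹ᵁ U := (top_le_fromSpec hWa).trans (Scheme.Hom.preimage_mono _ (hW.trans hV))
    have hWV : ⊤ ≤ hWa.fromSpec ⁻¹ᵁ V := (top_le_fromSpec hWa).trans (Scheme.Hom.preimage_mono _ hW)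
    have key : ∀ z : Γ(Y, V), ev (R := Γ(Y, W)) hWa.fromSpec hWV z = Y.presheaf.map (homOfLE hW).op z := fun z => by
      rw [← ev_res (R := Γ(Y, W)) hWa.fromSpec hW (top_le_fromSpec hWa) z, ev_fromSpec]
    have := (C.spec Γ(Y, W) hWa.fromSpec (isOver_fromSpec π hWa) hWU _).1
      (hs Γ(Y, W) hWa.fromSpec (isOver_fromSpec π hWa) hWV) l
    rw [← this, map_sum]
    refine Finset.sum_congr rfl fun i _ => ?_
    rw [map_mul, ← key (s i), ← key, ev_res]
  · intro h R _ _ g hg hgV
    rw [C.spec R g hg (hgV.trans (g.preimage_mono hV))]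
    intro l
    have := congrArg (ev g hgV) (h l)
    rw [map_sum, map_zero] at this
    rw [← this]
    refine Finset.sum_congr rfl fun i _ => ?_
    rw [map_mul, ev_res g hV hgV]

end fam

end Groth.Agent.KS29
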