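import Groth.Agent.Lib.KS29.SBFam
import Groth.Agent.Lib.AmpleFin18.ProjFree
import Groth.Agent.Lib.PullBC11.Crit

/-!
# Local frames of the sheaf of left ideals
-/

set_option autoImplicit false
set_option linter.style.haveILetI false
set_option linter.unusedSectionVars false
set_option backward.isDefEq.respectTransparency false
set_option backward.isDefEq.respectTransparency.types false
set_option maxHeartbeats 800000

universe u

open CategoryTheory CategoryTheory.Limits AlgebraicGeometry TopologicalSpace Opposite TensorProduct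

noncomputable section

namespace Groth.Agent.KS29

open Groth.Agent GrassLib P1Split

variable {k : Type u} [Field k] {A : Type u} [Ring A] [Algebra k A] [FiniteDimensional k A] {c : ℕ}
variable {X : Scheme.{u}} {f : X ⟶ Spec (CommRingCat.of k)}
variable {Y : Scheme.{u}} {π : Y ⟶ X} {st : BrSev.SBStr k A c f}

theorem co_tmul (R : Type u) [CommRing R] [Algebra k R] (a : A) (i : Fin (Module.finrank k A)) :
    co R ((1 : R) ⊗ₜ[k] a) i = algebraMap k R ((Module.finBasis k A).repr a i) := by
  simp [co, Algebra.TensorProduct.basis_repr_tmul]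

theorem liftBaseChange_el {R : Type u} [CommRing R] [Algebra k R] (ℓ : A →ₗ[k] (Fin c → R))
    (v : Fin (Module.finrank k A) → R) (l : Fin c) :
    ℓ.liftBaseChange R (el R v) l = ∑ i, ℓ (Module.finBasis k A i) l * v i := by
  rw [el, lc_apply, map_sum, Finset.sum_apply]
  exact Finset.sum_congr rfl fun i _ => by simp [mul_comm]

/-- Charts exist around every point, with independent constants. -/
theorem exists_chart (y : Y) :
    ∃ (U : Y.Opens) (C : Chart π st U), y ∈ U ∧ LinearIndependent k C.x := by
  obtain ⟨W₀, hW₀, hy₀, -⟩ :=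
    Y.isBasis_affineOpens.exists_subset_of_mem_open (show y ∈ (Set.univ : Set Y) from trivial) isOpen_univ
  obtain ⟨W, hWa, rfl⟩ := hW₀
  letI := algS π f W
  let q : PrimeSpectrum Γ(Y, W) := hWa.primeIdealOf ⟨y, hy₀⟩
  obtain ⟨a, haq, x, hx⟩ := exists_inChart_away (pt π st (R := Γ(Y, W)) hWa.fromSpec (isOver_fromSpec π hWa)) q
  let U := Y.basicOpen a
  have hUW : U ≤ W := Y.basicOpen_le a
  have hyU : y ∈ U := by
    have : q ∈ hWa.fromSpec ⁻¹ᵁ U := by rw [hWa.fromSpec_preimage_basicOpen]; exact haq
    have e : hWa.fromSpec q = y := hWa.fromSpec_primeIdealOf ⟨y, hy₀⟩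
    rw [← e]
    exact this
  have hUa : IsAffineOpen U := hWa.basicOpen a
  letI := algS π f U
  let φ : Γ(Y, W) →ₐ[k] Γ(Y, U) := resₐ π f hUW
  have hu : IsUnit (φ a) := Y.toRingedSpace.isUnit_res_basicOpen a
  let ψ : Localization.Away a →ₐ[k] Γ(Y, U) :=
    { IsLocalization.Away.lift a (g := φ.toRingHom) hu with
      commutes' := fun t => by
        show IsLocalization.Away.lift a (g := φ.toRingHom) hu (algebraMap k (Localization.Away a) t) = _
        rw [IsScalarTower.algebraMap_apply k Γ(Y, W) (Localization.Away a), IsLocalization.Away.lift_eq]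
        exact φ.commutes t }
  have hψ : ψ.comp (IsScalarTower.toAlgHom k Γ(Y, W) (Localization.Away a)) = φ :=
    AlgHom.ext fun z => IsLocalization.Away.lift_eq a hu z
  have hS := hx.gmap ψ
  rw [← gmap_comp, hψ, ← pt_natural] at hS
  have hN : pt π st (R := Γ(Y, U)) (Spec.map (CommRingCat.ofHom φ.toRingHom) ≫ hWa.fromSpec)
        (isOver_comp π φ (isOver_fromSpec π hWa)) =
      pt π st (R := Γ(Y, U)) hUa.fromSpec (isOver_fromSpec π hUa) :=
    pt_congr π st (hWa.map_fromSpec hUa (homOfLE hUW).op) _ _
  rw [hN] at hS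
  let C : Chart π st U :=
    { x := x
      L := fun l i => hS.ell (Module.finBasis k A i) l
      L_x := fun R _ _ g hg hU l l' => by
        let e := evₐ π g hg hU
        have h2 : ∑ i, hS.ell (Module.finBasis k A i) l * algebraMap k Γ(Y, U) ((Module.finBasis k A).repr (x l') i) =
            if l = l' then 1 else 0 := by
          calc _ = hS.ell (∑ i, (Module.finBasis k A).repr (x l') i • Module.finBasis k A i) l := by
                rw [map_sum, Finset.sum_apply]
                exact Finset.sum_congr rfl fun i _ => by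
                  rw [map_smul, Pi.smul_apply, Algebra.smul_def, mul_comm]
            _ = _ := by rw [Module.Basis.sum_repr, hS.ell_apply_x, Pi.single_apply]
        have := congrArg e h2
        rw [map_sum, apply_ite e, map_one, map_zero] at this
        refine Eq.trans (Finset.sum_congr rfl fun i _ => ?_) this
        rw [map_mul, AlgHom.commutes]
        rfl
      spec := fun R _ _ g hg hU v => by
        let e := evₐ π g hg hU
        have hg' : pt π st g hg = gmap e (pt π st (R := Γ(Y, U)) hUa.fromSpec (isOver_fromSpec π hUa)) :=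
          (pt_congr π st (eq_specMap_ev_fromSpec g hUa hU).symm hg _).trans (pt_natural π st e _ _)
        rw [hg', (hS.gmap e).mem_iff, funext_iff]
        refine forall_congr' fun l => ?_
        rw [liftBaseChange_el]
        simp only [hS.ell_gmap e, Pi.zero_apply]
        rfl }
  refine ⟨U, C, hyU, ?_⟩
  haveI : Nontrivial Γ(Y, U) := (Y.presheaf.germ U y hyU).hom.domain_nontrivial
  rw [Fintype.linearIndependent_iff]
  intro t ht l
  have hx' : ∀ i, hS.ell (C.x i) = Pi.single i 1 := hS.ell_apply_x
  have h := congrArg (fun a : A => hS.ell a l) ht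
  simp only [map_sum, map_smul, hx', Finset.sum_apply, Pi.smul_apply, Pi.single_apply,
    map_zero, Pi.zero_apply, smul_ite, smul_zero, Finset.sum_ite_eq, Finset.mem_univ, if_true] at h
  simp only [Pi.single_apply, smul_ite, smul_zero, Finset.sum_ite_eq, Finset.mem_univ, if_true,
    Algebra.smul_def, mul_one, mul_ite, mul_zero] at h
  exact (algebraMap k Γ(Y, U)).injective (by rw [h, map_zero])

/-- A chart pulls back. -/
def Chart.comap {Y' : Scheme.{u}} (π' : Y' ⟶ Y) {U : Y.Opens} (C : Chart π st U) :
    Chart (π' ≫ π) st (π' ⁻¹ᵁ U) where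
  x := C.x
  L l i := π'.app U (C.L l i)
  L_x R _ _ g hg hU l l' := by
    have hg' : IsOver π f (g ≫ π') := by
      show (g ≫ π') ≫ π ≫ f = _
      have : g ≫ (π' ≫ π) ≫ f = _ := hg
      simpa only [Category.assoc] using this
    rw [← C.L_x R (g ≫ π') hg' hU l l']
    refine Finset.sum_congr rfl fun i _ => ?_
    rw [← Scheme.Hom.appLE_eq_app π', ev_preimage g π' le_rfl hU hU]
  spec R _ _ g hg hU v := by
    have hg' : IsOver π f (g ≫ π') := by
      show (g ≫ π') ≫ π ≫ f = _
      have : g ≫ (π' ≫ π) ≫ f = _ := hg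
      simpa only [Category.assoc] using this
    have hN : pt (π' ≫ π) st g hg = pt π st (g ≫ π') hg' := by
      unfold pt
      refine congrArg (fun q : BrSev.Pts f R => (st.bij R q).1) (Subtype.ext ?_)
      exact (Category.assoc _ _ _).symm
    rw [hN, C.spec R (g ≫ π') hg' hU v]
    refine forall_congr' fun l => ?_
    refine Eq.congr_left (Finset.sum_congr rfl fun i _ => ?_)
    rw [← Scheme.Hom.appLE_eq_app π', ev_preimage g π' le_rfl hU hU]

variable {U : Y.Opens} (C : Chart π st U) {n : ℕ} (yb : Fin n → A)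

/-- The quotient coordinates on an open inside a chart. -/
def Chart.lam {V : Y.Opens} (hV : V ≤ U) :
    letI := algS π f V; A →ₗ[k] (Fin c → Γ(Y, V)) :=
  letI := algS π f V
  { toFun := fun a l => ∑ i, Y.presheaf.map (homOfLE hV).op (C.L l i) *
      algebraMap k Γ(Y, V) ((Module.finBasis k A).repr a i)
    map_add' := fun a b => funext fun l => by simp [mul_add, Finset.sum_add_distrib]
    map_smul' := fun t a => funext fun l => by
      simp only [map_smul, Finsupp.smul_apply, smul_eq_mul, map_mul, RingHom.id_apply, Pi.smul_apply]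
      rw [Algebra.smul_def, Finset.mul_sum]
      exact Finset.sum_congr rfl fun i _ => by ring }

theorem Chart.lam_x {V : Y.Opens} (hV : V ≤ U) (l : Fin c) :
    letI := algS π f V; C.lam hV (C.x l) = Pi.single l 1 := by
  letI := algS π f V
  funext l'
  refine sub_eq_zero.1 (eq_zero_of_affine _ fun W hW hWa => ?_)
  letI := algS π f W
  have hWU : ⊤ ≤ hWa.fromSpec ⁻¹ᵁ U := (top_le_fromSpec hWa).trans (Scheme.Hom.preimage_mono _ (hW.trans hV))
  have := C.L_x Γ(Y, W) hWa.fromSpec (isOver_fromSpec π hWa) hWU l' l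
  rw [map_sub, sub_eq_zero]
  simp only [Chart.lam, LinearMap.coe_mk, AddHom.coe_mk, map_sum]
  rw [Pi.single_apply, apply_ite (Y.presheaf.map (homOfLE hW).op), map_one, map_zero, ← this]
  refine Finset.sum_congr rfl fun i _ => ?_
  rw [map_mul]
  congr 1
  · rw [← ev_fromSpec hWa (Y.presheaf.map (homOfLE hW).op _), ev_res, ev_res]
  · exact (resₐ π f hW).commutes _

theorem Chart.mem_iff_lam {V : Y.Opens} (hV : V ≤ U) (s : Fin (Module.finrank k A) → Γ(Y, V)) :
    letI := algS π f V; s ∈ secs π st V ↔ (C.lam hV).liftBaseChange Γ(Y, V) (el _ s) = 0 := by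
  letI := algS π f V
  rw [C.mem_iff hV, funext_iff]
  refine forall_congr' fun l => Eq.congr_left ?_
  rw [liftBaseChange_el]
  refine Finset.sum_congr rfl fun i _ => ?_
  congr 1
  show _ = ∑ j, _ * algebraMap k Γ(Y, V) ((Module.finBasis k A).repr (Module.finBasis k A i) j)
  simp [Finsupp.single_apply]

theorem Chart.lam_res {V W : Y.Opens} (hV : V ≤ U) (h : W ≤ V) (a : A) :
    letI := algS π f W; letI := algS π f V
    C.lam (h.trans hV) a = fun l => resₐ π f h (C.lam hV a l) := by
  letI := algS π f W; letI := algS π f V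
  funext l
  simp only [Chart.lam, LinearMap.coe_mk, AddHom.coe_mk, map_sum]
  refine Finset.sum_congr rfl fun i _ => ?_
  rw [map_mul, AlgHom.commutes]
  congr 1
  exact (ConcreteCategory.congr_hom (Y.presheaf.map_comp (homOfLE hV).op (homOfLE h).op) _)

/-- The element `1 ⊗ a` corrected into the left ideal. -/
def Chart.corr {V : Y.Opens} (hV : V ≤ U) (a : A) : letI := algS π f V; Γ(Y, V) ⊗[k] A :=
  letI := algS π f V; (1 : Γ(Y, V)) ⊗ₜ[k] a - lc Γ(Y, V) C.x (C.lam hV a)

theorem Chart.corr_mem {V : Y.Opens} (hV : V ≤ U) (a : A) :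
    letI := algS π f V; co Γ(Y, V) (C.corr hV a) ∈ secs π st V := by
  letI := algS π f V
  rw [C.mem_iff_lam hV, el_co, Chart.corr, map_sub, liftBaseChange_lc _ _ (C.lam_x hV), sub_eq_zero]
  simp

theorem Chart.corr_res {V W : Y.Opens} (hV : V ≤ U) (h : W ≤ V) (a : A) :
    letI := algS π f V; letI := algS π f W
    C.corr (h.trans hV) a = tm (resₐ π f h) (C.corr hV a) := by
  letI := algS π f V; letI := algS π f W
  rw [Chart.corr, Chart.corr, map_sub, tm_lc, C.lam_res hV h]
  simp

/-- The frame of a chart. -/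
def Chart.frame (j : Fin n) : Γ(fam π st, U) :=
  letI := algS π f U; secMk π st (co Γ(Y, U) (C.corr le_rfl (yb j))) (C.corr_mem le_rfl _)

theorem Chart.el_frame {V : Y.Opens} (hV : V ≤ U) (j : Fin n) :
    letI := algS π f V
    el Γ(Y, V) (secVal π st (M1.mres (fam π st) hV (C.frame yb j))) = C.corr hV (yb j) := by
  letI := algS π f V; letI := algS π f U
  rw [secVal_mres, Chart.frame, secVal_mk, C.corr_res le_rfl hV]
  conv_rhs => rw [← el_co Γ(Y, U) (C.corr le_rfl (yb j)), tm_el]
  rfl

theorem Chart.isBas_frame (B : Module.Basis (Fin c ⊕ Fin n) k A) (hBx : ∀ l, B (Sum.inl l) = C.x l)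
    (hBy : ∀ j, B (Sum.inr j) = yb j) : IsBas (fam π st) U (C.frame yb) := by
  classical
  intro V hV
  letI := algS π f V
  let S := Γ(Y, V)
  let SB := Algebra.TensorProduct.basis S B
  have hel : ∀ β : Fin n → S, el S (secVal π st (∑ j, β j • M1.mres (fam π st) hV (C.frame yb j))) =
      ∑ j, β j • SB (Sum.inr j) - ∑ l, (∑ j, β j * C.lam hV (yb j) l) • SB (Sum.inl l) := fun β => by
    rw [secVal_sum, map_sum]
    refine Eq.trans (Finset.sum_congr rfl fun j _ => (congrArg (el S) (secVal_smul π st (β j) _)).trans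
      (((el S).map_smul (β j) _).trans (congrArg (β j • ·) (C.el_frame yb hV j)))) ?_
    simp only [Chart.corr, smul_sub, Finset.sum_sub_distrib, lc_apply,
      SB, Algebra.TensorProduct.basis_apply, hBx, hBy, Finset.smul_sum, Finset.sum_smul]
    congr 1
    rw [Finset.sum_comm]
    simp only [TensorProduct.smul_tmul', smul_eq_mul, mul_one, TensorProduct.sum_tmul]
  refine ⟨fun β β' h => funext fun j => ?_, fun s => ?_⟩
  · have := congrArg (fun z => SB.repr (el S (secVal π st z)) (Sum.inr j)) h
    simp only [hel] at this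
    simpa [Finsupp.single_apply] using this
  · let α : Fin c → S := fun l => SB.repr (el S (secVal π st s)) (Sum.inl l)
    let β : Fin n → S := fun j => SB.repr (el S (secVal π st s)) (Sum.inr j)
    refine ⟨β, secVal_ext π st (el_injective S ?_)⟩
    have hsum : el S (secVal π st s) = (∑ l, α l • SB (Sum.inl l)) + ∑ j, β j • SB (Sum.inr j) := by
      conv_lhs => rw [← SB.sum_repr (el S (secVal π st s))]
      rw [Fintype.sum_sum_type]
    have hmem := (C.mem_iff_lam hV _).1 (secVal_mem π st s)
    rw [hsum, map_add, map_sum, map_sum] at hmem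
    simp only [SB, map_smul, Algebra.TensorProduct.basis_apply, hBx, hBy, LinearMap.liftBaseChange_tmul,
      one_smul, C.lam_x hV] at hmem
    rw [hel, hsum, sub_eq_add_neg, ← Finset.sum_neg_distrib, add_comm]
    congr 1
    refine Finset.sum_congr rfl fun l _ => ?_
    rw [← neg_smul]
    congr 1
    have hl := congrFun hmem l
    simp only [Pi.add_apply, Finset.sum_apply, Pi.smul_apply, Pi.single_apply, smul_eq_mul, mul_ite, mul_one,
      mul_zero, Finset.sum_ite_eq, Finset.mem_univ, if_true, Pi.zero_apply] at hl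
    rw [neg_eq_iff_add_eq_zero, add_comm]
    exact hl

/-- Independent families extend to bases. -/
theorem exists_basis_extend {n : ℕ} (x : Fin c → A) (hx : LinearIndependent k x)
    (hA : Module.finrank k A = c + n) :
    ∃ (B : Module.Basis (Fin c ⊕ Fin n) k A), ∀ l, B (Sum.inl l) = x l := by
  obtain ⟨q, hq⟩ := Submodule.exists_isCompl (Submodule.span k (Set.range x))
  have hfin : Module.finrank k q = n := by
    have h1 := Submodule.finrank_add_eq_of_isCompl hq
    rw [finrank_span_eq_card hx, Fintype.card_fin, hA] at h1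
    omega
  refine ⟨((Module.Basis.span hx).prod (Module.finBasisOfFinrankEq k q hfin)).map
    (Submodule.prodEquivOfIsCompl _ _ hq), fun l => ?_⟩
  simp [Module.Basis.span_apply]

/-- The sheaf of left ideals is locally free. -/
theorem isFinLocFreeOfRank_fam {n : ℕ} (hA : Module.finrank k A = c + n) :
    FlatMod.IsFinLocFreeOfRank n (fam π st) := fun y => by
  obtain ⟨U, C, hy, hli⟩ := exists_chart (π := π) (st := st) y
  obtain ⟨B, hB⟩ := exists_basis_extend C.x hli hA
  exact ⟨U, hy, ResDesc11.nonempty_restrict_iso_free (C.isBas_frame _ B hB fun _ => rfl)⟩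

end Groth.Agent.KS29
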