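import Groth.Agent.Lib.KS29.FFClass
import Groth.Agent.Lib.KS29.SplitExt
import Groth.Agent.Lib.SBSplit25.Main
import Groth.Agent.Lib.Brauer25.PeriodIndex
import Groth.Agent.Lib.ProjSpace.Basic
import Groth.Agent.Lib.ModM1.Fpqc
import Groth.Agent.Lib.FlatProper5.Core
import Groth.Prelude.Def_CurvBase

/-!
# Classes split by the function field of a Severi–Brauer variety
-/

set_option autoImplicit false
set_option linter.style.haveILetI false
set_option linter.unusedSectionVars false
set_option backward.isDefEq.respectTransparency false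
set_option backward.isDefEq.respectTransparency.types false
set_option maxHeartbeats 800000

universe u

open CategoryTheory CategoryTheory.Limits AlgebraicGeometry TensorProduct

noncomputable section

namespace Groth.Agent.KS29

open Groth.Agent Brauer25 W4c1astiltbs12

attribute [local instance] Abelian.hasFiniteBiproducts Curv2.stalkAlgebra

/-- A simple algebra of dimension `n²` with a left ideal of dimension `n` is a matrix algebra. -/
theorem nonempty_algEquiv_matrix_of_ideal {F R : Type*} [Field F] [Ring R] [Algebra F R] [IsSimpleRing R]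
    [FiniteDimensional F R] {n : ℕ} (hn : 0 < n) (hR : Module.finrank F R = n * n) (M : Submodule F R)
    (hM : Module.finrank F M = n) (hI : ∀ a x : R, x ∈ M → a * x ∈ M) :
    Nonempty (R ≃ₐ[F] Matrix (Fin n) (Fin n) F) := by
  let Φ : R →ₐ[F] Module.End F M :=
    { toFun := fun a => (LinearMap.mulLeft F a).restrict fun x hx => hI a x hx
      map_one' := LinearMap.ext fun x => Subtype.ext (one_mul _)
      map_mul' := fun a b => LinearMap.ext fun x => Subtype.ext (mul_assoc _ _ _)
      map_zero' := LinearMap.ext fun x => Subtype.ext (zero_mul _)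
      map_add' := fun a b => LinearMap.ext fun x => Subtype.ext (add_mul _ _ _)
      commutes' := fun c => LinearMap.ext fun x => Subtype.ext (Algebra.smul_def c (x : R)).symm }
  haveI : Nontrivial M := Module.nontrivial_of_finrank_pos (R := F) (by omega)
  have hinj : Function.Injective Φ := RingHom.injective Φ.toRingHom
  let Ψ : R →ₐ[F] Matrix (Fin n) (Fin n) F :=
    (algEquivMatrix (Module.finBasisOfFinrankEq F M hM)).toAlgHom.comp Φ
  have hinj' : Function.Injective Ψ :=
    (algEquivMatrix (Module.finBasisOfFinrankEq F M hM)).injective.comp hinj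
  have hfin : Module.finrank F R = Module.finrank F (Matrix (Fin n) (Fin n) F) := by
    rw [hR, Module.finrank_matrix, Fintype.card_fin, Module.finrank_self, mul_one]
  have hbij : Function.Bijective Ψ :=
    ⟨hinj', (LinearMap.injective_iff_surjective_of_finrank_eq_finrank (f := Ψ.toLinearMap) hfin).1 hinj'⟩
  exact ⟨AlgEquiv.ofBijective Ψ hbij⟩

variable {k : Type u} [Field k] {A : Type u} [Ring A] [Algebra k A] [Algebra.IsCentral k A] [IsSimpleRing A]
variable {n : ℕ} {X : Scheme.{u}} [X.Over (Spec (CommRingCat.of k))] [IsIntegral X]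

/-- An algebra is split by the function field of its Severi–Brauer variety. -/
theorem splits_functionField (hn : 0 < n) (hA : Module.finrank k A = n * n)
    (hX : BrSev.IsSBOf k A (n * n - n) (X ↘ Spec (CommRingCat.of k))) :
    Curves.Splits k A X.functionField := by
  obtain ⟨st⟩ := hX
  haveI := finite_of_finrank hn hA
  haveI : IsSimpleRing (X.functionField ⊗[k] A) := CSAlg.isSimpleRing_baseChange (k := k) X.functionField A
  let g : BrSev.Pts (X ↘ Spec (CommRingCat.of k)) X.functionField :=
    ⟨X.fromSpecStalk (genericPoint X), FlatProper5.fromSpecStalk_comp_toSpec _ _⟩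
  let Nt := st.bij X.functionField g
  let M := Nt.1.toSubmodule
  have hdim : Module.finrank X.functionField M = n := by
    have h1 := Submodule.finrank_quotient_add_finrank M
    have h2 : Module.finrank X.functionField ((X.functionField ⊗[k] A) ⧸ M) = n * n - n := by
      have h := Nt.1.rankAtStalk_eq ⟨⊥, Ideal.isPrime_bot⟩
      rwa [Module.rankAtStalk_eq_finrank_of_free] at h
    rw [h2, Module.finrank_baseChange, hA] at h1
    have := Nat.le_mul_self n
    omega
  exact ⟨n, hn.ne', nonempty_algEquiv_matrix_of_ideal hn (by rw [Module.finrank_baseChange, hA]) M hdim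
    fun a x hx => Nt.2 a x hx⟩

/-- A class split by the function field of a Severi–Brauer variety is a power of the class of the algebra. -/
theorem exists_zpow_of_splits (hn : 0 < n) (hA : Module.finrank k A = n * n)
    (hX : BrSev.IsSBOf k A (n * n - n) (X ↘ Spec (CommRingCat.of k)))
    (B : Type u) [Ring B] [Algebra k B] [Algebra.IsCentral k B] [IsSimpleRing B] [FiniteDimensional k B]
    (hs : Curves.Splits k B X.functionField) :
    haveI := finite_of_finrank hn hA
    ∃ i : ℤ, cls (k := k) B = cls (k := k) A ^ i := by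
  haveI := finite_of_finrank hn hA
  let f := X ↘ Spec (CommRingCat.of k)
  let K := AlgebraicClosure k
  obtain ⟨φA⟩ := exists_algEquiv_matrix (k := k) hA K
  obtain ⟨e⟩ := SBSplit25.nonempty_splitting f hX hn φA
  haveI hfp : IsProper f := isProper_of_splitting e
  haveI := CohFound.isNoetherian_of_isProper f
  haveI : X.IsSeparated := ⟨by rw [← terminal.comp_from f]; infer_instance⟩
  haveI : IsIntegral (W4bk4gw11416.baseChange f K) := isIntegral_bc e
  haveI : Surjective (proj f K) := surjective_proj f
  haveI : Flat (Spec.map (CommRingCat.ofHom (algebraMap k K))) :=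
    (HasRingHomProperty.Spec_iff (P := @Flat)).2 (RingHom.flat_algebraMap_iff.2 inferInstance)
  haveI : Flat (proj f K) := MorphismProperty.pullback_fst (P := @Flat) _ _ ‹_›
  haveI : QuasiCompact (proj f K) := MorphismProperty.pullback_fst (P := @QuasiCompact) _ _ inferInstance
  haveI : IsProper (BrSev.bcTo f K) := MorphismProperty.pullback_snd (P := @IsProper) _ _ hfp
  haveI : IsNoetherian (W4bk4gw11416.baseChange f K) := CohFound.isNoetherian_of_isProper (BrSev.bcTo f K)
  haveI : Smooth (CohB1.ProjSpace.toSpec (n - 1) K) := ProjSpace.smooth_toSpec (n - 1) K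
  haveI : Smooth (BrSev.bcTo f K) := e.comm ▸ inferInstance
  have hufd : ∀ y : W4bk4gw11416.baseChange f K,
      UniqueFactorizationMonoid ((W4bk4gw11416.baseChange f K).presheaf.stalk y) := fun y => by
    haveI : Smooth (Over.mk (BrSev.bcTo f K)).hom := ‹_›
    exact SquareNC14.ufd_stalk (Over.mk (BrSev.bcTo f K)) y
  obtain ⟨E, -, -, hE⟩ := CSAlg.exists_galois_splits (k := k) B
  obtain ⟨b, hb, ⟨φ⟩⟩ := CSAlg.splits_of_algHom (IsAlgClosed.lift : E →ₐ[k] K) hE
  obtain ⟨m, rfl⟩ : ∃ m, b = m + 1 := ⟨b - 1, by omega⟩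
  have hB : Module.finrank k B = (m + 1) * (m + 1) := by
    have h := φ.toLinearEquiv.finrank_eq
    rwa [Module.finrank_baseChange, Module.finrank_matrix, Fintype.card_fin, Module.finrank_self, mul_one] at h
  obtain ⟨b', -, ⟨ψ0⟩⟩ := hs
  obtain rfl : m + 1 = b' := by
    have h := ψ0.toLinearEquiv.finrank_eq
    rw [Module.finrank_baseChange, hB, Module.finrank_matrix, Fintype.card_fin, Module.finrank_self, mul_one] at h
    exact Nat.mul_self_inj.1 h
  let ψ : B →ₐ[k] Matrix (Fin (m + 1)) (Fin (m + 1)) X.functionField :=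
    (ψ0.toAlgHom.restrictScalars k).comp Algebra.TensorProduct.includeRight
  let β := Module.finBasisOfFinrankEq k B hB
  have hk : algebraMap k X.functionField = kF f := rfl
  obtain ⟨ρ, hρ⟩ := isInvertible_ffPiece f β rfl ψ hufd hk φ
  obtain ⟨d, ⟨ed⟩⟩ := exists_iso_twist e hρ
  have hMt : BrSev.IsTwPow e d (m + 1) (lat (ffEq β rfl ψ)) :=
    ⟨((unitsDec ρ).congr fun _ => ed).isoCoproduct⟩
  have hMc : Coh.IsCoh (lat (ffEq β rfl ψ)) := isCoh_lat _
  have hMf : FlatMod.IsFinLocFree (lat (ffEq β rfl ψ)) := by
    refine M1.isFinLocFree_of_pullback_fpqc (proj f K) hMc.1 ?_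
    exact M2.isFinLocFree_of_iso hMt.some.symm (isFinLocFree_pow
      (M2.isFinLocFree_of_isInvertible (isInvertible_twist e d)) _)
  obtain ⟨h1, h2, h3⟩ := isCSA_endA f e (Nat.succ_pos m) hMc hMt
  haveI := h1
  haveI := h2
  haveI := h3
  let r : B →ₐ[k] EndA f (lat (ffEq β rfl ψ)) :=
    latRho f _ (Algebra.leftMulMatrix β) (ffEq_comm f β rfl ψ hk)
  have hfin : Module.finrank k B = Module.finrank k (EndA f (lat (ffEq β rfl ψ))) := by
    rw [hB, finrank_endA f e hMc hMt, sq]
  have hinj : Function.Injective r := RingHom.injective r.toRingHom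
  have hbij : Function.Bijective r :=
    ⟨hinj, (LinearMap.injective_iff_surjective_of_finrank_eq_finrank (f := r.toLinearMap) hfin).1 hinj⟩
  obtain ⟨s, -, hs1⟩ := chi_one_eq hn hA hX e
  exact ⟨s * d, by rw [cls_congr (AlgEquiv.ofBijective r hbij), cls_endA_eq_chi f e (Nat.succ_pos m) hMf hMt,
    chi_eq_zpow, hs1, zpow_mul]⟩

/-- The kernel of restriction to the function field of a Severi–Brauer variety. -/
theorem splits_functionField_iff (hn : 0 < n) (hA : Module.finrank k A = n * n)
    (hX : BrSev.IsSBOf k A (n * n - n) (X ↘ Spec (CommRingCat.of k)))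
    (B : Type u) [Ring B] [Algebra k B] [Algebra.IsCentral k B] [IsSimpleRing B] [FiniteDimensional k B] :
    haveI := finite_of_finrank hn hA
    Curves.Splits k B X.functionField ↔ ∃ i : ℕ, cls (k := k) B = cls (k := k) A ^ i := by
  haveI := finite_of_finrank hn hA
  constructor
  · intro hs
    obtain ⟨i, hi⟩ := exists_zpow_of_splits hn hA hX B hs
    have ho : (0 : ℤ) < orderOf (cls (k := k) A) := by exact_mod_cast orderOf_cls_pos
    refine ⟨(i % (orderOf (cls (k := k) A) : ℤ)).toNat, ?_⟩
    rw [hi, ← zpow_natCast, Int.toNat_of_nonneg (Int.emod_nonneg _ ho.ne'), ← zpow_mod_orderOf]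
  · rintro ⟨i, hi⟩
    obtain ⟨N, hN, ⟨θ⟩⟩ := splits_functionField hn hA hX
    exact splits_iff_of_cls_eq X.functionField ((cls_tensorPower i).trans hi.symm)
      (splits_piTensor (k := k) (ι := Fin i) (A := fun _ => A) (n := fun _ => N) (fun _ => hN) fun _ => θ)

end Groth.Agent.KS29
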