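import Groth.Agent.Lib.KS29.SBTwist
import Groth.Agent.Lib.KS29.SplitApps
import Groth.Agent.Lib.KS29.Simple
import Groth.Agent.Lib.Brauer25.Basic
import Groth.Agent.Lib.ModLimH13.LocFree
import Groth.Agent.Lib.PicPn.Aut
import Groth.Agent.Lib.TensorMod.PullTensor
import Groth.Prelude.Def_GSzCSA

/-!
# The tautological bundle of a Severi–Brauer scheme
-/

set_option autoImplicit false
set_option linter.style.haveILetI false
set_option linter.unusedSectionVars false
set_option backward.isDefEq.respectTransparency false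
set_option backward.isDefEq.respectTransparency.types false
set_option maxHeartbeats 800000

universe u

open CategoryTheory CategoryTheory.Limits AlgebraicGeometry TopologicalSpace Opposite TensorProduct

noncomputable section

namespace Groth.Agent.KS29

open Groth.Agent

/-- A finite locally free summand occurring `r` times in a module of rank `r` is invertible. -/
theorem isInvertible_of_dec {Y : Scheme.{u}} {T L : Y.Modules} {r : ℕ} (hr : 0 < r)
    (hT : FlatMod.IsFinLocFreeOfRank r T) (hL : FlatMod.IsFinLocFree L) (d : Dec T (fun _ : Fin r => L)) :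
    PicF.IsInvertible L := by
  rw [M2.isInvertible_iff_isFinLocFreeOfRank_one]
  intro x
  obtain ⟨U, s, hxU, ⟨a⟩⟩ := hL x
  obtain ⟨V, hxV, ⟨b⟩⟩ := hT x
  obtain ⟨a'⟩ := M2.nonempty_free_mono (inf_le_left : U ⊓ V ≤ U) a
  obtain ⟨b'⟩ := M2.nonempty_free_mono (inf_le_right : U ⊓ V ≤ V) b
  haveI : Nonempty ((U ⊓ V : Y.Opens) : Scheme.{u}) := ⟨⟨x, hxU, hxV⟩⟩
  haveI := Abelian.hasFiniteBiproducts (C := ((U ⊓ V : Y.Opens) : Scheme.{u}).Modules)
  haveI : (Scheme.Modules.pullback (U ⊓ V).ι).Additive :=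
    (Scheme.Modules.pullbackPushforwardAdjunction (U ⊓ V).ι).left_adjoint_additive
  let R := Scheme.Modules.restrictFunctorIsoPullback (U ⊓ V).ι
  have hs : r = r * s := ModLimH13.rank_unique
    (b'.symm ≪≫ R.app T ≪≫
      ((d.map (Scheme.Modules.pullback (U ⊓ V).ι)).congr fun _ => (R.app L).symm ≪≫ a').isoCoproduct ≪≫
      sigmaSigmaIso (fun _ : Fin r => Fin s) (fun _ _ => Coh.structureModule _) ≪≫
      Sigma.whiskerEquiv (f := fun _ : (_ : Fin r) × Fin s => Coh.structureModule _)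
        (g := fun _ : Fin (r * s) => Coh.structureModule _)
        ((Equiv.sigmaEquivProd (Fin r) (Fin s)).trans finProdFinEquiv) (fun _ => Iso.refl _))
  obtain rfl : s = 1 := (Nat.eq_of_mul_eq_mul_left hr (by omega : r * 1 = r * s)).symm
  exact ⟨U, hxU, ⟨a⟩⟩

theorem nonempty_pullback_twist_mul {K : Type u} [Field K] {q : ℕ} (hq : 0 < q)
    (h : CohB1.ProjSpace q K ⟶ CohB1.ProjSpace q K) :
    ∃ c : ℤ, ∀ d : ℤ, Nonempty ((Scheme.Modules.pullback h).obj (_root_.Twist.twistProjSpace q K d) ≅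
      _root_.Twist.twistProjSpace q K (d * c)) := by
  choose g hg using fun d : ℤ => PicPn.exists_iso_twist (n := q) (R := K)
    (Twist.isInvertible_pullback h (Twist.isInvertible_twistProjSpace q K d) : PicF.IsInvertible _)
  have hadd : ∀ a b, g (a + b) = g a + g b := fun a b => by
    obtain ⟨t⟩ := Twist.nonempty_tensor_iso (CohB1.polyGrading q K) a b (Twist.iSup_basicOpen_one q K)
    obtain ⟨t'⟩ := Twist.nonempty_tensor_iso (CohB1.polyGrading q K) (g a) (g b) (Twist.iSup_basicOpen_one q K)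
    exact PicPn.twist_injective hq ((hg (a + b)).some.symm ≪≫ (Scheme.Modules.pullback h).mapIso t.symm ≪≫
      M2.pullTensorIso h _ _ ≪≫ M2.tensorIso (hg a).some (hg b).some ≪≫ t')
  refine ⟨g 1, fun d => ?_⟩
  have : g d = d * g 1 := by
    have h1 := (AddMonoidHom.mk' g hadd).map_zsmul d (1 : ℤ)
    simpa using h1
  rw [← this]
  exact hg d

variable {k : Type u} [Field k] {A : Type u} [Ring A] [Algebra k A] [FiniteDimensional k A]
variable {X : Scheme.{u}} {f : X ⟶ Spec (CommRingCat.of k)}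

/-- The action of the algebra on the tautological bundle. -/
def rhoA {c : ℕ} (st : BrSev.SBStr k A c f) : A →+* End (fam (𝟙 X) st) :=
  letI := algS (𝟙 X) f (⊤ : X.Opens)
  (actRing (𝟙 X) st).comp
    ((Algebra.TensorProduct.includeRight (R := k) (A := Γ(X, ⊤)) (B := A)).toRingHom)

theorem rhoA_algebraMap {c : ℕ} (st : BrSev.SBStr k A c f) (t : k) :
    rhoA st (algebraMap k A t) = sck f (fam (𝟙 X) st) t := by
  letI := algS (𝟙 X) f (⊤ : X.Opens)
  refine hom_ext_secVal (𝟙 X) st fun V s => ?_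
  letI := algS (𝟙 X) f V
  show secVal (𝟙 X) st ((act (𝟙 X) st ((1 : Γ(X, ⊤)) ⊗ₜ[k] algebraMap k A t)).app V s) =
    secVal (𝟙 X) st ((show Γ(X, V) from Coh.resTop X (op V) (Coh.toGlobal f t)) • s)
  rw [secVal_act, secVal_smul, actVal, Algebra.TensorProduct.map_tmul, map_one, AlgHom.id_apply,
    Algebra.algebraMap_eq_smul_one, TensorProduct.tmul_smul, ← Algebra.TensorProduct.one_def, smul_mul_assoc,
    one_mul, ← algebraMap_smul Γ(X, V) t, ← map_smul, co_el]
  congr 1

theorem exists_algEquiv_matrix [Algebra.IsCentral k A] [IsSimpleRing A] {n : ℕ}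
    (hA : Module.finrank k A = n * n) (K : Type u) [Field K] [Algebra k K] [IsAlgClosed K] :
    Nonempty (K ⊗[k] A ≃ₐ[K] Matrix (Fin n) (Fin n) K) := by
  obtain ⟨E, -, -, h⟩ := CSAlg.exists_galois_splits (k := k) A
  obtain ⟨m, -, ⟨φ⟩⟩ := CSAlg.splits_of_algHom (IsAlgClosed.lift : E →ₐ[k] K) h
  have h2 := φ.toLinearEquiv.finrank_eq
  rw [Module.finrank_baseChange, hA, Module.finrank_matrix, Fintype.card_fin, Module.finrank_self, mul_one] at h2
  obtain rfl : n = m := Nat.mul_self_inj.1 h2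
  exact ⟨φ⟩

/-- The tautological bundle. -/
theorem exists_tautBundle [Algebra.IsCentral k A] [IsSimpleRing A] {n : ℕ} (hn : 0 < n)
    (hA : Module.finrank k A = n * n) [IsProper f] (hX : BrSev.IsSBOf k A (n * n - n) f)
    {K : Type u} [Field K] [Algebra k K] [IsAlgClosed K] (e : BrSev.Splitting f K (n - 1)) :
    ∃ (T : X.Modules) (ρ : A →+* End T) (j : ℤ), FlatMod.IsFinLocFreeOfRank n T ∧
      (j = 1 ∨ j = -1) ∧ BrSev.IsTwPow e j n T ∧ ∀ t, ρ (algebraMap k A t) = sck f T t := by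
  obtain ⟨st⟩ := hX
  obtain ⟨q, rfl⟩ : ∃ q, n = q + 1 := ⟨n - 1, by omega⟩
  obtain ⟨φ⟩ := exists_algEquiv_matrix (k := k) (A := A) hA K
  have hc : Module.finrank k A = ((q + 1) * (q + 1) - (q + 1)) + (q + 1) := by
    rw [hA, Nat.sub_add_cancel (Nat.le_mul_self _)]
  have hT : FlatMod.IsFinLocFreeOfRank (q + 1) (fam (𝟙 X) st) := isFinLocFreeOfRank_fam hc
  -- upstairs
  let Z := BrSev.bc f K
  haveI := Abelian.hasFiniteBiproducts (C := Z.Modules)
  let p := BrSev.proj f K ≫ 𝟙 X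
  let iK : BrSev.bcMod f K (fam (𝟙 X) st) ≅ fam p st := pullIso (𝟙 X) st (BrSev.proj f K) hc
  letI := algS p f (⊤ : Z.Opens)
  let cK : K →ₐ[k] Γ(Z, ⊤) :=
    { (Scheme.ΓSpecIso (CommRingCat.of K)).inv ≫ (BrSev.bcTo f K).appTop |>.hom with
      commutes' := fun t => by
        show (BrSev.bcTo f K).appTop ((Scheme.ΓSpecIso (CommRingCat.of K)).inv (algebraMap k K t)) =
          (p ≫ f).appLE ⊤ ⊤ le_top ((Scheme.ΓSpecIso (CommRingCat.of k)).inv t)
        simp only [p, Category.comp_id, show BrSev.proj f K ≫ f = BrSev.bcTo f K ≫ _ from pullback.condition]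
        rw [Scheme.Hom.appLE, show (homOfLE (le_top : (⊤ : Z.Opens) ≤ ⊤)).op = 𝟙 _ from rfl]
        erw [CategoryTheory.Functor.map_id, Category.comp_id]
        exact congrArg (BrSev.bcTo f K).appTop (ConcreteCategory.congr_hom
          (Scheme.ΓSpecIso_inv_naturality (CommRingCat.ofHom (algebraMap k K))) t) }
  let ρK : Matrix (Fin (q + 1)) (Fin (q + 1)) K →+* End (fam p st) :=
    (actRing p st).comp ((Algebra.TensorProduct.map cK (AlgHom.id k A)).toRingHom.comp φ.symm.toRingEquiv.toRingHom)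
  let dK := unitsDec ρK
  have hTK : FlatMod.IsFinLocFreeOfRank (q + 1) (fam p st) := isFinLocFreeOfRank_fam hc
  have hLi : PicF.IsInvertible (rowMod ρK) := isInvertible_of_dec (Nat.succ_pos q) hTK
    (M2.isFinLocFree_of_retract (M2.isFinLocFree_of_ofRank hTK) _ _ (dK.inj_prj 0)) dK
  obtain ⟨d, ⟨ed⟩⟩ := exists_iso_twist e hLi
  have hd : BrSev.IsTwPow e d (q + 1) (fam (𝟙 X) st) := ⟨iK ≪≫ (dK.congr fun _ => ed).isoCoproduct⟩
  suffices H : ∃ j : ℤ, (j = 1 ∨ j = -1) ∧ BrSev.IsTwPow e j (q + 1) (fam (𝟙 X) st) by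
    obtain ⟨j, hj, hjT⟩ := H
    exact ⟨fam (𝟙 X) st, rhoA st, j, hT, hj, hjT, rhoA_algebraMap st⟩
  rcases Nat.eq_zero_or_pos q with rfl | hq
  · obtain ⟨ω⟩ := PicPn.nonempty_twist_iso_of_zero K d (-1)
    exact ⟨-1, Or.inr rfl, ⟨hd.some ≪≫ Sigma.mapIso fun _ => (Scheme.Modules.pullback e.iso.hom).mapIso ω⟩⟩
  refine ⟨d, ?_, hd⟩
  -- compare on projective space
  let P := CohB1.ProjSpace q K
  haveI := Abelian.hasFiniteBiproducts (C := P.Modules)
  haveI : (Scheme.Modules.pullback (psi st φ)).Additive :=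
    (Scheme.Modules.pullbackPushforwardAdjunction (psi st φ)).left_adjoint_additive
  obtain ⟨c, hcd⟩ := nonempty_pullback_twist_mul hq (psi st φ ≫ e.iso.hom)
  obtain ⟨τ⟩ := nonempty_fam_toX_iso st φ
  let iP : (Scheme.Modules.pullback (psi st φ)).obj (BrSev.bcMod f K (fam (𝟙 X) st)) ≅ fam (toX st φ) st :=
    (Scheme.Modules.pullbackComp (psi st φ) (BrSev.proj f K)).app _ ≪≫ pullIso (𝟙 X) st (toX st φ) hc ≪≫
      eqToIso (congrArg (fun π => fam π st) (Category.comp_id _))
  let d1 : Dec (fam (toX st φ) st) (fun _ : Fin (q + 1) => _root_.Twist.twistProjSpace q K (-1)) :=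
    Dec.ofCoproduct.trans τ.symm
  let d2 : Dec (fam (toX st φ) st) (fun _ : Fin (q + 1) => _root_.Twist.twistProjSpace q K (d * c)) :=
    (((Dec.ofCoproduct.trans hd.some.symm).map (Scheme.Modules.pullback (psi st φ))).trans iP).congr fun _ =>
      (Scheme.Modules.pullbackComp (psi st φ) e.iso.hom).app _ ≪≫ (hcd d).some
  haveI : IsProper (CohB1.ProjSpace.toSpec q K) := ProjSpace.isProper_toSpec q K
  haveI : IsIntegral (CohB1.ProjSpace q K) := RegExt.isIntegral_projSpace q K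
  haveI := CohFound.isNoetherian_of_isProper (CohB1.ProjSpace.toSpec q K)
  obtain ⟨σ, hσ⟩ := coh_dec_unique (CohB1.ProjSpace.toSpec q K)
    (CohFound.isCoh_of_isFinLocFree (M2.isFinLocFree_of_ofRank (isFinLocFreeOfRank_fam hc))) d1 d2
    (fun _ => indec_of_isInvertible (Twist.isInvertible_twistProjSpace q K _))
    (fun _ => indec_of_isInvertible (Twist.isInvertible_twistProjSpace q K _))
  have h1 : (-1 : ℤ) = d * c := PicPn.twist_injective hq (hσ 0).some
  exact Int.eq_one_or_neg_one_of_mul_eq_neg_one h1.symm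

end Groth.Agent.KS29
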