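import Groth.Agent.Lib.KS29.SBPull
import Groth.Agent.Lib.SBSplit25.Main
import Groth.Agent.Lib.PicPn.Main
import Groth.Agent.Lib.KS29.Basic

/-!
# The sheaf of left ideals on projective space
-/

set_option autoImplicit false
set_option linter.style.haveILetI false
set_option linter.unusedSectionVars false
set_option backward.isDefEq.respectTransparency false
set_option backward.isDefEq.respectTransparency.types false
set_option maxHeartbeats 800000

universe u

open CategoryTheory CategoryTheory.Limits AlgebraicGeometry TopologicalSpace Opposite TensorProduct MvPolynomial HomogeneousLocalization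

noncomputable section

namespace Groth.Agent.KS29

open Groth.Agent GrassLib SBSplit25

section coords

variable {K : Type u} [Field K] {q : ℕ}

local notation "𝒢" => CohB1.polyGrading q K

/-- The functions `x_i / x_j` on `D₊(x_j)`. -/
def coordFn (j i : Fin (q + 1)) : Γ(Proj (CohB1.polyGrading q K), PicPn.D q K j) :=
  Proj.awayToSection (CohB1.polyGrading q K) (X j : MvPolynomial (Fin (q + 1)) K)
    (Away.mk (CohB1.polyGrading q K) (ProjSpace.X_mem' q K j) 1 (X i : MvPolynomial (Fin (q + 1)) K) (by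
      rw [one_smul]; exact ProjSpace.X_mem' q K i))

theorem valO_coordFn (j i : Fin (q + 1)) (x : PicPn.Pt q K) (hx : x ∈ PicPn.D q K j) :
    Twist.valO (coordFn (K := K) j i) x hx * algebraMap (MvPolynomial (Fin (q + 1)) K) (PicPn.L q K x) (X j) =
      algebraMap (MvPolynomial (Fin (q + 1)) K) (PicPn.L q K x) (X i) := by
  have hx' : (X j : MvPolynomial (Fin (q + 1)) K) ^ 1 ∉ x.asHomogeneousIdeal := by
    rw [pow_one]; exact hx
  rw [coordFn, Twist.valO_awayToSection (hx' := hx'), Localization.mk_eq_mk']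
  have h := IsLocalization.mk'_spec (PicPn.L q K x) (X i : MvPolynomial (Fin (q + 1)) K)
    (⟨(X j : MvPolynomial (Fin (q + 1)) K) ^ 1, hx'⟩ : x.asHomogeneousIdeal.toIdeal.primeCompl)
  simp only [pow_one] at h ⊢
  exact h

theorem coordFn_self (j : Fin (q + 1)) : coordFn (K := K) j j = 1 := by
  refine Twist.sectionO_ext fun x hx => ?_
  refine (PicPn.isUnit_alg (show (X j : MvPolynomial (Fin (q + 1)) K) ∉ x.asHomogeneousIdeal from hx)).mul_right_cancel ?_
  rw [valO_coordFn, Twist.valO_one, one_mul]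

theorem coordFn_trans {V : (Proj (CohB1.polyGrading q K)).Opens} (j l i : Fin (q + 1))
    (hj : V ≤ PicPn.D q K j) (hl : V ≤ PicPn.D q K l) :
    (Proj (CohB1.polyGrading q K)).presheaf.map (homOfLE hl).op (coordFn l i) =
      (Proj (CohB1.polyGrading q K)).presheaf.map (homOfLE hl).op (coordFn l j) *
        (Proj (CohB1.polyGrading q K)).presheaf.map (homOfLE hj).op (coordFn j i) := by
  refine Twist.sectionO_ext fun x hx => ?_
  refine (PicPn.isUnit_alg (show (X l : MvPolynomial (Fin (q + 1)) K) ∉ x.asHomogeneousIdeal from hl hx)).mul_right_cancel ?_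
  rw [Twist.valO_mul, Twist.valO_map, Twist.valO_map, Twist.valO_map, mul_right_comm, valO_coordFn, valO_coordFn,
    mul_comm, valO_coordFn]

end coords

section line

variable {K : Type u} [Field K] {q : ℕ} {S : Type u} [CommRing S] [Algebra K S]

/-- The equations of the line through `v` with `v j = 1`. -/
def lineEll (j : Fin (q + 1)) (v : Fin (q + 1) → S) : (Fin (q + 1) → K) →ₗ[K] (Fin q → S) where
  toFun a i := algebraMap K S (a (j.succAbove i)) - algebraMap K S (a j) * v (j.succAbove i)
  map_add' a b := funext fun i => by simp only [Pi.add_apply, map_add]; ring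
  map_smul' t a := funext fun i => by
    simp only [Pi.smul_apply, smul_eq_mul, map_mul, RingHom.id_apply, Algebra.smul_def]
    ring

/-- The line through `v`. -/
def line (j : Fin (q + 1)) (v : Fin (q + 1) → S) : GrassLib.Pt K (Fin (q + 1) → K) q S :=
  ofEll (fun i => Pi.single (j.succAbove i) 1) (lineEll j v) fun i => funext fun i' => by
    simp only [lineEll, LinearMap.coe_mk, AddHom.coe_mk, Pi.single_apply, Fin.succAbove_right_inj,
      show j ≠ j.succAbove i from (Fin.succAbove_ne j i).symm, if_false, map_zero, zero_mul, sub_zero,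
      apply_ite (algebraMap K S), map_one]

theorem lineEll_lift (j : Fin (q + 1)) (v : Fin (q + 1) → S) (w : S ⊗[K] (Fin (q + 1) → K)) (i : Fin q) :
    (lineEll j v).liftBaseChange S w i = coord K S w (j.succAbove i) - coord K S w j * v (j.succAbove i) := by
  induction w using TensorProduct.induction_on with
  | zero => simp
  | tmul s a => simp [lineEll, Algebra.smul_def]; ring
  | add x y hx hy => simp only [map_add, Pi.add_apply, hx, hy]; ring

theorem mem_line {j : Fin (q + 1)} {v : Fin (q + 1) → S} (hv : v j = 1) (w : S ⊗[K] (Fin (q + 1) → K)) :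
    w ∈ (line j v).toSubmodule ↔ ∀ i, coord K S w i = coord K S w j * v i := by
  rw [line, ofEll_toSubmodule, LinearMap.mem_ker, funext_iff]
  constructor
  · intro h i
    rcases Fin.eq_self_or_eq_succAbove j i with rfl | ⟨i', rfl⟩
    · rw [hv, mul_one]
    · have := h i'
      rw [lineEll_lift, Pi.zero_apply, sub_eq_zero] at this
      exact this
  · intro h i
    rw [lineEll_lift, Pi.zero_apply, sub_eq_zero]
    exact h _

theorem gmap_line {T : Type u} [CommRing T] [Algebra K T] (φ : S →ₐ[K] T) {j : Fin (q + 1)}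
    {v : Fin (q + 1) → S} (hv : v j = 1) :
    GrassLib.gmap φ (line j v) = line j (fun i => φ (v i)) := by
  refine grassmannian_eq_of_le ?_
  rw [GrassLib.gmap_eq_span, Submodule.span_le]
  rintro _ ⟨x, hx, rfl⟩
  refine (mem_line (by simp [hv]) _).2 fun i => ?_
  simp only [coord_tm]
  rw [← map_mul, ← (mem_line hv x).1 hx i]

theorem line_eq {j l : Fin (q + 1)} {v w : Fin (q + 1) → S} (hv : v j = 1) (hw : w l = 1)
    (h : ∀ i, w i = w j * v i) : line (K := K) j v = line l w := by
  refine (grassmannian_eq_of_le fun x hx => ?_)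
  rw [mem_line hv] at hx
  refine (mem_line hw x).2 fun i => ?_
  have hl : w j * v l = 1 := by rw [← h, hw]
  rw [hx i, hx l, h i, mul_assoc, ← mul_assoc (v l), mul_comm (v l), hl, one_mul]

end line

section psi

variable {k : Type u} [Field k] {A : Type u} [Ring A] [Algebra k A] [FiniteDimensional k A]
variable {X : Scheme.{u}} {f : X ⟶ Spec (CommRingCat.of k)}
variable {K : Type u} [Field K] [Algebra k K] {q : ℕ}
variable (st : BrSev.SBStr k A ((q + 1) * (q + 1) - (q + 1)) f)
variable (φ : K ⊗[k] A ≃ₐ[K] Matrix (Fin (q + 1)) (Fin (q + 1)) K)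

/-- The representation of lines. -/
def lineRep : GrassLib.Rep K (Fin (q + 1) → K) q (Over.mk (BrSev.bcTo f K)) :=
  repOfSplit f st (Nat.succ_pos q) φ

/-- A test point of projective space over `K`. -/
abbrev IsOverP {R : Type u} [CommRing R] [Algebra K R] (g : Spec (CommRingCat.of R) ⟶ CohB1.ProjSpace q K) : Prop :=
  IsOver (𝟙 (CohB1.ProjSpace q K)) (CohB1.ProjSpace.toSpec q K) g

/-- The point of the base change at a test point. -/
def morAt {R : Type u} [CommRing R] [Algebra K R] (g : Spec (CommRingCat.of R) ⟶ CohB1.ProjSpace q K)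
    (j : Fin (q + 1)) (hj : ⊤ ≤ g ⁻¹ᵁ PicPn.D q K j) : Spec (CommRingCat.of R) ⟶ BrSev.bc f K :=
  (lineRep st φ).mor (line j fun i => ev g hj (coordFn j i))

theorem morAt_congr {R : Type u} [CommRing R] [Algebra K R] (g : Spec (CommRingCat.of R) ⟶ CohB1.ProjSpace q K)
    (j l : Fin (q + 1)) (hj : ⊤ ≤ g ⁻¹ᵁ PicPn.D q K j) (hl : ⊤ ≤ g ⁻¹ᵁ PicPn.D q K l) :
    morAt st φ g j hj = morAt st φ g l hl := by
  refine congrArg (lineRep st φ).mor (line_eq ?_ ?_ fun i => ?_)
  · simp [coordFn_self]
  · simp [coordFn_self]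
  · have hV : ⊤ ≤ g ⁻¹ᵁ (PicPn.D q K j ⊓ PicPn.D q K l) := by
      rw [Scheme.Hom.preimage_inf]; exact le_inf hj hl
    have := congrArg (ev g hV) (coordFn_trans (K := K) j l i inf_le_left inf_le_right)
    rw [map_mul] at this
    exact (ev_res g inf_le_right hV _).symm.trans (this.trans
      (congrArg₂ (· * ·) (ev_res g inf_le_right hV _) (ev_res g inf_le_left hV _)))

theorem D_affine (j : Fin (q + 1)) : IsAffineOpen (X := CohB1.ProjSpace q K) (PicPn.D q K j) :=
  Proj.isAffineOpen_basicOpen _ _ (ProjSpace.X_mem' q K j) one_pos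

variable (q K) in
/-- The standard cover. -/
def stdCover : (CohB1.ProjSpace q K).OpenCover :=
  Scheme.Cover.mkOfCovers (ULift.{u} (Fin (q + 1)))
    (fun j => Spec Γ(CohB1.ProjSpace q K, PicPn.D q K j.down)) (fun j => (D_affine j.down).fromSpec)
    (fun y => by
      obtain ⟨j, hj⟩ := Opens.mem_iSup.1 ((PicPn.iSup_D q K).ge (show y ∈ (⊤ : (CohB1.ProjSpace q K).Opens) from trivial))
      refine ⟨⟨j⟩, ?_⟩
      have : y ∈ Set.range (D_affine (K := K) j).fromSpec := by rw [IsAffineOpen.range_fromSpec]; exact hj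
      exact this)

/-- The morphism on a standard chart. -/
def psiChart (j : Fin (q + 1)) : Spec Γ(CohB1.ProjSpace q K, PicPn.D q K j) ⟶ BrSev.bc f K :=
  letI := algS (𝟙 (CohB1.ProjSpace q K)) (CohB1.ProjSpace.toSpec q K) (PicPn.D q K j)
  morAt st φ (R := Γ(CohB1.ProjSpace q K, PicPn.D q K j)) (D_affine j).fromSpec j (top_le_fromSpec _)

theorem comp_psiChart {R : Type u} [CommRing R] [Algebra K R] (g : Spec (CommRingCat.of R) ⟶ CohB1.ProjSpace q K)
    (hg : IsOverP g) (j : Fin (q + 1)) (hj : ⊤ ≤ g ⁻¹ᵁ PicPn.D q K j)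
    (a : Spec (CommRingCat.of R) ⟶ Spec Γ(CohB1.ProjSpace q K, PicPn.D q K j))
    (ha : a ≫ (D_affine j).fromSpec = g) : a ≫ psiChart st φ j = morAt st φ g j hj := by
  letI := algS (𝟙 (CohB1.ProjSpace q K)) (CohB1.ProjSpace.toSpec q K) (PicPn.D q K j)
  obtain rfl : a = sp (evₐ (𝟙 (CohB1.ProjSpace q K)) g hg hj) :=
    (cancel_mono (D_affine (K := K) j).fromSpec).1 (ha.trans (eq_specMap_ev_fromSpec g (D_affine j) hj).symm)
  rw [psiChart, morAt, (lineRep st φ).sp_mor, gmap_line _ (by simp [coordFn_self])]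
  congr 2
  funext i
  rw [ev_fromSpec]
  rfl

theorem psi_agree_aux {C : CommRingCat.{u}} (i j : Fin (q + 1))
    (a : Spec C ⟶ Spec Γ(CohB1.ProjSpace q K, PicPn.D q K i))
    (b : Spec C ⟶ Spec Γ(CohB1.ProjSpace q K, PicPn.D q K j))
    (hab : a ≫ (D_affine (K := K) i).fromSpec = b ≫ (D_affine (K := K) j).fromSpec) :
    a ≫ psiChart st φ i = b ≫ psiChart st φ j := by
  obtain ⟨R, rfl⟩ : ∃ R : CommRingCat.{u}, C = CommRingCat.of R := ⟨C, rfl⟩
  obtain ⟨alg, halg⟩ := GrassLib.exists_algebra_str (R := K)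
    ((a ≫ (D_affine (K := K) i).fromSpec) ≫ CohB1.ProjSpace.toSpec q K)
  letI : Algebra K R := alg
  have hi : ⊤ ≤ (a ≫ (D_affine (K := K) i).fromSpec) ⁻¹ᵁ PicPn.D q K i :=
    (le_top.trans (a.preimage_mono (top_le_fromSpec _)) :)
  have hj : ⊤ ≤ (a ≫ (D_affine (K := K) i).fromSpec) ⁻¹ᵁ PicPn.D q K j := by
    rw [hab]
    exact (le_top.trans (b.preimage_mono (top_le_fromSpec _)) :)
  have hg : IsOverP (R := R) (a ≫ (D_affine (K := K) i).fromSpec) := by
    show _ ≫ 𝟙 _ ≫ _ = _
    rw [Category.id_comp]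
    exact halg.symm
  rw [comp_psiChart (R := R) st φ _ hg i hi a rfl, comp_psiChart (R := R) st φ _ hg j hj b hab.symm]
  exact morAt_congr st φ (R := R) _ _ _ hi hj

/-- The morphism from projective space to the base change. -/
def psi : CohB1.ProjSpace q K ⟶ BrSev.bc f K :=
  (stdCover K q).glueMorphisms (fun j => psiChart st φ j.down) (by
    intro i j
    refine (pullback ((stdCover K q).f i) ((stdCover K q).f j)).affineCover.hom_ext _ _ fun m => ?_
    rw [← Category.assoc, ← Category.assoc]
    set a := (pullback ((stdCover K q).f i) ((stdCover K q).f j)).affineCover.f m ≫ pullback.fst _ _ with ha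
    set b := (pullback ((stdCover K q).f i) ((stdCover K q).f j)).affineCover.f m ≫ pullback.snd _ _ with hb
    have hab : b ≫ (D_affine j.down).fromSpec = a ≫ (D_affine (K := K) i.down).fromSpec := by
      rw [ha, hb, Category.assoc, Category.assoc]
      exact congrArg (_ ≫ ·) pullback.condition.symm
    exact psi_agree_aux st φ i.down j.down a b hab.symm)

theorem comp_psi {R : Type u} [CommRing R] [Algebra K R] (g : Spec (CommRingCat.of R) ⟶ CohB1.ProjSpace q K)
    (hg : IsOverP g) (j : Fin (q + 1)) (hj : ⊤ ≤ g ⁻¹ᵁ PicPn.D q K j) : g ≫ psi st φ = morAt st φ g j hj := by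
  rw [← comp_psiChart st φ g hg j hj (Spec.map (CommRingCat.ofHom (ev g hj))) (eq_specMap_ev_fromSpec g _ hj)]
  conv_lhs => rw [← eq_specMap_ev_fromSpec g (D_affine j) hj, Category.assoc]
  exact congrArg (_ ≫ ·) ((stdCover K q).ι_glueMorphisms _ _ ⟨j⟩)

theorem psi_bcTo : psi st φ ≫ BrSev.bcTo f K = CohB1.ProjSpace.toSpec q K := by
  refine (stdCover K q).hom_ext _ _ fun j => ?_
  letI := algS (𝟙 (CohB1.ProjSpace q K)) (CohB1.ProjSpace.toSpec q K) (PicPn.D q K j.down)
  rw [← Category.assoc]
  erw [(stdCover K q).ι_glueMorphisms]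
  refine ((lineRep st φ).mor_str _).trans ?_
  have := isOver_fromSpec (𝟙 (CohB1.ProjSpace q K)) (f := CohB1.ProjSpace.toSpec q K) (D_affine (K := K) j.down)
  rw [IsOver, Category.id_comp] at this
  exact this.symm

end psi

end Groth.Agent.KS29
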