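import Groth.Agent.Lib.KS29.SBFrame

/-!
# Pullback and the algebra action on the sheaf of left ideals
-/

set_option autoImplicit false
set_option linter.style.haveILetI false
set_option linter.unusedSectionVars false
set_option backward.isDefEq.respectTransparency false
set_option backward.isDefEq.respectTransparency.types false
set_option maxHeartbeats 800000

universe u

open CategoryTheory CategoryTheory.Limits AlgebraicGeometry TopologicalSpace Opposite TensorProduct

noncomputable section

namespace Groth.Agent.KS29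

open Groth.Agent GrassLib P1Split

variable {k : Type u} [Field k] {A : Type u} [Ring A] [Algebra k A] [FiniteDimensional k A] {c : ℕ}
variable {X : Scheme.{u}} {f : X ⟶ Spec (CommRingCat.of k)}

section pull

variable {Y : Scheme.{u}} (π : Y ⟶ X) (st : BrSev.SBStr k A c f) {Y' : Scheme.{u}} (π' : Y' ⟶ Y)

theorem isOver_of_comp {R : Type u} [CommRing R] [Algebra k R] {g : Spec (CommRingCat.of R) ⟶ Y'}
    (hg : IsOver (π' ≫ π) f g) : IsOver π f (g ≫ π') := by
  show (g ≫ π') ≫ π ≫ f = _
  have : g ≫ (π' ≫ π) ≫ f = _ := hg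
  simpa only [Category.assoc] using this

theorem pt_comp {R : Type u} [CommRing R] [Algebra k R] (g : Spec (CommRingCat.of R) ⟶ Y')
    (hg : IsOver (π' ≫ π) f g) : pt (π' ≫ π) st g hg = pt π st (g ≫ π') (isOver_of_comp π π' hg) := by
  unfold pt
  refine congrArg (fun q : BrSev.Pts f R => (st.bij R q).1) (Subtype.ext ?_)
  exact (Category.assoc _ _ _).symm

/-- Pullback of functions as an algebra map. -/
def appₐ (f : X ⟶ Spec (CommRingCat.of k)) (V : Y.Opens) :
    letI := algS π f V; letI := algS (π' ≫ π) f (π' ⁻¹ᵁ V); Γ(Y, V) →ₐ[k] Γ(Y', π' ⁻¹ᵁ V) :=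
  letI := algS π f V; letI := algS (π' ≫ π) f (π' ⁻¹ᵁ V)
  { (π'.app V).hom with
    commutes' := fun t => by
      show π'.app V ((π ≫ f).appLE ⊤ V le_top _) = ((π' ≫ π) ≫ f).appLE ⊤ (π' ⁻¹ᵁ V) le_top _
      rw [← Scheme.Hom.appLE_eq_app π', ← ConcreteCategory.comp_apply, Scheme.Hom.appLE_comp_appLE]
      simp only [Category.assoc] }

theorem app_mem {V : Y.Opens} {s : Fin (Module.finrank k A) → Γ(Y, V)} (hs : s ∈ secs π st V) :
    (fun l => π'.app V (s l)) ∈ secs (π' ≫ π) st (π' ⁻¹ᵁ V) := fun R _ _ g hg hV => by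
  rw [pt_comp π st π' g hg]
  convert hs R (g ≫ π') (isOver_of_comp π π' hg) hV using 2
  funext l
  rw [← Scheme.Hom.appLE_eq_app π', ev_preimage g π' le_rfl hV hV]

/-- The comparison with the sheaf of left ideals upstairs. -/
def cmpHom : fam π st ⟶ (Scheme.Modules.pushforward π').obj (fam (π' ≫ π) st) :=
  ⟨PresheafOfModules.homMk
    { app := fun V => AddCommGrpCat.ofHom (AddMonoidHom.mk'
        (fun (s : Γ(fam π st, V.unop)) => (secMk (π' ≫ π) st _ (app_mem π st π' (secVal_mem π st s)) :
          Γ(fam (π' ≫ π) st, π' ⁻¹ᵁ V.unop)))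
        fun s t => secVal_ext (π' ≫ π) st (funext fun l => map_add (π'.app V.unop).hom _ _))
      naturality := fun V W i => by
        ext s
        exact secVal_ext (π' ≫ π) st (funext fun l =>
          ConcreteCategory.congr_hom (Scheme.Hom.naturality π' i) (secVal π st s l)) }
    (fun V r s => secVal_ext (π' ≫ π) st (funext fun l => map_mul (π'.app V.unop).hom r (secVal π st s l)))⟩

theorem secVal_cmpHom {V : Y.Opens} (s : Γ(fam π st, V)) :
    secVal (π' ≫ π) st ((cmpHom π st π').app V s) = fun l => π'.app V (secVal π st s l) := rfl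

/-- The transposed comparison. -/
def cmpT : (Scheme.Modules.pullback π').obj (fam π st) ⟶ fam (π' ≫ π) st :=
  ((Scheme.Modules.pullbackPushforwardAdjunction π').homEquiv _ _).symm (cmpHom π st π')

theorem cmpHom_frame {U : Y.Opens} (C : Chart π st U) {n : ℕ} (yb : Fin n → A) (j : Fin n) :
    (cmpHom π st π').app U (C.frame yb j) = (C.comap π').frame yb j := by
  letI := algS π f U; letI := algS (π' ≫ π) f (π' ⁻¹ᵁ U)
  refine secVal_ext (π' ≫ π) st (el_injective (Γ(Y', π' ⁻¹ᵁ U)) ?_)
  rw [secVal_cmpHom, Chart.frame, Chart.frame, secVal_mk, secVal_mk, el_co]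
  refine Eq.trans (tm_el (A := A) (appₐ π π' f U) (co Γ(Y, U) (C.corr le_rfl (yb j)))).symm ?_
  rw [el_co, Chart.corr, Chart.corr, map_sub, tm_lc]
  congr 1
  · simp
  · refine congrArg (lc Γ(Y', π' ⁻¹ᵁ U) C.x) (funext fun l => ?_)
    simp only [Chart.lam, LinearMap.coe_mk, AddHom.coe_mk, map_sum, map_mul, AlgHom.commutes]
    refine Finset.sum_congr rfl fun i _ => ?_
    congr 1
    show π'.app U (Y.presheaf.map (𝟙 _) (C.L l i)) = Y'.presheaf.map (𝟙 _) (π'.app U (C.L l i))
    simp only [CategoryTheory.Functor.map_id]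
    rfl

/-- Pullback of the sheaf of left ideals. -/
theorem isIso_cmpT {n : ℕ} (hA : Module.finrank k A = c + n) : IsIso (cmpT π st π') := by
  choose U C hy hli using fun y => exists_chart (π := π) (st := st) y
  choose B hB using fun y => exists_basis_extend (C y).x (hli y) hA
  refine P1Split.isIso_of_bases (cmpT π st π') (fun y => π' ⁻¹ᵁ U y)
    (eq_top_iff.2 fun z _ => Opens.mem_iSup.2 ⟨π' z, hy (π' z)⟩)
    (fun y j => M2.pullSec π' (fam π st) ((C y).frame (fun j => B y (Sum.inr j)) j))
    (fun y j => ((C y).comap π').frame (fun j => B y (Sum.inr j)) j)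
    (fun y => AmpleFin18.isBas_pullback π' ((C y).isBas_frame _ (B y) (hB y) fun _ => rfl))
    (fun y => ((C y).comap π').isBas_frame _ (B y) (hB y) fun _ => rfl) fun y j => ?_
  rw [← cmpHom_frame π st π' (C y)]
  exact PullBC11.homEquiv_symm_pullSec (cmpHom π st π') _

/-- The pullback of the sheaf of left ideals is the sheaf of left ideals upstairs. -/
def pullIso {n : ℕ} (hA : Module.finrank k A = c + n) :
    (Scheme.Modules.pullback π').obj (fam π st) ≅ fam (π' ≫ π) st :=
  haveI := isIso_cmpT π st π' hA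
  asIso (cmpT π st π')

end pull

section act

variable {Y : Scheme.{u}} (π : Y ⟶ X) (st : BrSev.SBStr k A c f)

/-- Multiplication by a global element on coordinates. -/
def actVal {V : Y.Opens} (z : letI := algS π f (⊤ : Y.Opens); Γ(Y, ⊤) ⊗[k] A)
    (s : Fin (Module.finrank k A) → Γ(Y, V)) : Fin (Module.finrank k A) → Γ(Y, V) :=
  letI := algS π f (⊤ : Y.Opens); letI := algS π f V
  co Γ(Y, V) (Algebra.TensorProduct.map (resₐ π f (le_top : V ≤ ⊤)) (AlgHom.id k A) z * el Γ(Y, V) s)

theorem tm_eq_map {R S : Type u} [CommRing R] [Algebra k R] [CommRing S] [Algebra k S] (φ : R →ₐ[k] S)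
    (z : R ⊗[k] A) : tm φ z = Algebra.TensorProduct.map φ (AlgHom.id k A) z := rfl

theorem actVal_mem {V : Y.Opens} (z : letI := algS π f (⊤ : Y.Opens); Γ(Y, ⊤) ⊗[k] A)
    {s : Fin (Module.finrank k A) → Γ(Y, V)} (hs : s ∈ secs π st V) : actVal π z s ∈ secs π st V := by
  intro R _ _ g hg hV
  letI := algS π f (⊤ : Y.Opens); letI := algS π f V
  have h := hs R g hg hV
  let e := evₐ π g hg hV
  have h1 := (tm_el (A := A) e (actVal π z s)).symm
  refine (congrArg (fun w => w ∈ (pt π st g hg).toSubmodule) h1).mpr ?_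
  rw [actVal, el_co, tm_eq_map, map_mul, ← tm_eq_map e (el Γ(Y, V) s), tm_el]
  exact (st.bij R ⟨g ≫ π, by rw [Category.assoc]; exact hg⟩).2 _ _ h

theorem actVal_res {V W : Y.Opens} (h : W ≤ V) (z : letI := algS π f (⊤ : Y.Opens); Γ(Y, ⊤) ⊗[k] A)
    (s : Fin (Module.finrank k A) → Γ(Y, V)) :
    (fun l => Y.presheaf.map (homOfLE h).op (actVal π z s l)) =
      actVal π z fun l => Y.presheaf.map (homOfLE h).op (s l) := by
  letI := algS π f (⊤ : Y.Opens); letI := algS π f V; letI := algS π f W
  refine el_injective (A := A) Γ(Y, W) ?_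
  refine (tm_el (A := A) (resₐ π f h) (actVal π z s)).symm.trans ?_
  rw [actVal, actVal, el_co, el_co, tm_eq_map, map_mul]
  congr 1
  · rw [← AlgHom.comp_apply, ← Algebra.TensorProduct.map_comp]
    congr 2
    exact AlgHom.ext fun r => (ConcreteCategory.congr_hom
      (Y.presheaf.map_comp (homOfLE (le_top : V ≤ ⊤)).op (homOfLE h).op) r).symm
  · rw [← tm_eq_map, tm_el]
    rfl

theorem actVal_add {V : Y.Opens} (z : letI := algS π f (⊤ : Y.Opens); Γ(Y, ⊤) ⊗[k] A)
    (s t : Fin (Module.finrank k A) → Γ(Y, V)) : actVal π z (s + t) = actVal π z s + actVal π z t := by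
  letI := algS π f (⊤ : Y.Opens); letI := algS π f V
  refine el_injective (A := A) Γ(Y, V) ?_
  simp only [actVal, map_add, el_co, mul_add]

theorem actVal_smul {V : Y.Opens} (z : letI := algS π f (⊤ : Y.Opens); Γ(Y, ⊤) ⊗[k] A) (r : Γ(Y, V))
    (s : Fin (Module.finrank k A) → Γ(Y, V)) : actVal π z (r • s) = r • actVal π z s := by
  letI := algS π f (⊤ : Y.Opens); letI := algS π f V
  refine el_injective (A := A) Γ(Y, V) ?_
  simp only [actVal, map_smul, el_co, mul_smul_comm]

/-- The action of global elements. -/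
def act (z : letI := algS π f (⊤ : Y.Opens); Γ(Y, ⊤) ⊗[k] A) : fam π st ⟶ fam π st :=
  ⟨PresheafOfModules.homMk
    { app := fun V => AddCommGrpCat.ofHom (AddMonoidHom.mk'
        (fun (s : Γ(fam π st, V.unop)) =>
          (secMk π st _ (actVal_mem π st z (secVal_mem π st s)) : Γ(fam π st, V.unop)))
        fun s t => secVal_ext π st (actVal_add π z _ _))
      naturality := fun V W i => by
        ext s
        exact secVal_ext π st (actVal_res π i.unop.le z (secVal π st s)).symm }
    (fun V r s => secVal_ext π st (actVal_smul π z r (secVal π st s)))⟩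

theorem secVal_act {V : Y.Opens} (z : letI := algS π f (⊤ : Y.Opens); Γ(Y, ⊤) ⊗[k] A) (s : Γ(fam π st, V)) :
    secVal π st ((act π st z).app V s) = actVal π z (secVal π st s) := rfl

theorem hom_ext_secVal {M : Y.Modules} {φ ψ : M ⟶ fam π st}
    (h : ∀ (V : Y.Opens) (s : Γ(M, V)), secVal π st (φ.app V s) = secVal π st (ψ.app V s)) : φ = ψ :=
  Scheme.Modules.hom_ext _ _ fun V => by
    ext s
    exact secVal_ext π st (h V s)

theorem act_one : letI := algS π f (⊤ : Y.Opens); act π st 1 = 𝟙 (fam π st) := by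
  letI := algS π f (⊤ : Y.Opens)
  refine hom_ext_secVal π st fun V s => ?_
  letI := algS π f V
  rw [secVal_act, actVal, map_one, one_mul, co_el]
  rfl

theorem act_mul (z w : letI := algS π f (⊤ : Y.Opens); Γ(Y, ⊤) ⊗[k] A) :
    letI := algS π f (⊤ : Y.Opens); act π st (z * w) = act π st w ≫ act π st z := by
  letI := algS π f (⊤ : Y.Opens)
  refine hom_ext_secVal π st fun V s => ?_
  letI := algS π f V
  show _ = secVal π st ((act π st z).app V ((act π st w).app V s))
  rw [secVal_act, secVal_act, secVal_act, actVal, actVal, actVal, el_co, map_mul, mul_assoc]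

theorem act_add (z w : letI := algS π f (⊤ : Y.Opens); Γ(Y, ⊤) ⊗[k] A) :
    letI := algS π f (⊤ : Y.Opens); act π st (z + w) = act π st z + act π st w := by
  letI := algS π f (⊤ : Y.Opens)
  refine hom_ext_secVal π st fun V s => ?_
  letI := algS π f V
  show _ = secVal π st ((act π st z).app V s + (act π st w).app V s)
  rw [secVal_add, secVal_act, secVal_act, secVal_act]
  refine el_injective (A := A) Γ(Y, V) ?_
  simp only [actVal, map_add, el_co, add_mul]

/-- The action as a ring homomorphism. -/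
def actRing : letI := algS π f (⊤ : Y.Opens); Γ(Y, ⊤) ⊗[k] A →+* End (fam π st) :=
  letI := algS π f (⊤ : Y.Opens)
  { toFun := act π st
    map_one' := act_one π st
    map_mul' := act_mul π st
    map_zero' := by
      have h := act_add π st 0 0
      rw [add_zero] at h
      exact left_eq_add.1 h
    map_add' := act_add π st }

end act

end Groth.Agent.KS29
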