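import Groth.Agent.Lib.KS29.SBIndex
import Groth.Agent.Lib.KS29.SBHorrocks
import Groth.Agent.Lib.KS29.HomFin
import Groth.Agent.Lib.CMReg18.Resolution
import Groth.Agent.Lib.CMReg18.PullVb
import Groth.Agent.Lib.DPerf.Top
import Groth.Agent.Lib.K0Cat.Basic
import Groth.Agent.Lib.K0Perf9.Basic
import Groth.Agent.Lib.VB17.Pair

/-!
# Resolutions on a form of projective space by indecomposable isotypical bundles
-/

set_option autoImplicit false
set_option linter.style.haveILetI false
set_option linter.unusedSectionVars false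
set_option backward.isDefEq.respectTransparency false
set_option backward.isDefEq.respectTransparency.types false
set_option maxHeartbeats 800000

universe u v w

open CategoryTheory CategoryTheory.Limits AlgebraicGeometry TopologicalSpace

noncomputable section

namespace Groth.Agent.KS29

open Groth.Agent

attribute [local instance] Abelian.hasFiniteBiproducts

section cat

variable {C : Type v} [Category.{w} C] [Abelian C]

/-- A minimal generating family of morphisms out of an object with invertible nonzero endomorphisms is free. -/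
theorem exists_free_generators {W M : C} (hW : ∀ g : W ⟶ W, g ≠ 0 → IsIso g) {s : ℕ} (g₀ : Fin s → (W ⟶ M))
    (h₀ : ∀ u : W ⟶ M, ∃ d : Fin s → (W ⟶ W), ∑ l, d l ≫ g₀ l = u) :
    ∃ (t : ℕ) (g : Fin t → (W ⟶ M)), (∀ u : W ⟶ M, ∃ d : Fin t → (W ⟶ W), ∑ l, d l ≫ g l = u) ∧
      ∀ d : Fin t → (W ⟶ W), ∑ l, d l ≫ g l = 0 → d = 0 := by
  classical
  induction s with
  | zero => exact ⟨0, g₀, h₀, fun d _ => funext fun l => l.elim0⟩
  | succ s ih =>
    by_cases hfree : ∀ d : Fin (s + 1) → (W ⟶ W), ∑ l, d l ≫ g₀ l = 0 → d = 0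
    · exact ⟨s + 1, g₀, h₀, hfree⟩
    obtain ⟨d, hd, hne⟩ : ∃ d : Fin (s + 1) → (W ⟶ W), ∑ l, d l ≫ g₀ l = 0 ∧ d ≠ 0 := by
      by_contra! h
      exact hfree h
    obtain ⟨a, ha⟩ := Function.ne_iff.1 hne
    haveI := hW _ ha
    have hga : g₀ a = ∑ l, (-(inv (d a) ≫ d (a.succAbove l))) ≫ g₀ (a.succAbove l) := by
      rw [Fin.sum_univ_succAbove _ a] at hd
      simp only [Preadditive.neg_comp, Category.assoc, Finset.sum_neg_distrib, ← Preadditive.comp_sum]
      rw [← neg_eq_of_add_eq_zero_right hd, Preadditive.comp_neg, neg_neg, IsIso.inv_hom_id_assoc]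
    refine ih (fun l => g₀ (a.succAbove l)) fun u => ?_
    obtain ⟨c, rfl⟩ := h₀ u
    refine ⟨fun l => c (a.succAbove l) + c a ≫ (-(inv (d a) ≫ d (a.succAbove l))), ?_⟩
    rw [Fin.sum_univ_succAbove _ a, hga]
    simp only [Preadditive.add_comp, Finset.sum_add_distrib, Category.assoc, Preadditive.comp_sum]
    exact add_comm _ _

end cat

/-- The class of a finite sum of copies. -/
theorem clSub_sum {X : Scheme.{u}} {W : X.Modules} (hW : FlatMod.IsFinLocFree W) : ∀ s : ℕ,
    FlatMod.IsFinLocFree (⨁ fun _ : Fin s => W) ∧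
      KZero.clSub (fun M : X.Modules => FlatMod.IsFinLocFree M) (⨁ fun _ : Fin s => W) =
        s • KZero.clSub (fun M : X.Modules => FlatMod.IsFinLocFree M) W
  | 0 => by
    have hz : IsZero (⨁ fun _ : Fin 0 => W) :=
      (IsZero.iff_id_eq_zero _).2 (biproduct.hom_ext _ _ fun j => j.elim0)
    exact ⟨KFlat.Sch.isFinLocFree_of_isZero hz,
      (K0Cat.clSub_of_isZero hz (KFlat.Sch.isFinLocFree_of_isZero hz)).trans (zero_smul _ _).symm⟩
  | s + 1 => by
    classical
    obtain ⟨h1, h2⟩ := clSub_sum hW s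
    let F := ⨁ fun _ : Fin s => W
    let i : (⨁ fun _ : Fin (s + 1) => W) ≅ W ⊞ F :=
      { hom := biprod.lift (biproduct.π _ 0) (biproduct.lift fun l => biproduct.π _ l.succ)
        inv := biproduct.lift (Fin.cases biprod.fst fun l => biprod.snd ≫ biproduct.π _ l)
        hom_inv_id := biproduct.hom_ext _ _ fun j => by
          cases j using Fin.cases with
          | zero => simp
          | succ l => simp
        inv_hom_id := biprod.hom_ext _ _ (by simp) (biproduct.hom_ext _ _ fun l => by simp [F]) }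
    have hF : FlatMod.IsFinLocFree (W ⊞ F) := KFlat.Sch.isFinLocFree_biprod hW h1
    refine ⟨M2.isFinLocFree_of_iso i.symm hF, ?_⟩
    have h3 := (K0Perf9.clSub_iso i.symm hF).symm.trans (K0Perf9.clSub_biprod hW h1)
    refine h3.trans ?_
    rw [succ_nsmul']
    exact congrArg _ h2

section stage

variable {k : Type u} [Field k] {n : ℕ}

open CMReg18

theorem Stage.of_iso {m : ℤ} {j : ℕ} {K K' : (CohB1.ProjSpace n k).Modules} (i : K ≅ K') (h : Stage m j K) :
    Stage m j K' := by
  haveI := CMReg18.isProper_projSpace k (n := n)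
  exact ⟨CohFound.isCoh_of_iso i h.coh,
    fun p hp => van_iso k ((M2.tensorR ((projData k n).O _)).mapIso i) (h.reg p hp),
    fun hj => van_iso k ((M2.tensorR ((projData k n).O _)).mapIso i) (h.h0 hj),
    fun p hp hpj => van_iso k ((M2.tensorR ((projData k n).O _)).mapIso i) (h.van p hp hpj)⟩

theorem hom_ext_one {X : Scheme.{u}} {M : X.Modules} {a b : Coh.structureModule X ⟶ M}
    (h : a.app ⊤ (M1.one ⊤) = b.app ⊤ (M1.one ⊤)) : a = b := M1.unit_hom_ext h

/-- A step of the resolution from a sum of twists through which all morphisms from the twist factor uniquely. -/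
theorem stage_next_of_hom {m : ℤ} {j : ℕ} {K : (CohB1.ProjSpace n k).Modules} (h : Stage m j K)
    {C : (CohB1.ProjSpace n k).Modules} {b : ℕ} (ψC : C ≅ ∐ fun _ : Fin b => (projData k n).O (-(m + j)))
    (φ : C ⟶ K) (hlift : ∀ u : (projData k n).O (-(m + j)) ⟶ K, ∃ v, v ≫ φ = u)
    (hinj : ∀ v : (projData k n).O (-(m + j)) ⟶ C, v ≫ φ = 0 → v = 0) :
    Epi φ ∧ Stage m (j + 1) (kernel φ) := by
  haveI := isProper_projSpace k (n := n)
  haveI : IsNoetherian (CohB1.ProjSpace n k) :=
    CohFound.isNoetherian_of_isProper (CohB1.ProjSpace n k ↘ Spec (CommRingCat.of k))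
  let D := projData k n
  let P := CohB1.ProjSpace n k
  obtain ⟨b₀, φ₀, -, hφ₀, -⟩ :=
    D.exists_presentation_finrank (k := k) h.coh (m + j) (isGloballyGenerated_of_isReg h.coh h.reg)
  haveI := hφ₀
  haveI hepi : Epi φ := by
    choose v hv using fun l : Fin b₀ => hlift (Sigma.ι (fun _ : Fin b₀ => D.O (-(m + j))) l ≫ φ₀)
    haveI : Epi (Sigma.desc v ≫ φ) := by
      rw [show Sigma.desc v ≫ φ = φ₀ from Sigma.hom_ext _ _ fun l => by rw [Sigma.ι_desc_assoc, hv]]
      infer_instance
    exact epi_of_epi (Sigma.desc v) φ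
  let T := M2.tensorR (D.O (-(m + j)))
  let Ti := M2.tensorR (D.O (m + j))
  haveI : T.IsEquivalence := VB17.isEquivalence_tensorR (D.inv _)
  haveI : T.Additive := inferInstance
  let e : CohB1.tensorMod (D.O (m + j)) (D.O (-(m + j))) ≅ Coh.structureModule P :=
    D.add _ _ ≪≫ eqToIso (by rw [add_neg_cancel]) ≪≫ D.zero
  let l : CohB1.tensorMod (Coh.structureModule P) (D.O (-(m + j))) ≅ D.O (-(m + j)) := M2.tensorLUnit _
  have hnat : T.map (Ti.map φ) ≫ (M2.untwist e K).hom = (M2.untwist e C).hom ≫ φ := M2.untwist_natural e φ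
  have hs : ∀ a : Coh.structureModule P ⟶ Ti.obj K, ∃ c, c ≫ Ti.map φ = a := fun a => by
    obtain ⟨v, hv⟩ := hlift (l.inv ≫ T.map a ≫ (M2.untwist e K).hom)
    obtain ⟨c, hc⟩ := T.map_surjective (l.hom ≫ v ≫ (M2.untwist e C).inv)
    refine ⟨c, T.map_injective ?_⟩
    rw [← cancel_mono (M2.untwist e K).hom, T.map_comp, Category.assoc, hnat, hc]
    simp only [Category.assoc, Iso.inv_hom_id_assoc, hv, Iso.hom_inv_id_assoc]
  have hi : ∀ c : Coh.structureModule P ⟶ Ti.obj C, c ≫ Ti.map φ = 0 → c = 0 := fun c hc => by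
    refine T.map_injective ?_
    rw [T.map_zero, ← cancel_mono (M2.untwist e C).hom, zero_comp]
    have h0 : (l.inv ≫ T.map c ≫ (M2.untwist e C).hom) ≫ φ = 0 := by
      rw [Category.assoc, Category.assoc, ← hnat, ← T.map_comp_assoc, hc, T.map_zero, zero_comp, comp_zero]
    have h1 := hinj _ h0
    rwa [← cancel_epi l.inv, comp_zero]
  have hsurj : Function.Surjective (CurveCoh17.hmap k (Ti.map φ) 0) := fun x => by
    obtain ⟨c, hc⟩ := hs (M1.secHom (CurveCoh17.hh0 _ x))
    refine ⟨(CurveCoh17.hh0 _).symm (c.app ⊤ (M1.one ⊤)), (CurveCoh17.hh0 _).injective ?_⟩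
    rw [CurveCoh17.hh0_hmap, AddEquiv.apply_symm_apply, ← CategoryTheory.comp_apply,
      ← Scheme.Modules.Hom.comp_app, hc, M1.secHom_app_one]
  have hinj' : Function.Injective (CurveCoh17.hmap k (Ti.map φ) 0) := by
    refine (injective_iff_map_eq_zero (CurveCoh17.hmap k (Ti.map φ) 0)).2 fun x hx => (CurveCoh17.hh0 _).injective ?_
    have h0 := congrArg (CurveCoh17.hh0 _) hx
    rw [CurveCoh17.hh0_hmap, map_zero] at h0
    rw [map_zero]
    have hc := hi (M1.secHom (CurveCoh17.hh0 _ x)) (by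
      refine hom_ext_one ?_
      rw [Scheme.Modules.Hom.comp_app, CategoryTheory.comp_apply, M1.secHom_app_one, h0]
      rfl)
    rw [← M1.secHom_app_one (CurveCoh17.hh0 _ x), hc]
    rfl
  let C₀ := ∐ fun _ : Fin b => D.O (-(m + j))
  have hC₀ : Coh.IsCoh C₀ := CohFound.isCoh_of_iso (M2.freeModTensorIso _ b _) (CurveCoh17.isCoh_tensor
    (CurveCoh17.isCoh_of_ofRank (M2.isFinLocFreeOfRank_freeMod _ b)) (Snapper.isCoh_of_isInvertible (D.inv _)))
  have hC : Coh.IsCoh C := CohFound.isCoh_of_iso ψC.symm hC₀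
  have hS : (ShortComplex.mk (kernel.ι φ) φ (kernel.condition φ)).ShortExact :=
    { exact := ShortComplex.exact_kernel φ }
  have hreg : D.IsReg C (m + j) := fun p hp =>
    van_iso k ((M2.tensorR (D.O _)).mapIso ψC.symm) (projData_isReg_twist k n b (m + j) p hp)
  refine ⟨hepi, CurveCoh17.isCoh_kernel hC h.coh.1 φ, fun i hi' => ?_, fun _ => ?_, fun i hi' hij => ?_⟩
  · obtain ⟨p, rfl⟩ : ∃ p, i = p + 1 := ⟨i - 1, by omega⟩
    refine van_iso k (D.twIso _ (by push_cast; ring) : D.tw _ (m + j - p) ≅ _) ?_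
    rcases Nat.eq_zero_or_pos p with rfl | hp
    · rw [Nat.cast_zero, sub_zero]
      refine subsingleton_of_forall_eq 0 fun w => ?_
      obtain ⟨z, rfl⟩ := (CurveCoh17.exact_hdelta_hmap k (D.shortExact_tw hS (m + j)) 0 w).1
        ((hreg.van k le_rfl (by omega) : Subsingleton (Coh.HH _ (D.tw _ (m + j)) 1)).elim _ _)
      exact (CurveCoh17.exact_hmap_hdelta k (D.shortExact_tw hS (m + j)) 0 z).2 (hsurj z)
    · exact van₁ k (D.shortExact_tw hS _) (h.reg p hp) (hreg.van k (by omega) (by push_cast; omega))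
  · refine van_iso k (D.twIso _ (by push_cast; ring) : D.tw _ (m + j) ≅ _) ?_
    refine subsingleton_of_forall_eq 0 fun w => ?_
    refine CurveCoh17.hmap_f_injective k (D.shortExact_tw hS (m + j)) (hinj' ?_)
    rw [map_zero, map_zero]
    exact (CurveCoh17.exact_hmap_hmap k (D.shortExact_tw hS (m + j)) 0 _).2 ⟨w, rfl⟩
  · obtain ⟨p, rfl⟩ : ∃ p, i = p + 1 := ⟨i - 1, by omega⟩
    refine van_iso k (D.twIso _ (by push_cast; ring) : D.tw _ (m + j - 1 - p) ≅ _) ?_
    refine van₁ k (D.shortExact_tw hS _) ?_ (hreg.van k (by omega) (by push_cast; omega))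
    rcases Nat.eq_zero_or_pos p with rfl | hp
    · exact van_iso k (D.twIso _ (by push_cast; ring)) (h.h0 (by omega))
    · exact h.van p hp (by omega)

end stage

variable {k : Type u} [Field k] {X : Scheme.{u}} (f : X ⟶ Spec (CommRingCat.of k)) [IsProper f]
variable {K : Type u} [Field K] [Algebra k K] {q : ℕ} (e : BrSev.Splitting f K q)

theorem isEquivalence_toPn : (toPn f e).IsEquivalence :=
  (CategoryTheory.Equivalence.mk (toPn f e) (Scheme.Modules.pullback e.iso.hom)
    (Scheme.Modules.pullbackComp e.iso.hom e.iso.inv ≪≫ Scheme.Modules.pullbackCongr e.iso.hom_inv_id ≪≫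
      Scheme.Modules.pullbackId _).symm
    (Scheme.Modules.pullbackComp e.iso.inv e.iso.hom ≪≫ Scheme.Modules.pullbackCongr e.iso.inv_hom_id ≪≫
      Scheme.Modules.pullbackId _)).isEquivalence_functor

/-- The free generators of `Hom(W, M)` are still free and generating after base change. -/
theorem exists_free_sum {W M : X.Modules} (hW : FlatMod.IsFinLocFree W) (hM : FlatMod.IsFinLocFree M)
    {i : ℤ} {r : ℕ} (hr : 0 < r) (hWi : Indec W) (hWt : BrSev.IsTwPow e i r W) :
    ∃ (s b : ℕ) (φ : (⨁ fun _ : Fin s => W) ⟶ M),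
      Nonempty (BrSev.bcMod f K (⨁ fun _ : Fin s => W) ≅ ∐ fun _ : Fin b => e.twist i) ∧
      (∀ u : e.twist i ⟶ BrSev.bcMod f K M,
        ∃ v, v ≫ (Scheme.Modules.pullback (BrSev.proj f K)).map φ = u) ∧
      ∀ v : e.twist i ⟶ BrSev.bcMod f K (⨁ fun _ : Fin s => W),
        v ≫ (Scheme.Modules.pullback (BrSev.proj f K)).map φ = 0 → v = 0 := by
  classical
  haveI : CompactSpace X := QuasiCompact.compactSpace_of_compactSpace f
  haveI : (Scheme.Modules.pullback (BrSev.proj f K)).Additive :=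
    (Scheme.Modules.pullbackPushforwardAdjunction (BrSev.proj f K)).left_adjoint_additive
  have hWc := isCoh_of_flf f hW
  have hMc := isCoh_of_flf f hM
  haveI : IsSimpleRing (End W) := (isCSA_endA f e hr hWc hWt).2.1
  have hu : ∀ g : W ⟶ W, g ≠ 0 → IsIso g := fun g hg => isIso_of_ne_zero f hWc hWi g hg
  letI : X.Over (Spec (CommRingCat.of k)) := ⟨f⟩
  haveI : IsProper (X ↘ Spec (CommRingCat.of k)) := ‹IsProper f›
  haveI := finite_hom (k := k) (F := W) (G := M) hWc hMc
  let B := Module.finBasis k (W ⟶ M)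
  obtain ⟨s, g, hgen, hfree⟩ := exists_free_generators hu B (fun u => by
    refine ⟨fun l => sck f W (B.repr u l), Eq.trans ?_ (B.sum_repr u)⟩
    exact Finset.sum_congr rfl fun l _ => rfl)
  let F := ⨁ fun _ : Fin s => W
  let φ : F ⟶ M := biproduct.desc g
  have hdown : ∀ u : W ⟶ M, ∃ v : W ⟶ F, v ≫ φ = u := fun u => by
    obtain ⟨d, rfl⟩ := hgen u
    exact ⟨biproduct.lift d, biproduct.lift_desc⟩
  have hdown0 : ∀ v : W ⟶ F, v ≫ φ = 0 → v = 0 := fun v hv => by
    have h1 : v = biproduct.lift fun l => v ≫ biproduct.π _ l := biproduct.hom_ext _ _ fun l => by simp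
    rw [h1, biproduct.lift_desc] at hv
    have h2 := hfree _ hv
    rw [h1]
    exact biproduct.hom_ext _ _ fun l => by simpa using congrFun h2 l
  obtain ⟨ψ⟩ := hWt
  let d : Dec (BrSev.bcMod f K W) (fun _ : Fin r => e.twist i) := Dec.ofCoproduct.trans ψ.symm
  let dF : Dec (BrSev.bcMod f K F) (fun _ : Fin s => BrSev.bcMod f K W) :=
    Dec.ofBiproduct.map (Scheme.Modules.pullback (BrSev.proj f K))
  obtain ⟨b, ⟨iF⟩⟩ : ∃ b, Nonempty (BrSev.bcMod f K F ≅ ∐ fun _ : Fin b => e.twist i) :=
    ⟨s * r, ⟨dF.isoCoproduct ≪≫ Sigma.mapIso (fun _ => ψ) ≪≫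
      sigmaSigmaIso (fun _ : Fin s => Fin r) (fun _ _ => e.twist i) ≪≫
      Sigma.whiskerEquiv (g := fun _ : Fin (s * r) => e.twist i)
        ((Equiv.sigmaEquivProd (Fin s) (Fin r)).trans finProdFinEquiv) (fun _ => Iso.refl _)⟩⟩
  refine ⟨s, b, φ, ⟨iF⟩, fun u => ?_, fun v hv => ?_⟩
  · obtain ⟨N, h, a, ha⟩ := exists_comb f hWc hMc.1 (d.prj ⟨0, hr⟩ ≫ u)
    choose v hv using fun t => hdown (h t)
    refine ⟨d.inj ⟨0, hr⟩ ≫ ∑ t, bcT f (v t) (a t), ?_⟩
    have hc : (∑ t, bcT f (v t) (a t)) ≫ (Scheme.Modules.pullback (BrSev.proj f K)).map φ =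
        d.prj ⟨0, hr⟩ ≫ u := by
      rw [ha, Preadditive.sum_comp]
      refine Finset.sum_congr rfl fun t _ => ?_
      rw [← hv t]
      simp only [bcT, Category.assoc, ← comp_sc, Functor.map_comp]
    rw [Category.assoc, hc, d.inj_prj_assoc]
  · have hFc : Coh.IsCoh F := isCoh_of_flf f (clSub_sum hW s).1
    obtain ⟨N, h, a, ha⟩ := exists_comb f hWc hFc.1 (d.prj ⟨0, hr⟩ ≫ v)
    have hz : ∑ t, bcT f (h t ≫ φ) (a t) = ∑ t ∈ (∅ : Finset (Fin 0)), bcT f (0 : W ⟶ M) ((t : ℕ) : K) := by
      rw [Finset.sum_empty]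
      refine Eq.trans ?_ ((congrArg (fun z => z ≫ (Scheme.Modules.pullback (BrSev.proj f K)).map φ) ha).symm.trans
        (by rw [Category.assoc, hv, comp_zero]))
      rw [Preadditive.sum_comp]
      refine Finset.sum_congr rfl fun t _ => ?_
      simp only [bcT, Category.assoc, ← comp_sc, Functor.map_comp]
    have key : ∀ l : K →ₗ[k] k, ∑ t, h t ≫ sck f F (l (a t)) = 0 := fun l => by
      refine hdown0 _ ?_
      have h1 := comb_congr f hMc.1 Finset.univ ∅ (fun t => h t ≫ φ) a (fun _ => (0 : W ⟶ M))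
        (fun t : Fin 0 => ((t : ℕ) : K)) hz l
      rw [Finset.sum_empty] at h1
      refine Eq.trans ?_ h1
      rw [Preadditive.sum_comp]
      exact Finset.sum_congr rfl fun t _ => by rw [Category.assoc, Category.assoc, comp_sck]
    have hcomb : ∑ t, bcT f (h t) (a t) = 0 := by
      let bK := Module.Basis.ofVectorSpace k K
      have hT : ∀ t, a t = ∑ x ∈ Finset.univ.biUnion (fun t => (bK.repr (a t)).support),
          algebraMap k K (bK.repr (a t) x) * bK x := fun t => by
        conv_lhs => rw [← bK.linearCombination_repr (a t)]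
        rw [Finsupp.linearCombination_apply, Finsupp.sum]
        refine (Finset.sum_congr rfl fun x _ => Algebra.smul_def _ _).trans
          (Finset.sum_subset (fun x hx => Finset.mem_biUnion.2 ⟨t, Finset.mem_univ _, hx⟩) fun x _ hx => ?_)
        rw [Finsupp.notMem_support_iff.1 hx, map_zero, zero_mul]
      rw [Finset.sum_congr rfl fun t _ => (congrArg (bcT f (h t)) (hT t)).trans (bcT_sum_right f _ _ _),
        Finset.sum_comm]
      refine Finset.sum_eq_zero fun x _ => ?_
      have hk := key (bK.coord x)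
      rw [Finset.sum_congr rfl fun t _ => (bcT_sck f (h t) (bK.repr (a t) x) (bK x)).symm]
      have hz' : ∀ (S : Finset (Fin N)) (ω : Fin N → (W ⟶ F)),
          ∑ t ∈ S, bcT f (ω t) (bK x) = bcT f (∑ t ∈ S, ω t) (bK x) := fun S ω =>
        (map_sum (AddMonoidHom.mk' (fun z : W ⟶ F => bcT f z (bK x)) fun z z' => bcT_add_left f z z' _) ω S).symm
      rw [hz']
      refine (congrArg (fun z => bcT f z (bK x)) hk).trans ?_
      simp [bcT]
    rw [← d.inj_prj_assoc ⟨0, hr⟩ v, ha, hcomb, comp_zero]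

/-- Finite locally free modules are generated in `K₀` by negative indecomposable isotypical bundles. -/
theorem closure_negTwPow_eq_top [Algebra.IsAlgebraic k K] :
    AddSubgroup.closure {c : KZero.K0sub (fun M : X.Modules => FlatMod.IsFinLocFree M) |
        ∃ (W : X.Modules) (j : ℕ) (r : ℕ), FlatMod.IsFinLocFree W ∧ Indec W ∧ 0 < r ∧
          BrSev.IsTwPow e (-(j : ℤ)) r W ∧
          c = KZero.clSub (fun M : X.Modules => FlatMod.IsFinLocFree M) W} = ⊤ := by
  set H := AddSubgroup.closure {c : KZero.K0sub (fun M : X.Modules => FlatMod.IsFinLocFree M) |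
        ∃ (W : X.Modules) (j : ℕ) (r : ℕ), FlatMod.IsFinLocFree W ∧ Indec W ∧ 0 < r ∧
          BrSev.IsTwPow e (-(j : ℤ)) r W ∧
          c = KZero.clSub (fun M : X.Modules => FlatMod.IsFinLocFree M) W}
  haveI := isEquivalence_toPn f e
  haveI : (toPn f e).Additive :=
    (Scheme.Modules.pullbackPushforwardAdjunction e.iso.inv).left_adjoint_additive
  let g := BrSev.proj f K
  haveI : (Scheme.Modules.pullback g).Additive :=
    (Scheme.Modules.pullbackPushforwardAdjunction g).left_adjoint_additive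
  haveI := surjective_proj f (K := K)
  let T : X.Modules ⥤ (CohB1.ProjSpace q K).Modules := Scheme.Modules.pullback g ⋙ toPn f e
  haveI : T.Additive := inferInstance
  have main : ∀ (m : ℕ) (c j : ℕ) (M : X.Modules), FlatMod.IsFinLocFree M →
      CMReg18.Stage (m : ℤ) j (T.obj M) → q + 1 ≤ j + c →
      KZero.clSub (fun M : X.Modules => FlatMod.IsFinLocFree M) M ∈ H := by
    intro m c
    induction c with
    | zero =>
      intro j M hM hS hj
      have hz : IsZero (T.obj M) := hS.isZero (by omega)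
      have hzK : IsZero (BrSev.bcMod f K M) :=
        (Functor.map_isZero (Scheme.Modules.pullback e.iso.hom) hz).of_iso (fromPn f e _).symm
      rw [K0Cat.clSub_of_isZero (P := fun M : X.Modules => FlatMod.IsFinLocFree M)
        (isZero_of_bc (K := K) f (isCoh_of_flf f hM).1 hzK) hM]
      exact zero_mem _
    | succ c ih =>
      intro j M hM hS hj
      obtain ⟨W, r, hW, hWi, hr, hWt⟩ := exists_indec_twPow e (-((m + j : ℕ) : ℤ))
      obtain ⟨s, b, φ, ⟨iF⟩, hlift, hinj⟩ := exists_free_sum f e hW hM hr hWi hWt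
      have hWH : KZero.clSub (fun M : X.Modules => FlatMod.IsFinLocFree M) W ∈ H :=
        AddSubgroup.subset_closure ⟨W, m + j, r, hW, hWi, hr, hWt, rfl⟩
      obtain ⟨hF, hcl⟩ := clSub_sum hW s
      let t : (toPn f e).obj (e.twist (-((m + j : ℕ) : ℤ))) ≅ (CMReg18.projData K q).O (-((m : ℤ) + j)) :=
        toPnTwist f e _ ≪≫ eqToIso (congrArg (_root_.Twist.twistProjSpace q K) (by push_cast; ring))
      let ψC : T.obj (⨁ fun _ : Fin s => W) ≅ ∐ fun _ : Fin b => (CMReg18.projData K q).O (-((m : ℤ) + j)) :=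
        (((Dec.ofCoproduct.trans iF.symm).map (toPn f e)).congr fun _ => t).isoCoproduct
      obtain ⟨hepi, hnext⟩ := stage_next_of_hom hS ψC (T.map φ) (fun u => by
          obtain ⟨u', hu'⟩ := (toPn f e).map_surjective (t.hom ≫ u)
          obtain ⟨v, hv⟩ := hlift u'
          refine ⟨t.inv ≫ (toPn f e).map v, ?_⟩
          rw [Category.assoc, Functor.comp_map, ← (toPn f e).map_comp, hv, hu', Iso.inv_hom_id_assoc])
        (fun v hv => by
          obtain ⟨v', hv'⟩ := (toPn f e).map_surjective (t.hom ≫ v)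
          have h0 : v' = 0 := hinj v' ((toPn f e).map_injective (by
            rw [Functor.map_comp, hv', Category.assoc, Functor.map_zero]
            exact (congrArg (t.hom ≫ ·) hv).trans comp_zero))
          rw [h0, Functor.map_zero] at hv'
          rw [← cancel_epi t.hom, ← hv', comp_zero])
      haveI := hepi
      haveI : Epi φ := by
        have hK : Epi ((Scheme.Modules.pullback g).map φ) := (toPn f e).epi_of_epi_map hepi
        have hc : IsZero (BrSev.bcMod f K (cokernel φ)) := by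
          haveI := hK
          haveI : PreservesColimitsOfSize.{0, 0} (Scheme.Modules.pullback g) :=
            (Scheme.Modules.pullbackPushforwardAdjunction g).leftAdjoint_preservesColimits
          exact (isZero_cokernel_of_epi ((Scheme.Modules.pullback g).map φ)).of_iso
            (PreservesCokernel.iso (Scheme.Modules.pullback g) φ)
        exact Preadditive.epi_of_cokernel_zero ((isZero_of_bc (K := K) f
          (M1.isQCoh_cokernel (isCoh_of_flf f hF).1 (isCoh_of_flf f hM).1 φ) hc).eq_of_tgt _ _)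
      have hSX : (ShortComplex.mk (kernel.ι φ) φ (kernel.condition φ)).ShortExact :=
        { exact := ShortComplex.exact_kernel φ }
      have hker : FlatMod.IsFinLocFree (kernel φ) := DPerf.isFinLocFree_kernel _ _ _ hSX hF hM
      haveI : PreservesFiniteLimits (toPn f e) := inferInstance
      haveI : PreservesFiniteColimits (toPn f e) := inferInstance
      have hSP := (CMReg18.shortExact_pullback g _ hSX (KFlat.Sch.isFlat_of_isFinLocFree hM)).map_of_exact (toPn f e)
      let ik : kernel (T.map φ) ≅ T.obj (kernel φ) :=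
        (kernelIsKernel (T.map φ)).conePointUniqueUpToIso hSP.fIsKernel
      have hkH := ih (j + 1) (kernel φ) hker (Stage.of_iso ik hnext) (by omega)
      have hrel := K0Cat.clSub_ses (P := fun M : X.Modules => FlatMod.IsFinLocFree M) _ hSX hker hF hM
      rw [show KZero.clSub (fun M : X.Modules => FlatMod.IsFinLocFree M) M =
        KZero.clSub (fun M : X.Modules => FlatMod.IsFinLocFree M) (⨁ fun _ : Fin s => W) -
          KZero.clSub (fun M : X.Modules => FlatMod.IsFinLocFree M) (kernel φ) from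
        eq_sub_of_add_eq' hrel.symm, hcl]
      exact sub_mem (nsmul_mem hWH s) hkH
  refine eq_top_iff.2 fun x hx => ?_
  clear hx
  induction x using K0Cat.clSub_induction with
  | h0 => exact zero_mem _
  | hneg a ha => exact neg_mem ha
  | hadd a b ha hb => exact add_mem ha hb
  | hcl M hM =>
    haveI := CMReg18.isProper_projSpace K (n := q)
    have hTc : Coh.IsCoh (T.obj M) :=
      M1.isCoh_pullback e.iso.inv (M1.isCoh_pullback g (isCoh_of_flf f hM))
    obtain ⟨m₁, hm₁⟩ := CMReg18.exists_isReg hTc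
    obtain ⟨m, hm⟩ : ∃ m : ℕ, m₁ + 1 ≤ m := ⟨(m₁ + 1).toNat, by omega⟩
    obtain ⟨p, hp⟩ : ∃ p : ℕ, (m : ℤ) - 1 = m₁ + p := ⟨((m : ℤ) - 1 - m₁).toNat, by omega⟩
    have hreg : ∀ p : ℕ, (CMReg18.projData K q).IsReg (T.obj M) (m₁ + p) := fun p => by
      induction p with
      | zero => simpa using hm₁
      | succ p ih => simpa [add_assoc] using ih.succ K
    refine main m (q + 1) 0 M hM ⟨hTc, ?_, fun h => absurd h (by omega), fun i hi _ => ?_⟩ (by omega)
    · simpa [show (m : ℤ) = m₁ + ↑(p + 1) by push_cast; omega] using hreg (p + 1)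
    · exact CMReg18.van_iso K ((CMReg18.projData K q).twIso _ (by push_cast; omega)) (hreg p i hi)

end Groth.Agent.KS29

end
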