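import Groth.Agent.Lib.KS29.SBProj

/-!
# The sheaf of left ideals on projective space is a power of `O(-1)`
-/

set_option autoImplicit false
set_option linter.style.haveILetI false
set_option linter.unusedSectionVars false
set_option backward.isDefEq.respectTransparency false
set_option backward.isDefEq.respectTransparency.types false
set_option maxHeartbeats 800000

universe u

open CategoryTheory CategoryTheory.Limits AlgebraicGeometry TopologicalSpace Opposite TensorProduct

noncomputable section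

namespace Groth.Agent.KS29

open Groth.Agent GrassLib SBSplit25

section units

variable {Y : Scheme.{u}} {T : Y.Modules} {K : Type u} [Field K] {m : ℕ}
variable (ρ : Matrix (Fin (m + 1)) (Fin (m + 1)) K →+* End T)

/-- The endomorphism of a matrix. -/
abbrev rh (a : Matrix (Fin (m + 1)) (Fin (m + 1)) K) : T ⟶ T := ρ a

theorem rh_comp (a b : Matrix (Fin (m + 1)) (Fin (m + 1)) K) : rh ρ a ≫ rh ρ b = rh ρ (b * a) :=
  (map_mul ρ b a).symm

/-- The first summand cut out by matrix units. -/
def rowMod : Y.Modules := kernel (𝟙 T - rh ρ (Matrix.single 0 0 1))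

/-- Its inclusion. -/
def rowι : rowMod ρ ⟶ T := kernel.ι _

instance : Mono (rowι ρ) := inferInstanceAs (Mono (kernel.ι _))

theorem rowι_comp : rowι ρ ≫ rh ρ (Matrix.single 0 0 1) = rowι ρ := by
  have h := kernel.condition (𝟙 T - rh ρ (Matrix.single 0 0 1))
  rw [Preadditive.comp_sub, Category.comp_id, sub_eq_zero] at h
  exact h.symm

/-- Lifts to the first summand. -/
def rowLift {Z : Y.Modules} (g : Z ⟶ T) (h : g ≫ rh ρ (Matrix.single 0 0 1) = g) : Z ⟶ rowMod ρ :=
  kernel.lift _ g (by rw [Preadditive.comp_sub, Category.comp_id, h, sub_self])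

theorem rowLift_ι {Z : Y.Modules} (g : Z ⟶ T) (h : g ≫ rh ρ (Matrix.single 0 0 1) = g) :
    rowLift ρ g h ≫ rowι ρ = g := kernel.lift_ι _ _ _

/-- The projection to the `i`-th summand. -/
def rowPrj (i : Fin (m + 1)) : T ⟶ rowMod ρ :=
  rowLift ρ (rh ρ (Matrix.single 0 i 1)) (by rw [rh_comp, Matrix.single_mul_single_same, mul_one])

theorem rh_zero : rh ρ 0 = 0 := map_zero ρ

/-- Matrix units decompose a module. -/
def unitsDec : Dec T (fun _ : Fin (m + 1) => rowMod ρ) where
  inj i := rowι ρ ≫ rh ρ (Matrix.single i 0 1)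
  prj i := rowPrj ρ i
  inj_prj i := by
    refine (cancel_mono (rowι ρ)).1 ?_
    rw [Category.assoc, Category.assoc, rowPrj, rowLift_ι, rh_comp, Matrix.single_mul_single_same, mul_one,
      rowι_comp, Category.id_comp]
  inj_prj_ne := by
    intro i j hij
    refine (cancel_mono (rowι ρ)).1 ?_
    rw [Category.assoc, Category.assoc, rowPrj, rowLift_ι, rh_comp,
      Matrix.single_mul_single_of_ne _ _ _ _ hij.symm, rh_zero, zero_comp, comp_zero]
  total := by
    have : ∀ i, rowPrj ρ i ≫ rowι ρ ≫ rh ρ (Matrix.single i 0 1) = rh ρ (Matrix.single i i 1) := fun i => by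
      rw [← Category.assoc, rowPrj, rowLift_ι, rh_comp, Matrix.single_mul_single_same, mul_one]
    simp only [this]
    refine (map_sum ρ _ _).symm.trans ?_
    rw [show ∑ i, Matrix.single i i (1 : K) = 1 from ?_, map_one]
    · rfl
    · ext a b
      rw [Matrix.sum_apply, Finset.sum_eq_single a (fun x _ hx => by simp [Matrix.single_apply, hx])
        (fun h => absurd (Finset.mem_univ a) h)]
      by_cases hab : a = b <;> simp [Matrix.single_apply, Matrix.one_apply, hab]

end units

section taut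

variable {k : Type u} [Field k] {A : Type u} [Ring A] [Algebra k A] [FiniteDimensional k A]
variable {X : Scheme.{u}} {f : X ⟶ Spec (CommRingCat.of k)}
variable {K : Type u} [Field K] [Algebra k K] {q : ℕ}
variable (st : BrSev.SBStr k A ((q + 1) * (q + 1) - (q + 1)) f)
variable (φ : K ⊗[k] A ≃ₐ[K] Matrix (Fin (q + 1)) (Fin (q + 1)) K)

/-- The morphism from projective space to the Severi–Brauer scheme. -/
abbrev toX : CohB1.ProjSpace q K ⟶ X := psi st φ ≫ BrSev.proj f K

theorem toX_f : toX st φ ≫ f = CohB1.ProjSpace.toSpec q K ≫ Spec.map (CommRingCat.ofHom (algebraMap k K)) := by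
  rw [Category.assoc, show BrSev.proj f K ≫ f = BrSev.bcTo f K ≫ _ from pullback.condition, ← Category.assoc,
    psi_bcTo]

/-- The `K`-structure on functions. -/
@[reducible] def algP (V : (CohB1.ProjSpace q K).Opens) : Algebra K Γ(CohB1.ProjSpace q K, V) :=
  algS (𝟙 (CohB1.ProjSpace q K)) (CohB1.ProjSpace.toSpec q K) V

theorem tower_algP (V : (CohB1.ProjSpace q K).Opens) :
    letI := algS (toX st φ) f V; letI := algP (q := q) (K := K) V
    IsScalarTower k K Γ(CohB1.ProjSpace q K, V) := by
  letI := algS (toX st φ) f V; letI := algP (q := q) (K := K) V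
  refine IsScalarTower.of_algebraMap_eq fun t => ?_
  rw [algebraMap_algS, algebraMap_algS]
  simp only [toX_f, Category.id_comp]
  rw [← Scheme.Hom.appLE_comp_appLE (CohB1.ProjSpace.toSpec q K)
    (Spec.map (CommRingCat.ofHom (algebraMap k K))) ⊤ ⊤ V le_top le_top]
  refine congrArg ((CohB1.ProjSpace.toSpec q K).appLE ⊤ V le_top) ?_
  rw [Scheme.Hom.appLE]
  exact ConcreteCategory.congr_hom (Scheme.ΓSpecIso_inv_naturality (CommRingCat.ofHom (algebraMap k K))).symm t

theorem isOver_toX {R : Type u} [CommRing R] [Algebra K R] [Algebra k R] [IsScalarTower k K R]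
    {g : Spec (CommRingCat.of R) ⟶ CohB1.ProjSpace q K} (hg : IsOverP g) : IsOver (toX st φ) f g := by
  show g ≫ toX st φ ≫ f = _
  have h2 : g ≫ CohB1.ProjSpace.toSpec q K = Spec.map (CommRingCat.ofHom (algebraMap K R)) := by
    have : g ≫ 𝟙 _ ≫ CohB1.ProjSpace.toSpec q K = _ := hg
    rwa [Category.id_comp] at this
  rw [toX_f, ← Category.assoc, h2, IsScalarTower.algebraMap_eq k K R, CommRingCat.ofHom_comp, Spec.map_comp]

theorem exists_algP_of_isOver {R : Type u} [CommRing R] [Algebra k R]
    {g : Spec (CommRingCat.of R) ⟶ CohB1.ProjSpace q K} (hg : IsOver (toX st φ) f g) :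
    ∃ _ : Algebra K R, IsScalarTower k K R ∧ IsOverP g := by
  obtain ⟨alg, halg⟩ := GrassLib.exists_algebra_str (R := K) (g ≫ CohB1.ProjSpace.toSpec q K)
  refine ⟨alg, IsScalarTower.of_algebraMap_eq' ?_, ?_⟩
  · have h : CommRingCat.ofHom (algebraMap k R) = CommRingCat.ofHom ((algebraMap K R).comp (algebraMap k K)) :=
      Spec.map_injective (by
        rw [CommRingCat.ofHom_comp, Spec.map_comp, ← show g ≫ toX st φ ≫ f = _ from hg, toX_f, halg, Category.assoc])
    exact congrArg CommRingCat.Hom.hom h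
  · show g ≫ 𝟙 _ ≫ CohB1.ProjSpace.toSpec q K = _
    rw [Category.id_comp]
    exact halg.symm

theorem pt_toX {R : Type u} [CommRing R] [Algebra K R] [inst : Algebra k R] [IsScalarTower k K R]
    (g : Spec (CommRingCat.of R) ⟶ CohB1.ProjSpace q K) (hg : IsOverP g) (j : Fin (q + 1))
    (hj : ⊤ ≤ g ⁻¹ᵁ PicPn.D q K j) :
    pt (toX st φ) st g (isOver_toX st φ hg) =
      (idealOfLine k K A φ (line (K := K) j fun i => ev g hj (coordFn j i))).1 := by
  obtain rfl : inst = Algebra.compHom R (algebraMap k K) :=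
    Algebra.algebra_ext _ _ fun t => IsScalarTower.algebraMap_apply k K R t
  letI := Algebra.compHom R (algebraMap k K)
  have h := (lineRep st φ).pt_mor (line (K := K) j fun i => ev g hj (coordFn j i))
  have h' : (lineEquivIdeal k K A φ (Nat.succ_pos q)).symm (st.bij R (bcPtsEquiv f R
      (Over.homMk ((lineRep st φ).mor (line (K := K) j fun i => ev g hj (coordFn j i)))
        ((lineRep st φ).mor_str _)))) = line (K := K) j fun i => ev g hj (coordFn j i) := h
  rw [Equiv.symm_apply_eq] at h'
  refine Eq.trans ?_ (congrArg Subtype.val h')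
  refine congrArg (fun p : BrSev.Pts f R => (st.bij R p).1) (Subtype.ext ?_)
  show g ≫ psi st φ ≫ BrSev.proj f K = (lineRep st φ).mor _ ≫ BrSev.proj f K
  rw [← Category.assoc, comp_psi st φ g hg j hj]
  rfl

/-- The matrix of a section. -/
def secMat {V : (CohB1.ProjSpace q K).Opens}
    (s : Fin (Module.finrank k A) → Γ(CohB1.ProjSpace q K, V)) :
    Matrix (Fin (q + 1)) (Fin (q + 1)) Γ(CohB1.ProjSpace q K, V) :=
  letI := algS (toX st φ) f V; letI := algP (q := q) (K := K) V; haveI := tower_algP st φ V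
  eMat k K A φ Γ(CohB1.ProjSpace q K, V) (el _ s)

theorem ev_secMat {R : Type u} [CommRing R] [Algebra K R] [Algebra k R] [IsScalarTower k K R]
    (g : Spec (CommRingCat.of R) ⟶ CohB1.ProjSpace q K) (hg : IsOverP g) {V : (CohB1.ProjSpace q K).Opens}
    (hV : ⊤ ≤ g ⁻¹ᵁ V) (s : Fin (Module.finrank k A) → Γ(CohB1.ProjSpace q K, V)) :
    eMat k K A φ R (el R fun i => ev g hV (s i)) = (secMat st φ s).map (ev g hV) := by
  letI := algS (toX st φ) f V; letI := algP (q := q) (K := K) V; haveI := tower_algP st φ V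
  let e := evₐ (𝟙 (CohB1.ProjSpace q K)) g hg hV
  refine Eq.trans ?_ (eMat_tm k K A φ Γ(CohB1.ProjSpace q K, V) R e (el _ s))
  rw [tm_el]
  rfl

/-- Membership over a standard open. -/
theorem mem_secs_iff {V : (CohB1.ProjSpace q K).Opens} {j : Fin (q + 1)} (hV : V ≤ PicPn.D q K j)
    (s : Fin (Module.finrank k A) → Γ(CohB1.ProjSpace q K, V)) :
    s ∈ secs (toX st φ) st V ↔ ∀ i l, secMat st φ s i l =
      secMat st φ s i j * (CohB1.ProjSpace q K).presheaf.map (homOfLE hV).op (coordFn j l) := by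
  constructor
  · intro hs i l
    refine sub_eq_zero.1 (eq_zero_of_affine _ fun W hW hWa => ?_)
    letI := algS (toX st φ) f W; letI := algP (q := q) (K := K) W; haveI := tower_algP st φ W
    let g := hWa.fromSpec
    have hg : IsOverP (R := Γ(CohB1.ProjSpace q K, W)) g := isOver_fromSpec (𝟙 _) hWa
    have hgV : ⊤ ≤ g ⁻¹ᵁ V := (top_le_fromSpec hWa).trans (Scheme.Hom.preimage_mono _ hW)
    have hgj : ⊤ ≤ g ⁻¹ᵁ PicPn.D q K j := hgV.trans (g.preimage_mono hV)
    have h := hs Γ(CohB1.ProjSpace q K, W) g (isOver_toX st φ hg) hgV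
    rw [pt_toX st φ (R := Γ(CohB1.ProjSpace q K, W)) g hg j hgj, mem_idealOfLine] at h
    have h2 := (mem_line (by simp [coordFn_self]) _).1 (h i) l
    have cl : ∀ a, coord K Γ(CohB1.ProjSpace q K, W) (rowMap k K A φ Γ(CohB1.ProjSpace q K, W) i
        (el Γ(CohB1.ProjSpace q K, W) fun t => ev g hgV (s t))) a = ev g hgV (secMat st φ s i a) := fun a =>
      congrFun ((coord_rowMap k K A φ Γ(CohB1.ProjSpace q K, W) i _).trans (congrFun (ev_secMat st φ (R := Γ(CohB1.ProjSpace q K, W)) g hg hgV s) i)) a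
    replace h2 := (cl l).symm.trans (h2.trans (congrArg (· * _) (cl j)))
    have key : ∀ z, ev (R := Γ(CohB1.ProjSpace q K, W)) g hgV z = (CohB1.ProjSpace q K).presheaf.map (homOfLE hW).op z :=
      fun z => by rw [← ev_res (R := Γ(CohB1.ProjSpace q K, W)) g hW (top_le_fromSpec hWa) z, ev_fromSpec]
    rw [map_sub, map_mul, sub_eq_zero, ← key, ← key]
    rw [← key, ev_res]
    exact h2
  · intro h R _ _ g hg hgV
    obtain ⟨alg, hT, hgP⟩ := exists_algP_of_isOver st φ hg
    have hgj : ⊤ ≤ g ⁻¹ᵁ PicPn.D q K j := hgV.trans (g.preimage_mono hV)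
    rw [pt_toX st φ g hgP j hgj, mem_idealOfLine]
    intro i
    refine (mem_line (by simp [coordFn_self]) _).2 fun l => ?_
    have cl : ∀ a, coord K R (rowMap k K A φ R i (el R fun t => ev g hgV (s t))) a = ev g hgV (secMat st φ s i a) :=
      fun a => congrFun ((coord_rowMap k K A φ R i _).trans (congrFun (ev_secMat st φ g hgP hgV s) i)) a
    refine (cl l).trans (Eq.trans ?_ (congrArg (· * _) (cl j)).symm)
    rw [h i l, map_mul]
    exact congrArg (_ * ·) (ev_res g hV hgV _)

theorem secMat_injective {V : (CohB1.ProjSpace q K).Opens} : Function.Injective (secMat st φ (V := V)) := by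
  letI := algS (toX st φ) f V; letI := algP (q := q) (K := K) V; haveI := tower_algP st φ V
  exact (AlgEquiv.injective _).comp (el_injective _)

theorem exists_secMat {V : (CohB1.ProjSpace q K).Opens}
    (M : Matrix (Fin (q + 1)) (Fin (q + 1)) Γ(CohB1.ProjSpace q K, V)) : ∃ s, secMat st φ s = M := by
  letI := algS (toX st φ) f V; letI := algP (q := q) (K := K) V; haveI := tower_algP st φ V
  exact ⟨co _ ((eMat k K A φ Γ(CohB1.ProjSpace q K, V)).symm M), by
    rw [secMat, el_co, AlgEquiv.apply_symm_apply]⟩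

theorem secMat_res {V W : (CohB1.ProjSpace q K).Opens} (h : W ≤ V)
    (s : Fin (Module.finrank k A) → Γ(CohB1.ProjSpace q K, V)) :
    secMat st φ (fun l => (CohB1.ProjSpace q K).presheaf.map (homOfLE h).op (s l)) =
      (secMat st φ s).map ((CohB1.ProjSpace q K).presheaf.map (homOfLE h).op) := by
  letI := algS (toX st φ) f V; letI := algP (q := q) (K := K) V; haveI := tower_algP st φ V
  letI := algS (toX st φ) f W; letI := algP (q := q) (K := K) W; haveI := tower_algP st φ W
  refine Eq.trans ?_ (eMat_tm k K A φ Γ(CohB1.ProjSpace q K, V) Γ(CohB1.ProjSpace q K, W)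
    (resₐ (𝟙 (CohB1.ProjSpace q K)) (CohB1.ProjSpace.toSpec q K) h) (el _ s))
  rw [secMat, tm_el]
  rfl

theorem secMat_smul {V : (CohB1.ProjSpace q K).Opens} (r : Γ(CohB1.ProjSpace q K, V))
    (s : Fin (Module.finrank k A) → Γ(CohB1.ProjSpace q K, V)) :
    secMat st φ (r • s) = r • secMat st φ s := by
  letI := algS (toX st φ) f V; letI := algP (q := q) (K := K) V; haveI := tower_algP st φ V
  rw [secMat, secMat, map_smul, map_smul]

/-- Constants as global elements. -/
def constElt (M : Matrix (Fin (q + 1)) (Fin (q + 1)) K) :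
    letI := algS (toX st φ) f (⊤ : (CohB1.ProjSpace q K).Opens)
    Γ(CohB1.ProjSpace q K, ⊤) ⊗[k] A :=
  letI := algS (toX st φ) f (⊤ : (CohB1.ProjSpace q K).Opens)
  letI := algP (q := q) (K := K) (⊤ : (CohB1.ProjSpace q K).Opens)
  haveI := tower_algP st φ (⊤ : (CohB1.ProjSpace q K).Opens)
  (eMat k K A φ Γ(CohB1.ProjSpace q K, ⊤)).symm
    ((Algebra.ofId K Γ(CohB1.ProjSpace q K, ⊤)).mapMatrix M)

/-- Matrices act on the sheaf of left ideals on projective space. -/
def rhoP : Matrix (Fin (q + 1)) (Fin (q + 1)) K →+* End (fam (toX st φ) st) :=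
  letI := algS (toX st φ) f (⊤ : (CohB1.ProjSpace q K).Opens)
  letI := algP (q := q) (K := K) (⊤ : (CohB1.ProjSpace q K).Opens)
  haveI := tower_algP st φ (⊤ : (CohB1.ProjSpace q K).Opens)
  { toFun := fun M => act (toX st φ) st (constElt st φ M)
    map_one' := by rw [constElt, map_one, map_one]; exact act_one _ _
    map_mul' := fun M N => by rw [constElt, map_mul, map_mul]; exact act_mul _ _ _ _
    map_zero' := by rw [constElt, map_zero, map_zero]; exact (actRing (toX st φ) st).map_zero
    map_add' := fun M N => by rw [constElt, map_add, map_add]; exact act_add _ _ _ _ }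

theorem secMat_rhoP (M : Matrix (Fin (q + 1)) (Fin (q + 1)) K) {V : (CohB1.ProjSpace q K).Opens}
    (s : Γ(fam (toX st φ) st, V)) :
    letI := algP (q := q) (K := K) V
    secMat st φ (secVal _ _ ((rhoP st φ M : fam (toX st φ) st ⟶ fam (toX st φ) st).app V s)) =
      M.map (algebraMap K Γ(CohB1.ProjSpace q K, V)) * secMat st φ (secVal _ _ s) := by
  letI := algS (toX st φ) f (⊤ : (CohB1.ProjSpace q K).Opens)
  letI := algP (q := q) (K := K) (⊤ : (CohB1.ProjSpace q K).Opens)
  haveI := tower_algP st φ (⊤ : (CohB1.ProjSpace q K).Opens)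
  letI := algS (toX st φ) f V; letI := algP (q := q) (K := K) V; haveI := tower_algP st φ V
  show secMat st φ (secVal _ _ ((act (toX st φ) st (constElt st φ M)).app V s)) = _
  rw [secVal_act, secMat, secMat, actVal, el_co, map_mul]
  congr 1
  let r := resₐ (𝟙 (CohB1.ProjSpace q K)) (CohB1.ProjSpace.toSpec q K) (le_top : V ≤ ⊤)
  refine Eq.trans (eMat_tm k K A φ Γ(CohB1.ProjSpace q K, ⊤) Γ(CohB1.ProjSpace q K, V) r (constElt st φ M)) ?_
  rw [constElt, AlgEquiv.apply_symm_apply]
  ext a b
  exact r.commutes (M a b)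

end taut

end Groth.Agent.KS29
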