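import Groth.Agent.Lib.KS29.SBTaut

/-!
# The tautological line on projective space is `O(-1)`
-/

set_option autoImplicit false
set_option linter.style.haveILetI false
set_option linter.unusedSectionVars false
set_option backward.isDefEq.respectTransparency false
set_option backward.isDefEq.respectTransparency.types false
set_option maxHeartbeats 800000

universe u

open CategoryTheory CategoryTheory.Limits AlgebraicGeometry TopologicalSpace Opposite TensorProduct

noncomputable section

namespace Groth.Agent.KS29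

open Groth.Agent GrassLib SBSplit25

variable {k : Type u} [Field k] {A : Type u} [Ring A] [Algebra k A] [FiniteDimensional k A]
variable {X : Scheme.{u}} {f : X ⟶ Spec (CommRingCat.of k)}
variable {K : Type u} [Field K] [Algebra k K] {q : ℕ}
variable (st : BrSev.SBStr k A ((q + 1) * (q + 1) - (q + 1)) f)
variable (φ : K ⊗[k] A ≃ₐ[K] Matrix (Fin (q + 1)) (Fin (q + 1)) K)

/-- The tautological line. -/
abbrev tautLine : (CohB1.ProjSpace q K).Modules := rowMod (rhoP st φ)

/-- The matrix of a section of the line. -/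
def lineMat {V : (CohB1.ProjSpace q K).Opens} (σ : Γ(tautLine st φ, V)) :
    Matrix (Fin (q + 1)) (Fin (q + 1)) Γ(CohB1.ProjSpace q K, V) :=
  secMat st φ (secVal _ _ ((rowι (rhoP st φ)).app V σ))

theorem lineMat_injective {V : (CohB1.ProjSpace q K).Opens} : Function.Injective (lineMat st φ (V := V)) :=
  fun σ τ h => M1.app_injective (rowι (rhoP st φ)) V (secVal_ext _ _ (secMat_injective st φ h))

theorem lineMat_smul {V : (CohB1.ProjSpace q K).Opens} (r : Γ(CohB1.ProjSpace q K, V)) (σ : Γ(tautLine st φ, V)) :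
    lineMat st φ (r • σ) = r • lineMat st φ σ := by
  rw [lineMat, Scheme.Modules.Hom.app_smul, secVal_smul, secMat_smul]
  rfl

theorem lineMat_mres {V W : (CohB1.ProjSpace q K).Opens} (h : W ≤ V) (σ : Γ(tautLine st φ, V)) :
    lineMat st φ (M1.mres (tautLine st φ) h σ) =
      (lineMat st φ σ).map ((CohB1.ProjSpace q K).presheaf.map (homOfLE h).op) := by
  rw [lineMat, M1.app_mres, secVal_mres, secMat_res st φ h]
  rfl

theorem lineMat_row {V : (CohB1.ProjSpace q K).Opens} (σ : Γ(tautLine st φ, V)) {i : Fin (q + 1)} (hi : i ≠ 0)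
    (l : Fin (q + 1)) : lineMat st φ σ i l = 0 := by
  letI := algP (q := q) (K := K) V
  have h := congrArg (fun ψ : tautLine st φ ⟶ fam (toX st φ) st => secMat st φ (secVal _ _ (ψ.app V σ)))
    (rowι_comp (rhoP st φ))
  have h' : (Matrix.single (0 : Fin (q + 1)) 0 (1 : K)).map (algebraMap K Γ(CohB1.ProjSpace q K, V)) *
      lineMat st φ σ = lineMat st φ σ := (secMat_rhoP st φ _ _).symm.trans h
  have := congrFun (congrFun h' i) l
  rw [← this, Matrix.mul_apply]
  refine Finset.sum_eq_zero fun a _ => ?_
  simp [Matrix.single_apply, Ne.symm hi]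

theorem lineMat_col {V : (CohB1.ProjSpace q K).Opens} {j : Fin (q + 1)} (hV : V ≤ PicPn.D q K j)
    (σ : Γ(tautLine st φ, V)) (l : Fin (q + 1)) :
    lineMat st φ σ 0 l = lineMat st φ σ 0 j * (CohB1.ProjSpace q K).presheaf.map (homOfLE hV).op (coordFn j l) :=
  (mem_secs_iff st φ hV _).1 (secVal_mem _ _ _) 0 l

/-- The generator on a standard open. -/
theorem exists_lineGen (j : Fin (q + 1)) :
    ∃ g : Γ(tautLine st φ, PicPn.D q K j), ∀ i l, lineMat st φ g i l = if i = 0 then coordFn j l else 0 := by
  obtain ⟨s, hs⟩ := exists_secMat st φ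
    (Matrix.of fun i l : Fin (q + 1) => if i = 0 then coordFn (K := K) j l else 0)
  have hmem : s ∈ secs (toX st φ) st (PicPn.D q K j) := by
    refine (mem_secs_iff st φ le_rfl s).2 fun i l => ?_
    rw [hs, Matrix.of_apply, Matrix.of_apply, coordFn_self]
    have : (CohB1.ProjSpace q K).presheaf.map (homOfLE (le_refl (PicPn.D q K j))).op (coordFn j l) = coordFn j l := by
      rw [show (homOfLE (le_refl (PicPn.D q K j))).op = 𝟙 _ from rfl, CategoryTheory.Functor.map_id]
      rfl
    rw [this]
    by_cases hi : i = 0 <;> simp [hi]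
  let t : Γ(fam (toX st φ) st, PicPn.D q K j) := secMk _ _ s hmem
  have ht : (𝟙 (fam (toX st φ) st) - rh (rhoP st φ) (Matrix.single 0 0 1)).app (PicPn.D q K j) t = 0 := by
    show t - (rh (rhoP st φ) (Matrix.single 0 0 1)).app (PicPn.D q K j) t = 0
    rw [sub_eq_zero]
    refine secVal_ext _ _ (secMat_injective st φ ?_)
    letI := algP (q := q) (K := K) (PicPn.D q K j)
    refine Eq.symm ((secMat_rhoP st φ _ t).trans ?_)
    show _ * secMat st φ s = secMat st φ s
    rw [hs]
    ext i l
    by_cases hi : i = 0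
    · subst hi
      simp [Matrix.mul_apply, Matrix.single_apply, apply_ite (algebraMap K Γ(CohB1.ProjSpace q K, PicPn.D q K j))]
    · simp [Matrix.mul_apply, Matrix.single_apply, hi, Ne.symm hi]
  obtain ⟨g, hg⟩ := (M1.Sub.mem_ker _ _ t).2 ht
  refine ⟨g, fun i l => ?_⟩
  show secMat st φ (secVal _ _ ((rowι (rhoP st φ)).app _ g)) i l = _
  rw [show (rowι (rhoP st φ)).app (PicPn.D q K j) g = t from hg]
  show secMat st φ s i l = _
  rw [hs]
  rfl

/-- The tautological line is `O(-1)`. -/
theorem nonempty_tautLine_iso :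
    Nonempty (tautLine st φ ≅ _root_.Twist.twistProjSpace q K (-1)) := by
  choose g hg using exists_lineGen st φ
  have hgen : ∀ j, Twist.IsGen (tautLine st φ) (PicPn.D q K j) (g j) := fun j V hV => by
    have hmat : ∀ r : Γ(CohB1.ProjSpace q K, V), ∀ i l, lineMat st φ (r • M1.mres (tautLine st φ) hV (g j)) i l =
        if i = 0 then r * (CohB1.ProjSpace q K).presheaf.map (homOfLE hV).op (coordFn j l) else 0 := fun r i l => by
      rw [lineMat_smul, lineMat_mres, Matrix.smul_apply, Matrix.map_apply, hg]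
      split_ifs <;> simp
    refine ⟨fun r r' h => ?_, fun σ => ⟨lineMat st φ σ 0 j, lineMat_injective st φ ?_⟩⟩
    · have := congrArg (fun σ => lineMat st φ σ 0 j) h
      simpa [hmat, coordFn_self] using this
    · ext i l
      rw [hmat]
      split_ifs with hi
      · subst hi
        exact (lineMat_col st φ hV σ l).symm
      · exact (lineMat_row st φ σ hi l).symm
  choose p hp hpv using fun i => PicPn.exists_twist_gen (n := q) (R := K) i 1 (-1)
  refine ⟨(Twist.exists_iso_of_gen (PicPn.D q K) (PicPn.iSup_D q K) g p hgen hp fun i j V hi hj t ht => ?_).choose⟩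
  have ht' : t = (CohB1.ProjSpace q K).presheaf.map (homOfLE hj).op (coordFn j i) := by
    have := congrArg (fun σ => lineMat st φ σ 0 i) ht
    rw [lineMat_smul, lineMat_mres, lineMat_mres, Matrix.smul_apply, Matrix.map_apply, Matrix.map_apply, hg, hg,
      if_pos rfl, if_pos rfl, coordFn_self, map_one, smul_eq_mul, mul_one] at this
    exact this.symm
  refine PicPn.sv_ext fun x hx => ?_
  rw [PicPn.sv_mres, PicPn.sv_smul, PicPn.sv_mres, hpv, hpv, ht', map_one, one_mul]
  erw [Twist.valO_map]
  have e : Twist.valO (coordFn (K := K) j i) x (hj hx) * (PicPn.tv x j : PicPn.L q K x) = PicPn.tv x i := by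
    rw [PicPn.val_tv (hj hx), PicPn.val_tv (hi hx)]
    exact valO_coordFn j i x (hj hx)
  rw [one_mul, zpow_neg_one, zpow_neg_one]
  refine (Units.mul_left_inj (PicPn.tv x j)).1 ?_
  rw [Units.inv_mul, mul_assoc, mul_comm ((PicPn.tv x i)⁻¹ : (PicPn.L q K x)ˣ).val, ← mul_assoc, e, Units.mul_inv]

/-- The sheaf of left ideals on projective space is a power of `O(-1)`. -/
theorem nonempty_fam_toX_iso :
    Nonempty (fam (toX st φ) st ≅ ∐ fun _ : Fin (q + 1) => _root_.Twist.twistProjSpace q K (-1)) := by
  haveI : HasFiniteBiproducts (CohB1.ProjSpace q K).Modules := Abelian.hasFiniteBiproducts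
  obtain ⟨t⟩ := nonempty_tautLine_iso st φ
  exact ⟨((unitsDec (rhoP st φ)).congr fun _ => t).isoCoproduct⟩

end Groth.Agent.KS29
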