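import Groth.Agent.Lib.HilbPt29.Duality
import Groth.Agent.Lib.HilbPt29.Slices
import Groth.Agent.Lib.KS29.HomBoundApp

/-!
# The bound on sign-pattern pieces for strongly stable ideals
-/

set_option autoImplicit false
set_option maxHeartbeats 400000
universe u

open MvPolynomial W4c1hilbpn
open scoped Classical

noncomputable section

namespace Groth.Agent.KS29.SigBound

open Groth.Agent.HilbPt29

theorem sum_tails (f : ℕ → ℕ) (r : ℕ) :
    ∑ a ∈ Finset.range r, ∑ i ∈ Finset.Ico a r, f i = ∑ i ∈ Finset.range r, (i + 1) * f i := by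
  induction r with
  | zero => simp
  | succ r ih =>
    rw [Finset.sum_range_succ (fun i => (i + 1) * f i), ← ih, Finset.sum_congr rfl fun a ha =>
      Finset.sum_Ico_succ_top (Nat.lt_succ_iff.1 (Finset.mem_range.1 ha)) f, Finset.sum_add_distrib,
      Finset.sum_const, Finset.card_range, smul_eq_mul, Finset.sum_range_succ, Finset.Ico_self, Finset.sum_empty]
    simp only [Nat.succ_eq_add_one, Nat.Ico_zero_eq_range] at *
    ring

theorem sum_tails_tri (r : ℕ) :
    ∑ a ∈ Finset.range r, ∑ i ∈ Finset.Ico a r, (r - i + 1).choose 2 = (r + 3).choose 4 := by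
  rw [sum_tails, ← sum_weight_range]
  refine Finset.sum_congr rfl fun i hi => ?_
  rw [Finset.mem_range] at hi
  rw [show r - i + 1 = r + 1 - i by omega]

/-- The combinatorial collapse of the corner sum. -/
theorem collapse (c : ℕ → ℕ → ℕ) (N r : ℕ) (hr : r ≤ N) (hanti : ∀ x y, c x (y + 1) ≤ c x y)
    (hy : ∀ x y, N ≤ y → c x y = 0) (hx : ∀ x y, r ≤ x → c x y = 0) :
    ∑ a1 ∈ Finset.range N, ∑ a2 ∈ Finset.range N, ∑ p1 ∈ Finset.range N, ∑ p2 ∈ Finset.range N,
        (c (p1 + a1) (p2 + a2) - c (p1 + a1) (p2 + a2 + 1)) =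
      ∑ a ∈ Finset.range r, ∑ x ∈ Finset.Ico a r, ∑ y ∈ Finset.range N, c x y := by
  have tele : ∀ x a2, ∑ p2 ∈ Finset.range N, (c x (p2 + a2) - c x (p2 + a2 + 1)) = c x a2 := by
    intro x a2
    have h : ∀ n, ∑ p2 ∈ Finset.range n, (c x (p2 + a2) - c x (p2 + a2 + 1)) + c x (n + a2) = c x a2 := by
      intro n
      induction n with
      | zero => simp
      | succ n ih =>
        rw [Finset.sum_range_succ, show n + 1 + a2 = n + a2 + 1 by omega]
        have := hanti x (n + a2)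
        omega
    have := h N
    rw [hy x (N + a2) (Nat.le_add_right _ _), add_zero] at this
    exact this
  simp only [tele]
  rw [Finset.sum_congr rfl fun a1 _ => Finset.sum_comm]
  symm
  rw [Finset.sum_subset (Finset.range_mono hr) (fun a _ ha => ?_)]
  · refine Finset.sum_congr rfl fun a _ => ?_
    rw [Finset.sum_Ico_eq_sum_range]
    refine Eq.trans ?_ (Finset.sum_congr rfl fun p _ => by rw [add_comm p a])
    refine Finset.sum_subset (Finset.range_mono (by omega)) fun p _ hp => ?_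
    rw [Finset.mem_range, not_lt] at hp
    exact Finset.sum_eq_zero fun y _ => hx _ _ (by omega)
  · rw [Finset.mem_range, not_lt] at ha
    rw [Finset.Ico_eq_empty_of_le ha, Finset.sum_empty]

variable {k : Type u} [Field k] {I : Ideal (MvPolynomial (Fin 3) k)}

theorem single_zero_mem (hI : IsStronglyStable I) :
    ∀ (n : ℕ) (β : Fin 3 →₀ ℕ), β 1 + β 2 = n → β ∈ exps I → Finsupp.single 0 β.degree ∈ exps I := by
  intro n
  induction n with
  | zero =>
    intro β h hβ
    have : Finsupp.single 0 β.degree = β := by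
      refine Finsupp.ext fun l => ?_
      rw [Finsupp.degree_eq_sum, Fin.sum_univ_three]
      fin_cases l <;> simp [Finsupp.single_apply] <;> omega
    rwa [this]
  | succ n ih =>
    intro β h hβ
    obtain ⟨j, hj0, hj⟩ : ∃ j : Fin 3, j ≠ 0 ∧ 0 < β j := by
      rcases Nat.eq_zero_or_pos (β 1) with h1 | h1
      · exact ⟨2, by decide, by omega⟩
      · exact ⟨1, by decide, h1⟩
    have h' := hI.2 β hβ 0 j (Fin.pos_iff_ne_zero.2 hj0) hj
    set γ := β - Finsupp.single j 1 + Finsupp.single 0 1 with hγ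
    have e : γ.degree = β.degree ∧ γ 1 + γ 2 = n := by
      simp only [hγ, Finsupp.degree_eq_sum, Fin.sum_univ_three, Finsupp.add_apply, Finsupp.tsub_apply,
        Finsupp.single_apply]
      fin_cases j <;> simp at hj hj0 ⊢ <;> omega
    rw [← e.1]
    exact ih γ e.2 h'

theorem single_r_mem (hI : IsStronglyStable I) [Module.Finite k (MvPolynomial (Fin 3) k ⧸ I)] {r : ℕ}
    (hd : Module.finrank k (MvPolynomial (Fin 3) k ⧸ I) ≤ (r + 2).choose 3) :
    Finsupp.single 0 r ∈ exps I := by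
  have hlt : Module.finrank k (MvPolynomial (Fin 3) k ⧸ I) < (r + 3).choose 3 := by
    have h1 := Nat.choose_succ_succ' (r + 2) 2
    have h2 : 0 < (r + 2).choose 2 := Nat.choose_pos (by omega)
    simp only [Nat.reduceAdd, add_assoc] at h1
    omega
  obtain ⟨f, hf, hf0, hfd⟩ := Groth.Agent.KS29.HomBound.exists_mem_totalDegree_le I hlt
  obtain ⟨β, hβ⟩ := MvPolynomial.support_nonempty.2 hf0
  have h1 := single_zero_mem hI _ β rfl (hI.1 f hf β hβ)
  refine mem_exps_of_le h1 (Finsupp.single_le_iff.2 ?_)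
  rw [Finsupp.single_eq_same]
  exact (MvPolynomial.le_totalDegree hβ).trans hfd

theorem bd_mono {b : ℕ × ℕ → ℕ} {N M : ℕ} (h : Stairs.Bd b N) (hNM : N ≤ M) : Stairs.Bd b M :=
  ⟨h.anti, fun p hp => ⟨(h.box p hp).1.trans_le hNM, (h.box p hp).2.trans_le hNM⟩, fun p => (h.le p).trans hNM⟩

/-- One direction: the bound and its equality case. -/
theorem dir_bound (hI : IsStronglyStable I) [Module.Finite k (MvPolynomial (Fin 3) k ⧸ I)] {r : ℕ}
    (hd : Module.finrank k (MvPolynomial (Fin 3) k ⧸ I) ≤ (r + 2).choose 3) (i : Fin 3)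
    (q : ℕ → ℕ → ℕ × ℕ) (mk : ℕ → ℕ → (Fin 2 →₀ ℕ)) (hmk : Function.Bijective fun z : ℕ × ℕ => mk z.1 z.2)
    (hpt : ∀ x y m, Duality.pt i (q x y) m = up x (mk y m))
    (hq : q = (fun x y => (x, y)) ∨ q = (fun x y => (y, x)))
    (hstab : ∀ x y, Duality.b I i (q (x + 1) y) ≤ Duality.b I i (q x (y + 1))) :
    Module.finrank k ↥(sigPiece I {i}) ≤ (r + 3).choose 4 ∧
      (Module.finrank k ↥(sigPiece I {i}) = (r + 3).choose 4 → I = mPow k 3 r) := by
  obtain ⟨N₀, hN₀⟩ := Duality.exists_bd hI.1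
  have hN : ∀ l, Stairs.Bd (Duality.b I l) (max N₀ r) := fun l => bd_mono (hN₀ l) (le_max_left _ _)
  set N := max N₀ r
  let c : ℕ → ℕ → ℕ := fun x y => Duality.b I i (q x y)
  have hqx : ∀ x y, ((q x y).1 = x ∧ (q x y).2 = y) ∨ ((q x y).1 = y ∧ (q x y).2 = x) := by
    intro x y
    rcases hq with rfl | rfl <;> simp
  have hanti : ∀ x y, c x (y + 1) ≤ c x y := by
    intro x y
    rcases hq with rfl | rfl <;> refine (hN i).anti _ _ ?_ ?_ <;> simp
  have hy : ∀ x y, N ≤ y → c x y = 0 := by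
    intro x y h
    by_contra hne
    have := (hN i).box (q x y) (Nat.pos_of_ne_zero hne)
    rcases hqx x y with ⟨e1, e2⟩ | ⟨e1, e2⟩ <;> omega
  have hx : ∀ x y, r ≤ x → c x y = 0 := by
    intro x y h
    refine Nat.le_zero.1 ((Duality.mem_iff_b hI.1).1 ?_)
    rw [hpt]
    refine mem_exps_of_le (single_r_mem hI hd) (Finsupp.single_le_iff.2 ?_)
    rw [up_zero]; exact h
  have hslice : ∀ x, Module.finrank k (MvPolynomial (Fin 2) k ⧸ sliceX I x) = ∑ y ∈ Finset.range N, c x y := by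
    intro x
    rw [finrank_quot (isMonomial_sliceX hI.1 x)]
    let F := (Finset.range N).sigma fun y => Finset.range (c x y)
    have hmap : ∀ z : ↥F, mk z.1.1 z.1.2 ∉ exps (sliceX I x) := fun z => by
      rw [mem_exps_sliceX, ← hpt, Duality.mem_iff_b hI.1, not_le]
      exact Finset.mem_range.1 (Finset.mem_sigma.1 z.2).2
    rw [← Nat.card_congr (Equiv.ofBijective
      (fun z : ↥F => (⟨_, hmap z⟩ : {β : Fin 2 →₀ ℕ // β ∉ exps (sliceX I x)})) ⟨?_, ?_⟩),
      Nat.card_eq_fintype_card, Fintype.card_coe, Finset.card_sigma]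
    · simp
    · rintro ⟨⟨y, m⟩, hz⟩ ⟨⟨y', m'⟩, hz'⟩ h
      have := @hmk.1 (y, m) (y', m') (Subtype.ext_iff.1 h)
      simp only [Prod.mk.injEq] at this
      obtain ⟨rfl, rfl⟩ := this
      rfl
    · rintro ⟨β, hβ⟩
      obtain ⟨⟨y, m⟩, rfl⟩ := hmk.2 β
      have hβ' := hβ
      rw [mem_exps_sliceX, ← hpt, Duality.mem_iff_b hI.1, not_le] at hβ'
      refine ⟨⟨⟨y, m⟩, Finset.mem_sigma.2 ⟨Finset.mem_range.2 ?_, Finset.mem_range.2 hβ'⟩⟩, rfl⟩
      by_contra hh
      have := hy x y (not_lt.1 hh)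
      simp only [c] at this hh hβ' ⊢
      omega
  have hsig : Module.finrank k ↥(sigPiece I {i}) ≤
      ∑ a ∈ Finset.range r, ∑ x ∈ Finset.Ico a r, ∑ y ∈ Finset.range N, c x y := by
    rw [Duality.sig_dn hI.1 hN i, Finset.sum_image fun x _ y _ h => Duality.dn_injective i h,
      Finset.sum_product (Stairs.box N) (Finset.range N)]
    simp only [(Duality.piece_dn hI.1 i _ _).2]
    refine (Finset.sum_le_sum fun a _ =>
      (Finset.sum_le_sum fun e _ => Stairs.finrank_K_le (k := k) a e (hN i)).trans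
        (le_of_eq (Stairs.sum_card_corners a (hN i)))).trans ?_
    rw [← collapse c N r (le_max_right _ _) hanti hy hx]
    simp only [Stairs.box]
    rcases hq with rfl | rfl
    · rw [Finset.sum_product]
      refine Finset.sum_le_sum fun a1 _ => Finset.sum_le_sum fun a2 _ => ?_
      rw [Finset.sum_product]
      refine Finset.sum_le_sum fun p1 _ => Finset.sum_le_sum fun p2 _ => ?_
      exact Nat.sub_le_sub_left (le_max_right _ _) _
    · rw [Finset.sum_product_right]
      refine Finset.sum_le_sum fun a1 _ => Finset.sum_le_sum fun a2 _ => ?_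
      rw [Finset.sum_product_right]
      refine Finset.sum_le_sum fun p1 _ => Finset.sum_le_sum fun p2 _ => ?_
      exact Nat.sub_le_sub_left (le_max_left _ _) _
  obtain ⟨hs1, hs2⟩ := slices_le r hI hd
  simp only [hslice] at hs1 hs2
  have htail : ∀ a ∈ Finset.range r, ∑ x ∈ Finset.Ico a r, ∑ y ∈ Finset.range N, c x y ≤
      ∑ x ∈ Finset.Ico a r, (r - x + 1).choose 2 := fun a ha => hs1 a (Finset.mem_range.1 ha).le
  have hsum := Finset.sum_le_sum htail
  rw [sum_tails_tri] at hsum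
  refine ⟨hsig.trans hsum, fun heq => hs2 fun j hj => ?_⟩
  have heq' : ∑ a ∈ Finset.range r, ∑ x ∈ Finset.Ico a r, ∑ y ∈ Finset.range N, c x y =
      ∑ a ∈ Finset.range r, ∑ x ∈ Finset.Ico a r, (r - x + 1).choose 2 := by
    rw [sum_tails_tri]; omega
  exact (Finset.sum_eq_sum_iff_of_le htail).1 heq' j (Finset.mem_range.2 hj)

theorem main (r : ℕ) (hI : IsStronglyStable I) [Module.Finite k (MvPolynomial (Fin 3) k ⧸ I)]
    (hd : Module.finrank k (MvPolynomial (Fin 3) k ⧸ I) = (r + 2).choose 3) :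
    (Module.finrank k ↥(sigPiece I ({2} : Set (Fin 3))) ≤ (r + 3).choose 4 ∧
      (Module.finrank k ↥(sigPiece I ({2} : Set (Fin 3))) = (r + 3).choose 4 ↔ I = mPow k 3 r)) ∧
    (Module.finrank k ↥(sigPiece I ({1} : Set (Fin 3))) ≤ (r + 3).choose 4 ∧
      (Module.finrank k ↥(sigPiece I ({1} : Set (Fin 3))) = (r + 3).choose 4 ↔ I = mPow k 3 r)) ∧
    (Module.finrank k ↥(sigPiece I ({0, 1} : Set (Fin 3))) ≤ (r + 2).choose 4 ∧
      (Module.finrank k ↥(sigPiece I ({0, 1} : Set (Fin 3))) = (r + 2).choose 4 ↔ I = mPow k 3 r)) ∧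
    (Module.finrank k ↥(sigPiece I ({0, 2} : Set (Fin 3))) ≤ (r + 2).choose 4 ∧
      (Module.finrank k ↥(sigPiece I ({0, 2} : Set (Fin 3))) = (r + 2).choose 4 ↔ I = mPow k 3 r)) := by
  have hpas : (r + 3).choose 4 = (r + 2).choose 3 + (r + 2).choose 4 := Nat.choose_succ_succ' (r + 2) 3
  have bz := fun x y => (stair_le hI x y).1
  have by' := fun x y => (stair_le hI x y).2
  have estairY : ∀ x z, stairY I x z = Duality.b I 1 (z, x) := by
    intro x z
    have h : ∀ m, e3 x m z = Duality.pt 1 (z, x) m := fun m =>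
      Finsupp.ext fun j => by fin_cases j <;> simp [Duality.pt, e3]
    rw [stairY, Nat.card_congr (Equiv.subtypeEquivRight fun m =>
      show e3 x m z ∉ exps I ↔ m ∈ Finset.range (Duality.b I 1 (z, x)) by
        rw [h, Duality.mem_iff_b hI.1, Finset.mem_range, not_le])]
    rw [Nat.card_eq_finsetCard, Finset.card_range]
  simp only [estairY] at by'
  have ez := fun x y => Duality.stairZ_eq hI.1 (x, y)
  simp only at ez
  simp only [ez] at bz
  let m2 : ℕ → ℕ → (Fin 2 →₀ ℕ) := fun y m => Finsupp.equivFunOnFinite.symm ![y, m]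
  let m1 : ℕ → ℕ → (Fin 2 →₀ ℕ) := fun y m => Finsupp.equivFunOnFinite.symm ![m, y]
  have hm2 : Function.Bijective fun z : ℕ × ℕ => m2 z.1 z.2 := by
    refine ⟨fun z w h => Prod.ext ?_ ?_, fun β => ⟨(β 0, β 1), Finsupp.ext fun l => by fin_cases l <;> simp [m2]⟩⟩
    · simpa [m2] using DFunLike.congr_fun h 0
    · simpa [m2] using DFunLike.congr_fun h 1
  have hm1 : Function.Bijective fun z : ℕ × ℕ => m1 z.1 z.2 := by
    refine ⟨fun z w h => Prod.ext ?_ ?_, fun β => ⟨(β 1, β 0), Finsupp.ext fun l => by fin_cases l <;> simp [m1]⟩⟩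
    · simpa [m1] using DFunLike.congr_fun h 1
    · simpa [m1] using DFunLike.congr_fun h 0
  obtain ⟨u2, v2⟩ := dir_bound hI hd.le 2 (fun x y => (x, y)) m2 hm2
    (fun x y m => by
      refine Finsupp.ext fun j => Fin.cases ?_ (fun l => ?_) j
      · rw [up_zero]; simp [Duality.pt]
      · rw [up_succ]; fin_cases l <;> simp [Duality.pt, m2])
    (Or.inl rfl) bz
  obtain ⟨u1, v1⟩ := dir_bound hI hd.le 1 (fun x y => (y, x)) m1 hm1
    (fun x y m => by
      refine Finsupp.ext fun j => Fin.cases ?_ (fun l => ?_) j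
      · rw [up_zero]; simp [Duality.pt]
      · rw [up_succ]; fin_cases l <;> simp [Duality.pt, m1])
    (Or.inr rfl) by'
  have hp : ∀ i : Fin 3, I = mPow k 3 r →
      Module.finrank k ↥(sigPiece I ({i} : Set (Fin 3))) = (r + 3).choose 4 := fun i h => by
    rw [h]; exact (finrank_sigPiece_mPow (k := k) r i).1
  have e1 : ({0, 1} : Set (Fin 3)) = ({2} : Set (Fin 3))ᶜ := by ext j; fin_cases j <;> simp
  have e2 : ({0, 2} : Set (Fin 3)) = ({1} : Set (Fin 3))ᶜ := by ext j; fin_cases j <;> simp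
  have s2 := Duality.singleton_eq hI.1 2
  have s1 := Duality.singleton_eq hI.1 1
  rw [e1, e2]
  refine ⟨⟨u2, v2, hp 2⟩, ⟨u1, v1, hp 1⟩, ⟨by omega, fun h => v2 (by omega), fun h => ?_⟩,
    ⟨by omega, fun h => v1 (by omega), fun h => ?_⟩⟩
  · have := hp 2 h; omega
  · have := hp 1 h; omega

end Groth.Agent.KS29.SigBound
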