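import Groth.Agent.Lib.RelSpecB.Basic
import Groth.Agent.Lib.TensorMod.IdealMod
import Groth.Agent.Lib.ModM1.ClosedImm
import Groth.Agent.Lib.ModM1.Coh
import Groth.Agent.Lib.TensorMod.Invertible
import Groth.Agent.Lib.ModM1.LocFree
import Mathlib.Algebra.TrivSqZeroExt.Basic

/-!
# Split square zero thickenings by a module
-/

universe u

set_option autoImplicit false
set_option backward.isDefEq.respectTransparency false
set_option backward.isDefEq.respectTransparency.types false
set_option linter.style.haveILetI false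

open CategoryTheory CategoryTheory.Limits AlgebraicGeometry TopologicalSpace Opposite

noncomputable section

namespace Groth.Agent.KS29.SplitRib

/-- Scalars acting on the right as on the left. -/
@[reducible] def opMod (R M : Type u) [CommRing R] [AddCommGroup M] [Module R M] : Module Rᵐᵒᵖ M :=
  Module.compHom M ((RingHom.id R).fromOpposite mul_comm)

attribute [local instance] opMod

local instance centralMod (R M : Type u) [CommRing R] [AddCommGroup M] [Module R M] : IsCentralScalar R M :=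
  ⟨fun _ _ => rfl⟩

variable {D : Scheme.{u}} (L : D.Modules)

/-- The trivial extension of the functions on an open by the sections of the module. -/
abbrev Sec (U : D.Opens) : Type u := TrivSqZeroExt Γ(D, U) Γ(L, U)

/-- Restriction of the trivial extensions. -/
def res {U V : D.Opens} (h : V ≤ U) : Sec L U →+* Sec L V where
  toFun x := TrivSqZeroExt.inl (M1.ores h x.fst) + TrivSqZeroExt.inr (M1.mres L h x.snd)
  map_one' := by ext <;> simp
  map_zero' := by ext <;> simp
  map_add' x y := by ext <;> simp [map_add]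
  map_mul' x y := by
    ext
    · simp
    · simp only [TrivSqZeroExt.snd_add, TrivSqZeroExt.snd_inl, TrivSqZeroExt.snd_inr, zero_add,
        TrivSqZeroExt.snd_mul, TrivSqZeroExt.fst_add, TrivSqZeroExt.fst_inl, TrivSqZeroExt.fst_inr, add_zero,
        map_add, op_smul_eq_smul, M1.mres_smul]

theorem res_fst {U V : D.Opens} (h : V ≤ U) (x : Sec L U) : (res L h x).fst = M1.ores h x.fst := by
  simp [res]

theorem res_snd {U V : D.Opens} (h : V ≤ U) (x : Sec L U) : (res L h x).snd = M1.mres L h x.snd := by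
  simp [res]

/-- The presheaf of trivial extensions. -/
def psh : TopCat.Presheaf CommRingCat.{u} D.carrier where
  obj U := CommRingCat.of (Sec L U.unop)
  map i := CommRingCat.ofHom (res L i.unop.le)
  map_id U := by
    ext1; ext x
    · exact (res_fst L _ x).trans (congrArg (fun f => f x.fst) (D.presheaf.map_id U))
    · exact (res_snd L _ x).trans (congrArg (fun f => f x.snd) (L.presheaf.map_id U))
  map_comp {U V W} i j := by
    ext1; ext x
    · show (res L _ x).fst = (res L _ (res L _ x)).fst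
      rw [res_fst, res_fst, res_fst]
      exact congrArg (fun f => f x.fst) (D.presheaf.map_comp i j)
    · show (res L _ x).snd = (res L _ (res L _ x)).snd
      rw [res_snd, res_snd, res_snd]
      exact congrArg (fun f => f x.snd) (L.presheaf.map_comp i j)

theorem psh_isSheaf : (psh L).IsSheaf := by
  rw [TopCat.Presheaf.isSheaf_iff_isSheafUniqueGluing]
  intro ι U sf hsf
  have hf : TopCat.Presheaf.IsCompatible D.presheaf U fun i => (sf i : Sec L (U i)).fst := fun i j => by
    have := congrArg (fun x : Sec L (U i ⊓ U j) => x.fst) (hsf i j)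
    exact (res_fst L inf_le_left (sf i)).symm.trans (this.trans (res_fst L inf_le_right (sf j)))
  have hs : TopCat.Presheaf.IsCompatible L.presheaf U fun i => (sf i : Sec L (U i)).snd := fun i j => by
    have := congrArg (fun x : Sec L (U i ⊓ U j) => x.snd) (hsf i j)
    exact (res_snd L inf_le_left (sf i)).symm.trans (this.trans (res_snd L inf_le_right (sf j)))
  obtain ⟨a, ha, ha'⟩ := D.sheaf.existsUnique_gluing U _ hf
  obtain ⟨b, hb, hb'⟩ := TopCat.Sheaf.existsUnique_gluing ⟨L.presheaf, L.isSheaf⟩ U _ hs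
  let x : Sec L (iSup U) := ((a, b) : Γ(D, iSup U) × Γ(L, iSup U))
  refine ⟨x, fun i => ?_, fun y hy => ?_⟩
  · refine TrivSqZeroExt.ext ?_ ?_
    · exact (res_fst L (le_iSup U i) x).trans (ha i)
    · exact (res_snd L (le_iSup U i) x).trans (hb i)
  · exact TrivSqZeroExt.ext
      (ha' _ fun i => (res_fst L (le_iSup U i) y).symm.trans (congrArg (fun x : Sec L (U i) => x.fst) (hy i)))
      (hb' _ fun i => (res_snd L (le_iSup U i) y).symm.trans (congrArg (fun x : Sec L (U i) => x.snd) (hy i)))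

/-- The structure map. -/
def str : D.presheaf ⟶ psh L where
  app U := CommRingCat.ofHom (TrivSqZeroExt.inlHom Γ(D, U.unop) Γ(L, U.unop))
  naturality U V i := by
    ext1; ext r
    show TrivSqZeroExt.inl (M1.ores _ r) = res L _ (TrivSqZeroExt.inl r)
    exact (TrivSqZeroExt.ext (res_fst L i.unop.le (TrivSqZeroExt.inl r))
      ((res_snd L i.unop.le (TrivSqZeroExt.inl r)).trans (map_zero _))).symm

theorem psh_isQC (hL : Coh.IsQCoh L) : RelSpec.IsQC (psh L) (str L) := by
  intro U hU r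
  haveI := hL
  letI : Algebra (Sec L U) (Sec L (D.basicOpen r)) := (res L (D.basicOpen_le r)).toAlgebra
  letI : Algebra Γ(D, U) Γ(D, D.basicOpen r) := (M1.ores (D.basicOpen_le r)).hom.toAlgebra
  haveI : IsLocalization.Away r Γ(D, D.basicOpen r) := hU.isLocalization_basicOpen r
  show IsLocalization.Away (TrivSqZeroExt.inl r : Sec L U) (Sec L (D.basicOpen r))
  refine IsLocalization.Away.mk _ ?_ (fun x => ?_) (fun a b hab => ?_)
  · show IsUnit (res L (D.basicOpen_le r) (TrivSqZeroExt.inl r))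
    have e : res L (D.basicOpen_le r) (TrivSqZeroExt.inl r) = TrivSqZeroExt.inl (M1.ores (D.basicOpen_le r) r) :=
      TrivSqZeroExt.ext (res_fst L _ _) ((res_snd L _ _).trans (map_zero _))
    rw [e]
    exact (IsLocalization.Away.algebraMap_isUnit r).map (TrivSqZeroExt.inlHom _ _)
  · obtain ⟨n, a, ha⟩ := IsLocalization.Away.surj r x.fst
    obtain ⟨k, m, hm⟩ := M1.exists_pow_smul_eq_res_affine L hU r x.snd
    refine ⟨n + k, TrivSqZeroExt.inl (r ^ k * a) + TrivSqZeroExt.inr ((r ^ n) • m), ?_⟩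
    have hm' : M1.ores (D.basicOpen_le r) (r ^ k) • x.snd = M1.mres L (D.basicOpen_le r) m := by
      rw [map_pow]; exact hm.symm
    have ha' : x.fst * M1.ores (D.basicOpen_le r) (r ^ n) = M1.ores (D.basicOpen_le r) a := by
      rw [map_pow]; exact ha
    show x * (res L (D.basicOpen_le r) (TrivSqZeroExt.inl r)) ^ (n + k) = res L (D.basicOpen_le r) _
    have e : (TrivSqZeroExt.inl r : Sec L U) ^ (n + k) = TrivSqZeroExt.inl (r ^ (n + k)) :=
      (map_pow (TrivSqZeroExt.inlHom _ _) r (n + k)).symm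
    rw [← map_pow, e]
    refine TrivSqZeroExt.ext ?_ ?_
    · simp only [TrivSqZeroExt.fst_mul, res_fst, TrivSqZeroExt.fst_add, TrivSqZeroExt.fst_inl,
        TrivSqZeroExt.fst_inr, add_zero]
      rw [pow_add, map_mul, ← mul_assoc, ha', map_mul, mul_comm]
    · simp only [TrivSqZeroExt.snd_mul, res_snd, res_fst, TrivSqZeroExt.snd_add, TrivSqZeroExt.snd_inl,
        TrivSqZeroExt.snd_inr, TrivSqZeroExt.fst_inl, map_zero, smul_zero, zero_add, op_smul_eq_smul]
      rw [pow_add, map_mul, mul_smul, hm', M1.mres_smul]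
  · have hab' : res L (D.basicOpen_le r) a = res L (D.basicOpen_le r) b := hab
    have h1 : M1.ores (D.basicOpen_le r) a.fst = M1.ores (D.basicOpen_le r) b.fst := by
      rw [← res_fst L, ← res_fst L, hab']
    have h2 : M1.mres L (D.basicOpen_le r) (a.snd - b.snd) = 0 := by
      rw [map_sub, sub_eq_zero, ← res_snd L, ← res_snd L, hab']
    obtain ⟨n, hn⟩ := IsLocalization.Away.exists_of_eq r h1
    obtain ⟨k, hk⟩ := M1.exists_pow_smul_eq_zero_affine L hU r _ h2
    rw [smul_sub, sub_eq_zero] at hk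
    refine ⟨n + k, ?_⟩
    have e : (TrivSqZeroExt.inl r : Sec L U) ^ (n + k) = TrivSqZeroExt.inl (r ^ (n + k)) :=
      (map_pow (TrivSqZeroExt.inlHom _ _) r (n + k)).symm
    rw [e]
    refine TrivSqZeroExt.ext ?_ ?_
    · simp only [TrivSqZeroExt.fst_mul, TrivSqZeroExt.fst_inl]
      rw [pow_add, mul_comm (r ^ n), mul_assoc, mul_assoc, hn]
    · simp only [TrivSqZeroExt.snd_mul, TrivSqZeroExt.snd_inl, TrivSqZeroExt.fst_inl, smul_zero, add_zero,
        op_smul_eq_smul]
      have hk' : (r ^ k) • a.snd = (r ^ k) • b.snd := hk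
      rw [pow_add, mul_smul, mul_smul, hk']

/-- The trivial extension as a quasi-coherent algebra. -/
def alg (hL : Coh.IsQCoh L) : RelSpec.QCAlg D := ⟨psh L, psh_isSheaf L, str L, psh_isQC L hL⟩

variable (hL : Coh.IsQCoh L)

/-- The projection to the functions. -/
def fstHom : alg L hL ⟶ RelSpec.QCAlg.unit D where
  hom :=
    { app := fun U => CommRingCat.ofHom (TrivSqZeroExt.fstHom Γ(D, U.unop) Γ(D, U.unop) Γ(L, U.unop)).toRingHom
      naturality := fun U V i => by
        ext1; ext x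
        exact res_fst L i.unop.le x }
  comm := by
    ext U r
    exact TrivSqZeroExt.fst_inl Γ(L, U) r

theorem isIso_unit_π (D : Scheme.{u}) : IsIso (RelSpec.QCAlg.unit D).π := by
  rw [← MorphismProperty.isomorphisms.iff]
  rw [IsZariskiLocalAtTarget.iff_of_iSup_eq_top (P := MorphismProperty.isomorphisms Scheme)
    (fun U : D.affineOpens => U.1) (iSup_affineOpens_eq_top D)]
  intro U
  rw [MorphismProperty.isomorphisms.iff]
  let A := RelSpec.QCAlg.unit D
  have hr : (A.ι U.1 U.2).opensRange = A.π ⁻¹ᵁ U.1 := (A.π_preimage U.1 U.2).symm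
  let e : Spec (A.presheaf.obj (op U.1)) ≅ ((A.π ⁻¹ᵁ U.1 : A.spec.Opens) : Scheme.{u}) :=
    (A.ι U.1 U.2).isoOpensRange ≪≫ A.spec.isoOfEq hr
  have h : e.hom ≫ (A.π ∣_ U.1) = U.2.isoSpec.inv := by
    rw [← cancel_mono U.1.ι, Category.assoc, morphismRestrict_ι, IsAffineOpen.isoSpec_inv_ι]
    simp only [e, Iso.trans_hom, Category.assoc, Scheme.isoOfEq_hom_ι_assoc,
      Scheme.Hom.isoOpensRange_hom_ι_assoc]
    rw [A.ι_π]
    show Spec.map (𝟙 _) ≫ _ = _
    rw [Spec.map_id, Category.id_comp]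
  have h' : (A.π ∣_ U.1) = e.inv ≫ U.2.isoSpec.inv := by rw [← h, Iso.inv_hom_id_assoc]
  show IsIso (A.π ∣_ U.1)
  rw [h']
  infer_instance

theorem exists_section : ∃ s : D ⟶ (alg L hL).spec, s ≫ (alg L hL).π = 𝟙 D := by
  haveI := isIso_unit_π D
  exact ⟨inv (RelSpec.QCAlg.unit D).π ≫ RelSpec.QCAlg.specMap (fstHom L hL), by
    rw [Category.assoc, RelSpec.QCAlg.specMap_π, IsIso.inv_hom_id]⟩

variable [IsReduced D] (s : D ⟶ (alg L hL).spec) (hs : s ≫ (alg L hL).π = 𝟙 D)

/-- The identification of the sections over the preimage of an open. -/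
def gam (V : D.Opens) : Γ((alg L hL).spec, (alg L hL).π ⁻¹ᵁ V) →+* Sec L V :=
  ((alg L hL).gammaMap.app (op V)).hom

theorem gam_bijective (V : D.Opens) : Function.Bijective (gam L hL V) := by
  haveI := RelSpecB.isIso_gammaMap (alg L hL)
  exact ConcreteCategory.bijective_of_isIso ((alg L hL).gammaMap.app (op V))

theorem gam_π (V : D.Opens) (r : Γ(D, V)) : gam L hL V ((alg L hL).π.app V r) = TrivSqZeroExt.inl r :=
  show ((((alg L hL).π.c ≫ (alg L hL).gammaMap).app (op V)).hom r : Sec L V) = _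
    from (congrArg (fun f : D.presheaf ⟶ (alg L hL).presheaf => (f.app (op V)).hom r) (alg L hL).π_c_gammaMap).trans rfl

theorem gam_res {U V : D.Opens} (h : V ≤ U) (a : Γ((alg L hL).spec, (alg L hL).π ⁻¹ᵁ U)) :
    gam L hL V (M1.ores ((alg L hL).π.preimage_mono h) a) = res L h (gam L hL U a) :=
  ConcreteCategory.congr_hom ((alg L hL).gammaMap.naturality (homOfLE h).op) a

include hs in
theorem appLE_eq_fst (V : D.Opens) (e : V ≤ s ⁻¹ᵁ ((alg L hL).π ⁻¹ᵁ V))
    (a : Γ((alg L hL).spec, (alg L hL).π ⁻¹ᵁ V)) :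
    s.appLE ((alg L hL).π ⁻¹ᵁ V) V e a = (gam L hL V a).fst := by
  have hπ : ∀ r : Γ(D, V), s.appLE ((alg L hL).π ⁻¹ᵁ V) V e ((alg L hL).π.app V r) = r := fun r => by
    rw [← CommRingCat.comp_apply, Scheme.Hom.app_eq_appLE, Scheme.Hom.appLE_comp_appLE]
    simp only [hs]
    simp [Scheme.Hom.appLE]
    exact congrArg (fun f => f r) (D.presheaf.map_id (op V))
  obtain ⟨b, hb⟩ := (gam_bijective L hL V).2 (TrivSqZeroExt.inr (gam L hL V a).snd)
  have hsplit : a = (alg L hL).π.app V (gam L hL V a).fst + b := by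
    apply (gam_bijective L hL V).1
    rw [map_add, gam_π, hb, TrivSqZeroExt.inl_fst_add_inr_snd_eq]
  have hb0 : b * b = 0 := by
    apply (gam_bijective L hL V).1
    rw [map_mul, hb, map_zero, TrivSqZeroExt.inr_mul_inr]
  have hsb : s.appLE ((alg L hL).π ⁻¹ᵁ V) V e b = 0 :=
    IsReduced.eq_zero _ ⟨2, by rw [pow_two, ← map_mul, hb0, map_zero]⟩
  conv_lhs => rw [hsplit]
  rw [map_add, hπ, hsb, add_zero]

/-! ### The ideal of the section -/

section ideal

include hs in
theorem preimage_eq (V : D.Opens) : s ⁻¹ᵁ ((alg L hL).π ⁻¹ᵁ V) = V := by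
  rw [← Scheme.Hom.comp_preimage, hs]
  rfl

include hs in
theorem app_eq_zero_iff (V : D.Opens) (a : Γ((alg L hL).spec, (alg L hL).π ⁻¹ᵁ V)) :
    s.app ((alg L hL).π ⁻¹ᵁ V) a = 0 ↔ (gam L hL V a).fst = 0 := by
  have e := preimage_eq L hL s hs V
  rw [← appLE_eq_fst L hL s hs V e.ge a, Scheme.Hom.appLE, CommRingCat.comp_apply]
  refine ⟨fun h => by rw [h, map_zero], fun h => ?_⟩
  have h' := congrArg (D.presheaf.map (homOfLE e.le).op) h
  rw [map_zero, ← CommRingCat.comp_apply, ← Functor.map_comp] at h'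
  refine Eq.trans ?_ h'
  exact (congrArg (fun f => f (s.app _ a)) (D.presheaf.map_id _)).symm

include hs in
theorem isClosedImmersion_section : IsClosedImmersion s := by
  haveI : IsClosedImmersion (s ≫ (alg L hL).π) := by rw [hs]; infer_instance
  exact IsClosedImmersion.of_comp s (alg L hL).π

variable [IsClosedImmersion s]

theorem subschemeι_app_eq_zero_iff (W : (alg L hL).spec.Opens) (a : Γ((alg L hL).spec, W)) :
    s.ker.subschemeι.app W a = 0 ↔ s.app W a = 0 := by
  have key : ∀ (f : D ⟶ (alg L hL).spec) (_ : f = s), f.app W a = 0 ↔ s.app W a = 0 := by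
    rintro f rfl; exact Iff.rfl
  rw [← key (s.toImage ≫ s.imageι) s.toImage_imageι, Scheme.Hom.comp_app, CommRingCat.comp_apply]
  exact ⟨fun h => (congrArg _ h).trans (map_zero _), fun h =>
    (ConcreteCategory.bijective_of_isIso (s.toImage.app (s.imageι ⁻¹ᵁ W))).1 (h.trans (map_zero _).symm)⟩

include hs in
theorem idealIncl_fst (V : D.Opens) (a : Γ(ClSub.idealMod s.ker, (alg L hL).π ⁻¹ᵁ V)) :
    (gam L hL V (M2.idealIncl s.ker a)).fst = 0 :=
  (app_eq_zero_iff L hL s hs V _).mp
    ((subschemeι_app_eq_zero_iff L hL s _ _).mp (M2.subschemeι_app_idealIncl s.ker a))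

/-- The ideal of the section, read in the module. -/
def omega : (Scheme.Modules.pushforward (alg L hL).π).obj (ClSub.idealMod s.ker) ⟶ L :=
  ⟨PresheafOfModules.homMk
    { app := fun U => AddCommGrpCat.ofHom
        (AddMonoidHom.mk' (fun a : Γ(ClSub.idealMod s.ker, (alg L hL).π ⁻¹ᵁ U.unop) =>
            (gam L hL U.unop (M2.idealIncl s.ker a)).snd)
          (fun a b => by rw [M2.idealIncl_add, map_add, TrivSqZeroExt.snd_add]))
      naturality := fun U V i => by
        ext a
        show (gam L hL V.unop (M2.idealIncl s.ker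
            (M1.mres (ClSub.idealMod s.ker) ((alg L hL).π.preimage_mono i.unop.le) a))).snd =
          M1.mres L i.unop.le (gam L hL U.unop (M2.idealIncl s.ker a)).snd
        rw [← res_snd L i.unop.le, ← gam_res]
        exact congrArg (fun x => (gam L hL V.unop x).snd) (M2.idealIncl_res s.ker _ a) }
    (fun U r a => by
      show (gam L hL U.unop (M2.idealIncl s.ker ((alg L hL).π.app U.unop r •
          (show Γ(ClSub.idealMod s.ker, (alg L hL).π ⁻¹ᵁ U.unop) from a)))).snd =
        (show Γ(D, U.unop) from r) • (gam L hL U.unop (M2.idealIncl s.ker a)).snd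
      rw [M2.idealIncl_smul, map_mul, gam_π, TrivSqZeroExt.snd_mul, TrivSqZeroExt.fst_inl,
        TrivSqZeroExt.snd_inl, smul_zero, add_zero])⟩

include hs in
theorem isIso_omega : IsIso (omega L hL s) := by
  refine Scheme.Modules.Hom.isIso_iff_isIso_app.mpr fun U => ?_
  refine (ConcreteCategory.isIso_iff_bijective _).mpr ⟨fun a b h => ?_, fun m => ?_⟩
  · refine M2.idealIncl_injective s.ker _ ((gam_bijective L hL U).1 (TrivSqZeroExt.ext ?_ h))
    rw [idealIncl_fst L hL s hs, idealIncl_fst L hL s hs]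
  · obtain ⟨x, hx⟩ := (gam_bijective L hL U).2 (TrivSqZeroExt.inr m)
    obtain ⟨a, ha⟩ := M2.exists_idealIncl_eq s.ker x ((subschemeι_app_eq_zero_iff L hL s _ _).mpr
      ((app_eq_zero_iff L hL s hs U x).mpr (by rw [hx, TrivSqZeroExt.fst_inr])))
    exact ⟨a, show (gam L hL U (M2.idealIncl s.ker a)).snd = m by rw [ha, hx, TrivSqZeroExt.snd_inr]⟩

include hs in
theorem ker_sq : s.ker ^ 2 = ⊥ := by
  refine Scheme.IdealSheafData.ext_of_iSup_eq_top
    (fun U : D.affineOpens => ⟨(alg L hL).π ⁻¹ᵁ U.1, U.2.preimage (alg L hL).π⟩) ?_ fun U => ?_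
  · rw [← Scheme.Hom.preimage_iSup, iSup_affineOpens_eq_top]; rfl
  · rw [Scheme.IdealSheafData.ideal_pow, Pi.pow_apply, Scheme.IdealSheafData.ideal_bot, Pi.bot_apply,
      pow_two, eq_bot_iff, Ideal.mul_le]
    intro a ha b hb
    rw [Scheme.Hom.ker_apply, RingHom.mem_ker] at ha hb
    refine Ideal.mem_bot.mpr ((gam_bijective L hL U.1).1 ?_)
    rw [map_zero, map_mul]
    have ha' := (app_eq_zero_iff L hL s hs U.1 a).mp ha
    have hb' := (app_eq_zero_iff L hL s hs U.1 b).mp hb
    refine TrivSqZeroExt.ext ?_ ?_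
    · rw [TrivSqZeroExt.fst_mul, ha', zero_mul]; rfl
    · rw [TrivSqZeroExt.snd_mul, ha', hb', zero_smul, MulOpposite.op_zero, zero_smul, add_zero]; rfl

include hs in
theorem nonempty_pullback_iso : Nonempty ((Scheme.Modules.pullback s).obj (ClSub.idealMod s.ker) ≅ L) := by
  haveI := isIso_omega L hL s hs
  haveI := M1.isIso_unit_of_ker_smul s (ClSub.idealMod s.ker) (M2.isQCoh_idealMod s.ker) (fun U a ha m => by
    refine M2.idealIncl_injective s.ker U.1 ?_
    rw [M2.idealIncl_smul]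
    have hm : M2.idealIncl s.ker m ∈ s.ker.ideal U :=
      (M2.range_idealIncl s.ker U).le ⟨m, rfl⟩
    have h2 : a * M2.idealIncl s.ker m ∈ (s.ker ^ 2).ideal U := by
      rw [Scheme.IdealSheafData.ideal_pow, Pi.pow_apply, pow_two]
      exact Ideal.mul_mem_mul ha hm
    rw [ker_sq L hL s hs, Scheme.IdealSheafData.ideal_bot] at h2
    rw [Ideal.mem_bot.mp h2]
    exact (map_zero ((ClSub.idealModι s.ker).app U.1).hom).symm)
  let N := ClSub.idealMod s.ker
  let e1 : N ≅ (Scheme.Modules.pushforward s).obj ((Scheme.Modules.pullback s).obj N) :=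
    asIso ((Scheme.Modules.pullbackPushforwardAdjunction s).unit.app N)
  exact ⟨(Scheme.Modules.pushforwardId D).symm.app _ ≪≫ (Scheme.Modules.pushforwardCongr hs.symm).app _ ≪≫
    (Scheme.Modules.pushforwardComp s (alg L hL).π).symm.app _ ≪≫
    (Scheme.Modules.pushforward (alg L hL).π).mapIso e1.symm ≪≫ asIso (omega L hL s)⟩

omit [IsReduced D] in
theorem locallyOfFiniteType_π (hfin : ∀ U : D.Opens, IsAffineOpen U → Module.Finite Γ(D, U) Γ(L, U)) :
    LocallyOfFiniteType (alg L hL).π := by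
  rw [IsZariskiLocalAtTarget.iff_of_iSup_eq_top (P := @LocallyOfFiniteType)
    (fun U : D.affineOpens => U.1) (iSup_affineOpens_eq_top D)]
  intro U
  let A := alg L hL
  have hr : (A.ι U.1 U.2).opensRange = A.π ⁻¹ᵁ U.1 := (A.π_preimage U.1 U.2).symm
  let e : Spec (A.presheaf.obj (op U.1)) ≅ ((A.π ⁻¹ᵁ U.1 : A.spec.Opens) : Scheme.{u}) :=
    (A.ι U.1 U.2).isoOpensRange ≪≫ A.spec.isoOfEq hr
  have h : e.hom ≫ (A.π ∣_ U.1) = Spec.map (A.str.app (op U.1)) ≫ U.2.isoSpec.inv := by
    rw [← cancel_mono U.1.ι, Category.assoc, morphismRestrict_ι, Category.assoc,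
      IsAffineOpen.isoSpec_inv_ι]
    simp only [e, Iso.trans_hom, Category.assoc, Scheme.isoOfEq_hom_ι_assoc,
      Scheme.Hom.isoOpensRange_hom_ι_assoc]
    exact A.ι_π _ _
  have h' : (A.π ∣_ U.1) = e.inv ≫ Spec.map (A.str.app (op U.1)) ≫ U.2.isoSpec.inv := by
    rw [← h, Iso.inv_hom_id_assoc]
  haveI : LocallyOfFiniteType (Spec.map (A.str.app (op U.1))) := by
    rw [HasRingHomProperty.Spec_iff (P := @LocallyOfFiniteType)]
    haveI := hfin U.1 U.2
    haveI : Module.Finite Γ(D, U.1) (Sec L U.1) :=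
      inferInstanceAs (Module.Finite Γ(D, U.1) (Γ(D, U.1) × Γ(L, U.1)))
    show (TrivSqZeroExt.inlHom Γ(D, U.1) Γ(L, U.1)).FiniteType
    have := RingHom.finiteType_algebraMap.mpr (inferInstance : Algebra.FiniteType Γ(D, U.1) (Sec L U.1))
    exact this
  show LocallyOfFiniteType (A.π ∣_ U.1)
  rw [h']
  infer_instance

end ideal

/-- Invertible modules are coherent. -/
theorem isCoh_of_isInvertible {D : Scheme.{u}} {L : D.Modules} (hL : PicF.IsInvertible L) : Coh.IsCoh L :=
  have h := ((M1.isFinLocFree_iff L).1 (M2.isFinLocFree_of_isInvertible hL)).1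
  ⟨M1.isFP_isQCoh h, M1.isFP_isFT h⟩

/-- The split ribbon of an invertible module. -/
theorem exists_split {S : Scheme.{u}} (D : Scheme.{u}) [IsReduced D] (f : D ⟶ S) [LocallyOfFiniteType f]
    (L : D.Modules) (hL : Coh.IsCoh L) :
    ∃ (C : Scheme.{u}) (sC : C ⟶ S) (I : C.IdealSheafData) (φ : I.subscheme ≅ D) (r : C ⟶ I.subscheme),
      LocallyOfFiniteType sC ∧ I ^ 2 = ⊥ ∧ φ.hom ≫ f = I.subschemeι ≫ sC ∧
        I.subschemeι ≫ r = 𝟙 I.subscheme ∧ r ≫ I.subschemeι ≫ sC = sC ∧
        Nonempty ((Scheme.Modules.pullback (φ.inv ≫ I.subschemeι)).obj (ClSub.idealMod I) ≅ L) := by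
  obtain ⟨s, hs⟩ := exists_section L hL.1
  haveI := isClosedImmersion_section L hL.1 s hs
  haveI := locallyOfFiniteType_π L hL.1 fun U hU => M1.finite_sections hL.1 hL.2 hU
  let π := (alg L hL.1).π
  let φ : s.ker.subscheme ≅ D := (asIso s.toImage).symm
  have hφ : φ.inv ≫ s.ker.subschemeι = s := s.toImage_imageι
  have h1 : s.ker.subschemeι ≫ π = φ.hom := by
    rw [← cancel_epi φ.inv, reassoc_of% hφ, hs, Iso.inv_hom_id]
  refine ⟨_, π ≫ f, s.ker, φ, π ≫ φ.inv, inferInstance, ker_sq L hL.1 s hs, ?_, ?_, ?_, ?_⟩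
  · rw [← Category.assoc, h1]
  · rw [← Category.assoc, h1, Iso.hom_inv_id]
  · rw [Category.assoc, ← Category.assoc s.ker.subschemeι, h1, Iso.inv_hom_id_assoc]
  · rw [hφ]; exact nonempty_pullback_iso L hL.1 s hs

end Groth.Agent.KS29.SplitRib
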