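import Mathlib.RingTheory.Regular.Flat
import Mathlib.AlgebraicGeometry.Noetherian
import Mathlib.AlgebraicGeometry.Morphisms.Flat

/-!
# Weakly regular sequences of sections: stalks, flat descent, openness
-/

universe u

set_option autoImplicit false
set_option backward.isDefEq.respectTransparency false
set_option backward.isDefEq.respectTransparency.types false
set_option linter.style.haveILetI false

open CategoryTheory AlgebraicGeometry TopologicalSpace
open RingTheory.Sequence

namespace Groth.Agent.KS29.WR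

/-- Weak regularity of a sequence in a ring, read on elements. -/
theorem wr_iff {A : Type u} [CommRing A] (rs : List A) :
    IsWeaklyRegular A rs ↔ ∀ (i : ℕ) (h : i < rs.length) (b : A),
      rs[i] * b ∈ Ideal.ofList (rs.take i) → b ∈ Ideal.ofList (rs.take i) := by
  have e : ∀ i, (Ideal.ofList (rs.take i) • ⊤ : Submodule A A) = Ideal.ofList (rs.take i) := fun i => by
    rw [smul_eq_mul, Ideal.mul_top]
  rw [isWeaklyRegular_iff]
  refine forall_congr' fun i => forall_congr' fun h => ?_
  rw [e, isSMulRegular_iff_right_eq_zero_of_smul]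
  constructor
  · intro H b hb
    refine (Submodule.Quotient.mk_eq_zero _).1 (H (Submodule.Quotient.mk b) ?_)
    rw [← Submodule.Quotient.mk_smul, smul_eq_mul]
    exact (Submodule.Quotient.mk_eq_zero _).2 hb
  · intro H m hm
    obtain ⟨b, rfl⟩ := Submodule.Quotient.mk_surjective _ m
    rw [← Submodule.Quotient.mk_smul, smul_eq_mul] at hm
    exact (Submodule.Quotient.mk_eq_zero _).2 (H b ((Submodule.Quotient.mk_eq_zero _).1 hm))

/-- Weak regularity descends along a faithfully flat map. -/
theorem wr_of_faithfullyFlat {A B : Type u} [CommRing A] [CommRing B] [Algebra A B] [Module.FaithfullyFlat A B]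
    (rs : List A) (h : IsWeaklyRegular B (rs.map (algebraMap A B))) : IsWeaklyRegular A rs := by
  rw [wr_iff] at h ⊢
  intro i hi b hb
  have h1 := h i (by simpa using hi) (algebraMap A B b)
  rw [← List.map_take, ← Ideal.map_ofList, List.getElem_map, ← map_mul] at h1
  have h2 := h1 (Ideal.mem_map_of_mem _ hb)
  rwa [← Ideal.comap_map_eq_self_of_faithfullyFlat (B := B) (Ideal.ofList (rs.take i)), Ideal.mem_comap]

/-- Near a prime at which a sequence in a Noetherian ring is weakly regular it stays so. -/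
theorem exists_notMem_wr {A : Type u} [CommRing A] [IsNoetherianRing A] (p : Ideal A) [p.IsPrime]
    (S : Type u) [CommRing S] [Algebra A S] [IsLocalization.AtPrime S p] (rs : List A)
    (h : IsWeaklyRegular S (rs.map (algebraMap A S))) :
    ∃ g ∉ p, ∀ (T : Type u) [CommRing T] [Algebra A T] (M : Submonoid A) [IsLocalization M T],
      IsUnit (algebraMap A T g) → IsWeaklyRegular T (rs.map (algebraMap A T)) := by
  classical
  rw [wr_iff] at h
  have key : ∀ i : Fin rs.length, ∃ g ∉ p, ∀ a : A, rs[i.1] * a ∈ Ideal.ofList (rs.take i.1) →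
      g * a ∈ Ideal.ofList (rs.take i.1) := by
    intro i
    let C : Ideal A := Submodule.comap (LinearMap.mulLeft A rs[i.1]) (Ideal.ofList (rs.take i.1))
    obtain ⟨s, hs⟩ := (IsNoetherian.noetherian C : C.FG)
    have hC : ∀ a : A, a ∈ C ↔ rs[i.1] * a ∈ Ideal.ofList (rs.take i.1) := fun a => Iff.rfl
    have h1 : ∀ a ∈ s, ∃ t ∉ p, t * a ∈ Ideal.ofList (rs.take i.1) := by
      intro a ha
      have ha' : a ∈ C := hs ▸ Submodule.subset_span ha
      have h2 := h i.1 (by simp) (algebraMap A S a)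
      rw [← List.map_take, ← Ideal.map_ofList, List.getElem_map, ← map_mul] at h2
      have h3 := h2 (Ideal.mem_map_of_mem _ ((hC a).1 ha'))
      obtain ⟨t, ht, hta⟩ := (IsLocalization.algebraMap_mem_map_algebraMap_iff p.primeCompl S _ _).1 h3
      exact ⟨t, ht, hta⟩
    choose t ht hta using h1
    refine ⟨∏ a : s, t a.1 a.2, fun hp => ?_, fun a ha => ?_⟩
    · obtain ⟨a, -, hap⟩ := Ideal.IsPrime.prod_mem_iff.1 hp
      exact ht a.1 a.2 hap
    · have hle : C ≤ Submodule.comap (LinearMap.mulLeft A (∏ a : s, t a.1 a.2))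
          (Ideal.ofList (rs.take i.1)) := by
        rw [← hs, Submodule.span_le]
        intro a ha
        show (∏ a : s, t a.1 a.2) * a ∈ Ideal.ofList (rs.take i.1)
        rw [← Finset.prod_erase_mul _ _ (Finset.mem_univ ⟨a, ha⟩), mul_assoc]
        exact Ideal.mul_mem_left _ _ (hta a ha)
      exact hle ((hC a).2 ha)
  choose g hg hga using key
  refine ⟨∏ i, g i, fun hp => ?_, ?_⟩
  · obtain ⟨i, -, hi⟩ := Ideal.IsPrime.prod_mem_iff.1 hp
    exact hg i hi
  intro T _ _ M _ hu
  rw [wr_iff]
  intro i hi b hb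
  have hi' : i < rs.length := by simpa using hi
  rw [← List.map_take, ← Ideal.map_ofList] at hb ⊢
  rw [List.getElem_map] at hb
  obtain ⟨⟨a, s⟩, hb'⟩ := IsLocalization.surj M b
  have h1 : algebraMap A T (rs[i] * a) ∈ (Ideal.ofList (rs.take i)).map (algebraMap A T) := by
    rw [map_mul, ← hb', ← mul_assoc]
    exact Ideal.mul_mem_right _ _ hb
  obtain ⟨t, ht, hta⟩ := (IsLocalization.algebraMap_mem_map_algebraMap_iff M T _ _).1 h1
  have h2 : rs[i] * (t * a) ∈ Ideal.ofList (rs.take i) := by
    rwa [mul_left_comm]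
  have h3 : (∏ j, g j) * (t * a) ∈ Ideal.ofList (rs.take i) := by
    rw [← Finset.prod_erase_mul _ _ (Finset.mem_univ ⟨i, hi'⟩), mul_assoc]
    exact Ideal.mul_mem_left _ _ (hga ⟨i, hi'⟩ _ h2)
  have h4 := Ideal.mem_map_of_mem (algebraMap A T) h3
  rw [map_mul, map_mul, ← hb'] at h4
  have hut : IsUnit (algebraMap A T t) := IsLocalization.map_units T ⟨t, ht⟩
  have hus : IsUnit (algebraMap A T s) := IsLocalization.map_units T s
  rw [Ideal.unit_mul_mem_iff_mem _ hu, Ideal.unit_mul_mem_iff_mem _ hut,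
    mul_comm, Ideal.unit_mul_mem_iff_mem _ hus] at h4
  exact h4

variable {X Y : Scheme.{u}}

/-- On an affine open, weak regularity is read on the stalks. -/
theorem wr_sections_iff {U : X.Opens} (hU : IsAffineOpen U) (rs : List Γ(X, U)) :
    IsWeaklyRegular Γ(X, U) rs ↔ ∀ (x : X) (hx : x ∈ U),
      IsWeaklyRegular (X.presheaf.stalk x) (rs.map (X.presheaf.germ U x hx).hom) := by
  constructor
  · intro h x hx
    letI := TopCat.Presheaf.algebra_section_stalk X.presheaf (⟨x, hx⟩ : U)
    haveI := hU.isLocalization_stalk ⟨x, hx⟩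
    exact h.of_isLocalization (X.presheaf.stalk x) (hU.primeIdealOf ⟨x, hx⟩).asIdeal.primeCompl
  · intro h
    rw [wr_iff]
    intro i hi b hb
    rw [hU.mem_ideal_iff]
    intro x hx
    have h1 := (wr_iff _).1 (h x hx) i (by simpa using hi) (X.presheaf.germ U x hx b)
    rw [← List.map_take, ← Ideal.map_ofList, List.getElem_map, ← map_mul] at h1
    exact h1 (Ideal.mem_map_of_mem _ hb)

/-- Weak regularity at a stalk is reflected by flat morphisms. -/
theorem wr_stalkMap_iff (f : Y ⟶ X) [Flat f] (y : Y) (rs : List (X.presheaf.stalk (f y))) :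
    IsWeaklyRegular (Y.presheaf.stalk y) (rs.map (f.stalkMap y).hom) ↔
      IsWeaklyRegular (X.presheaf.stalk (f y)) rs := by
  letI := (f.stalkMap y).hom.toAlgebra
  haveI : Module.FaithfullyFlat (X.presheaf.stalk (f y)) (Y.presheaf.stalk y) :=
    @Module.FaithfullyFlat.of_flat_of_isLocalHom _ _ _ _ _ _ _
      (Flat.stalkMap f y) (f.toLRSHom.prop y)
  exact ⟨fun h => wr_of_faithfullyFlat rs h, fun h => h.of_flat⟩

/-- Weak regularity at a point for the pullback of a sequence of sections along a flat morphism. -/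
theorem wr_germ_iff (f : Y ⟶ X) [Flat f] {U : X.Opens} {V : Y.Opens} (e : V ≤ f ⁻¹ᵁ U) (rs : List Γ(X, U))
    (y : Y) (hy : y ∈ V) :
    IsWeaklyRegular (Y.presheaf.stalk y) ((rs.map (f.appLE U V e).hom).map (Y.presheaf.germ V y hy).hom) ↔
      IsWeaklyRegular (X.presheaf.stalk (f y)) (rs.map (X.presheaf.germ U (f y) (e hy)).hom) := by
  rw [← wr_stalkMap_iff f y, List.map_map, List.map_map]
  apply iff_of_eq
  congr 1
  refine List.map_congr_left fun r _ => ?_
  show Y.presheaf.germ V y hy (f.appLE U V e r) = f.stalkMap y (X.presheaf.germ U (f y) (e hy) r)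
  rw [Scheme.Hom.germ_stalkMap_apply, Scheme.Hom.appLE, CommRingCat.comp_apply]
  exact Y.presheaf.germ_res_apply _ _ hy _

/-- On a locally Noetherian scheme the weakly regular locus of sections over an affine open is open. -/
theorem exists_open_wr [IsLocallyNoetherian X] {U : X.Opens} (hU : IsAffineOpen U) (rs : List Γ(X, U))
    (x : X) (hx : x ∈ U) (h : IsWeaklyRegular (X.presheaf.stalk x) (rs.map (X.presheaf.germ U x hx).hom)) :
    ∃ (W : X.Opens) (hWU : W ≤ U), IsAffineOpen W ∧ x ∈ W ∧ ∀ (y : X) (hy : y ∈ W),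
      IsWeaklyRegular (X.presheaf.stalk y) (rs.map (X.presheaf.germ U y (hWU hy)).hom) := by
  haveI : IsNoetherianRing Γ(X, U) := IsLocallyNoetherian.component_noetherian ⟨U, hU⟩
  letI := TopCat.Presheaf.algebra_section_stalk X.presheaf (⟨x, hx⟩ : U)
  haveI := hU.isLocalization_stalk ⟨x, hx⟩
  obtain ⟨g, hg, hgT⟩ := exists_notMem_wr (hU.primeIdealOf ⟨x, hx⟩).asIdeal (X.presheaf.stalk x) rs h
  refine ⟨X.basicOpen g, X.basicOpen_le g, hU.basicOpen g, ?_, fun y hy => ?_⟩
  · rw [Scheme.mem_basicOpen _ _ _ hx]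
    exact IsLocalization.map_units (X.presheaf.stalk x)
      (⟨g, hg⟩ : (hU.primeIdealOf ⟨x, hx⟩).asIdeal.primeCompl)
  · have hyU : y ∈ U := X.basicOpen_le g hy
    letI := TopCat.Presheaf.algebra_section_stalk X.presheaf (⟨y, hyU⟩ : U)
    haveI := hU.isLocalization_stalk ⟨y, hyU⟩
    exact hgT (X.presheaf.stalk y) (hU.primeIdealOf ⟨y, hyU⟩).asIdeal.primeCompl
      ((Scheme.mem_basicOpen _ _ _ hyU).1 hy)

end Groth.Agent.KS29.WR
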