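import Groth.Agent.Lib.FlatSyz.Kernel
import Groth.Agent.Lib.FlatH4.NoethApprox
import Groth.Agent.Lib.KS29.WRLocus
import Groth.Prelude.Def_RegImm
import Mathlib.RingTheory.TensorProduct.DirectLimitFG
import Mathlib.RingTheory.TensorProduct.Quotient

/-!
# Transversally regular sequences: base change and descent to a finitely generated subalgebra
-/

universe u

set_option autoImplicit false
set_option linter.style.haveILetI false
set_option maxHeartbeats 400000

open TensorProduct RingTheory.Sequence

namespace Groth.Agent.KS29.TRA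

variable {R : Type u} [CommRing R] {B : Type u} [CommRing B] [Algebra R B]

/-- The quotient by the first `j` members. -/
abbrev Q (rs : List B) (j : ℕ) : Type u := B ⧸ Ideal.ofList (rs.take j)

/-- Multiplication by the next member. -/
noncomputable abbrev mul (R : Type u) [CommRing R] [Algebra R B] (rs : List B) (i : ℕ) (h : i < rs.length) :
    Q rs i →ₗ[R] Q rs i :=
  LinearMap.mulLeft R (Ideal.Quotient.mk (Ideal.ofList (rs.take i)) rs[i])

/-- Transversal regularity over an `R`-algebra of a sequence in an `R`-algebra. -/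
def TR (R : Type u) [CommRing R] [Algebra R B] (rs : List B) (A : Type u) [CommRing A] [Algebra R A] : Prop :=
  (∀ (i : ℕ) (h : i < rs.length), Function.Injective ((mul R rs i h).lTensor A)) ∧
    ∀ j ≤ rs.length, Module.Flat A (A ⊗[R] Q rs j)

theorem lTensor_mul_apply (rs : List B) (i : ℕ) (h : i < rs.length) (A : Type u) [CommRing A] [Algebra R A]
    (z : A ⊗[R] Q rs i) :
    (mul R rs i h).lTensor A z = ((1 : A) ⊗ₜ[R] Ideal.Quotient.mk _ rs[i]) * z := by
  induction z using TensorProduct.induction_on with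
  | zero => simp
  | add a b ha hb => rw [map_add, ha, hb, mul_add]
  | tmul a q => rw [LinearMap.lTensor_tmul, LinearMap.mulLeft_apply, Algebra.TensorProduct.tmul_mul_tmul, one_mul]

/-- The definition agrees with that of the prelude on the base change. -/
theorem tr_iff (rs : List B) (A : Type u) [CommRing A] [Algebra R A] :
    RegImm.IsTransRegularSeq A (A ⊗[R] B)
        (rs.map (Algebra.TensorProduct.includeRight : B →ₐ[R] A ⊗[R] B).toRingHom) ↔
      TR R rs A := by
  let ι : B →+* A ⊗[R] B := (Algebra.TensorProduct.includeRight : B →ₐ[R] A ⊗[R] B).toRingHom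
  have hI : ∀ j, Ideal.ofList ((rs.map ι).take j) = (Ideal.ofList (rs.take j)).map ι := fun j => by
    rw [← List.map_take, Ideal.map_ofList]
  let e : ∀ j, A ⊗[R] Q rs j ≃ₐ[A] (A ⊗[R] B) ⧸ (Ideal.ofList (rs.take j)).map ι := fun j =>
    Algebra.TensorProduct.tensorQuotientEquiv (R := R) A B A (Ideal.ofList (rs.take j))
  have hflat : ∀ j, Module.Flat A ((A ⊗[R] B) ⧸ Ideal.ofList ((rs.map ι).take j)) ↔
      Module.Flat A (A ⊗[R] Q rs j) := fun j => by
    rw [hI]
    exact ⟨fun _ => Module.Flat.of_linearEquiv (e j).toLinearEquiv,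
      fun _ => Module.Flat.of_linearEquiv (e j).toLinearEquiv.symm⟩
  have hinj : ∀ (i : ℕ) (h : i < rs.length),
      (∀ b : A ⊗[R] B, ι rs[i] * b ∈ (Ideal.ofList (rs.take i)).map ι →
        b ∈ (Ideal.ofList (rs.take i)).map ι) ↔ Function.Injective ((mul R rs i h).lTensor A) := by
    intro i h
    have he : e i ((1 : A) ⊗ₜ[R] Ideal.Quotient.mk _ rs[i]) = Ideal.Quotient.mk _ (ι rs[i]) := rfl
    rw [injective_iff_map_eq_zero]
    constructor
    · intro H z hz
      obtain ⟨b, hb⟩ := Ideal.Quotient.mk_surjective (e i z)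
      rw [lTensor_mul_apply] at hz
      have h1 : e i (((1 : A) ⊗ₜ[R] Ideal.Quotient.mk _ rs[i]) * z) = 0 := by rw [hz, map_zero]
      rw [map_mul, he, ← hb, ← map_mul, Ideal.Quotient.eq_zero_iff_mem] at h1
      have h2 := Ideal.Quotient.eq_zero_iff_mem.2 (H b h1)
      rw [hb] at h2
      exact (map_eq_zero_iff _ (e i).injective).1 h2
    · intro H b hb
      have h2 : (mul R rs i h).lTensor A ((e i).symm (Ideal.Quotient.mk _ b)) = 0 := by
        rw [lTensor_mul_apply]
        apply (e i).injective
        rw [map_mul, (e i).apply_symm_apply, he, ← map_mul, map_zero]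
        exact Ideal.Quotient.eq_zero_iff_mem.2 hb
      have h3 := congrArg (e i) (H _ h2)
      rw [(e i).apply_symm_apply, map_zero] at h3
      exact Ideal.Quotient.eq_zero_iff_mem.1 h3
  show (IsWeaklyRegular (A ⊗[R] B) (rs.map ι) ∧
    ∀ j : ℕ, j ≤ (rs.map ι).length → Module.Flat A ((A ⊗[R] B) ⧸ Ideal.ofList ((rs.map ι).take j))) ↔ _
  simp only [WR.wr_iff, List.length_map, hflat, hI, List.getElem_map]
  exact and_congr (forall₂_congr hinj) Iff.rfl

theorem take_succ_ofList (rs : List B) (i : ℕ) (h : i < rs.length) :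
    Ideal.ofList (rs.take (i + 1)) = Ideal.ofList (rs.take i) ⊔ Ideal.span {rs[i]} := by
  rw [List.take_succ_eq_append_getElem h, Ideal.ofList_append, Ideal.ofList_singleton]

/-- The projection to the next quotient. -/
noncomputable def proj (R : Type u) [CommRing R] [Algebra R B] (rs : List B) (i : ℕ) (h : i < rs.length) :
    Q rs i →ₗ[R] Q rs (i + 1) :=
  (Ideal.Quotient.factorₐ R (by rw [take_succ_ofList rs i h]; exact le_sup_left :
    Ideal.ofList (rs.take i) ≤ Ideal.ofList (rs.take (i + 1)))).toLinearMap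

theorem proj_mk (rs : List B) (i : ℕ) (h : i < rs.length) (b : B) :
    proj R rs i h (Ideal.Quotient.mk _ b) = Ideal.Quotient.mk _ b := rfl

theorem proj_surjective (rs : List B) (i : ℕ) (h : i < rs.length) : Function.Surjective (proj R rs i h) :=
  fun q => by
    obtain ⟨b, rfl⟩ := Ideal.Quotient.mk_surjective q
    exact ⟨Ideal.Quotient.mk _ b, rfl⟩

theorem exact_mul_proj (rs : List B) (i : ℕ) (h : i < rs.length) :
    Function.Exact (mul R rs i h) (proj R rs i h) := by
  intro q
  obtain ⟨b, rfl⟩ := Ideal.Quotient.mk_surjective q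
  constructor
  · intro hb
    rw [proj_mk, Ideal.Quotient.eq_zero_iff_mem, take_succ_ofList rs i h, Submodule.mem_sup] at hb
    obtain ⟨x, hx, y, hy, hxy⟩ := hb
    obtain ⟨a, rfl⟩ := Ideal.mem_span_singleton'.1 hy
    refine ⟨Ideal.Quotient.mk _ a, ?_⟩
    rw [LinearMap.mulLeft_apply, ← map_mul, ← hxy, map_add, Ideal.Quotient.eq_zero_iff_mem.2 hx, zero_add,
      mul_comm]
  · rintro ⟨q, hq⟩
    obtain ⟨a, rfl⟩ := Ideal.Quotient.mk_surjective q
    rw [← hq, LinearMap.mulLeft_apply, ← map_mul, proj_mk, Ideal.Quotient.eq_zero_iff_mem,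
      take_succ_ofList rs i h]
    exact Ideal.mem_sup_right (Ideal.mul_mem_right _ _ (Ideal.mem_span_singleton_self _))

/-- A map with flat cokernel stays injective if the base change kills its kernel. -/
theorem injective_lTensor_of_kill {R : Type u} [CommRing R] {P N C : Type u} [AddCommGroup P] [Module R P]
    [AddCommGroup N] [Module R N] [Module.Flat R N] [AddCommGroup C] [Module R C] (f : P →ₗ[R] P) (p : P →ₗ[R] N)
    (hex : Function.Exact f p) (hp : Function.Surjective p)
    (hkill : ∀ k, f k = 0 → ∀ a : C, a ⊗ₜ[R] k = 0) : Function.Injective (f.lTensor C) := by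
  have hexr : Function.Exact (LinearMap.range f).subtype p := by
    intro y
    have hr : Set.range (LinearMap.range f).subtype = Set.range f := Subtype.range_coe
    rw [hr]
    exact hex y
  have hinj := FlatSyz.lTensor_subtype_injective_of_flat_quotient (LinearMap.range f).subtype
    (LinearMap.range f).injective_subtype p hexr hp C
  have hsplit : f = (LinearMap.range f).subtype ∘ₗ f.rangeRestrict := rfl
  have hex2 : Function.Exact (LinearMap.ker f).subtype f.rangeRestrict := by
    intro x
    have hr : Set.range (LinearMap.ker f).subtype = (LinearMap.ker f : Set P) := Subtype.range_coe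
    rw [hr]
    exact Subtype.ext_iff
  rw [injective_iff_map_eq_zero]
  intro w hw
  rw [hsplit, LinearMap.lTensor_comp, LinearMap.comp_apply, map_eq_zero_iff _ hinj] at hw
  obtain ⟨w', rfl⟩ := (lTensor_exact C hex2 f.surjective_rangeRestrict w).1 hw
  clear hw
  induction w' using TensorProduct.induction_on with
  | zero => simp
  | add a b ha hb => rw [map_add, ha, hb, add_zero]
  | tmul a k => exact hkill k.1 k.2 a

/-- Cancelling a base change commutes with a base changed map. -/
theorem cancel_lTensor {C A M : Type u} [CommRing C] [Algebra R C] [CommRing A] [Algebra R A] [Algebra C A]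
    [IsScalarTower R C A] [AddCommGroup M] [Module R M] (f : M →ₗ[R] M) (w : A ⊗[C] (C ⊗[R] M)) :
    f.lTensor A (TensorProduct.AlgebraTensorModule.cancelBaseChange R C A A M w) =
      TensorProduct.AlgebraTensorModule.cancelBaseChange R C A A M ((f.baseChange C).lTensor A w) := by
  induction w using TensorProduct.induction_on with
  | zero => simp
  | add a b ha hb => simp only [map_add, ha, hb]
  | tmul a x =>
    induction x using TensorProduct.induction_on with
    | zero => simp
    | add x y hx hy => simp only [TensorProduct.tmul_add, map_add, hx, hy]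
    | tmul c q => simp

/-- A pure tensor with an element killed in the tensor product algebra is zero. -/
theorem tmul_eq_zero_of_map {C A S : Type u} [CommRing C] [Algebra R C] [CommRing A] [Algebra R A] [Algebra C A]
    [IsScalarTower R C A] [CommRing S] [Algebra R S] (k : C ⊗[R] S)
    (hk : Algebra.TensorProduct.map (IsScalarTower.toAlgHom R C A) (AlgHom.id R S) k = 0) (a : A) :
    a ⊗ₜ[C] k = 0 := by
  apply (TensorProduct.AlgebraTensorModule.cancelBaseChange R C A A S).injective
  have : ∀ x : C ⊗[R] S, TensorProduct.AlgebraTensorModule.cancelBaseChange R C A A S (a ⊗ₜ[C] x) =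
      (a ⊗ₜ[R] (1 : S)) * Algebra.TensorProduct.map (IsScalarTower.toAlgHom R C A) (AlgHom.id R S) x := by
    intro x
    induction x using TensorProduct.induction_on with
    | zero => simp
    | add x y hx hy => rw [TensorProduct.tmul_add, map_add, hx, hy, map_add, mul_add]
    | tmul c q => simp [Algebra.smul_def, mul_comm]
  rw [this, hk, mul_zero, map_zero]

section Tower

variable {C : Type u} [CommRing C] [Algebra R C] {A : Type u} [CommRing A] [Algebra R A] [Algebra C A]
  [IsScalarTower R C A]

theorem flat_baseChange (M : Type u) [AddCommGroup M] [Module R M] (hM : Module.Flat C (C ⊗[R] M)) :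
    Module.Flat A (A ⊗[R] M) :=
  Module.Flat.of_linearEquiv (TensorProduct.AlgebraTensorModule.cancelBaseChange R C A A M).symm

/-- Injectivity with flat cokernel is stable under base change. -/
theorem inj_baseChange (rs : List B) (i : ℕ) (h : i < rs.length)
    (hflat : Module.Flat C (C ⊗[R] Q rs (i + 1))) (hinj : Function.Injective ((mul R rs i h).lTensor C)) :
    Function.Injective ((mul R rs i h).lTensor A) := by
  have h1 : Function.Injective (((mul R rs i h).baseChange C).lTensor A) :=
    FlatSyz.lTensor_subtype_injective_of_flat_quotient ((mul R rs i h).baseChange C) hinj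
      ((proj R rs i h).baseChange C) (lTensor_exact C (exact_mul_proj rs i h) (proj_surjective rs i h))
      (LinearMap.lTensor_surjective C (proj_surjective rs i h)) A
  let E := TensorProduct.AlgebraTensorModule.cancelBaseChange R C A A (Q rs i)
  have key := fun w => cancel_lTensor (A := A) (C := C) (mul R rs i h) w
  intro x y hxy
  obtain ⟨x, rfl⟩ := E.surjective x
  obtain ⟨y, rfl⟩ := E.surjective y
  rw [key, key] at hxy
  rw [h1 (E.injective hxy)]

theorem TR.baseChange {rs : List B} (h : TR R rs C) : TR R rs A :=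
  ⟨fun i hi => inj_baseChange rs i hi (h.2 (i + 1) hi) (h.1 i hi), fun j hj => flat_baseChange _ (h.2 j hj)⟩

end Tower

theorem exists_fg_ge {A : Type u} [CommRing A] [Algebra R A] {ι : Type} [Fintype ι] (C : ι → Subalgebra R A)
    (hC : ∀ i, (C i).FG) : ∃ D : Subalgebra R A, D.FG ∧ ∀ i, C i ≤ D :=
  ⟨Finset.univ.sup C, Finset.sup_induction Subalgebra.fg_bot (fun _ ha _ hb => ha.sup hb) fun i _ => hC i,
    fun i => Finset.le_sup (Finset.mem_univ i)⟩

variable {A : Type u} [CommRing A] [Algebra R A]

/-- With flat quotients over a Noetherian subalgebra, injectivity holds at a larger one. -/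
theorem exists_inj [IsNoetherianRing R] [Algebra.FiniteType R B] (rs : List B) (i : ℕ) (h : i < rs.length)
    (hA : Function.Injective ((mul R rs i h).lTensor A)) (C₀ : Subalgebra R A) (hC₀ : C₀.FG)
    (hflat : Module.Flat C₀ (C₀ ⊗[R] Q rs (i + 1))) :
    ∃ C : Subalgebra R A, C₀ ≤ C ∧ C.FG ∧ Function.Injective ((mul R rs i h).lTensor C) := by
  classical
  haveI : IsNoetherianRing C₀ := isNoetherianRing_of_fg hC₀
  let P := C₀ ⊗[R] Q rs i
  haveI : IsNoetherianRing P := Algebra.FiniteType.isNoetherianRing C₀ P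
  let g : P := (1 : C₀) ⊗ₜ[R] Ideal.Quotient.mk _ rs[i]
  let K : Ideal P := LinearMap.ker (LinearMap.mulLeft P g)
  obtain ⟨s, hs⟩ := (IsNoetherian.noetherian K : K.FG)
  have hK : ∀ k : P, k ∈ K ↔ g * k = 0 := fun k => Iff.rfl
  have hzero : ∀ k : s, ∃ (C : Subalgebra R A) (hC : C₀ ≤ C), C.FG ∧
      (Subalgebra.inclusion hC).toLinearMap.rTensor (Q rs i) k.1 = 0 := by
    intro k
    have h1 : C₀.val.toLinearMap.rTensor (Q rs i) k.1 = C₀.val.toLinearMap.rTensor (Q rs i) 0 := by
      rw [map_zero]
      refine (injective_iff_map_eq_zero _).1 hA _ ?_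
      rw [← LinearMap.comp_apply, LinearMap.lTensor_comp_rTensor, ← LinearMap.rTensor_comp_lTensor,
        LinearMap.comp_apply, lTensor_mul_apply, show g * k.1 = 0 from
          (hK _).1 (hs ▸ Submodule.subset_span k.2), map_zero]
    obtain ⟨C, hC, hCfg, hCz⟩ := TensorProduct.Algebra.eq_of_fg_of_subtype_eq hC₀ h1
    exact ⟨C, hC, hCfg, hCz.trans (map_zero _)⟩
  choose Ck hCk hCkfg hCkz using hzero
  let C : Subalgebra R A := C₀ ⊔ Finset.univ.sup Ck
  have hle : C₀ ≤ C := le_sup_left
  have hCfg : C.FG :=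
    hC₀.sup (Finset.sup_induction Subalgebra.fg_bot (fun _ ha _ hb => ha.sup hb) fun k _ => hCkfg k)
  refine ⟨C, hle, hCfg, ?_⟩
  let ι : P →ₐ[R] C ⊗[R] Q rs i :=
    Algebra.TensorProduct.map (Subalgebra.inclusion hle) (AlgHom.id R _)
  have hι : ∀ k ∈ K, ι k = 0 := by
    have : K ≤ RingHom.ker ι.toRingHom := by
      rw [← hs, Submodule.span_le]
      intro k hk
      have hkC : Ck ⟨k, hk⟩ ≤ C := le_sup_of_le_right (Finset.le_sup (Finset.mem_univ _))
      show ι k = 0
      have e1 : (Subalgebra.inclusion hkC).toLinearMap.rTensor (Q rs i)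
          ((Subalgebra.inclusion (hCk ⟨k, hk⟩)).toLinearMap.rTensor (Q rs i) k) = ι k := by
        rw [← LinearMap.comp_apply, ← LinearMap.rTensor_comp]
        rfl
      rw [← e1, hCkz ⟨k, hk⟩, map_zero]
    exact fun k hk => this hk
  letI : Algebra C₀ C := (Subalgebra.inclusion hle).toRingHom.toAlgebra
  haveI : IsScalarTower R C₀ C := IsScalarTower.of_algebraMap_eq fun r => rfl
  haveI := hflat
  have hinj := injective_lTensor_of_kill (C := C) ((mul R rs i h).baseChange C₀) ((proj R rs i h).baseChange C₀)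
    (lTensor_exact C₀ (exact_mul_proj rs i h) (proj_surjective rs i h))
    (LinearMap.lTensor_surjective C₀ (proj_surjective rs i h))
    fun k hk a => tmul_eq_zero_of_map k (hι k ((hK k).2 ((lTensor_mul_apply rs i h C₀ k).symm.trans hk))) a
  intro x y hxy
  obtain ⟨x, rfl⟩ := (TensorProduct.AlgebraTensorModule.cancelBaseChange R C₀ C C (Q rs i)).surjective x
  obtain ⟨y, rfl⟩ := (TensorProduct.AlgebraTensorModule.cancelBaseChange R C₀ C C (Q rs i)).surjective y
  rw [cancel_lTensor, cancel_lTensor] at hxy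
  rw [hinj ((TensorProduct.AlgebraTensorModule.cancelBaseChange R C₀ C C (Q rs i)).injective hxy)]

/-- Transversal regularity descends to a finitely generated subalgebra. -/
theorem exists_fg_tr [IsNoetherianRing R] [Algebra.FiniteType R B] (rs : List B) (h : TR R rs A) :
    ∃ C : Subalgebra R A, C.FG ∧ TR R rs C := by
  classical
  have hf : ∀ j : Fin (rs.length + 1), ∃ C : Subalgebra R A, C.FG ∧ ∀ D : Subalgebra R A, C ≤ D → D.FG →
      Module.Flat D (D ⊗[R] Q rs j) := fun j => by
    haveI := h.2 j (Nat.le_of_lt_succ j.2)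
    exact FlatH4.exists_subalgebra_flat R A B (Q rs j)
  choose Cf hCf hflat using hf
  obtain ⟨C₀, hC₀, hle₀⟩ := exists_fg_ge Cf hCf
  have hi : ∀ i : Fin rs.length, ∃ C : Subalgebra R A, C₀ ≤ C ∧ C.FG ∧
      Function.Injective ((mul R rs i.1 i.2).lTensor C) := fun i =>
    exists_inj rs i.1 i.2 (h.1 i.1 i.2) C₀ hC₀ (hflat ⟨i.1 + 1, Nat.succ_lt_succ i.2⟩ C₀ (hle₀ _) hC₀)
  choose Ci hCi hCifg hinj using hi
  obtain ⟨D, hD, hleD⟩ := exists_fg_ge Ci hCifg
  refine ⟨C₀ ⊔ D, hC₀.sup hD, fun i hi => ?_, fun j hj =>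
    hflat ⟨j, Nat.lt_succ_of_le hj⟩ _ ((hle₀ _).trans le_sup_left) (hC₀.sup hD)⟩
  have hle : Ci ⟨i, hi⟩ ≤ C₀ ⊔ D := (hleD _).trans le_sup_right
  letI : Algebra (Ci ⟨i, hi⟩) ↥(C₀ ⊔ D) := (Subalgebra.inclusion hle).toRingHom.toAlgebra
  haveI : IsScalarTower R (Ci ⟨i, hi⟩) ↥(C₀ ⊔ D) := IsScalarTower.of_algebraMap_eq fun r => rfl
  exact inj_baseChange (C := Ci ⟨i, hi⟩) rs i hi
    (hflat ⟨i + 1, Nat.succ_lt_succ hi⟩ _ ((hle₀ _).trans (hCi _)) (hCifg _)) (hinj ⟨i, hi⟩)

end Groth.Agent.KS29.TRA
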