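import Groth.Agent.Lib.KS29.TransRegSch
import Groth.Agent.Lib.KS29.RegLimit

/-!
# Transversally regular immersions under limits
-/

universe u

set_option autoImplicit false
set_option backward.isDefEq.respectTransparency false
set_option backward.isDefEq.respectTransparency.types false
set_option linter.style.haveILetI false
set_option maxHeartbeats 800000

open CategoryTheory CategoryTheory.Limits AlgebraicGeometry TopologicalSpace TensorProduct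
open RingTheory.Sequence

namespace Groth.Agent.KS29.TRI

variable {X : Scheme.{u}}

/-- The germs of the pullback of sections over an open. -/
noncomputable def loc {X₀ : Scheme.{u}} (q : X ⟶ X₀) {U₀ : X₀.Opens} (rs : List Γ(X₀, U₀)) (x : X)
    (hx : q x ∈ U₀) : List (X.presheaf.stalk x) :=
  rs.map fun f => X.presheaf.germ (q ⁻¹ᵁ U₀) x hx (q.app U₀ f)

/-- Germs of pulled back sections restricted to a smaller open. -/
theorem map_germ_appLE {X₀ : Scheme.{u}} (q : X ⟶ X₀) {U₀ : X₀.Opens} (rs : List Γ(X₀, U₀)) {W : X.Opens}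
    (e : W ≤ q ⁻¹ᵁ U₀) (x : X) (hx : x ∈ W) :
    (rs.map (q.appLE U₀ W e).hom).map (X.presheaf.germ W x hx).hom = loc q rs x (e hx) := by
  rw [List.map_map]
  refine List.map_congr_left fun f _ => ?_
  show X.presheaf.germ W x hx (q.appLE U₀ W e f) = _
  rw [Scheme.Hom.appLE, CommRingCat.comp_apply]
  exact X.presheaf.germ_res_apply _ _ hx _

/-- Transversal regularity over a chart, as base change of rings. -/
theorem chart_iff {X₀ T S₀ : Scheme.{u}} {q : X ⟶ X₀} {g : X ⟶ T} {g₀ : X₀ ⟶ S₀} {t : T ⟶ S₀} [IsAffineHom t]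
    (H : IsPullback q g g₀ t) {V₀ : S₀.Opens} {U₀ : X₀.Opens} (hV₀ : IsAffineOpen V₀) (hU₀ : IsAffineOpen U₀)
    (eU : U₀ ≤ g₀ ⁻¹ᵁ V₀) (rs : List Γ(X₀, U₀))
    [Algebra Γ(S₀, V₀) Γ(X₀, U₀)] [Algebra Γ(S₀, V₀) Γ(T, t ⁻¹ᵁ V₀)]
    (h₁ : algebraMap Γ(S₀, V₀) Γ(T, t ⁻¹ᵁ V₀) = (t.app V₀).hom)
    (h₂ : algebraMap Γ(S₀, V₀) Γ(X₀, U₀) = (g₀.appLE V₀ U₀ eU).hom) :
    RegImm.IsTransRegularSeq Γ(T, t ⁻¹ᵁ V₀) (Γ(T, t ⁻¹ᵁ V₀) ⊗[Γ(S₀, V₀)] Γ(X₀, U₀))
        (rs.map (Algebra.TensorProduct.includeRight :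
          Γ(X₀, U₀) →ₐ[Γ(S₀, V₀)] Γ(T, t ⁻¹ᵁ V₀) ⊗[Γ(S₀, V₀)] Γ(X₀, U₀)).toRingHom) ↔
      ∀ (x : X) (hx : q x ∈ U₀), TRS.TRPt g x (loc q rs x hx) := by
  let VT : T.Opens := t ⁻¹ᵁ V₀
  have hVT : IsAffineOpen VT := hV₀.preimage t
  let W : X.Opens := q ⁻¹ᵁ U₀ ⊓ g ⁻¹ᵁ VT
  have hW : IsAffineOpen W := FlatH4.isAffineOpen_of_isPullback H le_rfl eU rfl hV₀ hVT hU₀
  have eWU : W ≤ q ⁻¹ᵁ U₀ := inf_le_left
  have eWV : W ≤ g ⁻¹ᵁ VT := inf_le_right
  letI : Algebra Γ(X₀, U₀) Γ(X, W) := (q.appLE U₀ W eWU).hom.toAlgebra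
  letI : Algebra Γ(T, VT) Γ(X, W) := (g.appLE VT W eWV).hom.toAlgebra
  letI : Algebra Γ(S₀, V₀) Γ(X, W) :=
    ((algebraMap Γ(T, VT) Γ(X, W)).comp (algebraMap Γ(S₀, V₀) Γ(T, VT))).toAlgebra
  haveI : IsScalarTower Γ(S₀, V₀) Γ(T, VT) Γ(X, W) := IsScalarTower.of_algebraMap_eq fun _ => rfl
  haveI : IsScalarTower Γ(S₀, V₀) Γ(X₀, U₀) Γ(X, W) := IsScalarTower.of_algebraMap_eq fun r => by
    show g.appLE VT W eWV (algebraMap Γ(S₀, V₀) Γ(T, VT) r) =
      q.appLE U₀ W eWU (algebraMap Γ(S₀, V₀) Γ(X₀, U₀) r)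
    rw [h₁, h₂, Scheme.Hom.app_eq_appLE, ← CommRingCat.comp_apply, ← CommRingCat.comp_apply,
      Scheme.Hom.appLE_comp_appLE, Scheme.Hom.appLE_comp_appLE]
    simp only [H.w]
  haveI : Algebra.IsPushout Γ(S₀, V₀) Γ(T, VT) Γ(X₀, U₀) Γ(X, W) :=
    FlatH4.algebra_isPushout_sections H le_rfl eU rfl hV₀ hVT hU₀ (by rw [h₁, Scheme.Hom.app_eq_appLE]) h₂ rfl rfl
  let eT := Algebra.IsPushout.equiv Γ(S₀, V₀) Γ(T, VT) Γ(X₀, U₀) Γ(X, W)
  let l := rs.map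
    (Algebra.TensorProduct.includeRight : Γ(X₀, U₀) →ₐ[Γ(S₀, V₀)] Γ(T, VT) ⊗[Γ(S₀, V₀)] Γ(X₀, U₀)).toRingHom
  have hl : l.map eT = rs.map (q.appLE U₀ W eWU).hom := by
    simp only [l, List.map_map]
    refine List.map_congr_left fun f _ => ?_
    show eT ((1 : Γ(T, VT)) ⊗ₜ _) = _
    rw [Algebra.IsPushout.equiv_tmul, map_one, one_mul]
    rfl
  have hiff : RegImm.IsTransRegularSeq Γ(T, VT) (Γ(T, VT) ⊗[Γ(S₀, V₀)] Γ(X₀, U₀)) l ↔
      RegImm.IsTransRegularSeq Γ(T, VT) Γ(X, W) (rs.map (q.appLE U₀ W eWU).hom) := by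
    rw [← hl]
    refine ⟨TRA.transReg_of_algEquiv eT l, fun h => ?_⟩
    have h2 := TRA.transReg_of_algEquiv eT.symm _ h
    rw [List.map_map] at h2
    convert h2 using 1
    exact (List.map_id _).symm.trans (List.map_congr_left fun x _ => (eT.symm_apply_apply x).symm)
  refine hiff.trans ((TRS.sections_iff_pt g hW hVT eWV _).trans ?_)
  constructor
  · intro h x hx
    have hxW : x ∈ W := ⟨hx, by
      show t (g x) ∈ V₀
      rw [← Scheme.Hom.comp_apply, ← H.w, Scheme.Hom.comp_apply]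
      exact eU hx⟩
    have h1 := h x hxW
    rwa [map_germ_appLE] at h1
  · intro h x hx
    rw [map_germ_appLE]
    exact h x (eWU hx)

/-- The transversally regular locus of an immersion is open. -/
theorem isOpen_at {S Z : Scheme.{u}} (f : X ⟶ S) (i : Z ⟶ X) :
    IsOpen {z : Z | RegImm.IsTransRegularImmersionAt f i z} := by
  refine isOpen_iff_forall_mem_open.2 ?_
  rintro z ⟨U, V, e, hzU, hrest⟩
  exact ⟨i ⁻¹' (U.1 : Set X), fun y hy => ⟨U, V, e, hy, hrest⟩, U.1.2.preimage i.continuous, hzU⟩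

/-- A chart of a transversally regular immersion after an affine base change. -/
theorem at_of_chart {X₀ S₀ Z₀ T Z : Scheme.{u}} {g₀ : X₀ ⟶ S₀} {i₀ : Z₀ ⟶ X₀} {t : T ⟶ S₀} [IsAffineHom t]
    {qX : X ⟶ X₀} {g : X ⟶ T} (hX : IsPullback qX g g₀ t) {qZ : Z ⟶ Z₀} {i : Z ⟶ X}
    (hZ : IsPullback qZ i i₀ qX) [IsImmersion i₀] [IsImmersion i] {V₀ : S₀.Opens} {U₀ : X₀.Opens}
    (hV₀ : IsAffineOpen V₀) (hU₀ : IsAffineOpen U₀) (eU : U₀ ≤ g₀ ⁻¹ᵁ V₀) [IsClosedImmersion (i₀ ∣_ U₀)]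
    (rs : List Γ(X₀, U₀)) (hker : RingHom.ker (i₀.app U₀).hom = Ideal.ofList rs)
    (h : ∀ (x : X) (hx : qX x ∈ U₀), TRS.TRPt g x (loc qX rs x hx)) (z : Z) (hz : qX (i z) ∈ U₀) :
    RegImm.IsTransRegularImmersionAt g i z := by
  haveI : IsAffineHom qX := MorphismProperty.of_isPullback (P := @IsAffineHom) hX.flip ‹_›
  have e : qX ⁻¹ᵁ U₀ ≤ g ⁻¹ᵁ (t ⁻¹ᵁ V₀) := fun x hx => by
    show t (g x) ∈ V₀
    rw [← Scheme.Hom.comp_apply, ← hX.w, Scheme.Hom.comp_apply]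
    exact eU hx
  refine ⟨⟨qX ⁻¹ᵁ U₀, hU₀.preimage qX⟩, ⟨t ⁻¹ᵁ V₀, hV₀.preimage t⟩, e, hz,
    CI2.isClosedImmersion_restrict_of_isPullback i₀ qX i qZ (U := U₀) hZ le_rfl,
    rs.map (qX.appLE U₀ (qX ⁻¹ᵁ U₀) le_rfl).hom, ?_, ?_⟩
  · refine (TRS.sections_iff_pt g (hU₀.preimage qX) (hV₀.preimage t) e _).2 fun x hx => ?_
    rw [map_germ_appLE]
    exact h x hx
  · rw [CI2.ker_app_of_isPullback i₀ qX i qZ hZ hU₀ (hU₀.preimage qX) le_rfl, hker, Ideal.map_ofList]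

/-- Transversal regularity at a point is stable under affine base change. -/
theorem at_baseChange {X₀ S₀ Z₀ T Z : Scheme.{u}} {g₀ : X₀ ⟶ S₀} {i₀ : Z₀ ⟶ X₀} {t : T ⟶ S₀} [IsAffineHom t]
    {qX : X ⟶ X₀} {g : X ⟶ T} (hX : IsPullback qX g g₀ t) {qZ : Z ⟶ Z₀} {i : Z ⟶ X}
    (hZ : IsPullback qZ i i₀ qX) [IsImmersion i₀] [IsImmersion i] (z : Z)
    (h : RegImm.IsTransRegularImmersionAt g₀ i₀ (qZ z)) : RegImm.IsTransRegularImmersionAt g i z := by
  obtain ⟨U, V, e, hzU, hcl, rs, htr, hker⟩ := h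
  haveI := hcl
  have hz : qX (i z) ∈ U.1 := by
    rw [← Scheme.Hom.comp_apply, ← hZ.w, Scheme.Hom.comp_apply]; exact hzU
  letI : Algebra Γ(S₀, V.1) Γ(X₀, U.1) := (g₀.appLE V.1 U.1 e).hom.toAlgebra
  letI : Algebra Γ(S₀, V.1) Γ(T, t ⁻¹ᵁ V.1) := (t.app V.1).hom.toAlgebra
  have h0 : RegImm.IsTransRegularSeq Γ(S₀, V.1) (Γ(S₀, V.1) ⊗[Γ(S₀, V.1)] Γ(X₀, U.1))
      (rs.map (Algebra.TensorProduct.includeRight :
        Γ(X₀, U.1) →ₐ[Γ(S₀, V.1)] Γ(S₀, V.1) ⊗[Γ(S₀, V.1)] Γ(X₀, U.1)).toRingHom) :=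
    TRA.transReg_of_algEquiv (Algebra.TensorProduct.lid Γ(S₀, V.1) Γ(X₀, U.1)).symm rs htr
  exact at_of_chart hX hZ V.2 U.2 e rs hker
    ((chart_iff hX V.2 U.2 e rs rfl rfl).1 (TRA.transReg_baseChange rs Γ(S₀, V.1) Γ(T, t ⁻¹ᵁ V.1) h0)) z hz

variable {J : Type u} [SmallCategory J] [IsCofiltered J]

set_option maxHeartbeats 1600000 in
/-- A point of transversal regularity on the limit has a neighbourhood of such points at a stage. -/
theorem exists_stage_at (E : J ⥤ Scheme.{u}) {S₀ X₀ Y₀ : Scheme.{u}} (t : E ⟶ (Functor.const J).obj S₀)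
    (g₀ : X₀ ⟶ S₀) [LocallyOfFinitePresentation g₀] (j₀ : Y₀ ⟶ X₀) [IsImmersion j₀]
    [LocallyOfFinitePresentation j₀] [∀ k, IsAffineHom (t.app k)] [∀ (k l : J) (f : k ⟶ l), IsAffineHom (E.map f)]
    (e : Cone E) (he : IsLimit e) {q₀ : e.pt ⟶ S₀} (hq : ∀ k, e.π.app k ≫ t.app k = q₀)
    {P : Scheme.{u}} {p : P ⟶ X₀} {gl : P ⟶ e.pt} (hP : IsPullback p gl g₀ q₀)
    {Y : Scheme.{u}} {qY : Y ⟶ Y₀} {i : Y ⟶ P} (hY : IsPullback qY i j₀ p) [IsImmersion i] (y : Y)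
    (hy : RegImm.IsTransRegularImmersionAt gl i y) :
    ∃ k : J, ∀ w : (pullback j₀ (pullback.fst g₀ (t.app k)) : Scheme.{u}),
      pullback.snd j₀ (pullback.fst g₀ (t.app k)) w = (Descend.pbCone E t g₀ e hq hP).π.app k (i y) →
        RegImm.IsTransRegularImmersionAt (pullback.snd g₀ (t.app k)) (pullback.snd j₀ (pullback.fst g₀ (t.app k))) w := by
  classical
  haveI : ∀ {k l : J} (f : k ⟶ l), IsAffineHom (E.map f) := fun f => ‹∀ (k l : J) (f : k ⟶ l), IsAffineHom (E.map f)› _ _ f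
  let XD := Descend.pbDiagram E t g₀
  let cX := Descend.pbCone E t g₀ e hq hP
  have hlimX : IsLimit cX := Descend.pbIsLimit E t g₀ e hq hP he
  haveI : ∀ {k l : J} (f : k ⟶ l), IsAffineHom (XD.map f) := fun f => inferInstance
  haveI : ∀ (k l : J) (f : k ⟶ l), IsAffineHom (XD.map f) := fun k l f => inferInstance
  obtain ⟨U, V, eUV, hyU, hclU, rs, htr, hker⟩ := hy
  haveI := hclU
  have hp : j₀ (qY y) = p (i y) := by rw [← Scheme.Hom.comp_apply, hY.w, Scheme.Hom.comp_apply]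
  obtain ⟨_, ⟨V₀, hV₀, rfl⟩, hxV₀, -⟩ :=
    S₀.isBasis_affineOpens.exists_subset_of_mem_open (Set.mem_univ (g₀ (j₀ (qY y)))) isOpen_univ
  obtain ⟨U₀, hU₀, hxU₀, hU₀V₀, hcl₀⟩ :=
    CI2.exists_affine_closed j₀ (qY y) (V := g₀ ⁻¹ᵁ V₀) hxV₀
  haveI := hcl₀
  rw [hp] at hxU₀
  obtain ⟨hW₀, hs₀⟩ := CI2.surjective_app_of_closed j₀ hU₀
  have hfp₀ := LocallyOfFinitePresentation.finitePresentation_appLE (f := j₀) hU₀ hW₀ le_rfl
  rw [← Scheme.Hom.app_eq_appLE] at hfp₀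
  obtain ⟨gs, hgs⟩ := LimH13.ker_fg_of_surjective _ hs₀ hfp₀
  -- an affine stage open inside `U` and over `U₀`
  obtain ⟨_, ⟨_, ⟨k, V₁, hV₁, rfl⟩, rfl⟩, hxV₁, hV₁U⟩ :=
    (isBasis_preimage_isAffineOpen XD cX hlimX).exists_subset_of_mem_open hyU U.1.2
  have hxk : cX.π.app k (i y) ∈ pullback.fst g₀ (t.app k) ⁻¹ᵁ U₀ ⊓ V₁ := ⟨by
    show pullback.fst g₀ (t.app k) (cX.π.app k (i y)) ∈ U₀
    have e1 : cX.π.app k ≫ pullback.fst g₀ (t.app k) = p := Descend.pbCone_fst E t g₀ e hq hP k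
    exact ((Scheme.Hom.comp_apply _ _ _).symm.trans (congrArg (fun m => m (i y)) e1)) ▸ hxU₀, hxV₁⟩
  obtain ⟨_, ⟨Uk, hUk, rfl⟩, hxUk, hUkle⟩ :=
    (XD.obj k).isBasis_affineOpens.exists_subset_of_mem_open hxk (pullback.fst g₀ (t.app k) ⁻¹ᵁ U₀ ⊓ V₁).2
  have hle₀ : cX.π.app k ⁻¹ᵁ Uk ≤ p ⁻¹ᵁ U₀ := fun x hx => by
    show p x ∈ U₀
    rw [← Descend.pbCone_fst E t g₀ e hq hP k]
    exact (hUkle hx).1
  have hleU : cX.π.app k ⁻¹ᵁ Uk ≤ U.1 := fun x hx => hV₁U (hUkle hx).2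
  haveI : IsAffineHom (cX.π.app k) := isAffineHom_π_app XD cX hlimX k
  have hWlim : IsAffineOpen (cX.π.app k ⁻¹ᵁ Uk) := hUk.preimage (cX.π.app k)
  let rs' : List Γ(cX.pt, cX.π.app k ⁻¹ᵁ Uk) :=
    rs.map ((𝟙 P : P ⟶ P).appLE U.1 (cX.π.app k ⁻¹ᵁ Uk) hleU).hom
  have hpt' : ∀ (x : P) (hx : x ∈ cX.π.app k ⁻¹ᵁ Uk),
      TRS.TRPt gl x (rs'.map (P.presheaf.germ (cX.π.app k ⁻¹ᵁ Uk) x hx).hom) := fun x hx => by
    have h1 := (TRS.sections_iff_pt gl U.2 V.2 eUV rs).1 htr x (hleU hx)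
    rw [map_germ_appLE (𝟙 P) rs hleU x hx]
    convert h1 using 2
    exact List.map_congr_left fun f _ => by
      simp
      rfl
  have hker' : RingHom.ker (i.app (cX.π.app k ⁻¹ᵁ Uk)).hom = Ideal.ofList rs' := by
    rw [RegLimit.ker_app_le i U.2 hWlim hleU, hker, Ideal.map_ofList]
    rfl
  have hker₀ : Ideal.ofList rs' =
      Ideal.ofList (gs.toList.map (p.appLE U₀ (cX.π.app k ⁻¹ᵁ Uk) hle₀).hom) := by
    rw [← hker', CI2.ker_app_of_isPullback j₀ p i qY hY hU₀ hWlim hle₀, ← hgs, ← Ideal.map_ofList]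
    congr 1
    simp [Ideal.ofList]
  -- lift to a stage
  obtain ⟨m, b, rs₁, hrs₁⟩ := RegLimit.exists_lift cX Uk hlimX hUk rs'
  have hle_m : ∀ {n : J} (b' : n ⟶ k), RegLimit.Vs Uk b' ≤ pullback.fst g₀ (t.app n) ⁻¹ᵁ U₀ := fun b' => by
    intro x hx
    show pullback.fst g₀ (t.app _) x ∈ U₀
    rw [← Descend.pbMap_fst E t g₀ b']
    exact (hUkle hx).1
  let G : ∀ {n : J} (b' : n ⟶ k), List Γ(XD.obj n, RegLimit.Vs Uk b') := fun {n} b' =>
    gs.toList.map ((pullback.fst g₀ (t.app n)).appLE U₀ (RegLimit.Vs Uk b') (hle_m b')).hom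
  have hGlim : ∀ {n : J} (b' : n ⟶ k), (G b').map (RegLimit.toLim cX Uk b') =
      gs.toList.map (p.appLE U₀ (cX.π.app k ⁻¹ᵁ Uk) hle₀).hom := fun {n} b' => by
    rw [List.map_map]
    refine List.map_congr_left fun r _ => ?_
    show ((pullback.fst g₀ (t.app n)).appLE _ _ _ ≫ (cX.π.app n).appLE _ _ _) r = _
    rw [Scheme.Hom.appLE_comp_appLE]
    simp only [show cX.π.app n ≫ pullback.fst g₀ (t.app n) = p from Descend.pbCone_fst E t g₀ e hq hP n]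
    rfl
  have hGtrans : ∀ {n n' : J} (f : n' ⟶ n) (b' : n ⟶ k) (b'' : n' ⟶ k) (h : f ≫ b' = b''),
      (G b').map (RegLimit.trans Uk f b' b'' h) = G b'' := fun {n n'} f b' b'' h => by
    rw [List.map_map]
    refine List.map_congr_left fun r _ => ?_
    show ((pullback.fst g₀ (t.app n)).appLE _ _ _ ≫ (XD.map f).appLE _ _ _) r = _
    rw [Scheme.Hom.appLE_comp_appLE]
    simp only [show XD.map f ≫ pullback.fst g₀ (t.app n) = pullback.fst g₀ (t.app n') from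
      Descend.pbMap_fst E t g₀ f]
    rfl
  obtain ⟨m₁, e₁, he₁⟩ := RegLimit.exists_mem_list cX Uk hlimX hUk b (G b) rs₁ (fun x hx => by
    rw [hGlim]
    refine hker₀.le (Ideal.subset_span ?_)
    rw [← hrs₁]
    exact List.mem_map_of_mem hx)
  obtain ⟨m₂, e₂, he₂⟩ := RegLimit.exists_mem_list cX Uk hlimX hUk b rs₁ (G b) (fun x hx => by
    rw [hrs₁, hker₀]
    exact Ideal.subset_span ((hGlim b) ▸ List.mem_map_of_mem hx))
  obtain ⟨n, g₁, g₂, hg⟩ := IsCofiltered.cospan e₁ e₂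
  let bn : n ⟶ k := (g₁ ≫ e₁) ≫ b
  let rsn : List Γ(XD.obj n, RegLimit.Vs Uk bn) := rs₁.map (RegLimit.trans Uk (g₁ ≫ e₁) b bn rfl)
  have hUn : IsAffineOpen (RegLimit.Vs Uk bn) := hUk.preimage (XD.map bn)
  have hrsn : rsn.map (RegLimit.toLim cX Uk bn) = rs' := by
    rw [List.map_map, ← hrs₁]
    exact List.map_congr_left fun r _ => RegLimit.toLim_trans cX Uk (g₁ ≫ e₁) b bn rfl r
  have hideal : Ideal.ofList rsn = Ideal.ofList (G bn) := by
    refine le_antisymm (Ideal.span_le.2 fun x hx => ?_) (Ideal.span_le.2 fun x hx => ?_)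
    · obtain ⟨x, hx1, rfl⟩ := List.mem_map.1 (show _ ∈ rsn from hx)
      have h2 := Ideal.mem_map_of_mem (RegLimit.trans Uk g₁ (e₁ ≫ b) bn (Category.assoc _ _ _).symm)
        (he₁ _ rfl x hx1)
      rw [Ideal.map_ofList, hGtrans, hGtrans, RegLimit.trans_trans] at h2
      exact h2
    · have hx' : x ∈ (G b).map (RegLimit.trans Uk (g₁ ≫ e₁) b bn rfl) := by rw [hGtrans]; exact hx
      obtain ⟨x, hx1, rfl⟩ := List.mem_map.1 hx'
      have hb : g₂ ≫ e₂ ≫ b = bn := by rw [← Category.assoc, ← hg]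
      have h2 := Ideal.mem_map_of_mem (RegLimit.trans Uk g₂ (e₂ ≫ b) bn hb) (he₂ _ rfl x hx1)
      rw [Ideal.map_ofList, List.map_map, RegLimit.trans_trans] at h2
      have hfun : ∀ r, RegLimit.trans Uk g₂ (e₂ ≫ b) bn hb (RegLimit.trans Uk e₂ b (e₂ ≫ b) rfl r) =
          RegLimit.trans Uk (g₁ ≫ e₁) b bn rfl r := fun r => by
        rw [RegLimit.trans_trans]; simp only [← hg]
      rw [show ((RegLimit.trans Uk g₂ (e₂ ≫ b) bn hb : _ → _) ∘ (RegLimit.trans Uk e₂ b (e₂ ≫ b) rfl : _ → _)) =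
        (RegLimit.trans Uk (g₁ ≫ e₁) b bn rfl : _ → _) from funext hfun] at h2
      simp only [← hg] at h2
      exact h2
  have hkern : RingHom.ker ((pullback.snd j₀ (pullback.fst g₀ (t.app n))).app (RegLimit.Vs Uk bn)).hom =
      Ideal.ofList rsn := by
    rw [hideal, CI2.ker_app_of_isPullback j₀ (pullback.fst g₀ (t.app n)) _ _
      (IsPullback.of_hasPullback j₀ (pullback.fst g₀ (t.app n))) hU₀ hUn (hle_m bn), ← hgs]
    exact (congrArg (Ideal.map _) (show Ideal.span ↑gs = Ideal.ofList gs.toList by simp [Ideal.ofList])).trans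
      (Ideal.map_ofList _ _)
  haveI : IsClosedImmersion (pullback.snd j₀ (pullback.fst g₀ (t.app n)) ∣_ RegLimit.Vs Uk bn) :=
    CI2.isClosedImmersion_restrict_of_isPullback j₀ (pullback.fst g₀ (t.app n)) _ _
      (IsPullback.of_hasPullback j₀ (pullback.fst g₀ (t.app n))) (hle_m bn)
  -- descend transversal regularity
  let Vn : (E.obj n).Opens := t.app n ⁻¹ᵁ V₀
  have hVn : IsAffineOpen Vn := hV₀.preimage (t.app n)
  have eUn : RegLimit.Vs Uk bn ≤ pullback.snd g₀ (t.app n) ⁻¹ᵁ Vn := fun x hx => by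
    show (pullback.snd g₀ (t.app n) ≫ t.app n) x ∈ V₀
    rw [← pullback.condition]
    exact hU₀V₀ (hle_m bn hx)
  haveI : LocallyOfFinitePresentation (pullback.snd g₀ (t.app n)) :=
    MorphismProperty.pullback_snd (P := @LocallyOfFinitePresentation) _ _ ‹_›
  haveI : IsAffineHom (e.π.app n) := isAffineHom_π_app E e he n
  letI : Algebra Γ(E.obj n, Vn) Γ(XD.obj n, RegLimit.Vs Uk bn) :=
    ((pullback.snd g₀ (t.app n)).appLE Vn (RegLimit.Vs Uk bn) eUn).hom.toAlgebra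
  haveI : Algebra.FinitePresentation Γ(E.obj n, Vn) Γ(XD.obj n, RegLimit.Vs Uk bn) :=
    LocallyOfFinitePresentation.finitePresentation_appLE (f := pullback.snd g₀ (t.app n)) hVn hUn eUn
  letI : Algebra Γ(E.obj n, Vn) Γ(e.pt, e.π.app n ⁻¹ᵁ Vn) := ((e.π.app n).app Vn).hom.toAlgebra
  have h1 := (chart_iff (T := e.pt) (t := e.π.app n) (Descend.pbCone_isPullback E t g₀ e hq hP n) hVn hUn eUn rsn
    rfl rfl).2 fun x hx => by
      have hx' : x ∈ cX.π.app k ⁻¹ᵁ Uk := RegLimit.le_top' cX Uk bn hx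
      have h0 := hpt' x hx'
      rw [← hrsn] at h0
      exact (congrArg (TRS.TRPt gl x)
        (map_germ_appLE (X := P) (cX.π.app n) rsn (RegLimit.top_le cX Uk bn) x hx')).mp h0
  obtain ⟨N, a, rel, hrel, H⟩ := TRA.exists_rel _ _ h1
  let E' : Over n ⥤ Scheme.{u} := Over.forget n ⋙ E
  let e' := e.whisker (Over.forget n)
  have he' : IsLimit e' := (Functor.Initial.isLimitWhiskerEquiv (Over.forget n) e).symm he
  haveI : ∀ {u v : Over n} (f : u ⟶ v), IsAffineHom (E'.map f) := fun {u v} f =>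
    inferInstanceAs (IsAffineHom (E.map f.left))
  haveI : ∀ u : Over n, IsAffineHom ((fun u : Over n => E.map u.hom) u) := fun u => inferInstance
  obtain ⟨l, -, a', -, ha'⟩ := SchDom.exists_stage_solution E' e' he' (fun u : Over n => E.map u.hom)
    (fun {u v} f => by
      show E.map f.left ≫ E.map v.hom = E.map u.hom
      rw [← E.map_comp, Over.w f]) (e.π.app n) (fun u => e.w u.hom) hVn a rel
    (fun p hp => by
      have := hrel p hp
      rwa [MvPolynomial.aeval_def] at this)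
  letI : Algebra Γ(E.obj n, Vn) Γ(E.obj l.left, E.map l.hom ⁻¹ᵁ Vn) := ((E.map l.hom).app Vn).hom.toAlgebra
  have h2 := H Γ(E.obj l.left, E.map l.hom ⁻¹ᵁ Vn) a' fun p hp => by
    rw [MvPolynomial.aeval_def]; exact ha' p hp
  have h3 := (chart_iff (t := E.map l.hom) (Descend.pbMap_isPullback E t g₀ l.hom) hVn hUn eUn rsn rfl rfl).1 h2
  refine ⟨l.left, fun w hw => ?_⟩
  haveI : IsImmersion (pullback.snd j₀ (pullback.fst g₀ (t.app n))) :=
    MorphismProperty.pullback_snd (P := @IsImmersion) _ _ ‹_›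
  haveI : IsImmersion (pullback.snd j₀ (pullback.fst g₀ (t.app l.left))) :=
    MorphismProperty.pullback_snd (P := @IsImmersion) _ _ ‹_›
  refine at_of_chart (i₀ := pullback.snd j₀ (pullback.fst g₀ (t.app n)))
    (Descend.pbMap_isPullback E t g₀ l.hom)
    (Descend.pbMap_isPullback XD (Descend.pbFst E t g₀) j₀ l.hom) hVn hUn eUn rsn hkern h3 w ?_
  show XD.map l.hom (pullback.snd j₀ (pullback.fst g₀ (t.app l.left)) w) ∈ RegLimit.Vs Uk bn
  rw [hw]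
  show XD.map l.hom (cX.π.app l.left (i y)) ∈ _
  rw [LimH13.map_π_apply l.hom]
  show XD.map bn (cX.π.app n (i y)) ∈ Uk
  rw [LimH13.map_π_apply bn]
  exact hxUk

/-- Transversally regular immersions on a limit come from a stage. -/
theorem limit_iff {I : Type u} [SmallCategory I] [IsCofiltered I] (D : I ⥤ Scheme.{u}) (c : Cone D)
    (hc : IsLimit c) [∀ (i j : I) (f : i ⟶ j), IsAffineHom (D.map f)]
    (i₀ : I) {X₀ Y₀ : Scheme.{u}} (g₀ : X₀ ⟶ D.obj i₀)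
    [LocallyOfFinitePresentation g₀] (j₀ : Y₀ ⟶ X₀) [CompactSpace Y₀] [IsImmersion j₀]
    [LocallyOfFinitePresentation j₀] :
    RegImm.IsTransRegularImmersion (pullback.snd g₀ (c.π.app i₀))
        (pullback.snd j₀ (pullback.fst g₀ (c.π.app i₀))) ↔
      ∃ (j : I) (φ : j ⟶ i₀), RegImm.IsTransRegularImmersion (pullback.snd g₀ (D.map φ))
        (pullback.snd j₀ (pullback.fst g₀ (D.map φ))) := by
  classical
  haveI hA : ∀ {i j} (f : i ⟶ j), IsAffineHom (D.map f) :=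
    fun f => ‹∀ (i j : I) (f : i ⟶ j), IsAffineHom (D.map f)› _ _ f
  haveI : IsAffineHom (c.π.app i₀) := isAffineHom_π_app D c hc i₀
  let T := Descend.overT D i₀
  let c' := c.whisker (Over.forget i₀)
  have hc' : IsLimit c' := (Functor.Initial.isLimitWhiskerEquiv (Over.forget i₀) c).symm hc
  have hq : ∀ k, c'.π.app k ≫ T.app k = c.π.app i₀ := fun k => c.w k.hom
  haveI : ∀ (k l : Over i₀) (f : k ⟶ l), IsAffineHom ((Over.forget i₀ ⋙ D).map f) := fun k l f => hA f.left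
  have hP := IsPullback.of_hasPullback g₀ (c.π.app i₀)
  let XD := Descend.pbDiagram (Over.forget i₀ ⋙ D) T g₀
  let cX := Descend.pbCone _ T g₀ c' hq hP
  have hlimX : IsLimit cX := Descend.pbIsLimit _ T g₀ c' hq hP hc'
  have hY := IsPullback.of_hasPullback j₀ (pullback.fst g₀ (c.π.app i₀))
  let tX := Descend.pbFst (Over.forget i₀ ⋙ D) T g₀
  have hqX : ∀ k, cX.π.app k ≫ tX.app k = pullback.fst g₀ (c.π.app i₀) :=
    fun k => Descend.pbCone_fst _ T g₀ c' hq hP k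
  let cY := Descend.pbCone XD tX j₀ cX hqX hY
  have hlimY : IsLimit cY := Descend.pbIsLimit XD tX j₀ cX hqX hY hlimX
  haveI : IsImmersion (pullback.snd j₀ (pullback.fst g₀ (c.π.app i₀))) :=
    MorphismProperty.pullback_snd (P := @IsImmersion) _ _ ‹_›
  haveI : ∀ {j : I} (φ : j ⟶ i₀), IsImmersion (pullback.snd j₀ (pullback.fst g₀ (D.map φ))) := fun φ =>
    MorphismProperty.pullback_snd (P := @IsImmersion) _ _ ‹_›
  haveI himm : ∀ k : Over i₀, IsImmersion (pullback.snd j₀ (tX.app k)) := fun k =>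
    MorphismProperty.pullback_snd (P := @IsImmersion) _ _ ‹_›
  constructor
  · intro h
    haveI : ∀ {k l : Over i₀} (f : k ⟶ l), IsAffineHom ((Descend.pbDiagram XD tX j₀).map f) := fun f => inferInstance
    haveI : ∀ k : Over i₀, CompactSpace ((Descend.pbDiagram XD tX j₀).obj k) := fun k => inferInstance
    let R : ∀ k : Over i₀, ((Descend.pbDiagram XD tX j₀).obj k).Opens := fun k =>
      ⟨_, isOpen_at (pullback.snd g₀ (T.app k)) (pullback.snd j₀ (tX.app k))⟩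
    have hpoint : ∀ z : cY.pt, ∃ k : Over i₀, cY.π.app k z ∈ R k := fun z => by
      obtain ⟨k, hk⟩ := exists_stage_at (Over.forget i₀ ⋙ D) T g₀ j₀ c' hc' hq hP hY z (h.2 z)
      refine ⟨k, hk (cY.π.app k z) ?_⟩
      have e1 := Descend.pbCone_snd XD tX j₀ cX hqX hY k
      exact (Scheme.Hom.comp_apply _ _ _).symm.trans
        ((congrArg (fun m => m z) e1).trans (Scheme.Hom.comp_apply _ _ _))
    have hmono : ∀ {k l : Over i₀} (f : k ⟶ l), (Descend.pbDiagram XD tX j₀).map f ⁻¹ᵁ R l ≤ R k := by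
      intro k l f w hw
      exact at_baseChange (i₀ := pullback.snd j₀ (tX.app l)) (Descend.pbMap_isPullback _ T g₀ f)
        (Descend.pbMap_isPullback XD tX j₀ f) w hw
    haveI : CompactSpace cY.pt := Scheme.compactSpace_of_isLimit _ cY hlimY
    choose kz hkz using hpoint
    obtain ⟨s, hs⟩ := (isCompact_univ (X := cY.pt)).elim_finite_subcover
      (fun z => ((cY.π.app (kz z) ⁻¹ᵁ R (kz z) : cY.pt.Opens) : Set cY.pt))
      (fun z => (cY.π.app (kz z) ⁻¹ᵁ R (kz z)).2)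
      (fun z _ => Set.mem_iUnion.2 ⟨z, hkz z⟩)
    obtain ⟨K, hK⟩ := IsCofiltered.inf_objs_exists (s.image kz)
    have htop : cY.π.app K ⁻¹ᵁ R K = ⊤ := by
      refine top_le_iff.1 fun z' _ => ?_
      obtain ⟨z, hzs, hz'⟩ := Set.mem_iUnion₂.1 (hs (Set.mem_univ z'))
      obtain ⟨f⟩ := hK (Finset.mem_image_of_mem kz hzs)
      refine hmono f ?_
      show (Descend.pbDiagram XD tX j₀).map f (cY.π.app K z') ∈ R (kz z)
      rw [LimH13.map_π_apply f z']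
      exact hz'
    obtain ⟨K', f, hf⟩ := exists_map_eq_top _ cY hlimY (R K) htop
    refine ⟨K'.left, K'.hom, inferInstance, fun w => hmono f ?_⟩
    rw [hf]
    trivial
  · rintro ⟨j, φ, hj⟩
    haveI : IsAffineHom (c'.π.app (Over.mk φ)) := isAffineHom_π_app D c hc j
    haveI := himm (Over.mk φ)
    refine ⟨inferInstance, fun z => at_baseChange (i₀ := pullback.snd j₀ (tX.app (Over.mk φ)))
      (t := c'.π.app (Over.mk φ)) (Descend.pbCone_isPullback _ T g₀ c' hq hP (Over.mk φ))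
      (Descend.pbCone_isPullback XD tX j₀ cX hqX hY (Over.mk φ)) z (hj.2 _)⟩

end Groth.Agent.KS29.TRI
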