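import Groth.Agent.Lib.KS29.TransRegAlg
import Mathlib.RingTheory.Extension.Presentation.Core
import Mathlib.RingTheory.FinitePresentation
import Mathlib.RingTheory.Flat.Localization
import Mathlib.RingTheory.Localization.Ideal

/-!
# Transversally regular sequences over finitely many equations
-/

universe u

set_option autoImplicit false
set_option linter.style.haveILetI false
set_option maxHeartbeats 400000

open TensorProduct RingTheory.Sequence

namespace Groth.Agent.KS29.TRA

/-- Transport of transversally regular sequences along an isomorphism of algebras. -/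
theorem transReg_of_algEquiv {A T T' : Type u} [CommRing A] [CommRing T] [CommRing T'] [Algebra A T]
    [Algebra A T'] (e : T ≃ₐ[A] T') (rs : List T) (h : RegImm.IsTransRegularSeq A T rs) :
    RegImm.IsTransRegularSeq A T' (rs.map e) := by
  have hI : ∀ j, Ideal.ofList ((rs.map e).take j) = (Ideal.ofList (rs.take j)).map e.toRingEquiv.toRingHom :=
    fun j => by rw [← List.map_take, Ideal.map_ofList]; rfl
  refine ⟨?_, fun j hj => ?_⟩
  · rw [WR.wr_iff]
    intro i hi b hb
    have hi' : i < rs.length := by simpa using hi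
    obtain ⟨b, rfl⟩ := e.surjective b
    rw [hI, List.getElem_map, ← map_mul] at hb
    rw [hI]
    have hmem : ∀ (I : Ideal T) (x : T), e x ∈ I.map e.toRingEquiv.toRingHom ↔ x ∈ I := fun I x =>
      Ideal.apply_mem_of_equiv_iff (f := e.toRingEquiv) (I := I) (x := x)
    rw [hmem] at hb ⊢
    exact (WR.wr_iff rs).1 h.1 i hi' b hb
  · haveI := h.2 j (by simpa using hj)
    rw [hI]
    exact Module.Flat.of_linearEquiv
      (Ideal.quotientEquivAlg (R₁ := A) (Ideal.ofList (rs.take j))
        ((Ideal.ofList (rs.take j)).map e.toRingEquiv.toRingHom) e rfl).toLinearEquiv.symm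

/-- A model over a Noetherian ring of a finitely presented algebra with finitely many elements. -/
theorem exists_model {A₀ B₀ : Type u} [CommRing A₀] [CommRing B₀] [Algebra A₀ B₀]
    [Algebra.FinitePresentation A₀ B₀] (fs : List B₀) :
    ∃ (R B : Type u) (_ : CommRing R) (_ : CommRing B) (_ : Algebra R A₀) (_ : Algebra R B)
      (e : A₀ ⊗[R] B ≃ₐ[A₀] B₀) (gs : List B), IsNoetherianRing R ∧ Algebra.FiniteType R B ∧
      gs.map (fun g => e ((1 : A₀) ⊗ₜ[R] g)) = fs := by
  classical
  obtain ⟨R₀, M, _, _, _, _, hR₀, hM, ⟨e₀⟩⟩ := FlatH4.exists_approx A₀ B₀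
  haveI : IsNoetherianRing R₀ := Algebra.FiniteType.isNoetherianRing ℤ R₀
  choose C hC hu using fun f : B₀ => TensorProduct.Algebra.exists_of_fg (R := R₀) (N := M) (e₀.symm f)
  obtain ⟨D, hD, hle⟩ := exists_fg_ge (fun l : Fin fs.length => C (fs.get l)) fun l => hC _
  haveI : IsNoetherianRing D := isNoetherianRing_of_fg hD
  haveI : Algebra.FiniteType R₀ M := inferInstance
  let e₁ : A₀ ⊗[D] (D ⊗[R₀] M) ≃ₐ[A₀] B₀ :=
    (Algebra.TensorProduct.cancelBaseChange R₀ D A₀ A₀ M).trans e₀
  have hlift : ∀ l : Fin fs.length, ∃ g : D ⊗[R₀] M, e₁ ((1 : A₀) ⊗ₜ[D] g) = fs.get l := by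
    intro l
    obtain ⟨w, hw⟩ := hu (fs.get l)
    refine ⟨(Subalgebra.inclusion (hle l)).toLinearMap.rTensor M w, ?_⟩
    have key : ∀ x : C (fs.get l) ⊗[R₀] M,
        (Algebra.TensorProduct.cancelBaseChange R₀ D A₀ A₀ M)
          ((1 : A₀) ⊗ₜ[D] ((Subalgebra.inclusion (hle l)).toLinearMap.rTensor M x)) =
            (C (fs.get l)).val.toLinearMap.rTensor M x := by
      intro x
      induction x using TensorProduct.induction_on with
      | zero => simp
      | add a b ha hb => simp only [map_add, TensorProduct.tmul_add, ha, hb]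
      | tmul c m => simp [Algebra.smul_def]
    exact (congrArg e₀ ((key w).trans hw)).trans (e₀.apply_symm_apply _)
  choose g hg using hlift
  refine ⟨D, D ⊗[R₀] M, inferInstance, inferInstance, inferInstance, inferInstance, e₁, List.ofFn g,
    inferInstance, inferInstance, ?_⟩
  rw [List.map_ofFn, show ((fun x => e₁ ((1 : A₀) ⊗ₜ[D] x)) ∘ g) = fs.get from funext hg]
  exact List.ofFn_get fs

/-- Transversal regularity over an algebra is forced by finitely many equations. -/
theorem exists_rel {A₀ B₀ : Type u} [CommRing A₀] [CommRing B₀] [Algebra A₀ B₀]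
    [Algebra.FinitePresentation A₀ B₀] (fs : List B₀) (A : Type u) [CommRing A] [Algebra A₀ A]
    (h : RegImm.IsTransRegularSeq A (A ⊗[A₀] B₀)
      (fs.map (Algebra.TensorProduct.includeRight : B₀ →ₐ[A₀] A ⊗[A₀] B₀).toRingHom)) :
    ∃ (k : ℕ) (a : Fin k → A) (rel : Finset (MvPolynomial (Fin k) A₀)),
      (∀ p ∈ rel, MvPolynomial.aeval a p = 0) ∧
      ∀ (A' : Type u) [CommRing A'] [Algebra A₀ A'] (a' : Fin k → A'),
        (∀ p ∈ rel, MvPolynomial.aeval a' p = 0) →
        RegImm.IsTransRegularSeq A' (A' ⊗[A₀] B₀)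
          (fs.map (Algebra.TensorProduct.includeRight : B₀ →ₐ[A₀] A' ⊗[A₀] B₀).toRingHom) := by
  classical
  obtain ⟨R, B, _, _, _, _, e, gs, hR, hB, hgs⟩ := exists_model (A₀ := A₀) fs
  have hiff : ∀ (A' : Type u) [CommRing A'] [Algebra A₀ A'] [Algebra R A'] [IsScalarTower R A₀ A'],
      RegImm.IsTransRegularSeq A' (A' ⊗[A₀] B₀)
        (fs.map (Algebra.TensorProduct.includeRight : B₀ →ₐ[A₀] A' ⊗[A₀] B₀).toRingHom) ↔ TR R gs A' := by
    intro A' _ _ _ _
    let Φ : A' ⊗[R] B ≃ₐ[A'] A' ⊗[A₀] B₀ :=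
      (Algebra.TensorProduct.cancelBaseChange R A₀ A' A' B).symm.trans
        (Algebra.TensorProduct.congr AlgEquiv.refl e)
    have hΦ : ∀ g, Φ ((1 : A') ⊗ₜ[R] g) = (1 : A') ⊗ₜ[A₀] e ((1 : A₀) ⊗ₜ[R] g) := fun g => by
      simp [Φ]
    have hl : fs.map (Algebra.TensorProduct.includeRight : B₀ →ₐ[A₀] A' ⊗[A₀] B₀).toRingHom =
        (gs.map (Algebra.TensorProduct.includeRight : B →ₐ[R] A' ⊗[R] B).toRingHom).map Φ := by
      rw [← hgs, List.map_map, List.map_map]
      exact List.map_congr_left fun g _ => (hΦ g).symm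
    rw [← tr_iff, hl]
    constructor
    · intro h'
      have h2 := transReg_of_algEquiv Φ.symm _ h'
      rw [List.map_map] at h2
      convert h2 using 1
      exact (List.map_id _).symm.trans (List.map_congr_left fun x _ => (Φ.symm_apply_apply x).symm)
    · exact transReg_of_algEquiv Φ _
  letI : Algebra R A := ((algebraMap A₀ A).comp (algebraMap R A₀)).toAlgebra
  haveI : IsScalarTower R A₀ A := IsScalarTower.of_algebraMap_eq fun _ => rfl
  obtain ⟨C, hC, hCtr⟩ := exists_fg_tr gs ((hiff A).1 h)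
  haveI : Algebra.FiniteType R C := C.fg_iff_finiteType.1 hC
  haveI : Algebra.FinitePresentation R C := Algebra.FinitePresentation.of_finiteType.1 inferInstance
  obtain ⟨k, φ, hφ, rel, hrel⟩ := Algebra.FinitePresentation.out (R := R) (A := C)
  refine ⟨k, fun y => (φ (MvPolynomial.X y) : A), rel.image (MvPolynomial.map (algebraMap R A₀)), ?_, ?_⟩
  · intro p hp
    obtain ⟨q, hq, rfl⟩ := Finset.mem_image.1 hp
    rw [MvPolynomial.aeval_map_algebraMap]
    have h0 : φ q = 0 := hrel.le (Ideal.subset_span hq)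
    have e1 : MvPolynomial.aeval (R := R) (fun y => (φ (MvPolynomial.X y) : A)) q = (φ q : A) := by
      have : MvPolynomial.aeval (R := R) (fun y => (φ (MvPolynomial.X y) : A)) = C.val.comp φ :=
        MvPolynomial.algHom_ext fun y => by simp
      rw [this]; rfl
    rw [e1, h0]; rfl
  · intro A' _ _ a' ha'
    letI : Algebra R A' := ((algebraMap A₀ A').comp (algebraMap R A₀)).toAlgebra
    haveI : IsScalarTower R A₀ A' := IsScalarTower.of_algebraMap_eq fun _ => rfl
    let ψ : MvPolynomial (Fin k) R →ₐ[R] A' := MvPolynomial.aeval a'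
    have hker : RingHom.ker φ.toRingHom ≤ RingHom.ker ψ.toRingHom := by
      rw [show RingHom.ker φ.toRingHom = Ideal.span (rel : Set _) from hrel.symm, Ideal.span_le]
      intro q hq
      show MvPolynomial.aeval (R := R) a' q = 0
      rw [← MvPolynomial.aeval_map_algebraMap A₀]
      exact ha' _ (Finset.mem_image_of_mem _ hq)
    let χ : C →+* A' := RingHom.liftOfSurjective φ.toRingHom hφ ⟨ψ.toRingHom, hker⟩
    letI : Algebra C A' := χ.toAlgebra
    haveI : IsScalarTower R C A' := IsScalarTower.of_algebraMap_eq fun r => by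
      show _ = χ (algebraMap R C r)
      rw [← φ.commutes r]
      exact ((RingHom.liftOfRightInverse_comp_apply _ _ _ _ _).trans (ψ.commutes r)).symm
    exact (hiff A').2 hCtr.baseChange

/-- A localization of a quotient. -/
theorem isLocalizedModule_quot {B T : Type u} [CommRing B] [CommRing T] [Algebra B T] (p : Submonoid B)
    [IsLocalization p T] (I : Ideal B) :
    IsLocalizedModule p (IsScalarTower.toAlgHom B (B ⧸ I) (T ⧸ I.map (algebraMap B T))).toLinearMap :=
  isLocalizedModule_iff_isLocalization.2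
    (inferInstanceAs (IsLocalization (Algebra.algebraMapSubmonoid (B ⧸ I) p) (T ⧸ I.map (algebraMap B T))))

/-- Flatness of a quotient is local on the source. -/
theorem flat_quot_of_local {A B : Type u} [CommRing A] [CommRing B] [Algebra A B] (I : Ideal B)
    (T : ∀ (P : Ideal B) [P.IsMaximal], Type u) [∀ (P : Ideal B) [P.IsMaximal], CommRing (T P)]
    [∀ (P : Ideal B) [P.IsMaximal], Algebra B (T P)] [∀ (P : Ideal B) [P.IsMaximal], Algebra A (T P)]
    [∀ (P : Ideal B) [P.IsMaximal], IsScalarTower A B (T P)]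
    [∀ (P : Ideal B) [P.IsMaximal], IsLocalization.AtPrime (T P) P]
    (H : ∀ (P : Ideal B) [P.IsMaximal], Module.Flat A (T P ⧸ I.map (algebraMap B (T P)))) :
    Module.Flat A (B ⧸ I) := by
  haveI : ∀ (P : Ideal B) [P.IsMaximal], IsLocalizedModule P.primeCompl
      (IsScalarTower.toAlgHom B (B ⧸ I) (T P ⧸ I.map (algebraMap B (T P)))).toLinearMap :=
    fun P _ => isLocalizedModule_quot P.primeCompl I
  exact Module.flat_of_isLocalized_maximal (R := A) (S := B) (M := B ⧸ I)
    (fun P _ => T P ⧸ I.map (algebraMap B (T P)))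
    (fun P _ => (IsScalarTower.toAlgHom B (B ⧸ I) (T P ⧸ I.map (algebraMap B (T P)))).toLinearMap) H

/-- Flatness of a quotient, read on prescribed local rings. -/
theorem flat_quot_of_maps {A B : Type u} [CommRing A] [CommRing B] [Algebra A B] (I : Ideal B)
    (T : PrimeSpectrum B → Type u) [∀ P, CommRing (T P)] (ρ : ∀ P, B →+* T P)
    (hT : ∀ P : PrimeSpectrum B, @IsLocalization.AtPrime _ _ (T P) _ (ρ P).toAlgebra P.asIdeal P.isPrime)
    (H : ∀ P : PrimeSpectrum B, letI := ((ρ P).comp (algebraMap A B)).toAlgebra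
      Module.Flat A (T P ⧸ I.map (ρ P))) :
    Module.Flat A (B ⧸ I) := by
  refine flat_quot_of_local I (fun P _ => Localization.AtPrime P) fun P hP => ?_
  have h0 := H ⟨P, inferInstance⟩
  have h1 := hT ⟨P, inferInstance⟩
  revert h0 h1
  generalize ρ ⟨P, inferInstance⟩ = σ
  intro h0 h1
  letI := σ.toAlgebra
  letI := (σ.comp (algebraMap A B)).toAlgebra
  haveI : IsScalarTower A B (T ⟨P, inferInstance⟩) := IsScalarTower.of_algebraMap_eq fun _ => rfl
  haveI : IsLocalization P.primeCompl (T ⟨P, inferInstance⟩) := h1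
  let e : Localization.AtPrime P ≃ₐ[A] T ⟨P, inferInstance⟩ :=
    (IsLocalization.algEquiv P.primeCompl (Localization.AtPrime P) (T ⟨P, inferInstance⟩)).restrictScalars A
  have he : I.map σ = (I.map (algebraMap B (Localization.AtPrime P))).map e.toRingEquiv.toRingHom := by
    rw [Ideal.map_map]
    congr 1
    exact RingHom.ext fun x =>
      ((IsLocalization.algEquiv P.primeCompl (Localization.AtPrime P) (T ⟨P, inferInstance⟩)).commutes x).symm
  exact Module.Flat.of_linearEquiv (Ideal.quotientEquivAlg (R₁ := A) _ (I.map σ) e he).toLinearEquiv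

/-- A flat quotient stays flat after localization. -/
theorem flat_quot_map {A B T : Type u} [CommRing A] [CommRing B] [Algebra A B] [CommRing T] [Algebra B T]
    [Algebra A T] [IsScalarTower A B T] (M : Submonoid B) [IsLocalization M T] (I : Ideal B)
    (h : Module.Flat A (B ⧸ I)) : Module.Flat A (T ⧸ I.map (algebraMap B T)) := by
  haveI : Module.Flat (B ⧸ I) (T ⧸ I.map (algebraMap B T)) :=
    IsLocalization.flat _ (Algebra.algebraMapSubmonoid (B ⧸ I) M)
  haveI : IsScalarTower A (B ⧸ I) (T ⧸ I.map (algebraMap B T)) := IsScalarTower.of_algebraMap_eq fun a => by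
    rw [← Ideal.Quotient.mk_algebraMap, ← Ideal.Quotient.mk_algebraMap, IsScalarTower.algebraMap_apply A B T]
    rfl
  exact Module.Flat.trans A (B ⧸ I) _

/-- Transversal regularity is stable under base change of the base. -/
theorem transReg_baseChange {A₀ B₀ : Type u} [CommRing A₀] [CommRing B₀] [Algebra A₀ B₀] (fs : List B₀)
    (A A' : Type u) [CommRing A] [Algebra A₀ A] [CommRing A'] [Algebra A₀ A'] [Algebra A A'] [IsScalarTower A₀ A A']
    (h : RegImm.IsTransRegularSeq A (A ⊗[A₀] B₀)
      (fs.map (Algebra.TensorProduct.includeRight : B₀ →ₐ[A₀] A ⊗[A₀] B₀).toRingHom)) :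
    RegImm.IsTransRegularSeq A' (A' ⊗[A₀] B₀)
      (fs.map (Algebra.TensorProduct.includeRight : B₀ →ₐ[A₀] A' ⊗[A₀] B₀).toRingHom) := by
  rw [tr_iff] at h ⊢
  exact h.baseChange

end Groth.Agent.KS29.TRA
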