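import Groth.Agent.Lib.KS29.TransRegModel
import Groth.Agent.Lib.FlatH4.PullFlat
import Groth.Agent.Lib.SchDom.GoodAtLimit
import Groth.Agent.Lib.LimH13.Stalk

/-!
# Transversally regular sequences of sections under limits
-/

universe u

set_option autoImplicit false
set_option backward.isDefEq.respectTransparency false
set_option backward.isDefEq.respectTransparency.types false
set_option linter.style.haveILetI false
set_option maxHeartbeats 800000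

open CategoryTheory CategoryTheory.Limits AlgebraicGeometry TopologicalSpace TensorProduct
open RingTheory.Sequence

namespace Groth.Agent.KS29.TRS

variable {X S : Scheme.{u}}

/-- Transversal regularity at a point of a sequence of germs. -/
def TRPt (g : X ⟶ S) (x : X) (rs : List (X.presheaf.stalk x)) : Prop :=
  @RegImm.IsTransRegularSeq (S.presheaf.stalk (g x)) (X.presheaf.stalk x) _ _ (g.stalkMap x).hom.toAlgebra rs

/-- Flatness over the sections and over the local ring of the base. -/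
theorem flat_quot_stalk_iff (g : X ⟶ S) {U : X.Opens} {V : S.Opens} (hV : IsAffineOpen V)
    (e : U ≤ g ⁻¹ᵁ V) (x : X) (hx : x ∈ U) (J : Ideal (X.presheaf.stalk x)) :
    (letI := ((X.presheaf.germ U x hx).hom.comp (g.appLE V U e).hom).toAlgebra
     Module.Flat Γ(S, V) (X.presheaf.stalk x ⧸ J)) ↔
    (letI := (g.stalkMap x).hom.toAlgebra
     Module.Flat (S.presheaf.stalk (g x)) (X.presheaf.stalk x ⧸ J)) := by
  letI := ((X.presheaf.germ U x hx).hom.comp (g.appLE V U e).hom).toAlgebra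
  letI := (g.stalkMap x).hom.toAlgebra
  letI := TopCat.Presheaf.algebra_section_stalk S.presheaf (⟨g x, e hx⟩ : V)
  haveI := hV.isLocalization_stalk ⟨g x, e hx⟩
  haveI : IsScalarTower Γ(S, V) (S.presheaf.stalk (g x)) (X.presheaf.stalk x) :=
    IsScalarTower.of_algebraMap_eq fun a => by
      show X.presheaf.germ U x hx (g.appLE V U e a) = g.stalkMap x (S.presheaf.germ V (g x) (e hx) a)
      rw [Scheme.Hom.germ_stalkMap_apply, Scheme.Hom.appLE, CommRingCat.comp_apply]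
      exact X.presheaf.germ_res_apply _ _ hx _
  exact (Module.flat_iff_of_isLocalization (S.presheaf.stalk (g x))
    (hV.primeIdealOf ⟨g x, e hx⟩).asIdeal.primeCompl _).symm

/-- On affine opens transversal regularity is read on the stalks. -/
theorem sections_iff_pt (g : X ⟶ S) {U : X.Opens} {V : S.Opens} (hU : IsAffineOpen U) (hV : IsAffineOpen V)
    (e : U ≤ g ⁻¹ᵁ V) (rs : List Γ(X, U)) :
    @RegImm.IsTransRegularSeq Γ(S, V) Γ(X, U) _ _ (g.appLE V U e).hom.toAlgebra rs ↔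
      ∀ (x : X) (hx : x ∈ U), TRPt g x (rs.map (X.presheaf.germ U x hx).hom) := by
  letI := (g.appLE V U e).hom.toAlgebra
  have hI : ∀ (x : X) (hx : x ∈ U) (j : ℕ), Ideal.ofList ((rs.map (X.presheaf.germ U x hx).hom).take j) =
      (Ideal.ofList (rs.take j)).map (X.presheaf.germ U x hx).hom := fun x hx j => by
    rw [← List.map_take, Ideal.map_ofList]
  show (IsWeaklyRegular Γ(X, U) rs ∧ ∀ j : ℕ, j ≤ rs.length → Module.Flat Γ(S, V) _) ↔ _
  constructor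
  · intro h x hx
    refine ⟨(WR.wr_sections_iff hU rs).1 h.1 x hx, fun j hj => ?_⟩
    rw [hI]
    refine (flat_quot_stalk_iff g hV e x hx _).1 ?_
    letI := TopCat.Presheaf.algebra_section_stalk X.presheaf (⟨x, hx⟩ : U)
    letI := ((X.presheaf.germ U x hx).hom.comp (g.appLE V U e).hom).toAlgebra
    haveI := hU.isLocalization_stalk ⟨x, hx⟩
    haveI : IsScalarTower Γ(S, V) Γ(X, U) (X.presheaf.stalk x) := IsScalarTower.of_algebraMap_eq fun a => rfl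
    exact TRA.flat_quot_map (T := X.presheaf.stalk x) (hU.primeIdealOf ⟨x, hx⟩).asIdeal.primeCompl _
      (h.2 j (by simpa using hj))
  · intro h
    refine ⟨(WR.wr_sections_iff hU rs).2 fun x hx => (h x hx).1, fun j hj => ?_⟩
    have hy : ∀ P : PrimeSpectrum Γ(X, U), hU.fromSpec P ∈ U := fun P => (hU.isoSpec.inv P).2
    refine TRA.flat_quot_of_maps _ (fun P => X.presheaf.stalk (hU.fromSpec P))
      (fun P => (X.presheaf.germ U (hU.fromSpec P) (hy P)).hom) (fun P => hU.isLocalization_stalk' P (hy P))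
      fun P => ?_
    have h1 := (h _ (hy P)).2 j (by simpa using hj)
    rw [hI] at h1
    exact (flat_quot_stalk_iff g hV e _ (hy P) _).2 h1

/-- The germs at a point of the pullback of global sections. -/
noncomputable def glob {X X₀ : Scheme.{u}} (q : X ⟶ X₀) (fs : List Γ(X₀, ⊤)) (x : X) : List (X.presheaf.stalk x) :=
  fs.map fun f => X.presheaf.germ ⊤ x trivial (q.appTop f)

/-- The condition on all pairs of affine opens is the condition at all points. -/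
theorem forall_affine_iff {X₀ : Scheme.{u}} (g : X ⟶ S) (q : X ⟶ X₀) (fs : List Γ(X₀, ⊤)) :
    (∀ (U : X.affineOpens) (V : S.affineOpens) (e : U.1 ≤ g ⁻¹ᵁ V.1),
        @RegImm.IsTransRegularSeq Γ(S, V.1) Γ(X, U.1) _ _ (g.appLE V.1 U.1 e).hom.toAlgebra
          (fs.map (fun f => (X.presheaf.map (homOfLE (le_top : U.1 ≤ ⊤)).op).hom (q.appTop.hom f)))) ↔
      ∀ x, TRPt g x (glob q fs x) := by
  have hl : ∀ (U : X.Opens) (x : X) (hx : x ∈ U),
      (fs.map (fun f => (X.presheaf.map (homOfLE (le_top : U ≤ ⊤)).op).hom (q.appTop.hom f))).map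
        (X.presheaf.germ U x hx).hom = glob q fs x := fun U x hx => by
    rw [List.map_map]
    exact List.map_congr_left fun f _ => X.presheaf.germ_res_apply _ _ hx _
  constructor
  · intro h x
    obtain ⟨_, ⟨V, hV, rfl⟩, hxV, -⟩ :=
      S.isBasis_affineOpens.exists_subset_of_mem_open (Set.mem_univ (g x)) isOpen_univ
    obtain ⟨_, ⟨U, hU, rfl⟩, hxU, hUV⟩ :=
      X.isBasis_affineOpens.exists_subset_of_mem_open (show x ∈ g ⁻¹ᵁ V from hxV) (g ⁻¹ᵁ V).2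
    have h1 := (sections_iff_pt g hU hV hUV _).1 (h ⟨U, hU⟩ ⟨V, hV⟩ hUV) x hxU
    rwa [hl] at h1
  · intro h U V e
    rw [sections_iff_pt g U.2 V.2 e]
    intro x hx
    rw [hl]
    exact h x

/-- Transversal regularity on the preimage of a chart, as base change of rings. -/
theorem chart_iff {X₀ T S₀ : Scheme.{u}} {q : X ⟶ X₀} {g : X ⟶ T} {g₀ : X₀ ⟶ S₀} {t : T ⟶ S₀} [IsAffineHom t]
    (H : IsPullback q g g₀ t) {V₀ : S₀.Opens} {U₀ : X₀.Opens} (hV₀ : IsAffineOpen V₀) (hU₀ : IsAffineOpen U₀)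
    (eU : U₀ ≤ g₀ ⁻¹ᵁ V₀) (fs : List Γ(X₀, ⊤))
    [Algebra Γ(S₀, V₀) Γ(X₀, U₀)] [Algebra Γ(S₀, V₀) Γ(T, t ⁻¹ᵁ V₀)]
    (h₁ : algebraMap Γ(S₀, V₀) Γ(T, t ⁻¹ᵁ V₀) = (t.app V₀).hom)
    (h₂ : algebraMap Γ(S₀, V₀) Γ(X₀, U₀) = (g₀.appLE V₀ U₀ eU).hom) :
    RegImm.IsTransRegularSeq Γ(T, t ⁻¹ᵁ V₀) (Γ(T, t ⁻¹ᵁ V₀) ⊗[Γ(S₀, V₀)] Γ(X₀, U₀))
        ((fs.map (X₀.presheaf.map (homOfLE (le_top : U₀ ≤ ⊤)).op).hom).map
          (Algebra.TensorProduct.includeRight :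
            Γ(X₀, U₀) →ₐ[Γ(S₀, V₀)] Γ(T, t ⁻¹ᵁ V₀) ⊗[Γ(S₀, V₀)] Γ(X₀, U₀)).toRingHom) ↔
      ∀ x : X, q x ∈ U₀ → TRPt g x (glob q fs x) := by
  let VT : T.Opens := t ⁻¹ᵁ V₀
  have hVT : IsAffineOpen VT := hV₀.preimage t
  let W : X.Opens := q ⁻¹ᵁ U₀ ⊓ g ⁻¹ᵁ VT
  have hW : IsAffineOpen W := FlatH4.isAffineOpen_of_isPullback H le_rfl eU rfl hV₀ hVT hU₀
  have eWU : W ≤ q ⁻¹ᵁ U₀ := inf_le_left
  have eWV : W ≤ g ⁻¹ᵁ VT := inf_le_right
  letI : Algebra Γ(X₀, U₀) Γ(X, W) := (q.appLE U₀ W eWU).hom.toAlgebra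
  letI : Algebra Γ(T, VT) Γ(X, W) := (g.appLE VT W eWV).hom.toAlgebra
  letI : Algebra Γ(S₀, V₀) Γ(X, W) :=
    ((algebraMap Γ(T, VT) Γ(X, W)).comp (algebraMap Γ(S₀, V₀) Γ(T, VT))).toAlgebra
  haveI : IsScalarTower Γ(S₀, V₀) Γ(T, VT) Γ(X, W) := IsScalarTower.of_algebraMap_eq fun _ => rfl
  haveI : IsScalarTower Γ(S₀, V₀) Γ(X₀, U₀) Γ(X, W) := IsScalarTower.of_algebraMap_eq fun r => by
    show g.appLE VT W eWV (algebraMap Γ(S₀, V₀) Γ(T, VT) r) =
      q.appLE U₀ W eWU (algebraMap Γ(S₀, V₀) Γ(X₀, U₀) r)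
    rw [h₁, h₂, Scheme.Hom.app_eq_appLE, ← CommRingCat.comp_apply, ← CommRingCat.comp_apply,
      Scheme.Hom.appLE_comp_appLE, Scheme.Hom.appLE_comp_appLE]
    simp only [H.w]
  haveI : Algebra.IsPushout Γ(S₀, V₀) Γ(T, VT) Γ(X₀, U₀) Γ(X, W) :=
    FlatH4.algebra_isPushout_sections H le_rfl eU rfl hV₀ hVT hU₀ (by rw [h₁, Scheme.Hom.app_eq_appLE]) h₂ rfl rfl
  let eT := Algebra.IsPushout.equiv Γ(S₀, V₀) Γ(T, VT) Γ(X₀, U₀) Γ(X, W)
  let l := (fs.map (X₀.presheaf.map (homOfLE (le_top : U₀ ≤ ⊤)).op).hom).map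
    (Algebra.TensorProduct.includeRight : Γ(X₀, U₀) →ₐ[Γ(S₀, V₀)] Γ(T, VT) ⊗[Γ(S₀, V₀)] Γ(X₀, U₀)).toRingHom
  have hl : ∀ (x : X) (hx : x ∈ W), (l.map eT).map (X.presheaf.germ W x hx).hom = glob q fs x := fun x hx => by
    simp only [l, List.map_map]
    refine List.map_congr_left fun f _ => ?_
    show X.presheaf.germ W x hx (eT ((1 : Γ(T, VT)) ⊗ₜ _)) = _
    rw [Algebra.IsPushout.equiv_tmul, map_one, one_mul]
    show X.presheaf.germ W x hx ((X₀.presheaf.map (homOfLE (le_top : U₀ ≤ ⊤)).op ≫ q.appLE U₀ W eWU) f) = _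
    rw [Scheme.Hom.map_appLE, Scheme.Hom.appLE, CommRingCat.comp_apply]
    exact X.presheaf.germ_res_apply _ _ hx _
  have hiff : RegImm.IsTransRegularSeq Γ(T, VT) (Γ(T, VT) ⊗[Γ(S₀, V₀)] Γ(X₀, U₀)) l ↔
      RegImm.IsTransRegularSeq Γ(T, VT) Γ(X, W) (l.map eT) := by
    refine ⟨TRA.transReg_of_algEquiv eT l, fun h => ?_⟩
    have h2 := TRA.transReg_of_algEquiv eT.symm _ h
    rw [List.map_map] at h2
    convert h2 using 1
    exact (List.map_id _).symm.trans (List.map_congr_left fun x _ => (eT.symm_apply_apply x).symm)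
  refine hiff.trans ((sections_iff_pt g hW hVT eWV _).trans ?_)
  constructor
  · intro h x hx
    have hxW : x ∈ W := ⟨hx, by
      show t (g x) ∈ V₀
      rw [← Scheme.Hom.comp_apply, ← H.w, Scheme.Hom.comp_apply]
      exact eU hx⟩
    have h1 := h x hxW
    rwa [hl] at h1
  · intro h x hx
    rw [hl]
    exact h x (eWU hx)

set_option maxHeartbeats 1600000 in
/-- Transversally regular sequences of sections on a limit come from a stage. -/
theorem limit_iff {I : Type u} [SmallCategory I] [IsCofiltered I] (D : I ⥤ Scheme.{u}) (c : Cone D)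
    (hc : IsLimit c) [∀ (i j : I) (f : i ⟶ j), IsAffineHom (D.map f)] (i₀ : I) {X₀ : Scheme.{u}}
    (g₀ : X₀ ⟶ D.obj i₀) [CompactSpace X₀] [LocallyOfFinitePresentation g₀] (fs : List Γ(X₀, ⊤)) :
    (∀ x, TRPt (pullback.snd g₀ (c.π.app i₀)) x (glob (pullback.fst g₀ (c.π.app i₀)) fs x)) ↔
      ∃ (j : I) (φ : j ⟶ i₀),
        ∀ x, TRPt (pullback.snd g₀ (D.map φ)) x (glob (pullback.fst g₀ (D.map φ)) fs x) := by
  classical
  haveI hA : ∀ {i j} (f : i ⟶ j), IsAffineHom (D.map f) :=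
    fun f => ‹∀ (i j : I) (f : i ⟶ j), IsAffineHom (D.map f)› _ _ f
  haveI : IsAffineHom (c.π.app i₀) := isAffineHom_π_app D c hc i₀
  let J := Over i₀
  let E : J ⥤ Scheme.{u} := Over.forget i₀ ⋙ D
  let e := c.whisker (Over.forget i₀)
  have he : IsLimit e := (Functor.Initial.isLimitWhiskerEquiv (Over.forget i₀) c).symm hc
  let s : ∀ k : J, E.obj k ⟶ D.obj i₀ := fun k => D.map k.hom
  have hs : ∀ {k l : J} (b : k ⟶ l), E.map b ≫ s l = s k := fun {k l} b => by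
    show D.map b.left ≫ D.map l.hom = D.map k.hom
    rw [← D.map_comp, Over.w b]
  have hq : ∀ k : J, e.π.app k ≫ s k = c.π.app i₀ := fun k => c.w k.hom
  haveI : ∀ {k l : J} (b : k ⟶ l), IsAffineHom (E.map b) := fun b => hA _
  haveI : ∀ k : J, IsAffineHom (s k) := fun k => hA _
  have hcov : ∀ y : X₀, ∃ (V₀ : (D.obj i₀).Opens) (U₀ : X₀.Opens), IsAffineOpen V₀ ∧ IsAffineOpen U₀ ∧
      y ∈ U₀ ∧ U₀ ≤ g₀ ⁻¹ᵁ V₀ := fun y => by
    obtain ⟨_, ⟨V, hV, rfl⟩, hyV, -⟩ :=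
      (D.obj i₀).isBasis_affineOpens.exists_subset_of_mem_open (Set.mem_univ (g₀ y)) isOpen_univ
    obtain ⟨_, ⟨U, hU, rfl⟩, hyU, hUV⟩ :=
      X₀.isBasis_affineOpens.exists_subset_of_mem_open (show y ∈ g₀ ⁻¹ᵁ V from hyV) (g₀ ⁻¹ᵁ V).2
    exact ⟨V, U, hV, hU, hyU, hUV⟩
  choose V₀ U₀ hV₀ hU₀ hyU eU using hcov
  constructor
  · intro h
    have key : ∀ y : X₀, ∃ k : J, ∀ (l : J) (_ : l ⟶ k) (x : (pullback g₀ (D.map l.hom) : Scheme.{u})),
        pullback.fst g₀ (D.map l.hom) x ∈ U₀ y →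
          TRPt (pullback.snd g₀ (D.map l.hom)) x (glob (pullback.fst g₀ (D.map l.hom)) fs x) := by
      intro y
      letI : Algebra Γ(D.obj i₀, V₀ y) Γ(X₀, U₀ y) := (g₀.appLE (V₀ y) (U₀ y) (eU y)).hom.toAlgebra
      haveI : Algebra.FinitePresentation Γ(D.obj i₀, V₀ y) Γ(X₀, U₀ y) :=
        LocallyOfFinitePresentation.finitePresentation_appLE (f := g₀) (hV₀ y) (hU₀ y) (eU y)
      letI : Algebra Γ(D.obj i₀, V₀ y) Γ(c.pt, c.π.app i₀ ⁻¹ᵁ V₀ y) := ((c.π.app i₀).app (V₀ y)).hom.toAlgebra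
      have h1 := (chart_iff (T := c.pt) (t := c.π.app i₀) (IsPullback.of_hasPullback g₀ (c.π.app i₀)) (hV₀ y) (hU₀ y) (eU y) fs rfl rfl).2
        fun x _ => h x
      obtain ⟨n, a, rel, hrel, H⟩ := TRA.exists_rel _ _ h1
      obtain ⟨k, le, a', -, ha'⟩ := SchDom.exists_stage_solution E e he s hs (c.π.app i₀) hq (hV₀ y) a rel
        (fun p hp => by
          have := hrel p hp
          rwa [MvPolynomial.aeval_def] at this)
      refine ⟨k, fun l b x hx => ?_⟩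
      letI : Algebra Γ(D.obj i₀, V₀ y) Γ(E.obj k, s k ⁻¹ᵁ V₀ y) := ((s k).app (V₀ y)).hom.toAlgebra
      letI : Algebra Γ(D.obj i₀, V₀ y) Γ(E.obj l, s l ⁻¹ᵁ V₀ y) := ((s l).app (V₀ y)).hom.toAlgebra
      have h2 := H Γ(E.obj k, s k ⁻¹ᵁ V₀ y) a' fun p hp => by
        rw [MvPolynomial.aeval_def]; exact ha' p hp
      have hle : s l ⁻¹ᵁ V₀ y ≤ E.map b ⁻¹ᵁ (s k ⁻¹ᵁ V₀ y) := by
        rw [← Scheme.Hom.comp_preimage, hs]
      letI : Algebra Γ(E.obj k, s k ⁻¹ᵁ V₀ y) Γ(E.obj l, s l ⁻¹ᵁ V₀ y) :=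
        ((E.map b).appLE _ _ hle).hom.toAlgebra
      haveI : IsScalarTower Γ(D.obj i₀, V₀ y) Γ(E.obj k, s k ⁻¹ᵁ V₀ y) Γ(E.obj l, s l ⁻¹ᵁ V₀ y) :=
        IsScalarTower.of_algebraMap_eq fun r => by
          show (s l).app (V₀ y) r = (E.map b).appLE _ _ hle ((s k).app (V₀ y) r)
          rw [← CommRingCat.comp_apply, Scheme.Hom.app_eq_appLE (f := s k), Scheme.Hom.appLE_comp_appLE,
            Scheme.Hom.app_eq_appLE]
          simp only [hs]
      have h3 := TRA.transReg_baseChange _ Γ(E.obj k, s k ⁻¹ᵁ V₀ y) Γ(E.obj l, s l ⁻¹ᵁ V₀ y) h2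
      exact (chart_iff (t := s l) (IsPullback.of_hasPullback g₀ (s l)) (hV₀ y) (hU₀ y) (eU y) fs rfl rfl).1 h3 x hx
    choose k hk using key
    obtain ⟨t, ht⟩ := (isCompact_univ (X := X₀)).elim_finite_subcover (fun y => (U₀ y : Set X₀))
      (fun y => (U₀ y).2) (fun y _ => Set.mem_iUnion.2 ⟨y, hyU y⟩)
    obtain ⟨l, hl⟩ := IsCofiltered.inf_objs_exists (t.image k)
    refine ⟨l.left, l.hom, fun x => ?_⟩
    obtain ⟨y, hy, hxy⟩ := Set.mem_iUnion₂.1 (ht (Set.mem_univ (pullback.fst g₀ (D.map l.hom) x)))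
    obtain ⟨b⟩ := hl (Finset.mem_image_of_mem k hy)
    exact hk y l b x hxy
  · rintro ⟨j, φ, h⟩ x
    let y := pullback.fst g₀ (c.π.app i₀) x
    let l : J := Over.mk φ
    letI : Algebra Γ(D.obj i₀, V₀ y) Γ(X₀, U₀ y) := (g₀.appLE (V₀ y) (U₀ y) (eU y)).hom.toAlgebra
    letI : Algebra Γ(D.obj i₀, V₀ y) Γ(E.obj l, s l ⁻¹ᵁ V₀ y) := ((s l).app (V₀ y)).hom.toAlgebra
    letI : Algebra Γ(D.obj i₀, V₀ y) Γ(c.pt, c.π.app i₀ ⁻¹ᵁ V₀ y) := ((c.π.app i₀).app (V₀ y)).hom.toAlgebra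
    have h1 := (chart_iff (t := s l) (IsPullback.of_hasPullback g₀ (s l)) (hV₀ y) (hU₀ y) (eU y) fs rfl rfl).2
      fun x' _ => h x'
    have hle : c.π.app i₀ ⁻¹ᵁ V₀ y ≤ e.π.app l ⁻¹ᵁ (s l ⁻¹ᵁ V₀ y) := by
      rw [← Scheme.Hom.comp_preimage, hq]
    letI : Algebra Γ(E.obj l, s l ⁻¹ᵁ V₀ y) Γ(c.pt, c.π.app i₀ ⁻¹ᵁ V₀ y) :=
      ((e.π.app l).appLE _ _ hle).hom.toAlgebra
    haveI : IsScalarTower Γ(D.obj i₀, V₀ y) Γ(E.obj l, s l ⁻¹ᵁ V₀ y) Γ(c.pt, c.π.app i₀ ⁻¹ᵁ V₀ y) :=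
      IsScalarTower.of_algebraMap_eq fun r => by
        show (c.π.app i₀).app (V₀ y) r = (e.π.app l).appLE _ _ hle ((s l).app (V₀ y) r)
        rw [← CommRingCat.comp_apply, Scheme.Hom.app_eq_appLE (f := s l), Scheme.Hom.appLE_comp_appLE,
          Scheme.Hom.app_eq_appLE]
        simp only [hq]
        rfl
    have h2 := TRA.transReg_baseChange _ Γ(E.obj l, s l ⁻¹ᵁ V₀ y) Γ(c.pt, c.π.app i₀ ⁻¹ᵁ V₀ y) h1
    exact (chart_iff (T := c.pt) (t := c.π.app i₀) (IsPullback.of_hasPullback g₀ (c.π.app i₀)) (hV₀ y) (hU₀ y) (eU y) fs rfl rfl).1 h2 x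
      (hyU y)

end Groth.Agent.KS29.TRS
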