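import Groth.Agent.Lib.KS29.ArtTwist
import Groth.Agent.Lib.TensorMod.Dual

/-!
# Automorphisms of `P^n_R` over an Artinian ring fix the twisting sheaves
-/

set_option autoImplicit false
set_option linter.style.haveILetI false
set_option linter.unusedSectionVars false
set_option backward.isDefEq.respectTransparency false
set_option maxHeartbeats 400000

universe u

open CategoryTheory CategoryTheory.Limits AlgebraicGeometry TopologicalSpace Opposite

noncomputable section

namespace Groth.Agent.KS29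

open Groth.Agent

variable {n : ℕ} {R : Type u} [CommRing R] [IsArtinianRing R]

theorem discreteTopology_spec : DiscreteTopology ↥(Spec (CommRingCat.of R)) :=
  show DiscreteTopology (PrimeSpectrum R) from
    PrimeSpectrum.discreteTopology_iff_finite_and_krullDimLE_zero.2 ⟨inferInstance, inferInstance⟩

theorem nonempty_pullback_twist_one_artinian (σ : CohB1.ProjSpace n R ≅ CohB1.ProjSpace n R)
    (hσ : σ.hom ≫ CohB1.ProjSpace.toSpec n R = CohB1.ProjSpace.toSpec n R) :
    Nonempty ((Scheme.Modules.pullback σ.hom).obj (_root_.Twist.twistProjSpace n R 1) ≅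
      _root_.Twist.twistProjSpace n R 1) := by
  haveI := discreteTopology_spec (R := R)
  let o := ProjSpace.overSpecIso n R
  obtain ⟨t⟩ : Nonempty ((Scheme.Modules.pullback o.hom).obj (_root_.Twist.twistOver n (Spec (CommRingCat.of R)) 1) ≅
      _root_.Twist.twistProjSpace n R 1) := by
    obtain ⟨e'⟩ := CohFound.nonempty_pullback_twistProjSpace n (ProjSpace.fromZ R) 1
    exact ⟨(Scheme.Modules.pullbackComp o.hom _).app _ ≪≫
      (Scheme.Modules.pullbackCongr (ProjSpace.overSpecIso_hom_fst n R)).app _ ≪≫ e'⟩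
  obtain ⟨φ⟩ := nonempty_pullback_twistOver_one n (o.inv ≫ σ.hom ≫ o.hom) (by
    simp only [Category.assoc, o, ProjSpace.overSpecIso_hom_toBase, hσ]
    rw [← ProjSpace.overSpecIso_hom_toBase, Iso.inv_hom_id_assoc])
  refine ⟨(Scheme.Modules.pullback σ.hom).mapIso t.symm ≪≫ (Scheme.Modules.pullbackComp σ.hom o.hom).app _ ≪≫
    (Scheme.Modules.pullbackCongr (show σ.hom ≫ o.hom = o.hom ≫ (o.inv ≫ σ.hom ≫ o.hom) by
      rw [Iso.hom_inv_id_assoc])).app _ ≪≫
    ((Scheme.Modules.pullbackComp o.hom _).app _).symm ≪≫ (Scheme.Modules.pullback o.hom).mapIso φ ≪≫ t⟩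

/-- Automorphisms of `P^n_R` over an Artinian ring fix every `O(j)`. -/
theorem nonempty_pullback_twist_artinian (σ : CohB1.ProjSpace n R ≅ CohB1.ProjSpace n R)
    (hσ : σ.hom ≫ CohB1.ProjSpace.toSpec n R = CohB1.ProjSpace.toSpec n R) (j : ℤ) :
    Nonempty ((Scheme.Modules.pullback σ.hom).obj (_root_.Twist.twistProjSpace n R j) ≅
      _root_.Twist.twistProjSpace n R j) := by
  obtain ⟨φ⟩ := nonempty_pullback_twist_one_artinian σ hσ
  have hcov := Twist.iSup_basicOpen_one n R
  have hnat : ∀ i : ℕ, Nonempty ((Scheme.Modules.pullback σ.hom).obj (_root_.Twist.twistProjSpace n R (i : ℤ)) ≅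
      _root_.Twist.twistProjSpace n R (i : ℤ)) := fun i => by
    obtain ⟨Q⟩ := Twist.nonempty_iso_tensorPow (CohB1.polyGrading n R) hcov i
    exact ⟨(Scheme.Modules.pullback σ.hom).mapIso Q ≪≫ M2.pullTensorPowIso σ.hom _ i ≪≫
      M2.tensorPowIso φ i ≪≫ Q.symm⟩
  obtain ⟨i, rfl | rfl⟩ := Int.eq_nat_or_neg j
  · exact hnat i
  · obtain ⟨z⟩ := Twist.nonempty_twist_zero_iso (CohB1.polyGrading n R)
    obtain ⟨t⟩ := Twist.nonempty_tensor_iso (CohB1.polyGrading n R) (i : ℤ) (-i) hcov
    obtain ⟨ψ⟩ := hnat i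
    let t' : CohB1.tensorMod (_root_.Twist.twistProjSpace n R (i : ℤ)) (_root_.Twist.twistProjSpace n R (-i)) ≅
        Coh.structureModule _ :=
      t ≪≫ eqToIso (congrArg (_root_.Twist.twistProjSpace n R) (add_neg_cancel _)) ≪≫ z
    exact ⟨M2.inverseUnique (M := _root_.Twist.twistProjSpace n R (i : ℤ))
      (M2.tensorIso ψ.symm (Iso.refl _) ≪≫ (M2.pullTensorIso σ.hom _ _).symm ≪≫
        (Scheme.Modules.pullback σ.hom).mapIso t' ≪≫ Twist.pullbackUnitIso _) t'⟩

end Groth.Agent.KS29
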