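import Groth.Agent.Lib.KS29.WRLocus
import Groth.Agent.Lib.LimH13.Stalk
import Groth.Agent.Lib.Descend.Basic

/-!
# Weakly regular sequences of sections on a limit
-/

universe u

set_option autoImplicit false
set_option backward.isDefEq.respectTransparency false
set_option backward.isDefEq.respectTransparency.types false
set_option linter.style.haveILetI false

open CategoryTheory CategoryTheory.Limits AlgebraicGeometry TopologicalSpace
open RingTheory.Sequence

namespace Groth.Agent.KS29.WR

variable {X Y : Scheme.{u}}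

/-- The points at which a sequence of global sections is weakly regular. -/
def locus (fs : List Γ(X, ⊤)) : Set X :=
  {x | IsWeaklyRegular (X.presheaf.stalk x) (fs.map (X.presheaf.germ ⊤ x trivial).hom)}

/-- The pullback of global sections along a flat map is weakly regular iff the map lands in the locus. -/
theorem forall_affine_iff (f : Y ⟶ X) [Flat f] (fs : List Γ(X, ⊤)) :
    (∀ U : Y.affineOpens, IsWeaklyRegular Γ(Y, U.1)
        (fs.map (fun t => (Y.presheaf.map (homOfLE (le_top : U.1 ≤ ⊤)).op).hom (f.appTop.hom t)))) ↔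
      ∀ y : Y, f y ∈ locus fs := by
  have e : ∀ (U : Y.Opens), (fs.map (fun t => (Y.presheaf.map (homOfLE (le_top : U ≤ ⊤)).op).hom
      (f.appTop.hom t))) = fs.map (f.appLE ⊤ U le_top).hom := fun U => by
    refine List.map_congr_left fun t _ => ?_
    rfl
  constructor
  · intro h y
    obtain ⟨_, ⟨U, hU, rfl⟩, hy, -⟩ :=
      Y.isBasis_affineOpens.exists_subset_of_mem_open (Set.mem_univ y) isOpen_univ
    have h1 := (wr_sections_iff hU _).1 (h ⟨U, hU⟩) y hy
    rw [e] at h1
    exact (wr_germ_iff f (le_top : U ≤ f ⁻¹ᵁ ⊤) fs y hy).1 h1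
  · intro h U
    rw [e, wr_sections_iff U.2]
    exact fun y hy => (wr_germ_iff f (le_top : U.1 ≤ f ⁻¹ᵁ ⊤) fs y hy).2 (h y)

/-- On a locally Noetherian scheme the locus is open. -/
theorem isOpen_locus [IsLocallyNoetherian X] (fs : List Γ(X, ⊤)) : IsOpen (locus fs) := by
  refine isOpen_iff_forall_mem_open.2 fun x hx => ?_
  obtain ⟨_, ⟨U, hU, rfl⟩, hxU, -⟩ :=
    X.isBasis_affineOpens.exists_subset_of_mem_open (Set.mem_univ x) isOpen_univ
  have e : ∀ (y : X) (hy : y ∈ U), (fs.map (X.presheaf.map (homOfLE (le_top : U ≤ ⊤)).op).hom).map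
      (X.presheaf.germ U y hy).hom = fs.map (X.presheaf.germ ⊤ y trivial).hom := fun y hy => by
    rw [List.map_map]
    exact List.map_congr_left fun t _ => X.presheaf.germ_res_apply _ _ hy t
  obtain ⟨W, hWU, -, hxW, hW⟩ :=
    exists_open_wr hU (fs.map (X.presheaf.map (homOfLE (le_top : U ≤ ⊤)).op).hom) x hxU (by rw [e]; exact hx)
  refine ⟨W, fun y hy => ?_, W.2, hxW⟩
  have h1 := hW y hy
  rw [e] at h1
  exact h1

variable {I : Type u} [SmallCategory I] [IsCofiltered I]

/-- Weakly regular sequences of sections on a limit with flat transition maps come from a stage. -/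
theorem limit_iff (D : I ⥤ Scheme.{u}) (c : Cone D) (hc : IsLimit c)
    [∀ (i j : I) (f : i ⟶ j), IsAffineHom (D.map f)]
    (hflat : ∀ (i j : I) (f : i ⟶ j), Flat (D.map f))
    (hcase : (∀ i : I, IsLocallyNoetherian (D.obj i)) ∨
      ∀ (i j : I) (f : i ⟶ j), Surjective (D.map f))
    (i₀ : I) [CompactSpace (D.obj i₀)] (fs : List Γ(D.obj i₀, ⊤)) :
    (∀ x : c.pt, c.π.app i₀ x ∈ locus fs) ↔
      ∃ (j : I) (φ : j ⟶ i₀), ∀ x : D.obj j, D.map φ x ∈ locus fs := by
  haveI : ∀ {i j} (f : i ⟶ j), IsAffineHom (D.map f) := fun f => ‹∀ (i j : I) (f : i ⟶ j), IsAffineHom (D.map f)› _ _ f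
  constructor
  · intro h
    rcases hcase with hN | hS
    · haveI := hN i₀
      let W : (D.obj i₀).Opens := ⟨locus fs, isOpen_locus fs⟩
      let c' := c.whisker (Over.forget i₀)
      have hc' : IsLimit c' := (Functor.Initial.isLimitWhiskerEquiv (Over.forget i₀) c).symm hc
      haveI : ∀ {k l : Over i₀} (g : k ⟶ l), IsAffineHom ((Over.forget i₀ ⋙ D).map g) := fun g => by
        dsimp; infer_instance
      haveI : ∀ k : Over i₀, CompactSpace ((Over.forget i₀ ⋙ D).obj k) := fun k =>
        QuasiCompact.compactSpace_of_compactSpace (D.map k.hom)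
      obtain ⟨k, g, hk⟩ := exists_map_eq_top (Over.forget i₀ ⋙ D) c' hc' (i := Over.mk (𝟙 i₀)) W (by
        ext x
        exact ⟨fun _ => trivial, fun _ => h x⟩)
      refine ⟨k.left, k.hom, fun x => ?_⟩
      have h1 : g.left = k.hom := by simpa using Over.w g
      have h2 : x ∈ (Over.forget i₀ ⋙ D).map g ⁻¹ᵁ W := hk ▸ trivial
      rw [← h1]
      exact h2
    · haveI : Surjective (c.π.app i₀) := (LimH13.surjective_π_iff hc i₀).2 fun j φ => hS j i₀ φ
      refine ⟨i₀, 𝟙 i₀, fun x => ?_⟩
      obtain ⟨y, hy⟩ := (c.π.app i₀).surjective x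
      rw [D.map_id]
      show x ∈ locus fs
      rw [← hy]
      exact h y
  · rintro ⟨j, φ, h⟩ x
    rw [← LimH13.map_π_apply φ x]
    exact h _

end Groth.Agent.KS29.WR
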