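import Groth.Prelude.Def_WeilRes
import Groth.Prelude.Def_GmPts
import Mathlib.AlgebraicGeometry.Pullbacks
import Mathlib.RingTheory.Ideal.Quotient.Operations
import Mathlib.RingTheory.Ideal.GoingUp
import Mathlib.RingTheory.TensorProduct.Maps

/-!
# Lifting points of a Weil restriction of `G_m` over a semilocal ring
-/

set_option autoImplicit false
universe u

open CategoryTheory CategoryTheory.Limits AlgebraicGeometry TensorProduct

noncomputable section

namespace Groth.Agent.KS29.WeilGmLift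

theorem exists_unit_forall_sub_mem {A B : Type u} [CommRing A] [CommRing B] [Algebra A B] [Module.Finite A B]
    [Finite (MaximalSpectrum A)] (b c : MaximalSpectrum A → B)
    (h : ∀ m, b m * c m - 1 ∈ m.asIdeal.map (algebraMap A B)) :
    ∃ x : Bˣ, ∀ m, (x : B) - b m ∈ m.asIdeal.map (algebraMap A B) := by
  let I : MaximalSpectrum A → Ideal B := fun m => m.asIdeal.map (algebraMap A B)
  have hco : Pairwise fun m m' => IsCoprime (I m) (I m') := by
    intro m m' hne
    rw [Ideal.isCoprime_iff_sup_eq]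
    simp only [I]
    rw [← Ideal.map_sup]
    haveI := m.isMaximal; haveI := m'.isMaximal
    rw [Ideal.IsMaximal.coprime_of_ne m.isMaximal m'.isMaximal (fun h => hne (MaximalSpectrum.ext h)), Ideal.map_top]
  obtain ⟨x, hx⟩ := Ideal.exists_forall_sub_mem_ideal hco b
  refine ⟨(?_ : IsUnit x).unit, fun m => hx m⟩
  by_contra hnu
  obtain ⟨n, hn, hxn⟩ := exists_max_ideal_of_mem_nonunits hnu
  haveI := hn
  haveI : Algebra.IsIntegral A B := Algebra.IsIntegral.of_finite A B
  let m : MaximalSpectrum A := ⟨n.comap (algebraMap A B), Ideal.isMaximal_comap_of_isIntegral_of_isMaximal n⟩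
  have hle : I m ≤ n := Ideal.map_comap_le
  apply hn.ne_top
  rw [Ideal.eq_top_iff_one]
  have e : (1 : B) = x * c m - (x - b m) * c m - (b m * c m - 1) := by ring
  rw [e]
  exact n.sub_mem (n.sub_mem (n.mul_mem_right _ hxn) (n.mul_mem_right _ (hle (hx m)))) (hle (h m))

variable {A : Type u} [CommRing A] (B : Type u) [CommRing B] [Algebra A B]

abbrev fB : Spec (CommRingCat.of B) ⟶ Spec (CommRingCat.of A) := Spec.map (CommRingCat.ofHom (algebraMap A B))

/-- Global functions of `T ×_A B` from `B`. -/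
def rho (T : Over (Spec (CommRingCat.of A))) : B →+* Γ((Red.bc (fB B) T).left, ⊤) :=
  ((Scheme.ΓSpecIso (CommRingCat.of B)).inv ≫ (pullback.snd T.hom (fB B)).appTop).hom

theorem rho_comp {T T' : Over (Spec (CommRingCat.of A))} (t : T' ⟶ T) (b : B) :
    ((Over.pullback (fB B)).map t).left.appTop (rho B T b) = rho B T' b := by
  have e : ((Over.pullback (fB B)).map t).left ≫ pullback.snd T.hom (fB B) = pullback.snd T'.hom (fB B) :=
    Over.w ((Over.pullback (fB B)).map t)
  show _ = ((Scheme.ΓSpecIso (CommRingCat.of B)).inv ≫ (pullback.snd T'.hom (fB B)).appTop).hom b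
  rw [← e, Scheme.Hom.comp_appTop]
  rfl

theorem bijective_rho_id : Function.Bijective (rho B (Over.mk (𝟙 (Spec (CommRingCat.of A))))) := by
  haveI : IsIso (pullback.snd (Over.mk (𝟙 (Spec (CommRingCat.of A)))).hom (fB B)) :=
    inferInstanceAs (IsIso (pullback.snd (𝟙 _) (fB B)))
  exact (((Scheme.ΓSpecIso (CommRingCat.of B)).symm ≪≫
    Scheme.Γ.mapIso (asIso (pullback.snd (Over.mk (𝟙 (Spec (CommRingCat.of A)))).hom (fB B))).op).commRingCatIsoToRingEquiv).bijective

abbrev Tres (I : Ideal A) : Over (Spec (CommRingCat.of A)) :=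
  Over.mk (Spec.map (CommRingCat.ofHom (Ideal.Quotient.mk I)))

theorem rho_residue (I : Ideal A) :
    Function.Surjective (rho B (Tres I)) ∧ ∀ x, rho B (Tres I) x = 0 → x ∈ I.map (algebraMap A B) := by
  let e := pullbackSpecIso A (A ⧸ I) B
  let e' : CommRingCat.of ((A ⧸ I) ⊗[A] B) ≅ Γ((Red.bc (fB B) (Tres I)).left, ⊤) :=
    (Scheme.ΓSpecIso (CommRingCat.of ((A ⧸ I) ⊗[A] B))).symm ≪≫ Scheme.Γ.mapIso e.op
  have key : ∀ x, rho B (Tres I) x = e'.hom ((1 : A ⧸ I) ⊗ₜ[A] x) := by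
    intro x
    have h1 : pullback.snd (Spec.map (CommRingCat.ofHom (algebraMap A (A ⧸ I)))) (fB B) =
        e.hom ≫ Spec.map (CommRingCat.ofHom (Algebra.TensorProduct.includeRight : B →ₐ[A] (A ⧸ I) ⊗[A] B).toRingHom) := by
      exact (pullbackSpecIso_hom_snd A (A ⧸ I) B).symm
    show ((Scheme.ΓSpecIso (CommRingCat.of B)).inv ≫
      (pullback.snd (Spec.map (CommRingCat.ofHom (algebraMap A (A ⧸ I)))) (fB B)).appTop).hom x = _
    rw [h1, Scheme.Hom.comp_appTop, ← Category.assoc, ← Scheme.ΓSpecIso_inv_naturality, Category.assoc]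
    simp only [e', Iso.trans_hom, Iso.symm_hom, Functor.mapIso_hom, Iso.op_hom, Scheme.Γ_map, Quiver.Hom.unop_op,
      CommRingCat.comp_apply, CommRingCat.hom_comp, RingHom.comp_apply]
    rfl
  have hsurj : Function.Surjective fun x : B => (1 : A ⧸ I) ⊗ₜ[A] x := by
    intro z
    induction z using TensorProduct.induction_on with
    | zero => exact ⟨0, TensorProduct.tmul_zero _ _⟩
    | tmul a b =>
      obtain ⟨a, rfl⟩ := Ideal.Quotient.mk_surjective a
      refine ⟨a • b, ?_⟩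
      show (1 : A ⧸ I) ⊗ₜ[A] (a • b) = _
      rw [← TensorProduct.smul_tmul, ← Ideal.Quotient.algebraMap_eq, Algebra.algebraMap_eq_smul_one]
    | add x y hx hy =>
      obtain ⟨a, rfl⟩ := hx; obtain ⟨b, rfl⟩ := hy
      exact ⟨a + b, TensorProduct.tmul_add _ _ _⟩
  refine ⟨fun z => ?_, fun x hx => ?_⟩
  · obtain ⟨x, hx⟩ := hsurj (e'.inv z)
    refine ⟨x, ?_⟩
    rw [key, show (1 : A ⧸ I) ⊗ₜ[A] x = e'.inv z from hx]
    exact e'.commRingCatIsoToRingEquiv.apply_symm_apply z
  · rw [key] at hx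
    have h0 : (1 : A ⧸ I) ⊗ₜ[A] x = 0 := e'.commRingCatIsoToRingEquiv.injective (hx.trans (map_zero _).symm)
    let J := I.map (algebraMap A B)
    let ψ : (A ⧸ I) ⊗[A] B →ₐ[A] B ⧸ J :=
      Algebra.TensorProduct.lift (Ideal.Quotient.liftₐ I (Algebra.ofId A (B ⧸ J)) fun a ha => by
        show algebraMap A (B ⧸ J) a = 0
        rw [← Ideal.Quotient.mk_algebraMap, Ideal.Quotient.eq_zero_iff_mem]
        exact Ideal.mem_map_of_mem _ ha) (Ideal.Quotient.mkₐ A J) fun _ _ => Commute.all _ _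
    have := congrArg ψ h0
    simp [ψ] at this
    exact Ideal.Quotient.eq_zero_iff_mem.1 this

set_option maxHeartbeats 300000 in
theorem main [Finite (MaximalSpectrum A)] [Module.Finite A B]
    (P : Over (Spec (CommRingCat.of A))) (q : Red.bc (fB B) P ⟶ Red.Gm (Spec (CommRingCat.of B)))
    (hP : WeilRes.IsWeilRes (fB B) (Red.Gm (Spec (CommRingCat.of B))) P q)
    (u : ∀ m : MaximalSpectrum A, Spec (CommRingCat.of (A ⧸ m.asIdeal)) ⟶ P.left)
    (hu : ∀ m : MaximalSpectrum A, u m ≫ P.hom = Spec.map (CommRingCat.ofHom (Ideal.Quotient.mk m.asIdeal))) :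
    ∃ s : Spec (CommRingCat.of A) ⟶ P.left, s ≫ P.hom = 𝟙 (Spec (CommRingCat.of A)) ∧
      ∀ m : MaximalSpectrum A, Spec.map (CommRingCat.ofHom (Ideal.Quotient.mk m.asIdeal)) ≫ s = u m := by
  let g : ∀ m : MaximalSpectrum A, Tres m.asIdeal ⟶ P := fun m => Over.homMk (u m) (hu m)
  obtain ⟨r, hr⟩ : ∃ r : ∀ m : MaximalSpectrum A, (Γ((Red.bc (fB B) (Tres m.asIdeal)).left, ⊤))ˣ,
      ∀ m, GmPts.ptOfUnit (r m) = WeilRes.restr (fB B) q (Tres m.asIdeal) (g m) := by
    exact ⟨fun m => GmPts.unitOfPt (S := Spec (CommRingCat.of B)) (T := Red.bc (fB B) (Tres m.asIdeal)) (WeilRes.restr (fB B) q (Tres m.asIdeal) (g m)), fun m => GmPts.ptOfUnit_unitOfPt _⟩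
  obtain ⟨b, hb⟩ : ∃ b : MaximalSpectrum A → B, ∀ m, rho B (Tres m.asIdeal) (b m) = Units.val (r m) :=
    ⟨fun m => ((rho_residue B m.asIdeal).1 (Units.val (r m))).choose,
      fun m => ((rho_residue B m.asIdeal).1 (Units.val (r m))).choose_spec⟩
  obtain ⟨c, hc⟩ : ∃ c : MaximalSpectrum A → B, ∀ m, rho B (Tres m.asIdeal) (c m) = Units.val (r m)⁻¹ :=
    ⟨fun m => ((rho_residue B m.asIdeal).1 (Units.val (r m)⁻¹)).choose,
      fun m => ((rho_residue B m.asIdeal).1 (Units.val (r m)⁻¹)).choose_spec⟩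
  have hbc : ∀ m, b m * c m - 1 ∈ m.asIdeal.map (algebraMap A B) := fun m =>
    (rho_residue B m.asIdeal).2 _ (by rw [map_sub, map_mul, hb, hc, map_one, Units.mul_inv, sub_self])
  obtain ⟨x, hx⟩ := exists_unit_forall_sub_mem b c hbc
  let T₁ : Over (Spec (CommRingCat.of A)) := Over.mk (𝟙 _)
  let v := Units.map (rho B T₁ : B →* Γ((Red.bc (fB B) T₁).left, ⊤)) x
  obtain ⟨s, hs⟩ := (hP T₁).2 (GmPts.ptOfUnit v)
  refine ⟨s.left, Over.w s, fun m => ?_⟩
  let t : Tres m.asIdeal ⟶ T₁ := Over.homMk (Spec.map (CommRingCat.ofHom (Ideal.Quotient.mk m.asIdeal))) (Category.comp_id _)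
  suffices h : t ≫ s = g m from congrArg CommaMorphism.left h
  apply (hP _).1
  rw [WeilRes.restr_comp, hs, GmPts.ptOfUnit_comp]
  rw [← hr m]
  congr 1
  refine Units.ext ?_
  show ((Over.pullback (fB B)).map t).left.appTop (rho B T₁ (x : B)) = _
  rw [rho_comp, show (x : B) = b m + ((x : B) - b m) by ring, map_add, hb]
  suffices h0 : rho B (Tres m.asIdeal) ((x : B) - b m) = 0 by rw [h0, add_zero]
  have hker : m.asIdeal.map (algebraMap A B) ≤ RingHom.ker (rho B (Tres m.asIdeal)) := by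
    rw [Ideal.map_le_iff_le_comap]
    intro a ha
    have h2 : pullback.snd (Tres m.asIdeal).hom (fB B) ≫ fB B =
        pullback.fst (Tres m.asIdeal).hom (fB B) ≫ (Tres m.asIdeal).hom := pullback.condition.symm
    have h3 := congrArg (fun φ : Γ(Spec (CommRingCat.of A), ⊤) ⟶ _ => φ ((Scheme.ΓSpecIso (CommRingCat.of A)).inv a))
      (congrArg Scheme.Hom.appTop h2)
    simp only [Scheme.Hom.comp_appTop, CommRingCat.comp_apply] at h3
    rw [Ideal.mem_comap, RingHom.mem_ker]
    have e1 := congrArg (fun φ => φ.hom a) (Scheme.ΓSpecIso_inv_naturality (CommRingCat.ofHom (algebraMap A B)))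
    have e2 := congrArg (fun φ => φ.hom a) (Scheme.ΓSpecIso_inv_naturality (CommRingCat.ofHom (Ideal.Quotient.mk m.asIdeal)))
    simp only [CommRingCat.hom_comp, RingHom.comp_apply] at e1 e2
    show (pullback.snd (Tres m.asIdeal).hom (fB B)).appTop
      ((Scheme.ΓSpecIso (CommRingCat.of B)).inv (algebraMap A B a)) = 0
    refine (congrArg _ e1).trans (h3.trans ?_)
    refine (congrArg _ e2.symm).trans ?_
    rw [show (CommRingCat.ofHom (Ideal.Quotient.mk m.asIdeal)).hom a = 0 from Ideal.Quotient.eq_zero_iff_mem.2 ha,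
      map_zero, map_zero]
  exact hker (hx m)

end Groth.Agent.KS29.WeilGmLift
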