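import Groth.Agent.Lib.PureSmooth29.Zero
import Groth.Agent.Lib.NormalSmooth12.Basic

/-!
Vanishing on a smooth algebra with connected geometric fibres is detected on an infinitesimal
neighbourhood of a section.
-/

set_option autoImplicit false
set_option linter.style.haveILetI false
universe u

open TensorProduct

namespace Groth.Agent.KS29.WeilInf

variable {R B : Type u} [CommRing R] [CommRing B] [Algebra R B] [Algebra.Smooth R B]

theorem isDomain_fibre
    (hconn : ∀ (K : Type u) [Field K] [IsAlgClosed K] [Algebra R K], ConnectedSpace (PrimeSpectrum (K ⊗[R] B)))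
    (k : Type u) [Field k] [Algebra R k] : IsDomain (k ⊗[R] B) := by
  let K := AlgebraicClosure k
  haveI : ConnectedSpace (PrimeSpectrum (K ⊗[R] B)) := hconn K
  haveI : Nonempty (PrimeSpectrum (K ⊗[R] B)) := ConnectedSpace.toNonempty
  haveI : Nontrivial (K ⊗[R] B) := PrimeSpectrum.nonempty_iff_nontrivial.1 inferInstance
  haveI : IsNoetherianRing (K ⊗[R] B) := Algebra.FiniteType.isNoetherianRing K _
  have hidem : ∀ e : K ⊗[R] B, IsIdempotentElem e → e = 0 ∨ e = 1 := fun e he => by
    have hc : IsClopen (PrimeSpectrum.basicOpen e : Set (PrimeSpectrum (K ⊗[R] B))) :=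
      PrimeSpectrum.isClopen_iff.2 ⟨e, he, rfl⟩
    rcases isClopen_iff.1 hc with h | h
    · left
      have h1 : IsNilpotent e := PrimeSpectrum.basicOpen_eq_bot_iff e |>.1 (SetLike.coe_injective h)
      exact he.eq_zero_of_isNilpotent h1
    · right
      have h1 : IsUnit e := by
        by_contra hu
        obtain ⟨P, hP, heP⟩ := exists_max_ideal_of_mem_nonunits hu
        exact (h.ge (Set.mem_univ (⟨P, hP.isPrime⟩ : PrimeSpectrum (K ⊗[R] B)))) heP
      exact (IsIdempotentElem.iff_eq_one_of_isUnit h1).1 he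
  haveI : Algebra.Smooth K (K ⊗[R] B) := inferInstance
  haveI : IsDomain (K ⊗[R] B) := NormalSmooth12.isDomain_of_isNormalRing
    (NormalSmooth12.isNormalRing_of_smooth_field (algebraMap K (K ⊗[R] B))
      (RingHom.smooth_algebraMap.2 inferInstance)) hidem
  let f : k ⊗[R] B →ₐ[R] K ⊗[R] B :=
    Algebra.TensorProduct.map (IsScalarTower.toAlgHom R k K) (AlgHom.id R B)
  have hf : Function.Injective f := by
    have h1 : Function.Injective ((IsScalarTower.toAlgHom R k K).toLinearMap.rTensor B) :=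
      Module.Flat.rTensor_preserves_injective_linearMap _ (algebraMap k K).injective
    exact h1
  exact hf.isDomain f.toRingHom

/-- The ideal of coefficients of `x` modulo the `n`-th power of the kernel of the section. -/
def content (e : B →ₐ[R] R) (x : B) (n : ℕ) : Ideal R :=
  Ideal.span (Set.range fun φ : (B ⧸ RingHom.ker e ^ n) →ₗ[R] R => φ (Ideal.Quotient.mk _ x))

theorem content_mono (e : B →ₐ[R] R) (x : B) : Monotone (content e x) := by
  intro m n hmn
  refine Ideal.span_mono ?_
  rintro _ ⟨φ, rfl⟩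
  exact ⟨φ.comp (Ideal.Quotient.factorₐ R (Ideal.pow_le_pow_right hmn)).toLinearMap, rfl⟩

theorem mk_mem (e : B →ₐ[R] R) (x : B) (n : ℕ) :
    x ∈ RingHom.ker e ^ n ⊔ (content e x n).map (algebraMap R B) := by
  classical
  haveI : Module.Projective R (B ⧸ RingHom.ker e ^ n) := PureSmooth29.projective_quotient_pow e n
  obtain ⟨s, hs⟩ := Module.projective_def'.1 (inferInstance : Module.Projective R (B ⧸ RingHom.ker e ^ n))
  let y : B ⧸ RingHom.ker e ^ n := Ideal.Quotient.mk _ x
  have hy : ((s y).sum fun b r => r • b) = y := by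
    simpa [Finsupp.linearCombination_apply] using LinearMap.congr_fun hs y
  choose lift hlift using fun b : B ⧸ RingHom.ker e ^ n => Ideal.Quotient.mk_surjective b
  let z : B := (s y).sum fun b r => r • lift b
  have hz : z ∈ (content e x n).map (algebraMap R B) := by
    refine sum_mem fun b _ => ?_
    show (s y) b • lift b ∈ _
    rw [Algebra.smul_def]
    refine Ideal.mul_mem_right _ _ (Ideal.mem_map_of_mem _ (Ideal.subset_span ?_))
    exact ⟨(Finsupp.lapply b).comp s, rfl⟩
  have hxz : x - z ∈ RingHom.ker e ^ n := by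
    rw [← Ideal.Quotient.eq]
    refine hy.symm.trans ?_
    simp only [z, Finsupp.sum, map_sum]
    refine Finset.sum_congr rfl fun b _ => ?_
    show (s y) b • b = Ideal.Quotient.mkₐ R _ ((s y) b • lift b)
    rw [map_smul]
    exact congrArg _ (hlift b).symm
  simpa using add_mem (Ideal.mem_sup_left (T := (content e x n).map (algebraMap R B)) hxz)
    (Ideal.mem_sup_right (S := RingHom.ker e ^ n) hz)

theorem exists_mem_map_content
    (hconn : ∀ (K : Type u) [Field K] [IsAlgClosed K] [Algebra R K], ConnectedSpace (PrimeSpectrum (K ⊗[R] B)))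
    (e : B →ₐ[R] R) (x : B) : ∃ n, x ∈ (content e x n).map (algebraMap R B) := by
  let I : Ideal R := ⨆ n, content e x n
  let A := R ⧸ I
  let ε : A ⊗[R] B →ₐ[A] A :=
    Algebra.TensorProduct.lift (AlgHom.id A A) ((Algebra.ofId R A).comp e) fun _ _ => Commute.all _ _
  let ι : B →ₐ[R] A ⊗[R] B := Algebra.TensorProduct.includeRight
  have hirr : ∀ (q : Ideal A) [q.IsPrime],
      PreirreducibleSpace (PrimeSpectrum (q.ResidueField ⊗[A] (A ⊗[R] B))) := by
    intro q _
    haveI := isDomain_fibre hconn q.ResidueField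
    let c := (Algebra.TensorProduct.cancelBaseChange R A A q.ResidueField B).toRingEquiv
    haveI : IsDomain (q.ResidueField ⊗[A] (A ⊗[R] B)) := c.toMulEquiv.isDomain _
    haveI : IrreducibleSpace (PrimeSpectrum (q.ResidueField ⊗[A] (A ⊗[R] B))) := inferInstance
    infer_instance
  have hmap : (RingHom.ker e).map ι.toRingHom ≤ RingHom.ker ε := Ideal.map_le_iff_le_comap.2 fun b hb => by
    show ε ((1 : A) ⊗ₜ[R] b) = 0
    simp only [ε, Algebra.TensorProduct.lift_tmul, map_one, one_mul, AlgHom.comp_apply,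
      show e b = 0 from hb, map_zero]
  have hI : ∀ n, (content e x n).map (algebraMap R B) ≤ RingHom.ker ι.toRingHom := fun n =>
    Ideal.map_le_iff_le_comap.2 fun r hr => by
      show ι (algebraMap R B r) = 0
      rw [AlgHom.commutes, IsScalarTower.algebraMap_apply R A (A ⊗[R] B), Ideal.Quotient.algebraMap_eq,
        Ideal.Quotient.eq_zero_iff_mem.2 (Ideal.mem_iSup_of_mem n hr), map_zero]
  have h0 : ι x = 0 := by
    refine PureSmooth29.eq_zero_of_mem_pow hirr ε _ fun n => ?_
    obtain ⟨a, ha, b, hb, hab⟩ := Submodule.mem_sup.1 (mk_mem e x n)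
    rw [← hab, map_add, show ι b = 0 from hI n hb, add_zero]
    refine Ideal.pow_right_mono hmap n ?_
    rw [← Ideal.map_pow]
    exact Ideal.mem_map_of_mem _ ha
  let J : Ideal B := I.map (algebraMap R B)
  let π : A ⊗[R] B →ₐ[R] B ⧸ J :=
    Algebra.TensorProduct.lift
      (Ideal.Quotient.liftₐ I (Algebra.ofId R (B ⧸ J)) fun r hr =>
        Ideal.Quotient.eq_zero_iff_mem.2 (Ideal.mem_map_of_mem _ hr))
      (Ideal.Quotient.mkₐ R J) fun _ _ => Commute.all _ _
  have hx : x ∈ J := by
    have h1 := congrArg π h0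
    rw [map_zero] at h1
    simpa [π, ι, Ideal.Quotient.eq_zero_iff_mem] using h1
  have hJ : x ∈ ⨆ n, (content e x n).map (algebraMap R B) := by rwa [← Ideal.map_iSup]
  have hmono : Monotone fun n => (content e x n).map (algebraMap R B) :=
    fun m n h => Ideal.map_mono (content_mono e x h)
  exact (Submodule.mem_iSup_of_directed _ hmono.directed_le).1 hJ

theorem tmul_eq_zero_of_mem {n : ℕ} (e : B →ₐ[R] R) {x : B}
    (hx : x ∈ (content e x n).map (algebraMap R B)) (R' : Type u) [CommRing R'] [Algebra R R']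
    (h : (1 : R') ⊗ₜ[R] (Ideal.Quotient.mk (RingHom.ker e ^ n) x) = (0 : R' ⊗[R] (B ⧸ RingHom.ker e ^ n))) :
    (1 : R') ⊗ₜ[R] x = (0 : R' ⊗[R] B) := by
  have hc : content e x n ≤ RingHom.ker (algebraMap R R') := by
    refine Ideal.span_le.2 ?_
    rintro _ ⟨φ, rfl⟩
    have h1 := congrArg (fun w => TensorProduct.rid R R' (φ.lTensor R' w)) h
    simp only [LinearMap.lTensor_tmul, TensorProduct.rid_tmul, map_zero, Algebra.smul_def, mul_one] at h1
    exact h1
  refine (show (content e x n).map (algebraMap R B) ≤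
    RingHom.ker (Algebra.TensorProduct.includeRight : B →ₐ[R] R' ⊗[R] B) from
      Ideal.map_le_iff_le_comap.2 fun r hr => ?_) hx
  show (Algebra.TensorProduct.includeRight : B →ₐ[R] R' ⊗[R] B) (algebraMap R B r) = 0
  rw [AlgHom.commutes, IsScalarTower.algebraMap_apply R R' (R' ⊗[R] B), show algebraMap R R' r = 0 from hc hr,
    map_zero]

theorem main
    (hconn : ∀ (K : Type u) [Field K] [IsAlgClosed K] [Algebra R K], ConnectedSpace (PrimeSpectrum (K ⊗[R] B)))
    (e : B →ₐ[R] R) (J : Ideal B) (hJ : J.FG) :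
    ∃ n : ℕ, ∀ (R' : Type u) [CommRing R'] [Algebra R R'],
      (∀ x ∈ J, (1 : R') ⊗ₜ[R] x = (0 : R' ⊗[R] B)) ↔
        (∀ x ∈ J, (1 : R') ⊗ₜ[R] (Ideal.Quotient.mk (RingHom.ker e ^ (n + 1)) x) =
          (0 : R' ⊗[R] (B ⧸ RingHom.ker e ^ (n + 1)))) := by
  classical
  obtain ⟨G, hG⟩ := hJ
  choose N hN using exists_mem_map_content hconn e
  refine ⟨G.sup N, fun R' _ _ => ⟨fun h x hx => ?_, fun h x hx => ?_⟩⟩
  · have := congrArg ((Ideal.Quotient.mkₐ R (RingHom.ker e ^ (G.sup N + 1))).toLinearMap.lTensor R') (h x hx)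
    simpa using this
  · have hle : J ≤ RingHom.ker (Algebra.TensorProduct.includeRight : B →ₐ[R] R' ⊗[R] B) := by
      rw [← hG]
      refine Ideal.span_le.2 fun g hg => ?_
      refine tmul_eq_zero_of_mem e (n := G.sup N + 1) ?_ R' (h g (hG ▸ Ideal.subset_span hg))
      exact Ideal.map_mono (content_mono e g ((Finset.le_sup hg).trans (Nat.le_succ _))) (hN g)
    exact hle hx

end Groth.Agent.KS29.WeilInf
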