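import Groth.Agent.Lib.EffCartier.Comap
import Groth.Agent.Lib.Disc25.NormalScheme
import Groth.Agent.Lib.LocInteg12.Basic
import Groth.Prelude.Def_FGA
import Groth.Prelude.Def_ResDeg
import Mathlib.AlgebraicGeometry.Morphisms.QuasiFinite
import Mathlib.AlgebraicGeometry.Morphisms.UniversallyInjective
import Mathlib.AlgebraicGeometry.ZariskisMainTheorem
/-!
A divisor splitting off in a finite étale cover.
-/
noncomputable section
universe u
open CategoryTheory CategoryTheory.Limits AlgebraicGeometry TopologicalSpace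

namespace Groth.Agent.KS29.WeilSplit

theorem isOpen_component_normal {Y : Scheme.{u}} [IsLocallyNoetherian Y] (hY : Pi1.IsNormalScheme Y)
    {T : Set Y} (hT : T ∈ irreducibleComponents (Y : Type u)) : IsOpen T := by
  rw [isOpen_iff_forall_mem_open]
  intro y hy
  obtain ⟨V, hyV, hV⟩ := LocInteg12.exists_isIntegral_nhd (Y := Y) (fun z => by
    obtain ⟨V, hV, hzV, -⟩ := exists_isAffineOpen_mem_and_subset (X := Y) (x := z) (U := ⊤) trivial
    haveI : IsNoetherianRing Γ(Y, V) := IsLocallyNoetherian.component_noetherian ⟨V, hV⟩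
    haveI : IsAffine (V : Scheme.{u}) := hV
    exact ⟨V, hzV, hV.isoSpec.hom.homeomorph.isInducing.noetherianSpace⟩)
    (fun z => (hY z).1) y
  haveI := hV
  refine ⟨V, ?_, V.isOpen, hyV⟩
  have hVirr : IsIrreducible (V : Set Y) := by
    rw [← V.range_ι, ← Set.image_univ]
    exact (IrreducibleSpace.isIrreducible_univ _).image _ V.ι.continuous.continuousOn
  have hTV : T ⊆ closure (V : Set Y) :=
    (subset_closure_inter_of_isPreirreducible_of_isOpen hT.1.isPreirreducible V.isOpen ⟨y, hy, hyV⟩).trans
      (closure_mono Set.inter_subset_right)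
  exact subset_closure.trans (hT.2 hVirr.closure hTV)

theorem eq_of_specializes {X Y : Scheme.{u}} (f : X ⟶ Y) [LocallyQuasiFinite f] {a b : X} (h : a ⤳ b)
    (hf : f a = f b) : a = b := by
  haveI := (f.isDiscrete_preimage_singleton (f b)).to_subtype
  have : (⟨a, hf⟩ : f ⁻¹' {f b}) ⤳ ⟨b, rfl⟩ := (subtype_specializes_iff _ _).2 h
  exact congrArg Subtype.val this.eq

theorem hom_ext_point {E D : Scheme.{u}} (g : E ⟶ D) (x : E) (hx : Function.Surjective (g.residueFieldMap x).hom)
    {K : Type u} [Field K] (a b : Spec (CommRingCat.of K) ⟶ E)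
    (ha : a (IsLocalRing.closedPoint K) = x) (hb : b (IsLocalRing.closedPoint K) = x) (h : a ≫ g = b ≫ g) :
    a = b := by
  obtain ⟨⟨pa, φa⟩, rfl⟩ := (Scheme.SpecToEquivOfField K E).symm.surjective a
  obtain ⟨⟨pb, φb⟩, rfl⟩ := (Scheme.SpecToEquivOfField K E).symm.surjective b
  change (Spec.map φa ≫ E.fromSpecResidueField pa) (IsLocalRing.closedPoint K) = x at ha
  change (Spec.map φb ≫ E.fromSpecResidueField pb) (IsLocalRing.closedPoint K) = x at hb
  rw [Scheme.Hom.comp_apply, Scheme.fromSpecResidueField_apply] at ha hb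
  subst ha
  subst hb
  change (Spec.map φa ≫ E.fromSpecResidueField pb) ≫ g = (Spec.map φb ≫ E.fromSpecResidueField pb) ≫ g at h
  rw [Category.assoc, Category.assoc, ← Scheme.Hom.SpecMap_residueFieldMap_fromSpecResidueField,
    ← Spec.map_comp_assoc, ← Spec.map_comp_assoc] at h
  have h2 : (⟨g pb, g.residueFieldMap pb ≫ φa⟩ : Σ x, D.residueField x ⟶ CommRingCat.of K) =
      ⟨g pb, g.residueFieldMap pb ≫ φb⟩ := (Scheme.SpecToEquivOfField K D).symm.injective h
  have h3 := eq_of_heq (Sigma.mk.inj h2).2
  have : φa = φb := CommRingCat.hom_ext (RingHom.ext fun z => by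
    obtain ⟨z, rfl⟩ := hx z
    exact congrArg (fun m : _ ⟶ _ => (CommRingCat.Hom.hom m) z) h3)
  rw [this]

theorem isIso_of_degree_one {E D : Scheme.{u}} (g : E ⟶ D) [IsFinite g] [Etale g] [Surjective g]
    [IsIntegral E] [IsIntegral D] (hdeg : g.residueDegree (genericPoint E) = 1) : IsIso g := by
  letI := (g.residueFieldMap (genericPoint E)).hom.toAlgebra
  have hres : Function.Surjective (g.residueFieldMap (genericPoint E)).hom := by
    have h1 : Module.finrank (D.residueField (g (genericPoint E))) (E.residueField (genericPoint E)) = 1 := hdeg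
    intro z
    have : z ∈ (⊤ : Subalgebra (D.residueField (g (genericPoint E))) (E.residueField (genericPoint E))) := trivial
    rw [← Subalgebra.bot_eq_top_iff_finrank_eq_one.2 h1] at this
    exact Algebra.mem_bot.1 this
  haveI : Surjective (pullback.diagonal g) := by
    refine ⟨fun w => ?_⟩
    have hcl : IsClosed (Set.range (pullback.diagonal g)) := (pullback.diagonal g).isClosedEmbedding.isClosed_range
    let π : pullback g g ⟶ D := pullback.fst g g ≫ g
    obtain ⟨z, hzw, hz⟩ := (Flat.generalizingMap π) (show genericPoint D ⤳ π w from genericPoint_specializes _)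
    suffices hzr : z ∈ Set.range (pullback.diagonal g) from hzw.mem_closed hcl hzr
    have hgen : ∀ e : E, g e = genericPoint D → e = genericPoint E := fun e he => by
      refine (eq_of_specializes g (genericPoint_specializes e) ?_).symm
      have h1 : g (genericPoint E) ⤳ g e := (genericPoint_specializes e).map g.continuous
      rw [he] at h1 ⊢
      exact ((genericPoint_specializes _).antisymm h1).eq.symm
    let a := (pullback g g).fromSpecResidueField z
    have ha : a (IsLocalRing.closedPoint _) = z := Scheme.fromSpecResidueField_apply _ _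
    have hz2 : g (pullback.snd g g z) = genericPoint D := by
      rw [← Scheme.Hom.comp_apply, ← pullback.condition]
      exact hz
    have heq : a ≫ pullback.fst g g = a ≫ pullback.snd g g :=
      hom_ext_point (K := (pullback g g).residueField z) g (genericPoint E) hres _ _
        ((congrArg (pullback.fst g g) ha).trans (hgen _ hz)) ((congrArg (pullback.snd g g) ha).trans (hgen _ hz2))
        ((Category.assoc a _ _).trans ((congrArg (a ≫ ·) pullback.condition).trans (Category.assoc a _ _).symm))
    have hfac : a = (a ≫ pullback.fst g g) ≫ pullback.diagonal g := by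
      refine pullback.hom_ext ?_ ?_
      · rw [Category.assoc, pullback.diagonal_fst, Category.comp_id]
      · rw [Category.assoc, pullback.diagonal_snd, Category.comp_id, heq]
    exact ⟨(a ≫ pullback.fst g g) (IsLocalRing.closedPoint _), by rw [← Scheme.Hom.comp_apply, ← hfac, ha]⟩
  haveI : IsOpenImmersion (pullback.diagonal g) := inferInstance
  haveI : IsIso (pullback.diagonal g) := by
    apply isIso_of_isOpenImmersion_of_opensRange_eq_top
    exact TopologicalSpace.Opens.ext (Set.range_eq_univ.2 (Surjective.surj (f := pullback.diagonal g)))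
  haveI : Mono g := (pullback.isIso_diagonal_iff g).1 inferInstance
  haveI : IsClosedImmersion g := (IsClosedImmersion.iff_isFinite_and_mono g).2 ⟨inferInstance, inferInstance⟩
  exact isIso_of_isClosedImmersion_of_surjective g

theorem main {k : Type u} [Field k] {X Y : Scheme.{u}} (pX : X ⟶ Spec (CommRingCat.of k))
    [LocallyOfFiniteType pX] [IsIntegral X] [IsIntegral Y]
    (f : Y ⟶ X) [IsFinite f] [Etale f]
    (D : X.IdealSheafData) (hD : FGA.IsEffCartier D) [IsIntegral D.subscheme] (hDn : Pi1.IsNormalScheme D.subscheme)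
    (E : Y.IdealSheafData) [IsIntegral E.subscheme]
    (g : (E.subscheme : Scheme.{u}) ⟶ D.subscheme) (hg : g ≫ D.subschemeι = E.subschemeι ≫ f)
    (hsurj : Function.Surjective g.base) (hdeg : g.residueDegree (genericPoint E.subscheme) = 1) :
    IsIso g ∧ FGA.IsEffCartier E := by
  let p := pullback.snd f D.subschemeι
  let q := pullback.fst f D.subschemeι
  let ℓ : E.subscheme ⟶ pullback f D.subschemeι := pullback.lift E.subschemeι g hg.symm
  have hℓq : ℓ ≫ q = E.subschemeι := pullback.lift_fst _ _ _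
  have hℓp : ℓ ≫ p = g := pullback.lift_snd _ _ _
  haveI : IsLocallyNoetherian (pullback f D.subschemeι) := LocallyOfFiniteType.isLocallyNoetherian (p ≫ D.subschemeι ≫ pX)
  haveI : IsClosedImmersion ℓ := by
    haveI : IsClosedImmersion (ℓ ≫ q) := by rw [hℓq]; infer_instance
    exact IsClosedImmersion.of_comp ℓ q
  have hPn := Disc25.isNormalScheme_of_finite_etale p hDn
  haveI : IsReduced (pullback f D.subschemeι) := by
    haveI : ∀ x, _root_.IsReduced ((pullback f D.subschemeι).presheaf.stalk x) := fun x => by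
      haveI := (hPn x).1; infer_instance
    exact isReduced_of_isReduced_stalk _
  haveI : Surjective g := ⟨hsurj⟩
  have hge : g (genericPoint E.subscheme) = genericPoint D.subscheme := by
    obtain ⟨e, he⟩ := hsurj (genericPoint D.subscheme)
    have h1 : g (genericPoint E.subscheme) ⤳ g e := (genericPoint_specializes e).map g.continuous
    rw [he] at h1
    exact (h1.antisymm (genericPoint_specializes _)).eq
  have hirr : IsIrreducible (Set.range ℓ) := by
    rw [← Set.image_univ]
    exact (IrreducibleSpace.isIrreducible_univ _).image _ ℓ.continuous.continuousOn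
  have hcomp : Set.range ℓ ∈ irreducibleComponents (pullback f D.subschemeι : Scheme.{u}) := by
    refine ⟨hirr, fun T hT hle => ?_⟩
    let t := hT.genericPoint
    have ht : closure {t} = closure T := hT.isGenericPoint_genericPoint_closure
    have hts : t ⤳ ℓ (genericPoint E.subscheme) :=
      specializes_iff_mem_closure.2 (ht.symm ▸ subset_closure (hle ⟨_, rfl⟩))
    have htp : p t = p (ℓ (genericPoint E.subscheme)) := by
      have h1 := hts.map p.continuous
      rw [← Scheme.Hom.comp_apply, hℓp, hge] at h1 ⊢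
      exact (h1.antisymm (genericPoint_specializes _)).eq
    have hte := eq_of_specializes p hts htp
    intro z hz
    have hz' : z ∈ closure ({t} : Set _) := ht.symm ▸ subset_closure hz
    rw [hte] at hz'
    exact (closure_minimal (Set.singleton_subset_iff.2 (Set.mem_range_self _)) ℓ.isClosedEmbedding.isClosed_range) hz'
  let O : (pullback f D.subschemeι).Opens := ⟨Set.range ℓ, isOpen_component_normal hPn hcomp⟩
  let ℓ' : E.subscheme ⟶ O := IsOpenImmersion.lift O.ι ℓ (by rw [Scheme.Opens.range_ι]; exact subset_rfl)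
  have hℓ' : ℓ' ≫ O.ι = ℓ := IsOpenImmersion.lift_fac _ _ _
  haveI : IsClosedImmersion (ℓ' ≫ O.ι) := by rw [hℓ']; infer_instance
  haveI : IsClosedImmersion ℓ' := IsClosedImmersion.of_comp ℓ' O.ι
  haveI : Surjective ℓ' := ⟨fun o => by
    obtain ⟨e, he⟩ : O.ι o ∈ Set.range ℓ := o.2
    exact ⟨e, O.ι.isOpenEmbedding.injective (by rw [← Scheme.Hom.comp_apply, hℓ', he])⟩⟩
  haveI : IsReduced (O : Scheme.{u}) := isReduced_of_isOpenImmersion O.ι
  haveI : IsIso ℓ' := isIso_of_isClosedImmersion_of_surjective ℓ'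
  haveI : IsOpenImmersion ℓ := hℓ' ▸ inferInstance
  haveI : Etale g := hℓp ▸ inferInstance
  haveI : IsFinite g := hℓp ▸ inferInstance
  refine ⟨isIso_of_degree_one g hdeg, fun y => ?_⟩
  -- `E` is Cartier
  have hbad : IsClosed (q '' (Set.range ℓ)ᶜ) := q.isClosedEmbedding.isClosedMap _ O.2.isClosed_compl
  by_cases hy : y ∈ Set.range E.subschemeι
  · obtain ⟨V, hV, a, ha, hDV⟩ := hD (f y)
    have hyb : y ∉ q '' (Set.range ℓ)ᶜ := by
      rintro ⟨z, hz, hzy⟩
      obtain ⟨e, he⟩ := hy
      exact hz ⟨e, q.isClosedEmbedding.injective (by rw [← Scheme.Hom.comp_apply, hℓq, he, hzy])⟩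
    obtain ⟨U, hU, hyU, hUle⟩ := exists_isAffineOpen_mem_and_subset (x := y)
      (U := f ⁻¹ᵁ V ⊓ (⟨(q '' (Set.range ℓ)ᶜ)ᶜ, hbad.isOpen_compl⟩ : Y.Opens)) ⟨hV, hyb⟩
    have e1 : U ≤ f ⁻¹ᵁ V.1 := fun z hz => (hUle hz).1
    have hker : E.ideal ⟨U, hU⟩ = (D.comap f).ideal ⟨U, hU⟩ := by
      have hE : E = (ℓ ≫ q).ker := by rw [hℓq, Scheme.IdealSheafData.ker_subschemeι]
      conv_lhs => rw [hE]
      show (ℓ ≫ q).ker.ideal ⟨U, hU⟩ = q.ker.ideal ⟨U, hU⟩
      rw [Scheme.Hom.ker_apply, Scheme.Hom.ker_apply, Scheme.Hom.comp_app]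
      show RingHom.ker ((ℓ.app (q ⁻¹ᵁ U)).hom.comp (q.app U).hom) = RingHom.ker (q.app U).hom
      haveI : IsIso (ℓ.app (q ⁻¹ᵁ U)) := Scheme.Hom.isIso_app ℓ _ fun z hz => by
        by_contra hzn
        exact (hUle hz).2 ⟨z, fun hzr => hzn hzr, rfl⟩
      exact RingHom.ker_comp_of_injective _ (ConcreteCategory.bijective_of_isIso (ℓ.app (q ⁻¹ᵁ U))).1
    refine ⟨⟨U, hU⟩, hyU, (f.appLE V U e1).hom a, ?_, ?_⟩
    · haveI : Nonempty U := ⟨⟨y, hyU⟩⟩
      haveI : IsDomain Γ(Y, U) := IsIntegral.component_integral U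
      refine mem_nonZeroDivisors_of_ne_zero fun h0 => ?_
      haveI : Nonempty (V.1 : X.Opens) := ⟨⟨f y, hV⟩⟩
      haveI : IsDomain Γ(X, V.1) := IsIntegral.component_integral V.1
      haveI : Flat f := inferInstance
      have hgen : f (genericPoint Y) = genericPoint X := by
        obtain ⟨z, hz, hzf⟩ := (Flat.generalizingMap f) (show genericPoint X ⤳ f (genericPoint Y) from genericPoint_specializes _)
        rw [← (hz.antisymm (genericPoint_specializes _)).eq, hzf]
      have hyη : genericPoint Y ∈ U := (genericPoint_specializes y).mem_open U.2 hyU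
      have hb : genericPoint Y ∈ f ⁻¹ᵁ X.basicOpen a := by
        show f (genericPoint Y) ∈ X.basicOpen a
        rw [hgen]
        have hne : X.basicOpen a ≠ ⊥ := fun hbot => nonZeroDivisors.ne_zero ha
          ((basicOpen_eq_bot_iff a).1 hbot)
        obtain ⟨w, hw⟩ := (TopologicalSpace.Opens.ne_bot_iff_nonempty _).1 hne
        exact (genericPoint_specializes w).mem_open (X.basicOpen a).2 hw
      have hb2 : genericPoint Y ∈ Y.basicOpen ((f.appLE V U e1).hom a) := by
        rw [Scheme.basicOpen_appLE]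
        exact ⟨hyη, hb⟩
      rw [h0, Scheme.basicOpen_zero] at hb2
      exact hb2
    · rw [hker, EffCartier.comap_ideal D f V ⟨U, hU⟩ e1, hDV, Ideal.map_span, Set.image_singleton]
  · obtain ⟨U, hU, hyU, hUle⟩ := exists_isAffineOpen_mem_and_subset (x := y)
      (U := ⟨_, E.subschemeι.isClosedEmbedding.isClosed_range.isOpen_compl⟩) hy
    refine ⟨⟨U, hU⟩, hyU, 1, one_mem _, ?_⟩
    have hempty : E.subschemeι ⁻¹ᵁ U = ⊥ := eq_bot_iff.2 fun z hz => hUle hz ⟨z, rfl⟩
    rw [Ideal.span_singleton_one, ← E.ker_subschemeι_app ⟨U, hU⟩, Ideal.eq_top_iff_one, RingHom.mem_ker]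
    haveI : Subsingleton Γ(E.subscheme, E.subschemeι ⁻¹ᵁ U) := by rw [hempty]; infer_instance
    exact Subsingleton.elim _ _

end Groth.Agent.KS29.WeilSplit
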